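import Mathlib.AlgebraicGeometry.Morphisms.Flat
import Mathlib.AlgebraicGeometry.Morphisms.UniversallyOpen
import Mathlib.AlgebraicGeometry.Fiber
import Mathlib.AlgebraicGeometry.FunctionField
import Mathlib.Algebra.Category.Ring.Constructions

set_option autoImplicit false
universe u
open CategoryTheory CategoryTheory.Limits AlgebraicGeometry TopologicalSpace

namespace Groth.Agent.H44

/-- In a pushout square of commutative rings with one leg flat and the other injective,
the map opposite to the injective one is injective. -/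
lemma injective_of_isPushout {A B K C : CommRingCat.{u}} {φ : A ⟶ B} {ψ : A ⟶ K}
    {ι : B ⟶ C} {π : K ⟶ C} (h : IsPushout φ ψ ι π) (hφ : φ.hom.Flat)
    (hψ : Function.Injective ψ.hom) : Function.Injective ι.hom := by
  let _ : Algebra A B := φ.hom.toAlgebra
  let _ : Algebra A K := ψ.hom.toAlgebra
  have hflat : Module.Flat A B := hφ
  have h0 := CommRingCat.isPushout_tensorProduct A B K
  have h' : IsPushout (CommRingCat.ofHom (algebraMap A B)) (CommRingCat.ofHom (algebraMap A K))
    ι π := h
  have e1 := h0.inl_isoIsPushout_hom _ _ h'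
  have hinj : Function.Injective
      (Algebra.TensorProduct.includeLeftRingHom : B →+* TensorProduct A B K) :=
    Algebra.TensorProduct.includeLeft_injective (S := A) (R := A) (A := B) (B := K) hψ
  have hiso : Function.Injective (h0.isoIsPushout _ _ h').hom.hom := by
    intro x y hxy
    have := congrArg (h0.isoIsPushout _ _ h').inv.hom hxy
    simpa using this
  rw [← e1]
  exact hiso.comp hinj

end Groth.Agent.H44

namespace Groth.Agent.H44

/-- A scheme covered by affine opens with reduced rings of sections is reduced. -/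
lemma isReduced_of_forall_exists_affine (X : Scheme.{u})
    (h : ∀ x : X, ∃ U : X.Opens, x ∈ U ∧ IsAffineOpen U ∧ _root_.IsReduced Γ(X, U)) :
    AlgebraicGeometry.IsReduced X := by
  let s := {U : X.Opens // IsAffineOpen U ∧ _root_.IsReduced Γ(X, U)}
  have hcov : IsOpenCover (fun i : s => i.1) := by
    apply IsOpenCover.mk
    rw [eq_top_iff]
    intro x _
    obtain ⟨U, hxU, hU, hred⟩ := h x
    exact Opens.mem_iSup.mpr ⟨⟨U, hU, hred⟩, hxU⟩
  let 𝒰 := X.openCoverOfIsOpenCover _ hcov
  have : ∀ i, AlgebraicGeometry.IsReduced (𝒰.X i) := by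
    rintro ⟨U, hU, hred⟩
    change AlgebraicGeometry.IsReduced (U : Scheme)
    have : IsAffine (U : Scheme) := hU
    have : _root_.IsReduced Γ((U : Scheme), ⊤) :=
      isReduced_of_injective (Scheme.Opens.topIso U).hom.hom
        (ConcreteCategory.injective_of_mono_of_preservesPullback (Scheme.Opens.topIso U).hom)
    exact isReduced_of_isAffine_isReduced _
  exact AlgebraicGeometry.IsReduced.of_openCover (X := X) 𝒰

variable {X Y : Scheme.{u}} (f : X ⟶ Y)

/-- The generic point lies in every nonempty open. -/
lemma genericPoint_mem_opens [IsIntegral Y] (V : Y.Opens) (y : Y) (hy : y ∈ V) :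
    genericPoint ↥Y ∈ V := by
  exact ((genericPoint_spec Y).mem_open_set_iff V.2).mpr ⟨y, Set.mem_univ _, hy⟩

/-- For `Y` integral, sections over an affine open inject into the residue field at the generic
point. -/
lemma appLE_fromSpecResidueField_injective [IsIntegral Y] (V : Y.Opens)
    (e : (⊤ : (Spec (Y.residueField (genericPoint ↥Y))).Opens) ≤
      (Y.fromSpecResidueField (genericPoint ↥Y)) ⁻¹ᵁ V) :
    Function.Injective ((Y.fromSpecResidueField (genericPoint ↥Y)).appLE V ⊤ e).hom := by
  rw [injective_iff_map_eq_zero]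
  intro a ha
  rw [← basicOpen_eq_bot_iff]
  by_contra hne
  obtain ⟨y, hy⟩ : ∃ y, y ∈ Y.basicOpen a := by
    by_contra hempty
    push Not at hempty
    exact hne (by ext y; simpa using hempty y)
  have hη := genericPoint_mem_opens (Y.basicOpen a) y hy
  have h1 := Scheme.basicOpen_appLE (Y.fromSpecResidueField (genericPoint ↥Y)) ⊤ V e a
  rw [ha, Scheme.basicOpen_zero] at h1
  have hne : Nonempty (Spec (Y.residueField (genericPoint ↥Y))) := inferInstance
  obtain ⟨t⟩ := hne
  have : t ∈ (⊤ : (Spec (Y.residueField (genericPoint ↥Y))).Opens) ⊓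
      (Y.fromSpecResidueField (genericPoint ↥Y)) ⁻¹ᵁ Y.basicOpen a := by
    refine ⟨trivial, ?_⟩
    change (Y.fromSpecResidueField (genericPoint ↥Y)) t ∈ Y.basicOpen a
    rw [Scheme.fromSpecResidueField_apply]
    exact hη
  rw [← h1] at this
  exact this

/-- Sections of the source over small affine opens are reduced when the generic fibre is. -/
lemma isReduced_section_of_flat [Flat f] [IsIntegral Y]
    [AlgebraicGeometry.IsReduced (f.fiber (genericPoint ↥Y))] {U : X.Opens} {V : Y.Opens}
    (hU : IsAffineOpen U) (hV : IsAffineOpen V) (y : Y) (hy : y ∈ V)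
    (e : U ≤ f ⁻¹ᵁ V) : _root_.IsReduced Γ(X, U) := by
  have H : IsPullback (f.fiberι (genericPoint ↥Y)) (f.fiberToSpecResidueField (genericPoint ↥Y)) f
      (Y.fromSpecResidueField (genericPoint ↥Y)) := IsPullback.of_hasPullback _ _
  have hηV := genericPoint_mem_opens V y hy
  have hUST : (⊤ : (Spec (Y.residueField (genericPoint ↥Y))).Opens) ≤
      (Y.fromSpecResidueField (genericPoint ↥Y)) ⁻¹ᵁ V := by
    intro t _
    change (Y.fromSpecResidueField (genericPoint ↥Y)) t ∈ V
    rw [Scheme.fromSpecResidueField_apply]
    exact hηV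
  have hiso := isIso_pushoutSection_of_isAffineOpen H hUST e rfl hV (isAffineOpen_top _) hU
  have hPO := (isIso_pushoutSection_iff H hUST e rfl).mp hiso
  have hflat : (f.appLE V U e).hom.Flat :=
    HasRingHomProperty.appLE (P := @Flat) f inferInstance ⟨V, hV⟩ ⟨U, hU⟩ e
  have hinj := injective_of_isPushout hPO hflat (appLE_fromSpecResidueField_injective V hUST)
  exact isReduced_of_injective _ hinj

/-- The source of a flat morphism to an integral scheme with integral generic fibre is reduced. -/
lemma isReduced_of_flat [Flat f] [IsIntegral Y]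
    [AlgebraicGeometry.IsReduced (f.fiber (genericPoint ↥Y))] : AlgebraicGeometry.IsReduced X := by
  apply isReduced_of_forall_exists_affine
  intro x
  obtain ⟨V, hV, hxV, -⟩ := exists_isAffineOpen_mem_and_subset (x := f x) (U := ⊤) trivial
  obtain ⟨U, hU, hxU, hUV⟩ := exists_isAffineOpen_mem_and_subset (x := x) (U := f ⁻¹ᵁ V) hxV
  exact ⟨U, hxU, hU, isReduced_section_of_flat f hU hV (f x) hxV hUV⟩

/-- The source of a flat morphism to an integral scheme with irreducible generic fibre is
irreducible. -/
lemma irreducibleSpace_of_flat [Flat f] [IsIntegral Y]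
    [IrreducibleSpace (f.fiber (genericPoint ↥Y))] : IrreducibleSpace X := by
  have hgen : GeneralizingMap f := Flat.generalizingMap f
  have hdense : closure (f ⁻¹' {genericPoint ↥Y}) = Set.univ := by
    rw [Set.eq_univ_iff_forall]
    intro x
    obtain ⟨x', hx', hfx'⟩ := hgen (genericPoint_specializes (f x))
    have hx'mem : x' ∈ f ⁻¹' {genericPoint ↥Y} := hfx'
    exact closure_mono (Set.singleton_subset_iff.mpr hx'mem) (specializes_iff_mem_closure.mp hx')
  have hirrF : IsIrreducible (Set.range (f.fiberι (genericPoint ↥Y))) := by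
    rw [← Set.image_univ]
    exact (IrreducibleSpace.isIrreducible_univ _).image _
      (f.fiberι (genericPoint ↥Y)).continuous.continuousOn
  rw [irreducibleSpace_def]
  have htop : (⊤ : Set X) = closure (Set.range (f.fiberι (genericPoint ↥Y))) := by
    rw [Scheme.Hom.range_fiberι, hdense]
    rfl
  rw [htop]
  exact hirrF.closure

end Groth.Agent.H44
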