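import Mathlib.RingTheory.AdicCompletion.Noetherian
import Mathlib.RingTheory.AdicCompletion.Exactness
import Mathlib.RingTheory.AdicCompletion.Basic

set_option autoImplicit false
universe u

namespace Groth.Agent.H44

/-- Quotients of a Noetherian adically complete ring are adically complete (as modules). -/
theorem isAdicComplete_quotient_module {A : Type*} [CommRing A] [IsNoetherianRing A] (I : Ideal A)
    [IsAdicComplete I A] (J : Ideal A) : IsAdicComplete I (A ⧸ J) := by
  have h1 : IsHausdorff I (A ⧸ J) :=
    IsHausdorff.of_le_jacobson _ (A ⧸ J) (IsAdicComplete.le_jacobson_bot _)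
  have h2 : IsPrecomplete I (A ⧸ J) := by
    rw [← AdicCompletion.of_surjective_iff]
    intro y
    obtain ⟨x, rfl⟩ := AdicCompletion.map_surjective I
      (f := (Submodule.mkQ J : A →ₗ[A] A ⧸ J)) (Submodule.mkQ_surjective J) y
    obtain ⟨b, rfl⟩ := AdicCompletion.of_surjective I A x
    exact ⟨Submodule.mkQ J b, (AdicCompletion.map_of _ _ _).symm⟩
  exact { h1, h2 with }

/-- Quotients of a Noetherian adically complete ring are adically complete (as rings). -/
theorem isAdicComplete_quotient {A : Type*} [CommRing A] [IsNoetherianRing A] (I : Ideal A)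
    [IsAdicComplete I A] (J : Ideal A) :
    IsAdicComplete (I.map (Ideal.Quotient.mk J)) (A ⧸ J) := by
  have h3 := isAdicComplete_quotient_module I J
  exact (IsAdicComplete.map_algebraMap_iff (S := A ⧸ J) I (A ⧸ J)).mpr h3

/-- adic completeness only depends on the topology -/
theorem isAdicComplete_of_pow_le {R : Type*} [CommRing R] {M : Type*} [AddCommGroup M] [Module R M]
    (I K : Ideal R) (hIK : I ≤ K) (N : ℕ) (hN : K ^ N ≤ I) [IsAdicComplete I M] :
    IsAdicComplete K M := by
  have hN' : K ^ (N + 1) ≤ I := (Ideal.pow_le_pow_right (Nat.le_succ N)).trans hN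
  have hle : ∀ n : ℕ, (K ^ ((N + 1) * n) • ⊤ : Submodule R M) ≤ I ^ n • ⊤ := fun n => by
    rw [pow_mul]
    exact Submodule.smul_mono_left (Ideal.pow_right_mono hN' n)
  have hle' : ∀ n : ℕ, (I ^ n • ⊤ : Submodule R M) ≤ K ^ n • ⊤ := fun n =>
    Submodule.smul_mono_left (Ideal.pow_right_mono hIK n)
  have hKmono : ∀ {m n : ℕ}, m ≤ n → (K ^ n • ⊤ : Submodule R M) ≤ K ^ m • ⊤ := fun h =>
    Submodule.smul_mono_left (Ideal.pow_le_pow_right h)
  refine { haus' := ?_, prec' := ?_ }
  · intro x hx
    apply IsHausdorff.haus (I := I) inferInstance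
    intro n
    exact (hx ((N + 1) * n)).mono (hle n)
  · intro f hf
    obtain ⟨L, hL⟩ := IsPrecomplete.prec (I := I) inferInstance (f := fun n => f ((N + 1) * n))
      (by
        intro m n hmn
        exact (hf (Nat.mul_le_mul_left (N + 1) hmn)).mono (hle m))
    refine ⟨L, fun n => ?_⟩
    have h1 : f n ≡ f ((N + 1) * n) [SMOD (K ^ n • ⊤ : Submodule R M)] :=
      hf (Nat.le_mul_of_pos_left n (Nat.succ_pos N))
    exact h1.trans ((hL n).mono (hle' n))

end Groth.Agent.H44

namespace Groth.Agent.H44

section Pi

variable {R : Type*} [CommRing R] {ι : Type*} [Fintype ι] [DecidableEq ι] {M : ι → Type*}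
  [∀ i, AddCommGroup (M i)] [∀ i, Module R (M i)]

theorem mem_smul_top_pi (J : Ideal R) (x : ∀ i, M i) :
    x ∈ (J • ⊤ : Submodule R (∀ i, M i)) ↔ ∀ i, x i ∈ (J • ⊤ : Submodule R (M i)) := by
  constructor
  · intro hx i
    have : (LinearMap.proj i : (∀ i, M i) →ₗ[R] M i) x ∈
        Submodule.map (LinearMap.proj i) (J • ⊤ : Submodule R (∀ i, M i)) :=
      Submodule.mem_map_of_mem hx
    rw [Submodule.map_smul''] at this
    exact Submodule.smul_mono le_rfl le_top this
  · intro hx
    have hsum : x = ∑ i, Pi.single i (x i) := by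
      ext j
      simp [Finset.sum_apply]
    rw [hsum]
    refine Submodule.sum_mem _ (fun i _ => ?_)
    have : (LinearMap.single R M i) (x i) ∈
        Submodule.map (LinearMap.single R M i) (J • ⊤ : Submodule R (M i)) :=
      Submodule.mem_map_of_mem (hx i)
    rw [Submodule.map_smul''] at this
    exact Submodule.smul_mono le_rfl le_top this

theorem isPrecomplete_pi (I : Ideal R) [∀ i, IsPrecomplete I (M i)] :
    IsPrecomplete I (∀ i, M i) := by
  refine ⟨fun f hf => ?_⟩
  have hi : ∀ i, ∃ L : M i, ∀ n, f n i ≡ L [SMOD (I ^ n • ⊤ : Submodule R (M i))] := by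
    intro i
    apply IsPrecomplete.prec inferInstance
    intro m n hmn
    have := hf hmn
    rw [SModEq.sub_mem] at this ⊢
    exact (mem_smul_top_pi (I ^ m) _).mp this i
  choose L hL using hi
  refine ⟨L, fun n => ?_⟩
  rw [SModEq.sub_mem, mem_smul_top_pi]
  intro i
  have := hL i n
  rw [SModEq.sub_mem] at this
  exact this

end Pi

/-- complete Nakayama: a Hausdorff module over a (pre)complete ring which is finite modulo `I` is
finite. -/
theorem finite_of_finite_quotient {A : Type*} [CommRing A] (I : Ideal A) [IsPrecomplete I A]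
    (E : Type*) [AddCommGroup E] [Module A E] [IsHausdorff I E]
    (h : Module.Finite A (E ⧸ (I • ⊤ : Submodule A E))) : Module.Finite A E := by
  classical
  obtain ⟨n, s, hs⟩ := Module.Finite.exists_fin (R := A) (M := E ⧸ (I • ⊤ : Submodule A E))
  have hlift : ∀ i, ∃ g : E, (I • ⊤ : Submodule A E).mkQ g = s i := fun i =>
    Submodule.mkQ_surjective _ (s i)
  choose g hg using hlift
  let f : (Fin n → A) →ₗ[A] E := Fintype.linearCombination A g
  have hsurj : Function.Surjective ((I • ⊤ : Submodule A E).mkQ ∘ₗ f) := by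
    rw [← LinearMap.range_eq_top, LinearMap.range_comp, Fintype.range_linearCombination,
      Submodule.map_span, ← Set.range_comp]
    have : (⇑(I • ⊤ : Submodule A E).mkQ ∘ g) = s := funext hg
    rw [this, hs]
  have : IsPrecomplete I (Fin n → A) := isPrecomplete_pi I
  have hf : Function.Surjective f := surjective_of_mkQ_comp_surjective hsurj
  exact Module.Finite.of_surjective f hf

/-- complete Nakayama, generator form -/
theorem finite_of_exists_approx {A : Type*} [CommRing A] (I : Ideal A) [IsPrecomplete I A]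
    (E : Type*) [AddCommGroup E] [Module A E] [IsHausdorff I E] {n : ℕ} (g : Fin n → E)
    (h : ∀ y : E, ∃ a : Fin n → A, y - ∑ i, a i • g i ∈ (I • ⊤ : Submodule A E)) :
    Module.Finite A E := by
  classical
  let f : (Fin n → A) →ₗ[A] E := Fintype.linearCombination A g
  have hsurj : Function.Surjective ((I • ⊤ : Submodule A E).mkQ ∘ₗ f) := by
    intro y
    obtain ⟨y, rfl⟩ := Submodule.mkQ_surjective _ y
    obtain ⟨a, ha⟩ := h y
    refine ⟨a, ?_⟩
    rw [LinearMap.comp_apply, Submodule.mkQ_apply, Submodule.mkQ_apply, eq_comm,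
      Submodule.Quotient.eq]
    rw [Fintype.linearCombination_apply]
    exact ha
  have : IsPrecomplete I (Fin n → A) := isPrecomplete_pi I
  have hf : Function.Surjective f := surjective_of_mkQ_comp_surjective hsurj
  exact Module.Finite.of_surjective f hf

end Groth.Agent.H44
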