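import Groth.Agent.H44.AffineModules

set_option autoImplicit false
universe u
open CategoryTheory Limits AlgebraicGeometry Scheme.Modules TopologicalSpace Opposite

namespace Groth.Agent.H44

section transport

variable {X Y Z : Scheme.{u}}

/-- Two-step restriction is restriction along the composite. -/
noncomputable def restrictRestrictIso (F : X.Modules) (j : Y ⟶ Z) (k : Z ⟶ X) (l : Y ⟶ X)
    [IsOpenImmersion j] [IsOpenImmersion k] [IsOpenImmersion l] (h : j ≫ k = l) :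
    (F.restrict k).restrict j ≅ F.restrict l :=
  haveI : IsOpenImmersion (j ≫ k) := by rw [h]; infer_instance
  ((restrictFunctorComp j k).app F).symm ≪≫ (restrictFunctorCongr h).app F

/-- Restrict a map out of a free module along an open immersion. -/
noncomputable def restrictFreeHom (j : Y ⟶ Z) [IsOpenImmersion j] {r : ℕ} {G : Z.Modules}
    (a : FlatMod.freeMod Z r ⟶ G) : FlatMod.freeMod Y r ⟶ G.restrict j :=
  (restrictFreeModIso j r).inv ≫ (restrictFunctor j).map a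

instance (j : Y ⟶ Z) [IsOpenImmersion j] {r : ℕ} {G : Z.Modules}
    (a : FlatMod.freeMod Z r ⟶ G) [Epi a] : Epi (restrictFreeHom j a) := by
  haveI : Epi ((restrictFunctor j).map a) := inferInstance
  exact epi_comp _ _

instance (j : Y ⟶ Z) [IsOpenImmersion j] {r : ℕ} {G : Z.Modules}
    (a : FlatMod.freeMod Z r ⟶ G) [IsIso a] : IsIso (restrictFreeHom j a) := by
  dsimp only [restrictFreeHom]
  infer_instance

end transport

section main

variable {X : Scheme.{u}} (F : X.Modules)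

theorem span_range_comp_equiv {R M M' ι ι' : Type*} [Semiring R] [AddCommMonoid M] [AddCommMonoid M']
    [Module R M] [Module R M'] (e : M ≃ₗ[R] M') (σ : ι' ≃ ι) (x : ι → M)
    (hx : Submodule.span R (Set.range x) = ⊤) :
    Submodule.span R (Set.range fun i : ι' => e (x (σ i))) = ⊤ := by
  have h1 : (Set.range fun i : ι' => e (x (σ i))) = e '' Set.range x := by
    ext m
    constructor
    · rintro ⟨i, rfl⟩; exact ⟨x (σ i), ⟨σ i, rfl⟩, rfl⟩
    · rintro ⟨_, ⟨i, rfl⟩, rfl⟩; exact ⟨σ.symm i, by simp⟩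
  rw [h1]
  have h2 := Submodule.map_span e.toLinearMap (Set.range x)
  rw [hx, Submodule.map_top, LinearMap.range_eq_top.mpr e.surjective] at h2
  exact h2.symm

theorem exists_span_of_epi_freeMod [F.IsQuasicoherent] {U V : X.Opens} (hV : IsAffineOpen V)
    (hVU : V ≤ U) {r : ℕ} (π : FlatMod.freeMod U.toScheme r ⟶ F.restrict U.ι) [Epi π] :
    ∃ y : Fin r → Γ(F, V), Submodule.span Γ(X, V) (Set.range y) = ⊤ := by
  let j : Spec Γ(X, V) ⟶ U.toScheme := hV.isoSpec.inv ≫ X.homOfLE hVU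
  have hj : j ≫ U.ι = hV.fromSpec := by simp [j]
  let a₁ : FlatMod.freeMod (Spec Γ(X, V)) r ⟶ F.restrict hV.fromSpec :=
    restrictFreeHom j π ≫ (restrictRestrictIso F j U.ι hV.fromSpec hj).hom
  have h1 : Epi a₁ := epi_comp _ _
  let a' : SheafOfModules.free (ULift.{u} (Fin r)) ⟶ F.restrict hV.fromSpec :=
    (freeModIsoFree (Spec Γ(X, V)) r).inv ≫ a₁
  haveI : Epi a' := @epi_comp _ _ _ _ _ (freeModIsoFree (Spec Γ(X, V)) r).inv inferInstance a₁ h1
  obtain ⟨x, hx⟩ := exists_span_eq_top_of_epi_free (F.restrict hV.fromSpec) a'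
  exact ⟨fun i => sectionsSpecEquiv F hV (x ⟨i⟩),
    span_range_comp_equiv (sectionsSpecEquiv F hV) Equiv.ulift.symm x hx⟩

theorem exists_epi_freeMod_of_span [F.IsQuasicoherent] {V : X.Opens} (hV : IsAffineOpen V)
    {r : ℕ} (y : Fin r → Γ(F, V)) (hy : Submodule.span Γ(X, V) (Set.range y) = ⊤) :
    ∃ π : FlatMod.freeMod V.toScheme r ⟶ F.restrict V.ι, Epi π := by
  have hx := span_range_comp_equiv (sectionsSpecEquiv F hV).symm (Equiv.ulift.{u, 0}) y hy
  obtain ⟨ψ, hψ⟩ := exists_epi_free_of_span_eq_top (F.restrict hV.fromSpec) _ hx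
  let ψ' : FlatMod.freeMod (Spec Γ(X, V)) r ⟶ F.restrict hV.fromSpec :=
    (freeModIsoFree (Spec Γ(X, V)) r).hom ≫ ψ
  have h1 : Epi ψ' :=
    @epi_comp _ _ _ _ _ (freeModIsoFree (Spec Γ(X, V)) r).hom inferInstance ψ hψ
  have hj : hV.isoSpec.hom ≫ hV.fromSpec = V.ι := by
    rw [← hV.isoSpec_inv_ι, Iso.hom_inv_id_assoc]
  have h2 : Epi (restrictFreeHom hV.isoSpec.hom ψ') := inferInstance
  refine ⟨restrictFreeHom hV.isoSpec.hom ψ' ≫
    (restrictRestrictIso F hV.isoSpec.hom hV.fromSpec V.ι hj).hom, ?_⟩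
  exact @epi_comp _ _ _ _ _ _ h2 _ inferInstance

theorem nonempty_basis_of_iso_freeMod {U V : X.Opens} (hV : IsAffineOpen V)
    (hVU : V ≤ U) {r : ℕ} (e : F.restrict U.ι ≅ FlatMod.freeMod U.toScheme r) :
    Nonempty (Module.Basis (Fin r) Γ(X, V) Γ(F, V)) := by
  let j : Spec Γ(X, V) ⟶ U.toScheme := hV.isoSpec.inv ≫ X.homOfLE hVU
  have hj : j ≫ U.ι = hV.fromSpec := by simp [j]
  let a' : F.restrict hV.fromSpec ≅ SheafOfModules.free (ULift.{u} (Fin r)) :=
    (restrictRestrictIso F j U.ι hV.fromSpec hj).symm ≪≫ (restrictFunctor j).mapIso e ≪≫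
      restrictFreeModIso j r ≪≫ freeModIsoFree (Spec Γ(X, V)) r
  obtain ⟨b⟩ := nonempty_basis_of_iso_free (F.restrict hV.fromSpec) a'
  exact ⟨(b.reindex Equiv.ulift).map (sectionsSpecEquiv F hV)⟩

theorem nonempty_iso_freeMod_of_basis [F.IsQuasicoherent] {V : X.Opens} (hV : IsAffineOpen V)
    {r : ℕ} (b : Module.Basis (Fin r) Γ(X, V) Γ(F, V)) :
    Nonempty (F.restrict V.ι ≅ FlatMod.freeMod V.toScheme r) := by
  obtain ⟨e⟩ := nonempty_iso_free_of_basis (F.restrict hV.fromSpec)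
    ((b.map (sectionsSpecEquiv F hV).symm).reindex (Equiv.ulift.{u, 0}).symm)
  have hj : hV.isoSpec.hom ≫ hV.fromSpec = V.ι := by
    rw [← hV.isoSpec_inv_ι, Iso.hom_inv_id_assoc]
  exact ⟨(restrictRestrictIso F hV.isoSpec.hom hV.fromSpec V.ι hj).symm ≪≫
    (restrictFunctor hV.isoSpec.hom).mapIso (e ≪≫ (freeModIsoFree (Spec Γ(X, V)) r).symm) ≪≫
    restrictFreeModIso hV.isoSpec.hom r⟩

end main

end Groth.Agent.H44
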