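import Groth.Agent.H44.FittSheaf
import Groth.Prelude.Def_CohB1

set_option autoImplicit false
universe u
open CategoryTheory Limits AlgebraicGeometry Scheme.Modules TopologicalSpace Opposite

namespace Groth.Agent.H44

theorem mem_zeroLocus_iff_primeIdealOf {X : Scheme.{u}} {U : X.Opens} (hU : IsAffineOpen U)
    (s : Set Γ(X, U)) {x : X} (hx : x ∈ U) :
    x ∈ X.zeroLocus s ↔ hU.primeIdealOf ⟨x, hx⟩ ∈ PrimeSpectrum.zeroLocus s := by
  rw [← hU.fromSpec_preimage_zeroLocus]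
  change _ ↔ hU.fromSpec (hU.primeIdealOf ⟨x, hx⟩) ∈ X.zeroLocus s
  rw [hU.fromSpec_primeIdealOf]

theorem subsingleton_stalk_iff {X : Scheme.{u}} (F : X.Modules) [F.IsQuasicoherent] {U : X.Opens}
    (hU : IsAffineOpen U) {x : X} (hx : x ∈ U) :
    Subsingleton (F.presheaf.stalk x) ↔
      hU.primeIdealOf ⟨x, hx⟩ ∉ Module.support Γ(X, U) Γ(F, U) := by
  letI := Groth.Agent.H8.stalkModule F hx
  haveI := Groth.Agent.H8.isLocalizedModule_germₗ F hU hx
  rw [Module.notMem_support_iff]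
  exact (IsLocalizedModule.iso (hU.primeIdealOf ⟨x, hx⟩).asIdeal.primeCompl
    (Groth.Agent.H8.germₗ F hx)).toEquiv.subsingleton_congr.symm

theorem mem_support_sheafIdeal_zero_iff {X : Scheme.{u}} (F : X.Modules) [F.IsQuasicoherent]
    [SheafOfModules.IsFiniteType (R := X.ringCatSheaf) F] (x : X) :
    x ∈ (Fitt.sheafIdeal F 0).support ↔ ¬ Subsingleton (F.presheaf.stalk x) := by
  obtain ⟨U, hU, hxU⟩ : ∃ U : X.Opens, IsAffineOpen U ∧ x ∈ U := by
    obtain ⟨_, ⟨U, hU, rfl⟩, hxU, -⟩ :=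
      X.isBasis_affineOpens.exists_subset_of_mem_open (Set.mem_univ x) isOpen_univ
    exact ⟨U, hU, hxU⟩
  haveI : Module.Finite Γ(X, U) Γ(F, U) := finite_sections_of_isFiniteType F hU
  have h := Scheme.IdealSheafData.mem_support_iff_of_mem (I := Fitt.sheafIdeal F 0)
    (U := (⟨U, hU⟩ : X.affineOpens)) (x := x) hxU
  rw [h, sheafIdeal_ideal, subsingleton_stalk_iff F hU hxU, not_not,
    mem_zeroLocus_iff_primeIdealOf hU _ hxU, Groth.Agent.Lead.zeroLocus_fitt_ideal_zero]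

end Groth.Agent.H44
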