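import Groth.Agent.H8.QCohStalk

/-!
# Sections of quasi-coherent modules of finite type over affine opens (helper44)

* `isLocalizedModule_resBasicOpen`: for `F` quasi-coherent, `U` affine, `g ∈ Γ(X,U)`, the restriction
  `Γ(F,U) → Γ(F,D(g))` is the localization at `g` (as `IsLocalizedModule`, module structure `basicOpenModule`).
* `finite_sections_of_cover`: affine communication for `Module.Finite Γ(X,U) Γ(F,U)`.
* `exists_isOpenCover_generatingSections`: finite type ⇒ affine open cover with finitely many generating sections.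
* `finite_sections_of_isFiniteType`: `F` quasi-coherent of finite type ⇒ `Γ(F,U)` is a finite `Γ(X,U)`-module for
  every affine open `U`.
-/

set_option autoImplicit false
universe u
open CategoryTheory Limits AlgebraicGeometry Scheme.Modules TopologicalSpace Opposite

namespace Groth.Agent.H44

section basicOpen
variable {X : Scheme.{u}} (F : X.Modules) {U : X.Opens} (g : Γ(X, U))

/-- The `Γ(X,U)`-module structure on `Γ(F, D(g))`. -/
@[reducible] noncomputable def basicOpenModule : Module Γ(X, U) Γ(F, X.basicOpen g) :=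
  Module.compHom _ (algebraMap Γ(X, U) Γ(X, X.basicOpen g))

theorem isScalarTower_basicOpen :
    letI := basicOpenModule F g
    IsScalarTower Γ(X, U) Γ(X, X.basicOpen g) Γ(F, X.basicOpen g) :=
  letI := basicOpenModule F g
  IsScalarTower.of_compHom _ _ _

/-- Restriction `Γ(F,U) → Γ(F,D(g))` as a `Γ(X,U)`-linear map. -/
noncomputable def resBasicOpen :
    letI := basicOpenModule F g
    Γ(F, U) →ₗ[Γ(X, U)] Γ(F, X.basicOpen g) :=
  letI := basicOpenModule F g
  { toFun := F.presheaf.map (homOfLE (X.basicOpen_le g)).op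
    map_add' := map_add _
    map_smul' := fun r s => Scheme.Modules.map_smul F (homOfLE (X.basicOpen_le g)) r s }

lemma resBasicOpen_apply (s : Γ(F, U)) :
    resBasicOpen F g s = F.presheaf.map (homOfLE (X.basicOpen_le g)).op s := rfl

theorem isLocalizedModule_resBasicOpen [F.IsQuasicoherent] (hU : IsAffineOpen U) :
    letI := basicOpenModule F g
    IsLocalizedModule (.powers g) (resBasicOpen F g) := by
  letI := basicOpenModule F g
  have hu : IsUnit (X.presheaf.map (homOfLE (X.basicOpen_le g)).op g) :=
    RingedSpace.isUnit_res_basicOpen _ g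
  refine ⟨?_, ?_, ?_⟩
  · rintro ⟨_, n, rfl⟩
    rw [Module.End.isUnit_iff]
    obtain ⟨v, hv⟩ := hu.pow n
    have hact : ∀ t : Γ(F, X.basicOpen g), (g ^ n) • t = (v : Γ(X, X.basicOpen g)) • t := by
      intro t
      change (algebraMap Γ(X, U) Γ(X, X.basicOpen g) (g ^ n)) • t = _
      rw [hv, map_pow]; rfl
    refine ⟨fun a b hab => ?_, fun b => ⟨(↑v⁻¹ : Γ(X, X.basicOpen g)) • b, ?_⟩⟩
    · have h1 : (g ^ n) • a = (g ^ n) • b := hab
      rw [hact, hact] at h1
      have := congrArg (fun z => (↑v⁻¹ : Γ(X, X.basicOpen g)) • z) h1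
      simpa [smul_smul] using this
    · change (g ^ n) • ((↑v⁻¹ : Γ(X, X.basicOpen g)) • b) = b
      rw [hact, smul_smul]
      simp
  · intro t
    obtain ⟨n, s, hs⟩ := Groth.Agent.H8.exists_res_eq_pow_smul F hU g t
    refine ⟨(s, ⟨g ^ n, n, rfl⟩), ?_⟩
    change (algebraMap Γ(X, U) Γ(X, X.basicOpen g) (g ^ n)) • t = F.presheaf.map _ s
    rw [hs, map_pow]; rfl
  · intro s₁ s₂ h
    have hres : F.presheaf.map (homOfLE (X.basicOpen_le g)).op (s₁ - s₂) = 0 := by
      rw [map_sub, sub_eq_zero]; exact h
    obtain ⟨n, hn⟩ := Groth.Agent.H8.exists_pow_smul_eq_zero_of_res_basicOpen_eq_zero F hU g _ hres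
    refine ⟨⟨g ^ n, n, rfl⟩, ?_⟩
    change g ^ n • s₁ = g ^ n • s₂
    rw [← sub_eq_zero, ← smul_sub, hn]

end basicOpen

theorem finite_sections_of_cover {X : Scheme.{u}} (F : X.Modules) [F.IsQuasicoherent]
    {ι : Type*} (U : ι → X.affineOpens) (hU : (⨆ i, (U i : X.Opens)) = ⊤)
    (h : ∀ i, Module.Finite Γ(X, (U i).1) Γ(F, (U i).1)) (V : X.affineOpens) :
    Module.Finite Γ(X, V.1) Γ(F, V.1) := by
  refine of_affine_open_cover (P := fun W => Module.Finite Γ(X, W.1) Γ(F, W.1)) U hU V ?_ ?_ h
  · intro W g hW
    change Module.Finite Γ(X, X.basicOpen g) Γ(F, X.basicOpen g)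
    letI := basicOpenModule F g
    haveI := isScalarTower_basicOpen F g
    haveI := isLocalizedModule_resBasicOpen F g W.2
    haveI : IsLocalization (.powers g) Γ(X, X.basicOpen g) := W.2.isLocalization_basicOpen g
    exact Module.Finite.of_isLocalizedModule (.powers g) (resBasicOpen F g)
  · intro W s hs hP
    have hP' : ∀ g : s, Module.Finite Γ(X, X.basicOpen g.1) Γ(F, X.basicOpen g.1) := hP
    letI := fun g : s => basicOpenModule F g.1
    haveI := fun g : s => isScalarTower_basicOpen F g.1
    haveI : ∀ g : s, IsLocalizedModule.Away g.1 (resBasicOpen F g.1) :=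
      fun g => isLocalizedModule_resBasicOpen F g.1 W.2
    haveI : ∀ g : s, IsLocalization.Away g.1 Γ(X, X.basicOpen g.1) :=
      fun g => W.2.isLocalization_basicOpen g.1
    exact Module.Finite.of_localizationSpan_finite' s hs (fun g => resBasicOpen F g.1) hP'

set_option backward.isDefEq.respectTransparency false in
/-- finite-type analogue of `Scheme.Modules.exists_isOpenCover_presentation` -/
lemma exists_isOpenCover_generatingSections {X : Scheme.{u}} (M : X.Modules)
    [SheafOfModules.IsFiniteType (R := X.ringCatSheaf) M] :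
    ∃ (ι : Type u) (U : ι → X.Opens) (σ : ∀ i, (M.restrict (U i).ι).GeneratingSections),
      (∀ i, (σ i).IsFiniteType) ∧ IsOpenCover U ∧ (∀ i, IsAffineOpen (U i)) := by
  obtain ⟨q, hq⟩ := SheafOfModules.IsFiniteType.exists_localGeneratorsData M
  choose κ hsub heq using fun i ↦ Opens.isBasis_iff_cover.mp X.isBasis_affineOpens (q.X i)
  have key : ∀ j : (Σ (i : q.I), κ i), ∃ σ : (M.restrict (Scheme.Opens.ι (j.2 : X.Opens))).GeneratingSections,
      σ.IsFiniteType := by
    intro i
    let u := X.homOfLE (U := i.2) (V := q.X i.1) (by simp [heq, le_sSup])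
    have : PreservesColimitsOfSize.{u, u} (restrictFunctor u) := inferInstance
    let F := (overEquiv (q.X i.1)).functor ⋙ restrictFunctor u
    let iso : SheafOfModules.overFunctor X.ringCatSheaf _ ⋙ F ≅ restrictFunctor
      (Scheme.Opens.ι i.2.1) := (Functor.associator _ _ _).symm ≪≫
        Functor.isoWhiskerRight (Scheme.Modules.overFunctorEquiv _) _ ≪≫
        (restrictFunctorComp _ _).symm ≪≫ (restrictFunctorCongr (by simp [u]))
    have := hq.isFiniteType i.1
    refine ⟨((q.generators i.1).map F (Scheme.Modules.restrictUnitIso _).symm).ofEpi (iso.app M).hom, ?_⟩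
    infer_instance
  choose σ hσ using key
  refine ⟨Σ (i : q.I), κ i, fun j ↦ j.2, σ, hσ, ?_, ?_⟩
  · have cov := q.coversTop
    rw [Opens.coversTop_iff, IsOpenCover] at cov
    rw [IsOpenCover, iSup_sigma, ← cov]
    refine iSup_congr fun i ↦ ?_
    rw [heq i, sSup_eq_iSup']
  · intro j
    exact hsub _ j.2.2

set_option backward.isDefEq.respectTransparency false in
theorem finite_of_generatingSections_Spec {R : CommRingCat.{u}} (N : (Spec R).Modules)
    [N.IsQuasicoherent] (σ : N.GeneratingSections) [σ.IsFiniteType] :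
    Module.Finite R Γ(N, ⊤) := by
  have : IsIso N.fromTildeΓ := inferInstance
  let A : ModuleCat.{u} R := ModuleCat.of R (σ.I →₀ R)
  let B : ModuleCat.{u} R := (modulesSpecToSheaf.obj N).presheaf.obj (.op ⊤)
  let g : (tilde.functor R).obj A ⟶ (tilde.functor R).obj B :=
    (tildeFinsupp σ.I).hom ≫ σ.π ≫ inv N.fromTildeΓ
  have hg : Epi g := by
    have h1 : Epi σ.π := σ.epi
    have h2 : Epi (σ.π ≫ inv N.fromTildeΓ) := epi_comp _ _
    exact epi_comp _ _
  let φ : A ⟶ B := (tilde.functor R).preimage g
  have hφ : (tilde.functor R).map φ = g := (tilde.functor R).map_preimage g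
  have hepi : Epi φ := by
    apply (tilde.functor R).epi_of_epi_map
    rw [hφ]; exact hg
  have hsurj : Function.Surjective φ.hom := (ModuleCat.epi_iff_surjective φ).mp hepi
  have : Module.Finite R A := by
    dsimp only [A]
    infer_instance
  exact Module.Finite.of_surjective φ.hom hsurj

set_option backward.isDefEq.respectTransparency false in
theorem finite_of_generatingSections_restrict {X : Scheme.{u}} (M : X.Modules) [M.IsQuasicoherent]
    {V : X.Opens} (hV : IsAffineOpen V) (σ : (M.restrict V.ι).GeneratingSections)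
    [σ.IsFiniteType] : Module.Finite Γ(X, V) Γ(M, V) := by
  have : PreservesColimitsOfSize.{u, u} (restrictFunctor hV.isoSpec.inv) := inferInstance
  let σ' : (M.restrict hV.fromSpec).GeneratingSections :=
    (σ.map (restrictFunctor hV.isoSpec.inv) (Scheme.Modules.restrictUnitIso _).symm).ofEpi
      ((restrictFunctorComp hV.isoSpec.inv V.ι).app M).inv
  have hσ' : σ'.IsFiniteType := by
    dsimp only [σ']
    infer_instance
  have hfin : Module.Finite Γ(X, V) Γ(M.restrict hV.fromSpec, ⊤) :=
    finite_of_generatingSections_Spec (R := Γ(X, V)) (M.restrict hV.fromSpec) σ'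
  have e1 : hV.fromSpec ''ᵁ ⊤ = V := by simp
  have key : Module.Finite Γ(X, hV.fromSpec ''ᵁ ⊤) Γ(M, hV.fromSpec ''ᵁ ⊤) := by
    obtain ⟨S, hS⟩ := hfin
    refine ⟨⟨S, ?_⟩⟩
    rw [eq_top_iff]
    intro m _
    have hm : m ∈ Submodule.span Γ(X, V) (S : Set Γ(M.restrict hV.fromSpec, ⊤)) := by
      rw [hS]; trivial
    induction hm using Submodule.span_induction with
    | mem y hy => exact Submodule.subset_span hy
    | zero => exact Submodule.zero_mem _
    | add y z _ _ hy hz => exact Submodule.add_mem _ (hy trivial) (hz trivial)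
    | smul a y _ hy =>
      rw [Groth.Agent.H8.smul_restrict_fromSpec, Scheme.Modules.smul_apply]
      exact Submodule.smul_mem _ _ (hy trivial)
  exact e1 ▸ key

/-- **Sections of a quasi-coherent module of finite type over an affine open form a finite module.** -/
theorem finite_sections_of_isFiniteType {X : Scheme.{u}} (F : X.Modules) [F.IsQuasicoherent]
    [SheafOfModules.IsFiniteType (R := X.ringCatSheaf) F] {V : X.Opens} (hV : IsAffineOpen V) :
    Module.Finite Γ(X, V) Γ(F, V) := by
  obtain ⟨ι, U, σ, hσ, hU, hUa⟩ := exists_isOpenCover_generatingSections F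
  have := hσ
  exact finite_sections_of_cover F (fun i => (⟨U i, hUa i⟩ : X.affineOpens)) hU
    (fun i => finite_of_generatingSections_restrict F (hUa i) (σ i)) ⟨V, hV⟩

end Groth.Agent.H44
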