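import Groth.Agent.H44.PullbackAffine
import Groth.Agent.H44.FiniteSections
import Groth.Agent.H18.FTypeCriterion

/-!
# Pullback of quasi-coherent modules of finite type

* `finite_sections_pullback` : sections of `f^*F` over an affine `U ≤ f⁻¹V` are a finite module.
* `isFiniteType_pullback` : pullback preserves "quasi-coherent of finite type" (instance).
-/

set_option autoImplicit false
universe u
open CategoryTheory AlgebraicGeometry Scheme.Modules TopologicalSpace Opposite TensorProduct

namespace Groth.Agent.H44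

variable {X Y : Scheme.{u}} (f : X ⟶ Y) (F : Y.Modules)

theorem finite_sections_pullback [F.IsQuasicoherent]
    [SheafOfModules.IsFiniteType (R := Y.ringCatSheaf) F] {U : X.Opens} {V : Y.Opens}
    (hU : IsAffineOpen U) (hV : IsAffineOpen V) (e : U ≤ f ⁻¹ᵁ V) :
    Module.Finite Γ(X, U) Γ((pullback f).obj F, U) := by
  let _ := (f.appLE V U e).hom.toAlgebra
  have : Module.Finite Γ(Y, V) Γ(F, V) := finite_sections_of_isFiniteType F hV
  exact Module.Finite.equiv (pullbackSectionsEquiv f F hU hV e).symm

/-- The pullback of a quasi-coherent module of finite type is of finite type. -/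
instance isFiniteType_pullback [F.IsQuasicoherent]
    [SheafOfModules.IsFiniteType (R := Y.ringCatSheaf) F] :
    SheafOfModules.IsFiniteType (R := X.ringCatSheaf) ((pullback f).obj F) := by
  let ι : Type u := {U : X.Opens // IsAffineOpen U ∧ ∃ V : Y.Opens, IsAffineOpen V ∧ U ≤ f ⁻¹ᵁ V}
  have hfin : ∀ i : ι, Module.Finite Γ(X, i.1) Γ((pullback f).obj F, i.1) := by
    rintro ⟨U, hU, V, hV, hUV⟩
    exact finite_sections_pullback f F hU hV hUV
  have hcov : IsOpenCover (fun i : ι => i.1) := by
    rw [IsOpenCover, eq_top_iff]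
    intro x _
    obtain ⟨V, hV, hxV, -⟩ := exists_isAffineOpen_mem_and_subset (X := Y) (x := f.base x)
      (U := ⊤) trivial
    obtain ⟨U, hU, hxU, hUV⟩ := exists_isAffineOpen_mem_and_subset (X := X) (x := x)
      (U := f ⁻¹ᵁ V) hxV
    exact Opens.mem_iSup.mpr ⟨⟨U, hU, V, hV, hUV⟩, hxU⟩
  choose n s hs using fun i : ι => Module.Finite.exists_fin (R := Γ(X, i.1))
    (M := Γ((pullback f).obj F, i.1))
  exact Groth.Agent.H18.isFiniteType_of_isQuasicoherent_of_span_eq_top _ (fun i : ι => i.1) hcov
    (fun i => i.2.1) (fun i => ULift.{u} (Fin (n i))) (fun i j => s i j.down) (fun i => by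
      have : (Set.range fun j : ULift.{u} (Fin (n i)) => s i j.down) = Set.range (s i) := by
        ext y; constructor
        · rintro ⟨j, rfl⟩; exact ⟨j.down, rfl⟩
        · rintro ⟨j, rfl⟩; exact ⟨⟨j⟩, rfl⟩
      rw [this]; exact hs i)

end Groth.Agent.H44
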