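import Groth.Agent.H44.OmegaUnramified
import Groth.Agent.H44.FittSupport
import Groth.Agent.H44.PullbackFT
import Mathlib.AlgebraicGeometry.Morphisms.FiniteType

set_option autoImplicit false
universe u
open CategoryTheory Limits Opposite AlgebraicGeometry TopologicalSpace Scheme.Modules

namespace Groth.Agent.H44

section FT
variable {X : Scheme.{u}}

/-- A quasi-coherent module with finite modules of sections on an affine open cover is of finite
type. -/
theorem isFiniteType_of_finite_sections_cover (M : X.Modules) [M.IsQuasicoherent] {ι : Type u}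
    (U : ι → X.Opens) (hcov : IsOpenCover U) (hUa : ∀ i, IsAffineOpen (U i))
    (hfin : ∀ i, Module.Finite Γ(X, U i) Γ(M, U i)) :
    SheafOfModules.IsFiniteType (R := X.ringCatSheaf) M := by
  choose n s hs using fun i : ι => Module.Finite.exists_fin (R := Γ(X, U i)) (M := Γ(M, U i))
  exact Groth.Agent.H18.isFiniteType_of_isQuasicoherent_of_span_eq_top _ U hcov
    hUa (fun i => ULift.{u} (Fin (n i))) (fun i j => s i j.down) (fun i => by
      have : (Set.range fun j : ULift.{u} (Fin (n i)) => s i j.down) = Set.range (s i) := by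
        ext y; constructor
        · rintro ⟨j, rfl⟩; exact ⟨j.down, rfl⟩
        · rintro ⟨j, rfl⟩; exact ⟨⟨j⟩, rfl⟩
      rw [this]; exact hs i)

variable {S : Scheme.{u}} (f : X ⟶ S) [QuasiSeparated f]

instance isQuasicoherent_omega : (Omega.sheaf f).IsQuasicoherent := by
  unfold Omega.sheaf Omega.conormal
  infer_instance

theorem finite_sections_omega [LocallyOfFiniteType f] {U : X.Opens} (hU : IsAffineOpen U)
    {V : S.Opens} (hV : IsAffineOpen V) (e : U ≤ f ⁻¹ᵁ V) :
    Module.Finite Γ(X, U) Γ(Omega.sheaf f, U) := by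
  letI := (f.appLE V U e).hom.toAlgebra
  haveI : Algebra.FiniteType Γ(S, V) Γ(X, U) := f.finiteType_appLE hV hU e
  exact Module.Finite.equiv (omegaSectionsEquiv f hU hV e).symm

instance isFiniteType_omega [LocallyOfFiniteType f] :
    SheafOfModules.IsFiniteType (R := X.ringCatSheaf) (Omega.sheaf f) := by
  let ι : Type u := {U : X.Opens // IsAffineOpen U ∧ ∃ V : S.Opens, IsAffineOpen V ∧ U ≤ f ⁻¹ᵁ V}
  refine isFiniteType_of_finite_sections_cover _ (fun i : ι => i.1) ?_ (fun i => i.2.1) ?_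
  · rw [IsOpenCover, eq_top_iff]
    intro x _
    obtain ⟨U, ⟨hU, V, hV, e⟩, hxU, -⟩ := Opens.isBasis_iff_nbhd.mp (isBasis_affine_le_preimage f)
      (show x ∈ (⊤ : X.Opens) from trivial)
    exact Opens.mem_iSup.mpr ⟨⟨U, hU, V, hV, e⟩, hxU⟩
  · rintro ⟨U, hU, V, hV, e⟩
    exact finite_sections_omega f hU hV e

end FT

section Stalk
variable {X : Scheme.{u}} (M : X.Modules) (U : X.Opens)

theorem subsingleton_stalk_of_isZero_restrict (h : IsZero ((restrictFunctor U.ι).obj M))
    {y : X} (hy : y ∈ U) : Subsingleton (M.presheaf.stalk y) := by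
  refine ⟨fun a b => ?_⟩
  suffices H : ∀ t : M.presheaf.stalk y, t = 0 by rw [H a, H b]
  intro t
  obtain ⟨W, hWU, hyW, s, rfl⟩ := M.presheaf.exists_le_germ_eq t hy
  have hle : U.ι ''ᵁ (U.ι ⁻¹ᵁ W) ≤ W := Set.image_preimage_subset _ _
  have hy' : y ∈ U.ι ''ᵁ (U.ι ⁻¹ᵁ W) := by
    rw [Scheme.Hom.image_preimage_eq_opensRange_inf, Scheme.Opens.opensRange_ι]
    exact ⟨hy, hyW⟩
  rw [← TopCat.Presheaf.germ_res_apply M.presheaf (homOfLE hle) y hy' s]
  have h0 : M.presheaf.map (homOfLE hle).op s = 0 := by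
    have h1 : 𝟙 ((restrictFunctor U.ι).obj M) = 0 := h.eq_of_src _ _
    have h2 : ∀ z : Γ((restrictFunctor U.ι).obj M, U.ι ⁻¹ᵁ W), z = 0 := fun z => by
      have hz : z = (𝟙 ((restrictFunctor U.ι).obj M) : _ ⟶ _).app (U.ι ⁻¹ᵁ W) z := rfl
      rw [hz, h1]
      rfl
    exact h2 (M.presheaf.map (homOfLE hle).op s)
  rw [h0, map_zero]

theorem isZero_restrict_of_subsingleton_stalk
    (h : ∀ y ∈ U, Subsingleton (M.presheaf.stalk y)) : IsZero ((restrictFunctor U.ι).obj M) := by
  rw [IsZero.iff_id_eq_zero]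
  refine Scheme.Modules.hom_ext _ _ fun W => ?_
  ext s
  change (show Γ(M, U.ι ''ᵁ W) from s) = 0
  refine TopCat.Presheaf.section_ext ⟨M.presheaf, M.isSheaf⟩ _ _ _ fun y hy => ?_
  haveI := h y (U.ι_image_le W hy)
  exact Subsingleton.elim _ _

end Stalk

section Ramification
variable {X S : Scheme.{u}} (f : X ⟶ S) [QuasiSeparated f]

/-- `Ω_{X/S}` restricted to an open `U` is `Ω_{U/S}`. -/
noncomputable def omegaRestrictOpenIso (U : X.Opens) :
    (restrictFunctor U.ι).obj (Omega.sheaf f) ≅ Omega.sheaf (U.ι ≫ f) :=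
  (restrictFunctorIsoPullback U.ι).app _ ≪≫
    omegaRestrictIso (U.ι ≫ f) f U.ι (𝟙 S) (Category.comp_id _)

theorem formallyUnramified_ι_comp_iff (U : X.Opens) :
    FormallyUnramified (U.ι ≫ f) ↔
      ∀ y ∈ U, Subsingleton ((Omega.sheaf f).presheaf.stalk y) := by
  rw [← isZero_omega_iff_formallyUnramified, ← (omegaRestrictOpenIso f U).isZero_iff]
  exact ⟨fun h y hy => subsingleton_stalk_of_isZero_restrict _ U h hy,
    isZero_restrict_of_subsingleton_stalk _ U⟩

theorem mem_support_fitt_zero_omega_iff [LocallyOfFiniteType f] (x : X) :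
    x ∈ (Fitt.sheafIdeal (Omega.sheaf f) 0).support ↔
      ¬ ∃ U : X.Opens, x ∈ U ∧ FormallyUnramified (U.ι ≫ f) := by
  constructor
  · rintro hx ⟨U, hxU, hU⟩
    rw [mem_support_sheafIdeal_zero_iff] at hx
    exact hx ((formallyUnramified_ι_comp_iff f U).1 hU x hxU)
  · intro h
    by_contra hx
    refine h ⟨⟨((Fitt.sheafIdeal (Omega.sheaf f) 0).support : Set X)ᶜ,
      (Fitt.sheafIdeal (Omega.sheaf f) 0).support.isClosed.isOpen_compl⟩, hx, ?_⟩
    rw [formallyUnramified_ι_comp_iff]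
    intro y hy
    have := (mem_support_sheafIdeal_zero_iff (Omega.sheaf f) y).not.1 hy
    exact not_not.1 this

end Ramification

end Groth.Agent.H44
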