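import Groth.Agent.H8.QCohStalk
import Groth.Prelude.Def_FlatMod2

/-!
# Quasi-coherent modules on affine opens vs modules of sections (helper44)

On `Spec R` (via Mathlib's tilde/Γ equivalence): maps `free I ⟶ N` vs generators / bases of `Γ(N,⊤)`.
For an affine open `V` of a scheme `X`: `sectionsSpecEquiv : Γ(F.restrict hV.fromSpec, ⊤) ≃ₗ[Γ(X,V)] Γ(F,V)`, and
the four transfer lemmas `exists_span_of_epi_freeMod`, `exists_epi_freeMod_of_span`,
`nonempty_basis_of_iso_freeMod`, `nonempty_iso_freeMod_of_basis` for the prelude's `FlatMod.freeMod`.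
-/

set_option autoImplicit false
universe u
open CategoryTheory Limits AlgebraicGeometry Scheme.Modules TopologicalSpace Opposite

namespace Groth.Agent.H44

/-- Global sections of a module on `Spec R`, as an object of `ModuleCat R`. -/
noncomputable abbrev gammaSpec {R : CommRingCat.{u}} (N : (Spec R).Modules) : ModuleCat.{u} R :=
  (modulesSpecToSheaf.obj N).presheaf.obj (.op ⊤)

section transfer
variable {X : Scheme.{u}} (F : X.Modules) {V : X.Opens} (hV : IsAffineOpen V)

theorem fromSpec_image_top' : hV.fromSpec ''ᵁ ⊤ = V := by simp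

set_option backward.isDefEq.respectTransparency false in
/-- Global sections of `F.restrict hV.fromSpec` are the sections of `F` over `V`, `Γ(X,V)`-linearly. -/
noncomputable def sectionsSpecHom :
    (gammaSpec (R := Γ(X, V)) (F.restrict hV.fromSpec) : Type u) →ₗ[Γ(X, V)] Γ(F, V) where
  toFun := fun t => F.presheaf.map (eqToHom (fromSpec_image_top' hV).symm).op t
  map_add' := fun a b => map_add _ a b
  map_smul' := fun r t => by
    change F.presheaf.map (eqToHom (fromSpec_image_top' hV).symm).op
      ((r • (show Γ(F.restrict hV.fromSpec, ⊤) from t) : Γ(F.restrict hV.fromSpec, ⊤))) = _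
    rw [Groth.Agent.H8.smul_restrict_fromSpec, Scheme.Modules.smul_apply,
      Scheme.Modules.map_smul, Groth.Agent.H8.ring_map_map]
    congr 1
    change X.presheaf.map (𝟙 _) r = r
    simp

theorem sectionsSpecHom_bijective : Function.Bijective (sectionsSpecHom F hV) :=
  ConcreteCategory.bijective_of_isIso (F.presheaf.map (eqToHom (fromSpec_image_top' hV).symm).op)

noncomputable def sectionsSpecEquiv :
    (gammaSpec (R := Γ(X, V)) (F.restrict hV.fromSpec) : Type u) ≃ₗ[Γ(X, V)] Γ(F, V) :=
  LinearEquiv.ofBijective (sectionsSpecHom F hV) (sectionsSpecHom_bijective F hV)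

end transfer

section Spec

variable {R : CommRingCat.{u}} (N : (Spec R).Modules)

set_option backward.isDefEq.respectTransparency false in
theorem exists_epi_free_of_span_eq_top [N.IsQuasicoherent] {I : Type u} (x : I → (gammaSpec N : Type u))
    (hx : Submodule.span R (Set.range x) = ⊤) :
    ∃ π : SheafOfModules.free I ⟶ N, Epi π := by
  have : IsIso N.fromTildeΓ := inferInstance
  let φ : (I →₀ R) →ₗ[R] (gammaSpec N : Type u) := Finsupp.linearCombination R x
  have hφ : Function.Surjective φ := by
    rw [← LinearMap.range_eq_top, Finsupp.range_linearCombination, hx]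
  let φ' : ModuleCat.of R (I →₀ R) ⟶ gammaSpec N := ModuleCat.ofHom (X := I →₀ R) (Y := (gammaSpec N : Type u)) φ
  have h1 : Epi φ' := (ModuleCat.epi_iff_surjective φ').mpr hφ
  have h2 : Epi ((tilde.functor R).map φ') := inferInstance
  refine ⟨(tildeFinsupp I).inv ≫ (tilde.functor R).map φ' ≫ N.fromTildeΓ, ?_⟩
  have h3 : Epi ((tilde.functor R).map φ' ≫ N.fromTildeΓ) := epi_comp _ _
  exact epi_comp _ _

set_option backward.isDefEq.respectTransparency false in
theorem exists_span_eq_top_of_epi_free [N.IsQuasicoherent] {I : Type u}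
    (π : SheafOfModules.free I ⟶ N) [Epi π] :
    ∃ x : I → (gammaSpec N : Type u), Submodule.span R (Set.range x) = ⊤ := by
  have : IsIso N.fromTildeΓ := inferInstance
  let A : ModuleCat.{u} R := ModuleCat.of R (I →₀ R)
  let g : (tilde.functor R).obj A ⟶ (tilde.functor R).obj (gammaSpec N) :=
    (tildeFinsupp I).hom ≫ π ≫ inv N.fromTildeΓ
  have hg : Epi g := by
    have h2 : Epi (π ≫ inv N.fromTildeΓ) := epi_comp _ _
    exact epi_comp _ _
  let φ : A ⟶ gammaSpec N := (tilde.functor R).preimage g
  have hφ : (tilde.functor R).map φ = g := (tilde.functor R).map_preimage g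
  have hepi : Epi φ := by
    apply (tilde.functor R).epi_of_epi_map
    rw [hφ]; exact hg
  have hsurj : Function.Surjective φ.hom := (ModuleCat.epi_iff_surjective φ).mp hepi
  refine ⟨fun i => φ.hom (Finsupp.single i 1), ?_⟩
  have h1 : Submodule.span R (Set.range fun i : I => (Finsupp.single i (1 : R) : I →₀ R)) = ⊤ := by
    rw [eq_top_iff, ← Finsupp.span_single_eq_top]
    apply Submodule.span_le.mpr
    rintro _ ⟨i, r, rfl⟩
    have : (Finsupp.single i r : I →₀ R) = r • Finsupp.single i 1 := by
      rw [Finsupp.smul_single, smul_eq_mul, mul_one]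
    rw [this]
    exact Submodule.smul_mem _ _ (Submodule.subset_span ⟨i, rfl⟩)
  have h2 : (Set.range fun i : I => φ.hom (Finsupp.single i (1 : R))) =
      φ.hom '' (Set.range fun i : I => (Finsupp.single i (1 : R) : I →₀ R)) := by
    rw [← Set.range_comp]; rfl
  rw [h2]
  erw [← Submodule.map_span, h1, Submodule.map_top, LinearMap.range_eq_top]
  exact hsurj

set_option backward.isDefEq.respectTransparency false in
theorem nonempty_iso_free_of_basis [N.IsQuasicoherent] {I : Type u}
    (b : Module.Basis I R (gammaSpec N : Type u)) : Nonempty (N ≅ SheafOfModules.free I) := by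
  have : IsIso N.fromTildeΓ := inferInstance
  let e : gammaSpec N ≅ ModuleCat.of R (I →₀ R) := b.repr.toModuleIso
  exact ⟨(asIso N.fromTildeΓ).symm ≪≫ (tilde.functor R).mapIso e ≪≫ tildeFinsupp I⟩

set_option backward.isDefEq.respectTransparency false in
theorem nonempty_basis_of_iso_free {I : Type u} (e : N ≅ SheafOfModules.free I) :
    Nonempty (Module.Basis I R (gammaSpec N : Type u)) := by
  let e1 : gammaSpec N ≅ ModuleCat.of R (I →₀ R) :=
    (moduleSpecΓFunctor (R := R)).mapIso (e ≪≫ (tildeFinsupp I).symm) ≪≫
      (tilde.toTildeΓNatIso.app (ModuleCat.of R (I →₀ R))).symm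
  exact ⟨Module.Basis.ofRepr e1.toLinearEquiv⟩

end Spec

/-- The prelude's free module of rank `r` is Mathlib's free sheaf of modules on `ULift (Fin r)`. -/
noncomputable def freeModIsoFree (X : Scheme.{u}) (r : ℕ) :
    FlatMod.freeMod X r ≅ SheafOfModules.free (R := X.ringCatSheaf) (ULift.{u} (Fin r)) :=
  Sigma.whiskerEquiv (f := fun _ : Fin r => Coh.structureModule X)
    (g := fun _ : ULift.{u} (Fin r) => SheafOfModules.unit X.ringCatSheaf)
    Equiv.ulift.symm (fun _ => Iso.refl _)

set_option backward.isDefEq.respectTransparency false in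
/-- Restriction along an open immersion preserves free modules. -/
noncomputable def restrictFreeModIso {X Y : Scheme.{u}} (j : Y ⟶ X) [IsOpenImmersion j] (r : ℕ) :
    (FlatMod.freeMod X r).restrict j ≅ FlatMod.freeMod Y r :=
  haveI : PreservesColimitsOfSize.{u, u} (restrictFunctor j) := inferInstance
  haveI : PreservesColimitsOfShape (Discrete (Fin r)) (restrictFunctor j) :=
    preservesColimitsOfShape_of_equiv (Discrete.equivalence Equiv.ulift.{u, 0})
      (restrictFunctor j)
  PreservesCoproduct.iso (restrictFunctor j) (fun _ : Fin r => Coh.structureModule X) ≪≫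
    Sigma.mapIso (fun _ => Scheme.Modules.restrictUnitIso j)

end Groth.Agent.H44
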