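import Groth.Agent.H44.OmegaSpecAux
import Groth.Prelude.Def_Omega2

set_option autoImplicit false
universe u
open CategoryTheory Limits Opposite AlgebraicGeometry TopologicalSpace TensorProduct Scheme.Modules

namespace Groth.Agent.H44

section Main
variable (R A : Type u) [CommRing R] [CommRing A] [Algebra R A]

/-- The multiplication map as a morphism of `CommRingCat`. -/
noncomputable abbrev mulCat : CommRingCat.of (A ⊗[R] A) ⟶ CommRingCat.of A :=
  CommRingCat.ofHom (mulHom R A)

theorem diagonal_comp_pullbackSpecIso_hom :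
    pullback.diagonal (Spec.map (CommRingCat.ofHom (algebraMap R A))) ≫ (pullbackSpecIso R A A).hom =
      Spec.map (mulCat R A) := by
  rw [diagonal_SpecMap, Category.assoc, Iso.inv_hom_id, Category.comp_id]

instance : QuasiCompact (pullback.diagonal (Spec.map (CommRingCat.ofHom (algebraMap R A)))) :=
  inferInstance

theorem idealOfIsoSpec_diagonal :
    idealOfIsoSpec (pullbackSpecIso R A A)
      (pullback.diagonal (Spec.map (CommRingCat.ofHom (algebraMap R A)))).ker =
      KaehlerDifferential.ideal R A := by
  ext r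
  change ringOfIsoSpec (pullbackSpecIso R A A) r ∈
    (pullback.diagonal (Spec.map (CommRingCat.ofHom (algebraMap R A)))).ker.ideal
      ⟨⊤, isAffineOpen_top _⟩ ↔ _
  rw [Scheme.Hom.ker_apply, RingHom.mem_ker]
  have h : (pullback.diagonal (Spec.map (CommRingCat.ofHom (algebraMap R A)))).app ⊤
      (ringOfIsoSpec (pullbackSpecIso R A A) r) =
      (Scheme.ΓSpecIso (CommRingCat.of A)).inv (mulHom R A r) := by
    have h1 := Scheme.ΓSpecIso_inv_naturality (mulCat R A)
    rw [← diagonal_comp_pullbackSpecIso_hom, Scheme.Hom.comp_appTop] at h1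
    exact (congr($h1 r)).symm
  change (pullback.diagonal (Spec.map (CommRingCat.ofHom (algebraMap R A)))).app ⊤
      (ringOfIsoSpec (pullbackSpecIso R A A) r) = 0 ↔ _
  rw [h]
  have hinj : Function.Injective (Scheme.ΓSpecIso (CommRingCat.of A)).inv.hom :=
    (ConcreteCategory.bijective_of_isIso (Scheme.ΓSpecIso (CommRingCat.of A)).inv).1
  exact map_eq_zero_iff (Scheme.ΓSpecIso (CommRingCat.of A)).inv.hom hinj

/-- The ideal sheaf of the diagonal, pushed to `Spec (A ⊗[R] A)`. -/
noncomputable abbrev diagIdealPush : (Spec (CommRingCat.of (A ⊗[R] A))).Modules :=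
  (pushforward (pullbackSpecIso R A A).hom).obj
    (ClSub.idealMod (pullback.diagonal (Spec.map (CommRingCat.ofHom (algebraMap R A)))).ker)

instance : (diagIdealPush R A).IsQuasicoherent :=
  Groth.Agent.H8.isQuasicoherent_pushforward_of_isAffineHom _ _

/-- `Ω_{Spec A / Spec R} ≅ (Ω[A/R])^~`. -/
noncomputable def omegaSpecIso :
    Omega.sheaf (Spec.map (CommRingCat.ofHom (algebraMap R A))) ≅
      tilde (R := CommRingCat.of A) (ModuleCat.of A (Ω[A⁄R])) :=
  (pullbackCongr (diagonal_SpecMap R A)).app
      (ClSub.idealMod (pullback.diagonal (Spec.map (CommRingCat.ofHom (algebraMap R A)))).ker) ≪≫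
    ((pullbackComp (Spec.map (mulCat R A)) (pullbackSpecIso R A A).inv).app _).symm ≪≫
    (Scheme.Modules.pullback (Spec.map (mulCat R A))).mapIso
      ((pullbackInvIsoPushforward (pullbackSpecIso R A A)).app _) ≪≫
    (Scheme.Modules.pullback (Spec.map (mulCat R A))).mapIso
      (show diagIdealPush R A ≅
          (tilde.functor (CommRingCat.of (A ⊗[R] A))).obj (gammaSpec (diagIdealPush R A)) from
        haveI : IsIso (Scheme.Modules.fromTildeΓ (R := CommRingCat.of (A ⊗[R] A))
            (diagIdealPush R A)) :=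
          Scheme.Modules.isIso_fromTildeΓ_of_isQuasicoherent (R := CommRingCat.of (A ⊗[R] A))
            (diagIdealPush R A)
        (asIso (Scheme.Modules.fromTildeΓ (R := CommRingCat.of (A ⊗[R] A))
          (diagIdealPush R A))).symm) ≪≫
    (pullbackTildeIso (mulCat R A)).app (gammaSpec (diagIdealPush R A)) ≪≫
    (tilde.functor (CommRingCat.of A)).mapIso
      ((ModuleCat.extendScalars (mulCat R A).hom).mapIso
          (gammaPushIdealModIso (pullbackSpecIso R A A) _ ≪≫
            (LinearEquiv.ofEq _ _ (idealOfIsoSpec_diagonal R A)).toModuleIso) ≪≫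
        (extendScalarsIdealEquivKaehler R A).toModuleIso)

end Main
end Groth.Agent.H44
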