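import Groth.Agent.H44.OmegaRestrict
import Groth.Agent.H44.OmegaSpec
import Groth.Agent.H44.AffineModules

set_option autoImplicit false
universe u
open CategoryTheory Limits Opposite AlgebraicGeometry TopologicalSpace Scheme.Modules

namespace Groth.Agent.H44

section Sections
variable {X S : Scheme.{u}} (f : X ⟶ S) [QuasiSeparated f] {U : X.Opens} (hU : IsAffineOpen U)
  {V : S.Opens} (hV : IsAffineOpen V) (e : U ≤ f ⁻¹ᵁ V)

/-- `Ω_{X/S}` restricted to `Spec Γ(X,U)` is `Ω_{Spec Γ(X,U) / Spec Γ(S,V)}`. -/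
noncomputable def omegaFromSpecIso :
    (Scheme.Modules.pullback hU.fromSpec).obj (Omega.sheaf f) ≅
      Omega.sheaf (Spec.map (f.appLE V U e)) :=
  omegaRestrictIso (Spec.map (f.appLE V U e)) f hU.fromSpec hV.fromSpec
    (IsAffineOpen.SpecMap_appLE_fromSpec f hV hU e)

/-- `Ω_{Spec A/Spec R} = Ω[A/R]^~` for a morphism of `CommRingCat`. -/
noncomputable def omegaSpecMapIso {R A : CommRingCat.{u}} (φ : R ⟶ A) :
    letI := φ.hom.toAlgebra
    Omega.sheaf (Spec.map φ) ≅ tilde (R := A) (ModuleCat.of A (Ω[A⁄R])) :=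
  letI := φ.hom.toAlgebra
  omegaSpecIso R A

/-- The module of sections of `Ω_{X/S}` over an affine open `U ⊆ f⁻¹ V`, `V` affine, as an object of
`ModuleCat Γ(X,U)`, is `Ω[Γ(X,U)/Γ(S,V)]`. -/
noncomputable def omegaGammaIso :
    letI := (f.appLE V U e).hom.toAlgebra
    gammaSpec (R := Γ(X, U)) ((Omega.sheaf f).restrict hU.fromSpec) ≅
      ModuleCat.of Γ(X, U) (Ω[Γ(X, U)⁄Γ(S, V)]) :=
  letI := (f.appLE V U e).hom.toAlgebra
  (moduleSpecΓFunctor (R := Γ(X, U))).mapIso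
      ((restrictFunctorIsoPullback hU.fromSpec).app (Omega.sheaf f) ≪≫
        omegaFromSpecIso f hU hV e ≪≫ omegaSpecMapIso (f.appLE V U e)) ≪≫
    ((tilde.toTildeΓNatIso (R := Γ(X, U))).app (ModuleCat.of Γ(X, U) (Ω[Γ(X, U)⁄Γ(S, V)]))).symm

/-- `Γ(Ω_{X/S}, U) ≃ Ω[Γ(X,U)/Γ(S,V)]`, linearly over `Γ(X,U)`. -/
noncomputable def omegaSectionsEquiv :
    letI := (f.appLE V U e).hom.toAlgebra
    Γ(Omega.sheaf f, U) ≃ₗ[Γ(X, U)] Ω[Γ(X, U)⁄Γ(S, V)] :=
  letI := (f.appLE V U e).hom.toAlgebra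
  (sectionsSpecEquiv (Omega.sheaf f) hU).symm ≪≫ₗ (omegaGammaIso f hU hV e).toLinearEquiv

end Sections

end Groth.Agent.H44
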