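import Groth.Agent.H44.FiniteSections
import Groth.Agent.Lead.FittingLoc
import Groth.Prelude.Def_Fitting

set_option autoImplicit false
universe u
open CategoryTheory Limits AlgebraicGeometry Scheme.Modules TopologicalSpace Opposite

namespace Groth.Agent.H44

variable {X : Scheme.{u}} (F : X.Modules) [F.IsQuasicoherent]
  [SheafOfModules.IsFiniteType (R := X.ringCatSheaf) F]

theorem fitt_map_basicOpen (r : ℕ) (U : X.affineOpens) (f : Γ(X, U)) :
    (Fitt.ideal Γ(X, U.1) Γ(F, U.1) r).map (X.presheaf.map (homOfLE <| X.basicOpen_le f).op).hom =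
      Fitt.ideal Γ(X, X.basicOpen f) Γ(F, X.basicOpen f) r := by
  letI := basicOpenModule F f
  haveI := isScalarTower_basicOpen F f
  haveI := isLocalizedModule_resBasicOpen F f U.2
  haveI : IsLocalization (.powers f) Γ(X, X.basicOpen f) := U.2.isLocalization_basicOpen f
  haveI : Module.Finite Γ(X, U.1) Γ(F, U.1) := finite_sections_of_isFiniteType F U.2
  exact (Groth.Agent.Lead.fitt_ideal_localization (.powers f) Γ(X, X.basicOpen f)
    (resBasicOpen F f) r).symm

/-- The Fitting ideals of the sections over affine opens, as an ideal sheaf. -/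
noncomputable def fittSheafData (r : ℕ) : X.IdealSheafData where
  ideal U := Fitt.ideal Γ(X, U.1) Γ(F, U.1) r
  map_ideal_basicOpen U f := fitt_map_basicOpen F r U f

theorem sheafIdeal_eq (r : ℕ) : Fitt.sheafIdeal F r = fittSheafData F r :=
  Scheme.IdealSheafData.ofIdeals_ideal (fittSheafData F r)

theorem sheafIdeal_ideal (r : ℕ) (U : X.affineOpens) :
    (Fitt.sheafIdeal F r).ideal U = Fitt.ideal Γ(X, U.1) Γ(F, U.1) r := by
  rw [sheafIdeal_eq]; rfl

end Groth.Agent.H44
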