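import Groth.Agent.H44.ConormalAlg4
import Groth.Prelude.Def_CAlgX

/-!
# Algebra of `H_1`-regular ideals and conormal modules (helper44)

`koszul_lift_mem`, `coeff_mem_of_isH1Regular`, `mem_mul_of_mem_sq_of_isH1Regular` (`L ∩ J² ⊆ J L`),
`exists_one_tmul_eq'`, `one_tmul_eq_zero_of_mem_mul`, `conormal_finite_free_of_isH1Regular`.
-/

set_option autoImplicit false
universe u
open TensorProduct Function

namespace Groth.Agent.H44

section
variable {R A : Type u} [CommRing R] [CommRing A] [Algebra R A]

/-- Lifting the Koszul relations: if `v` is in the span of the Koszul relations of `fA = algebraMap ∘ g`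
and `w` lifts `v`, then `∑ w k * g k ∈ J * L` for any ideal `J` containing the `g k`
(`L = ker (R → A)`). -/
theorem koszul_lift_mem (hRA : Surjective (algebraMap R A)) {c : ℕ} (g : Fin c → R)
    (J : Ideal R) (hgJ : ∀ i, g i ∈ J)
    (v : Fin c → A)
    (hv : v ∈ Submodule.span A {v : Fin c → A | ∃ i j : Fin c,
      v = Pi.single i (algebraMap R A (g j)) - Pi.single j (algebraMap R A (g i))})
    (w : Fin c → R) (hw : ∀ i, algebraMap R A (w i) = v i) :
    ∑ k, w k * g k ∈ J * RingHom.ker (algebraMap R A) := by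
  have hS : ∀ u : Fin c → R, (∀ k, u k ∈ RingHom.ker (algebraMap R A)) →
      ∑ k, u k * g k ∈ J * RingHom.ker (algebraMap R A) := by
    intro u hu
    refine Ideal.sum_mem _ fun k _ => ?_
    rw [mul_comm (u k) (g k)]
    exact Ideal.mul_mem_mul (hgJ k) (hu k)
  have hlift : ∀ v : Fin c → A, ∃ w : Fin c → R, ∀ i, algebraMap R A (w i) = v i := fun v =>
    ⟨fun i => (hRA (v i)).choose, fun i => (hRA (v i)).choose_spec⟩
  induction hv using Submodule.span_induction generalizing w with
  | mem v hv =>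
    obtain ⟨i, j, rfl⟩ := hv
    have h0 : ∑ k, (Pi.single i (g j) - Pi.single j (g i) : Fin c → R) k * g k = 0 := by
      have e1 : ∑ k, (Pi.single i (g j) : Fin c → R) k * g k = g j * g i := by
        rw [Finset.sum_eq_single i]
        · rw [Pi.single_eq_same]
        · intro k _ hk
          rw [Pi.single_eq_of_ne hk, zero_mul]
        · intro h; exact absurd (Finset.mem_univ i) h
      have e2 : ∑ k, (Pi.single j (g i) : Fin c → R) k * g k = g i * g j := by
        rw [Finset.sum_eq_single j]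
        · rw [Pi.single_eq_same]
        · intro k _ hk
          rw [Pi.single_eq_of_ne hk, zero_mul]
        · intro h; exact absurd (Finset.mem_univ j) h
      simp only [Pi.sub_apply, sub_mul, Finset.sum_sub_distrib]
      rw [e1, e2]
      ring
    have h1 := hS (fun k => w k - (Pi.single i (g j) - Pi.single j (g i) : Fin c → R) k)
      (fun k => by
        rw [RingHom.mem_ker, map_sub, hw, Pi.sub_apply, Pi.sub_apply, map_sub]
        have e3 : ∀ (a : Fin c) (r : R), algebraMap R A ((Pi.single a r : Fin c → R) k) =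
            (Pi.single a (algebraMap R A r) : Fin c → A) k := by
          intro a r
          by_cases hk : k = a
          · subst hk
            rw [Pi.single_eq_same, Pi.single_eq_same]
          · rw [Pi.single_eq_of_ne hk, Pi.single_eq_of_ne hk, map_zero]
        rw [e3, e3, sub_self])
    have h2 : ∑ k, w k * g k = ∑ k, (w k - (Pi.single i (g j) - Pi.single j (g i) : Fin c → R) k) * g k +
        ∑ k, (Pi.single i (g j) - Pi.single j (g i) : Fin c → R) k * g k := by
      rw [← Finset.sum_add_distrib]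
      refine Finset.sum_congr rfl fun k _ => by ring
    rw [h2, h0, add_zero]
    exact h1
  | zero =>
    exact hS w fun k => by rw [RingHom.mem_ker, hw]; rfl
  | add v₁ v₂ _ _ h₁ h₂ =>
    obtain ⟨w₁, hw₁⟩ := hlift v₁
    have h3 := h₁ w₁ hw₁
    have h4 := h₂ (fun k => w k - w₁ k) (fun k => by
      rw [map_sub, hw, hw₁, Pi.add_apply, add_sub_cancel_left])
    have : ∑ k, w k * g k = ∑ k, w₁ k * g k + ∑ k, (w k - w₁ k) * g k := by
      rw [← Finset.sum_add_distrib]
      refine Finset.sum_congr rfl fun k _ => by ring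
    rw [this]
    exact Ideal.add_mem _ h3 h4
  | smul a v _ h₁ =>
    obtain ⟨r, rfl⟩ := hRA a
    obtain ⟨w₁, hw₁⟩ := hlift v
    have h3 := h₁ w₁ hw₁
    have h4 := hS (fun k => w k - r * w₁ k) (fun k => by
      rw [RingHom.mem_ker, map_sub, hw, map_mul, hw₁, Pi.smul_apply, smul_eq_mul, sub_self])
    have : ∑ k, w k * g k = r * ∑ k, w₁ k * g k + ∑ k, (w k - r * w₁ k) * g k := by
      rw [Finset.mul_sum, ← Finset.sum_add_distrib]
      refine Finset.sum_congr rfl fun k _ => by ring
    rw [this]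
    exact Ideal.add_mem _ (Ideal.mul_mem_left _ r h3) h4

end

section H1
variable {A : Type u} [CommRing A] {c : ℕ} (f : Fin c → A)

theorem coeff_mem_of_isH1Regular (hf : CAlgX.IsH1Regular f) (a : Fin c → A)
    (ha : ∑ i, a i * f i = 0) (i : Fin c) : a i ∈ Ideal.span (Set.range f) := by
  have h := hf a ha
  have key : Submodule.span A {v : Fin c → A | ∃ i j : Fin c,
      v = Pi.single i (f j) - Pi.single j (f i)} ≤
      Submodule.pi Set.univ (fun _ : Fin c => Ideal.span (Set.range f)) := by
    rw [Submodule.span_le]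
    rintro v ⟨k, l, rfl⟩ m -
    change (Pi.single k (f l) - Pi.single l (f k) : Fin c → A) m ∈ Ideal.span (Set.range f)
    rw [Pi.sub_apply]
    refine Ideal.sub_mem _ ?_ ?_
    · by_cases hm : m = k
      · subst hm
        rw [Pi.single_eq_same]
        exact Ideal.subset_span ⟨l, rfl⟩
      · rw [Pi.single_eq_of_ne hm]
        exact Ideal.zero_mem _
    · by_cases hm : m = l
      · subst hm
        rw [Pi.single_eq_same]
        exact Ideal.subset_span ⟨k, rfl⟩
      · rw [Pi.single_eq_of_ne hm]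
        exact Ideal.zero_mem _
  exact key h i (Set.mem_univ i)

end H1

section
variable {R A B : Type u} [CommRing R] [CommRing A] [CommRing B] [Algebra R A] [Algebra A B]
  [Algebra R B] [IsScalarTower R A B]

theorem lift_mem_ker_of_ker_eq_span {c : ℕ} (fA : Fin c → A)
    (hI : RingHom.ker (algebraMap A B) = Ideal.span (Set.range fA))
    (g : Fin c → R) (hg : ∀ i, algebraMap R A (g i) = fA i) (i : Fin c) :
    g i ∈ RingHom.ker (algebraMap R B) := by
  rw [RingHom.mem_ker, IsScalarTower.algebraMap_apply R A B, hg, ← RingHom.mem_ker, hI]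
  exact Ideal.subset_span ⟨i, rfl⟩

theorem ker_le_sup_span (hRA : Surjective (algebraMap R A)) {c : ℕ} (fA : Fin c → A)
    (hI : RingHom.ker (algebraMap A B) = Ideal.span (Set.range fA))
    (g : Fin c → R) (hg : ∀ i, algebraMap R A (g i) = fA i) :
    RingHom.ker (algebraMap R B) ≤
      RingHom.ker (algebraMap R A) ⊔ Ideal.span (Set.range g) := by
  have hmapG : (Ideal.span (Set.range g)).map (algebraMap R A) = Ideal.span (Set.range fA) := by
    rw [Ideal.map_span, ← Set.range_comp]
    congr 2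
    funext i
    exact hg i
  intro r hr
  have h1 : algebraMap R A r ∈ (Ideal.span (Set.range g)).map (algebraMap R A) := by
    rw [hmapG, ← hI, RingHom.mem_ker, ← IsScalarTower.algebraMap_apply]
    exact hr
  rw [Ideal.mem_map_iff_of_surjective _ hRA] at h1
  obtain ⟨r', hr'G, hr'⟩ := h1
  have h2 : r - r' ∈ RingHom.ker (algebraMap R A) := by
    rw [RingHom.mem_ker, map_sub, hr', sub_self]
  have : r = (r - r') + r' := by ring
  rw [this]
  exact Submodule.add_mem_sup h2 hr'G

theorem sq_le_mul_sup_of_le_sup (J L G : Ideal R) (_hLJ : L ≤ J) (hGJ : G ≤ J) (hJle : J ≤ L ⊔ G) :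
    J ^ 2 ≤ J * L ⊔ G * G := by
  rw [pow_two]
  refine (Ideal.mul_mono_right hJle).trans ?_
  rw [Ideal.mul_sup]
  refine sup_le le_sup_left ?_
  refine (Ideal.mul_mono_left hJle).trans ?_
  rw [Ideal.sup_mul]
  refine sup_le ?_ le_sup_right
  rw [mul_comm L G]
  exact (Ideal.mul_mono_left hGJ).trans le_sup_left

theorem exists_sum_of_mem_span_mul_span {c : ℕ} (g : Fin c → R) (z : R)
    (hz : z ∈ Ideal.span (Set.range g) * Ideal.span (Set.range g)) :
    ∃ b : Fin c → R, ∑ i, b i * g i = z := by
  have hz' : z ∈ Ideal.span (Set.range g) • Submodule.span R (Set.range g) := hz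
  rw [Submodule.mem_ideal_smul_span_iff_exists_sum] at hz'
  obtain ⟨b, -, hbz⟩ := hz'
  refine ⟨fun i => b i, ?_⟩
  rw [← hbz, Finsupp.sum_fintype b (fun i c => c • g i) (fun i => zero_smul _ _)]
  rfl

theorem mem_mul_of_mem_span_mul_span (hRA : Surjective (algebraMap R A)) {c : ℕ}
    (fA : Fin c → A) (hf : CAlgX.IsH1Regular fA)
    (hI : RingHom.ker (algebraMap A B) = Ideal.span (Set.range fA))
    (g : Fin c → R) (hg : ∀ i, algebraMap R A (g i) = fA i) (z : R)
    (hzL : z ∈ RingHom.ker (algebraMap R A))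
    (hz : z ∈ Ideal.span (Set.range g) * Ideal.span (Set.range g)) :
    z ∈ RingHom.ker (algebraMap R B) * RingHom.ker (algebraMap R A) := by
  obtain ⟨b, hbz'⟩ := exists_sum_of_mem_span_mul_span g z hz
  have hrel : ∑ i, algebraMap R A (b i) * fA i = 0 := by
    have : algebraMap R A z = 0 := hzL
    rw [← this, ← hbz', map_sum]
    refine Finset.sum_congr rfl fun i _ => ?_
    rw [map_mul, hg]
  have hspan := hf (fun i => algebraMap R A (b i)) hrel
  have hfg : fA = fun i => algebraMap R A (g i) := funext fun i => (hg i).symm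
  subst hfg
  have h5 := koszul_lift_mem hRA g _ (lift_mem_ker_of_ker_eq_span _ hI g hg) _ hspan
    (fun i => b i) (fun _ => rfl)
  rw [hbz'] at h5
  exact h5

theorem mem_of_add_eq_of_mem_mul (J L : Ideal R) {x y z : R} (hyz : y + z = x) (hxL : x ∈ L)
    (hy : y ∈ J * L) : z ∈ L := by
  have hle : J * L ≤ L := Ideal.mul_le_right
  have hyL : y ∈ L := hle hy
  have h1 := L.sub_mem hxL hyL
  have h2 : x - y = z := by rw [← hyz]; ring
  rwa [h2] at h1

/-- The key ideal-theoretic consequence of `H_1`-regularity: `L ∩ J² ≤ J L`. -/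
theorem mem_mul_of_mem_sq_of_isH1Regular (hRA : Surjective (algebraMap R A)) {c : ℕ}
    (fA : Fin c → A) (hf : CAlgX.IsH1Regular fA)
    (hI : RingHom.ker (algebraMap A B) = Ideal.span (Set.range fA)) (x : R)
    (hxL : x ∈ RingHom.ker (algebraMap R A)) (hxJ : x ∈ (RingHom.ker (algebraMap R B)) ^ 2) :
    x ∈ RingHom.ker (algebraMap R B) * RingHom.ker (algebraMap R A) := by
  obtain ⟨g, hg⟩ : ∃ g : Fin c → R, ∀ i, algebraMap R A (g i) = fA i :=
    ⟨fun i => (hRA (fA i)).choose, fun i => (hRA (fA i)).choose_spec⟩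
  have hLJ : RingHom.ker (algebraMap R A) ≤ RingHom.ker (algebraMap R B) := ker_le_ker R A B
  have hgJ := lift_mem_ker_of_ker_eq_span (R := R) fA hI g hg
  have hGJ : Ideal.span (Set.range g) ≤ RingHom.ker (algebraMap R B) := by
    rw [Ideal.span_le]
    rintro _ ⟨i, rfl⟩
    exact hgJ i
  have hJle := ker_le_sup_span hRA fA hI g hg
  have hJ2 := sq_le_mul_sup_of_le_sup _ _ _ hLJ hGJ hJle
  have hx := hJ2 hxJ
  rw [Submodule.mem_sup] at hx
  obtain ⟨y, hy, z, hz, hyz⟩ := hx
  have hzL := mem_of_add_eq_of_mem_mul _ _ hyz hxL hy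
  rw [← hyz]
  exact Ideal.add_mem _ hy (mem_mul_of_mem_span_mul_span hRA fA hf hI g hg z hzL hz)

end

section Generic
variable {A B : Type u} [CommRing A] [CommRing B] [Algebra A B]

/-- For `A → B` surjective every element of `B ⊗[A] M` is of the form `1 ⊗ m`. -/
theorem exists_one_tmul_eq' {M : Type u} [AddCommGroup M] [Module A M]
    (h : Surjective (algebraMap A B)) (t : B ⊗[A] M) : ∃ m : M, t = 1 ⊗ₜ m := by
  induction t using TensorProduct.induction_on with
  | zero => exact ⟨0, (tmul_zero _ _).symm⟩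
  | tmul b x =>
    obtain ⟨a, rfl⟩ := h b
    refine ⟨a • x, ?_⟩
    rw [← smul_tmul, Algebra.algebraMap_eq_smul_one]
  | add x y hx hy =>
    obtain ⟨x', rfl⟩ := hx
    obtain ⟨y', rfl⟩ := hy
    exact ⟨x' + y', (tmul_add _ _ _).symm⟩

end Generic

section Annihilate
variable {R A B : Type u} [CommRing R] [CommRing A] [CommRing B] [Algebra R A] [Algebra A B]
  [Algebra R B] [IsScalarTower R A B]

/-- If `m` corresponds to `1 ⊗ x` with `x ∈ J L`, then `1 ⊗ m = 0` in `B ⊗[A] M`. -/
theorem one_tmul_eq_zero_of_mem_mul {M : Type u} [AddCommGroup M] [Module A M]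
    (e : M ≃ₗ[A] A ⊗[R] (RingHom.ker (algebraMap R A))) (m : M)
    (x : RingHom.ker (algebraMap R A)) (hm : e m = 1 ⊗ₜ x)
    (hx : (x : R) ∈ RingHom.ker (algebraMap R B) * RingHom.ker (algebraMap R A)) :
    (1 : B) ⊗ₜ[A] m = 0 := by
  have hT : ∀ x : RingHom.ker (algebraMap R A),
      x ∈ (RingHom.ker (algebraMap R B)) • (⊤ : Submodule R (RingHom.ker (algebraMap R A))) →
      (1 : B) ⊗ₜ[A] (e.symm ((1 : A) ⊗ₜ[R] x)) = 0 := by
    intro x hx'
    refine Submodule.smul_induction_on hx' ?_ ?_
    · intro a ha l _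
      have h1 : (1 : A) ⊗ₜ[R] (a • l) = (algebraMap R A a) • ((1 : A) ⊗ₜ[R] l) := by
        rw [TensorProduct.tmul_smul, algebraMap_smul]
      rw [h1, _root_.map_smul, TensorProduct.tmul_smul, TensorProduct.smul_tmul', Algebra.smul_def,
        ← IsScalarTower.algebraMap_apply, (RingHom.mem_ker.1 ha), zero_mul, zero_tmul]
    · intro x y hx hy
      rw [tmul_add, map_add, tmul_add, hx, hy, add_zero]
  have hx' : x ∈ (RingHom.ker (algebraMap R B)) •
      (⊤ : Submodule R (RingHom.ker (algebraMap R A))) := by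
    rw [Submodule.mem_smul_top_iff]
    exact hx
  have := hT x hx'
  rwa [← hm, e.symm_apply_apply] at this

end Annihilate

section Free
variable {A B : Type u} [CommRing A] [CommRing B] [Algebra A B]

/-- The generators of the kernel as elements of the kernel. -/
def kerGen {c : ℕ} (fA : Fin c → A)
    (hI : RingHom.ker (algebraMap A B) = Ideal.span (Set.range fA)) (k : Fin c) :
    RingHom.ker (algebraMap A B) :=
  ⟨fA k, by rw [hI]; exact Ideal.subset_span ⟨k, rfl⟩⟩

/-- The comparison map `B^c → B ⊗[A] I`. -/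
noncomputable def kerGenMap {c : ℕ} (fA : Fin c → A)
    (hI : RingHom.ker (algebraMap A B) = Ideal.span (Set.range fA)) :
    (Fin c → B) →ₗ[B] B ⊗[A] (RingHom.ker (algebraMap A B)) :=
  Fintype.linearCombination B (fun k => (1 : B) ⊗ₜ[A] kerGen fA hI k)

theorem kerGenMap_algebraMap {c : ℕ} (fA : Fin c → A)
    (hI : RingHom.ker (algebraMap A B) = Ideal.span (Set.range fA)) (a : Fin c → A) :
    kerGenMap fA hI (fun k => algebraMap A B (a k)) =
      (1 : B) ⊗ₜ[A] (∑ k, a k • kerGen fA hI k) := by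
  rw [kerGenMap, Fintype.linearCombination_apply, tmul_sum]
  refine Finset.sum_congr rfl fun k _ => ?_
  rw [TensorProduct.tmul_smul, algebraMap_smul]

theorem coe_sum_smul_kerGen {c : ℕ} (fA : Fin c → A)
    (hI : RingHom.ker (algebraMap A B) = Ideal.span (Set.range fA)) (a : Fin c → A) :
    ((∑ k, a k • kerGen fA hI k : RingHom.ker (algebraMap A B)) : A) = ∑ k, a k * fA k := by
  rw [Submodule.coe_sum]
  rfl

theorem kerGenMap_surjective (h : Surjective (algebraMap A B)) {c : ℕ} (fA : Fin c → A)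
    (hI : RingHom.ker (algebraMap A B) = Ideal.span (Set.range fA)) :
    Surjective (kerGenMap fA hI) := by
  intro t
  obtain ⟨x, rfl⟩ := exists_one_tmul_eq h t
  have hx : (x : A) ∈ Ideal.span (Set.range fA) := by rw [← hI]; exact x.2
  rw [Ideal.mem_span_range_iff_exists_fun] at hx
  obtain ⟨a, ha⟩ := hx
  refine ⟨fun k => algebraMap A B (a k), ?_⟩
  rw [kerGenMap_algebraMap]
  congr 1
  apply Subtype.ext
  rw [coe_sum_smul_kerGen, ha]

theorem kerGenMap_injective (h : Surjective (algebraMap A B)) {c : ℕ} (fA : Fin c → A)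
    (hf : CAlgX.IsH1Regular fA)
    (hI : RingHom.ker (algebraMap A B) = Ideal.span (Set.range fA)) :
    Injective (kerGenMap fA hI) := by
  rw [injective_iff_map_eq_zero]
  intro b hb
  obtain ⟨a, rfl⟩ : ∃ a : Fin c → A, b = fun k => algebraMap A B (a k) :=
    ⟨fun k => (h (b k)).choose, funext fun k => (h (b k)).choose_spec.symm⟩
  rw [kerGenMap_algebraMap, one_tmul_eq_zero_iff h, coe_sum_smul_kerGen] at hb
  -- `∑ a k * fA k ∈ I²`
  have hb' : ∑ k, a k * fA k ∈ RingHom.ker (algebraMap A B) • Submodule.span A (Set.range fA) := by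
    have : (RingHom.ker (algebraMap A B)) ^ 2 =
        RingHom.ker (algebraMap A B) • Submodule.span A (Set.range fA) := by
      have h2 : Submodule.span A (Set.range fA) = RingHom.ker (algebraMap A B) := hI.symm
      rw [pow_two, h2]
      rfl
    rw [← this]
    exact hb
  rw [Submodule.mem_ideal_smul_span_iff_exists_sum] at hb'
  obtain ⟨b', hb'I, hb'sum⟩ := hb'
  have hb'sum' : ∑ k, b' k * fA k = ∑ k, a k * fA k := by
    rw [← hb'sum, Finsupp.sum_fintype b' (fun i c => c • fA i) (fun i => zero_smul _ _)]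
    rfl
  have hrel : ∑ k, (a k - b' k) * fA k = 0 := by
    simp only [sub_mul, Finset.sum_sub_distrib]
    rw [hb'sum', sub_self]
  funext k
  have h1 := coeff_mem_of_isH1Regular fA hf (fun k => a k - b' k) hrel k
  rw [← hI] at h1
  have h2 : a k ∈ RingHom.ker (algebraMap A B) := by
    have := Ideal.add_mem _ h1 (hb'I k)
    rwa [sub_add_cancel] at this
  exact h2

theorem conormal_finite_free_of_isH1Regular (h : Surjective (algebraMap A B)) {c : ℕ}
    (fA : Fin c → A) (hf : CAlgX.IsH1Regular fA)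
    (hI : RingHom.ker (algebraMap A B) = Ideal.span (Set.range fA)) :
    Module.Finite B (B ⊗[A] (RingHom.ker (algebraMap A B))) ∧
      Module.Free B (B ⊗[A] (RingHom.ker (algebraMap A B))) := by
  let Φ : (Fin c → B) ≃ₗ[B] B ⊗[A] (RingHom.ker (algebraMap A B)) :=
    LinearEquiv.ofBijective (kerGenMap fA hI)
      ⟨kerGenMap_injective h fA hf hI, kerGenMap_surjective h fA hI⟩
  exact ⟨Module.Finite.equiv Φ, Module.Free.of_equiv Φ⟩

end Free
end Groth.Agent.H44
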