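import Groth.Agent.H44.AffineFree
import Groth.Agent.H44.FiniteSections
import Mathlib.RingTheory.Localization.Free

set_option autoImplicit false
universe u
open CategoryTheory Limits AlgebraicGeometry Scheme.Modules TopologicalSpace Opposite

namespace Groth.Agent.H44

section basisTransfer

variable {R : Type*} [CommRing R] (S : Submonoid R) {M : Type*} [AddCommGroup M] [Module R M]
  (A : Type*) [CommRing A] [Algebra R A] [IsLocalization S A] {N : Type*} [AddCommGroup N]
  [Module R N] [Module A N] [IsScalarTower R A N] (f : M →ₗ[R] N) [IsLocalizedModule S f]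

/-- A basis of the standard localization `S⁻¹M` over `S⁻¹R` gives a basis of any other model. -/
noncomputable def basisOfLocalizedModule {I : Type*}
    (b : Module.Basis I (Localization S) (LocalizedModule S M)) : Module.Basis I A N := by
  let φ : Localization S ≃ₐ[R] A := IsLocalization.algEquiv S (Localization S) A
  letI : Module (Localization S) N := Module.compHom N (φ : Localization S →+* A)
  haveI : IsScalarTower R (Localization S) N := by
    refine ⟨fun a c n => ?_⟩
    change (φ (a • c)) • n = a • (φ c • n)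
    rw [_root_.map_smul, smul_assoc]
  let e : LocalizedModule S M ≃ₗ[R] N := IsLocalizedModule.iso S f
  let e' : LocalizedModule S M ≃ₗ[Localization S] N :=
    e.extendScalarsOfIsLocalization S (Localization S)
  exact (b.map e').mapCoeffs φ.toRingEquiv (fun _ _ => rfl)

end basisTransfer

variable {X : Scheme.{u}} (F : X.Modules) [F.IsQuasicoherent]

/-- A quasi-coherent module whose sections over an affine open `V` are finite projective is free of
finite rank near every point of `V`. -/
theorem exists_iso_freeMod_of_finite_projective {V : X.Opens} (hV : IsAffineOpen V)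
    [Module.Finite Γ(X, V) Γ(F, V)] [Module.Projective Γ(X, V) Γ(F, V)] {x : X} (hx : x ∈ V) :
    ∃ (U : X.Opens) (n : ℕ), x ∈ U ∧ Nonempty (F.restrict U.ι ≅ FlatMod.freeMod U.toScheme n) := by
  set p := (hV.primeIdealOf ⟨x, hx⟩).asIdeal with hp
  haveI : Module.FinitePresentation Γ(X, V) Γ(F, V) := Module.finitePresentation_of_projective _ _
  haveI : Module.Free (Localization.AtPrime p) (LocalizedModule p.primeCompl Γ(F, V)) :=
    Module.free_of_flat_of_isLocalRing
  let I := Module.Free.ChooseBasisIndex (Localization.AtPrime p)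
    (LocalizedModule p.primeCompl Γ(F, V))
  let b : Module.Basis I (Localization.AtPrime p) (LocalizedModule p.primeCompl Γ(F, V)) :=
    Module.Free.chooseBasis _ _
  obtain ⟨r, hr, b', -⟩ := Module.FinitePresentation.exists_basis_localizedModule_powers
    p.primeCompl (LocalizedModule.mkLinearMap p.primeCompl Γ(F, V)) (Localization.AtPrime p) b
  letI := basicOpenModule F r
  haveI := isScalarTower_basicOpen F r
  haveI := isLocalizedModule_resBasicOpen F r hV
  haveI : IsLocalization (.powers r) Γ(X, X.basicOpen r) := hV.isLocalization_basicOpen r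
  let b'' : Module.Basis I Γ(X, X.basicOpen r) Γ(F, X.basicOpen r) :=
    basisOfLocalizedModule (.powers r) Γ(X, X.basicOpen r) (resBasicOpen F r) b'
  obtain ⟨iso⟩ := nonempty_iso_freeMod_of_basis F (hV.basicOpen r)
    (b''.reindex (Fintype.equivFin I))
  exact ⟨X.basicOpen r, Fintype.card I,
    (Groth.Agent.H8.notMem_primeIdealOf_iff hV hx r).mp hr, ⟨iso⟩⟩

/-- Sections of a quasi-coherent finite locally free module over an affine open are finite projective. -/
theorem finite_projective_of_isFinLocFree (hF : FlatMod.IsFinLocFree F) {V : X.Opens}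
    (hV : IsAffineOpen V) :
    Module.Finite Γ(X, V) Γ(F, V) ∧ Module.Projective Γ(X, V) Γ(F, V) := by
  have key : ∀ x : V, ∃ g : Γ(X, V), x.1 ∈ X.basicOpen g ∧
      ∃ n : ℕ, Nonempty (Module.Basis (Fin n) Γ(X, X.basicOpen g) Γ(F, X.basicOpen g)) := by
    rintro ⟨x, hx⟩
    obtain ⟨U, n, hxU, ⟨e⟩⟩ := hF x
    obtain ⟨g, hgU, hxg⟩ := hV.exists_basicOpen_le ⟨x, hxU⟩ hx
    exact ⟨g, hxg, n, nonempty_basis_of_iso_freeMod F (hV.basicOpen g) hgU e⟩
  choose g hxg n hb using key
  have hspan : Ideal.span (Set.range g) = ⊤ := by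
    rw [← hV.self_le_iSup_basicOpen_iff]
    intro x hx
    exact TopologicalSpace.Opens.mem_iSup.mpr ⟨⟨_, ⟨x, hx⟩, rfl⟩, hxg ⟨x, hx⟩⟩
  have hb' : ∀ r : Set.range g, ∃ n : ℕ,
      Nonempty (Module.Basis (Fin n) Γ(X, X.basicOpen r.1) Γ(F, X.basicOpen r.1)) := by
    rintro ⟨_, x, rfl⟩
    exact ⟨n x, hb x⟩
  choose m hm using hb'
  letI := fun r : Set.range g => basicOpenModule F r.1
  haveI := fun r : Set.range g => isScalarTower_basicOpen F r.1
  haveI : ∀ r : Set.range g, IsLocalizedModule (.powers r.1) (resBasicOpen F r.1) :=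
    fun r => isLocalizedModule_resBasicOpen F r.1 hV
  haveI : ∀ r : Set.range g, IsLocalization.Away r.1 Γ(X, X.basicOpen r.1) :=
    fun r => hV.isLocalization_basicOpen r.1
  haveI hfree : ∀ r : Set.range g, Module.Free Γ(X, X.basicOpen r.1) Γ(F, X.basicOpen r.1) :=
    fun r => Module.Free.of_basis (hm r).some
  haveI hfin : ∀ r : Set.range g, Module.Finite Γ(X, X.basicOpen r.1) Γ(F, X.basicOpen r.1) :=
    fun r => Module.Finite.of_basis (hm r).some
  haveI hfp : ∀ r : Set.range g,
      Module.FinitePresentation Γ(X, X.basicOpen r.1) Γ(F, X.basicOpen r.1) :=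
    fun r => Module.finitePresentation_of_projective _ _
  haveI h1 : Module.FinitePresentation Γ(X, V) Γ(F, V) :=
    Module.FinitePresentation.of_localizationSpan' (Set.range g) hspan
      (fun r => resBasicOpen F r.1) hfp
  haveI hflat : ∀ r : Set.range g, Module.Flat Γ(X, V) Γ(F, X.basicOpen r.1) := by
    intro r
    haveI : Module.Flat Γ(X, V) Γ(X, X.basicOpen r.1) :=
      IsLocalization.flat Γ(X, X.basicOpen r.1) (.powers r.1)
    exact Module.Flat.trans Γ(X, V) Γ(X, X.basicOpen r.1) Γ(F, X.basicOpen r.1)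
  haveI h2 : Module.Flat Γ(X, V) Γ(F, V) :=
    Module.flat_of_isLocalized_span (R := Γ(X, V)) (S := Γ(X, V)) (M := Γ(F, V))
      (Set.range g) hspan _ (fun r => resBasicOpen F r.1) hflat
  exact ⟨inferInstance, Module.Flat.projective_of_finitePresentation⟩

theorem isFinLocFree_of_forall_exists_affine
    (h : ∀ x : X, ∃ V : X.Opens, IsAffineOpen V ∧ x ∈ V ∧ Module.Finite Γ(X, V) Γ(F, V) ∧
      Module.Projective Γ(X, V) Γ(F, V)) : FlatMod.IsFinLocFree F := by
  intro x
  obtain ⟨V, hV, hxV, h1, h2⟩ := h x
  exact exists_iso_freeMod_of_finite_projective F hV hxV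

theorem isFinLocFree_iff :
    FlatMod.IsFinLocFree F ↔ ∀ V : X.affineOpens,
      Module.Finite Γ(X, V.1) Γ(F, V.1) ∧ Module.Projective Γ(X, V.1) Γ(F, V.1) := by
  constructor
  · intro hF V
    exact finite_projective_of_isFinLocFree F hF V.2
  · intro h
    refine isFinLocFree_of_forall_exists_affine F (fun x => ?_)
    obtain ⟨_, ⟨V, hV, rfl⟩, hxV, -⟩ :=
      X.isBasis_affineOpens.exists_subset_of_mem_open (Set.mem_univ x) isOpen_univ
    exact ⟨V, hV, hxV, h ⟨V, hV⟩⟩

end Groth.Agent.H44
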