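import Groth.Agent.H44.CotangentExact
import Groth.Agent.H44.LocFree
import Groth.Agent.H8.FormallyEtale
import Mathlib.RingTheory.Smooth.Basic
import Mathlib.RingTheory.Kaehler.JacobiZariski

/-!
# Differentials of formally smooth morphisms (helper44)

* `formallySmooth_appLE_of_isFormallySmoothHom` (forward direction of S1486, by helper53, restated here to
  avoid heavy imports).
* `mono_diffCompat_of_formallySmooth` : for `f` formally smooth, `f^*Ω_{Y/S} ⟶ Ω_{X/S}` is a monomorphism.
* `isFinLocFree_of_formallySmooth` : for `f` formally smooth and locally of finite type, every universal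
  receptacle of differentials is finite locally free.
-/

set_option autoImplicit false
universe u
open CategoryTheory Limits Opposite AlgebraicGeometry TopologicalSpace TensorProduct Scheme.Modules

namespace Groth.Agent.H44

section
variable {X Y : Scheme.{u}} {f : X ⟶ Y}

theorem formallySmooth_appLE_of_isFormallySmoothHom (hf : MoreMor.IsFormallySmoothHom f)
    {U : X.Opens} {V : Y.Opens} (hU : IsAffineOpen U) (hV : IsAffineOpen V) (hUV : U ≤ f ⁻¹ᵁ V) :
    letI := (f.appLE V U hUV).hom.toAlgebra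
    Algebra.FormallySmooth Γ(Y, V) Γ(X, U) := by
  letI := (f.appLE V U hUV).hom.toAlgebra
  rw [Algebra.FormallySmooth.iff_comp_surjective]
  intro B _ _ J hJ g
  have key : Spec.map (CommRingCat.ofHom (Ideal.Quotient.mk J)) ≫
        (Spec.map (CommRingCat.ofHom (algebraMap Γ(Y, V) B)) ≫ hV.fromSpec) =
      (Spec.map (CommRingCat.ofHom g.toRingHom) ≫ hU.fromSpec) ≫ f := by
    have hg : f.appLE V U hUV ≫ CommRingCat.ofHom g.toRingHom =
        CommRingCat.ofHom (algebraMap Γ(Y, V) B) ≫ CommRingCat.ofHom (Ideal.Quotient.mk J) :=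
      CommRingCat.hom_ext g.comp_algebraMap
    rw [Category.assoc, ← hV.SpecMap_appLE_fromSpec f hU hUV, ← Spec.map_comp_assoc,
      ← Spec.map_comp_assoc, hg]
  obtain ⟨l, hl1, hl2⟩ := hf B J hJ _ _ key
  have hrange : Set.range l ⊆ Set.range hU.fromSpec := by
    rintro _ ⟨y, rfl⟩
    obtain ⟨y', rfl⟩ := Groth.Agent.H8.specMap_quotientMk_surjective J hJ y
    rw [← Scheme.Hom.comp_apply, hl1, Scheme.Hom.comp_apply]
    exact ⟨_, rfl⟩
  let l₀ := IsOpenImmersion.lift hU.fromSpec l hrange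
  have hl₀ : l₀ ≫ hU.fromSpec = l := IsOpenImmersion.lift_fac _ _ _
  let lam := Spec.preimage l₀
  have hlam : Spec.map lam = l₀ := Spec.map_preimage l₀
  have hcomm : f.appLE V U hUV ≫ lam = CommRingCat.ofHom (algebraMap Γ(Y, V) B) := by
    rw [← Spec.map_inj, ← cancel_mono hV.fromSpec, Spec.map_comp, Category.assoc,
      hV.SpecMap_appLE_fromSpec f hU hUV, hlam, ← Category.assoc, hl₀, hl2]
  refine ⟨⟨lam.hom, fun r ↦ congr($hcomm r)⟩, ?_⟩
  have hq : lam ≫ CommRingCat.ofHom (Ideal.Quotient.mk J) = CommRingCat.ofHom g.toRingHom := by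
    rw [← Spec.map_inj, ← cancel_mono hU.fromSpec, Spec.map_comp, Category.assoc, hlam, hl₀, hl1]
  exact AlgHom.ext fun x ↦ congr($hq x)

/-- For `f` formally smooth and locally of finite type, a universal receptacle of differentials is finite
locally free. -/
theorem isFinLocFree_of_formallySmooth (hf : MoreMor.IsFormallySmoothHom f) [LocallyOfFiniteType f]
    {Ω' : X.Modules} (d : OmegaSh.Der f Ω') (hd : OmegaSh.IsUniversal d) :
    FlatMod.IsFinLocFree Ω' := by
  haveI := isQuasicoherent_of_isUniversal d hd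
  refine isFinLocFree_of_forall_exists_affine Ω' fun x => ?_
  obtain ⟨_, ⟨c, rfl⟩, hxU, -⟩ := Opens.isBasis_iff_nbhd.mp (isBasis_omegaChart f)
    (show x ∈ (⊤ : X.Opens) from trivial)
  letI := (f.appLE c.V c.U c.le).hom.toAlgebra
  haveI : Algebra.FiniteType Γ(Y, c.V) Γ(X, c.U) := f.finiteType_appLE c.hV c.hU c.le
  haveI : Algebra.FormallySmooth Γ(Y, c.V) Γ(X, c.U) :=
    formallySmooth_appLE_of_isFormallySmoothHom hf c.hU c.hV c.le
  obtain ⟨Φ, -⟩ := exists_kaehler_equiv_of_isUniversal d c.hU c.hV c.le hd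
  exact ⟨c.U, c.hU, hxU, Module.Finite.equiv Φ.symm, Module.Projective.of_equiv Φ.symm⟩

end

section Mono
variable {X : Scheme.{u}} {M N : X.Modules}

/-- A morphism of modules which is injective on sections over a basis of opens is a monomorphism. -/
theorem mono_of_injective_on_basis (φ : M ⟶ N) {ι : Type*} (B : ι → X.Opens)
    (hB : Opens.IsBasis (Set.range B)) (hinj : ∀ i, Function.Injective (φ.app (B i))) : Mono φ := by
  refine ⟨fun {K} ψ₁ ψ₂ h => ?_⟩
  refine hom_ext_of_isBasis B hB ψ₁ ψ₂ fun i k => ?_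
  apply hinj i
  have := congr(($h).app (B i) k)
  exact this

end Mono

/-- Pure algebra: for `B` formally smooth over `A`, `B ⊗[A] Ω[A/R] → Ω[B/R]` is injective. -/
theorem mapBaseChange_injective_of_formallySmooth (R A B : Type u) [CommRing R] [CommRing A]
    [CommRing B] [Algebra R A] [Algebra A B] [Algebra R B] [IsScalarTower R A B]
    [Algebra.FormallySmooth A B] :
    Function.Injective (KaehlerDifferential.mapBaseChange R A B) := by
  rw [injective_iff_map_eq_zero]
  intro x hx
  obtain ⟨x, rfl⟩ := (Algebra.H1Cotangent.exact_δ_mapBaseChange R A B x).mp hx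
  rw [Subsingleton.elim x 0, map_zero]

section
variable {X Y S : Scheme.{u}} {f : X ⟶ Y} {g : Y ⟶ S}
  {ΩY : Y.Modules} (dY : OmegaSh.Der g ΩY) (hY : OmegaSh.IsUniversal dY)
  {ΩX : X.Modules} (dX : OmegaSh.Der (f ≫ g) ΩX) (hX : OmegaSh.IsUniversal dX)
  (c : (Scheme.Modules.pullback f).obj ΩY ⟶ ΩX) (hc : OmegaSh.IsDiffCompat f dY dX c)

include hY hX hc in
/-- **For `f` formally smooth, `f^*Ω_{Y/S} ⟶ Ω_{X/S}` is a monomorphism.** -/
theorem mono_diffCompat_of_formallySmooth (hf : MoreMor.IsFormallySmoothHom f) : Mono c := by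
  refine mono_of_injective_on_basis c (fun t : TripleChart f g => t.U') (isBasis_tripleChart f g)
    fun t => ?_
  letI algRA : Algebra Γ(S, t.V) Γ(Y, t.U) := (g.appLE t.V t.U t.e).hom.toAlgebra
  letI algRA' : Algebra Γ(S, t.V) Γ(X, t.U') := ((f ≫ g).appLE t.V t.U' (t.le' f g)).hom.toAlgebra
  letI algAA' : Algebra Γ(Y, t.U) Γ(X, t.U') := (f.appLE t.U t.U' t.le).hom.toAlgebra
  haveI : IsScalarTower Γ(S, t.V) Γ(Y, t.U) Γ(X, t.U') := IsScalarTower.of_algebraMap_eq' (by
    change ((f ≫ g).appLE t.V t.U' (t.le' f g)).hom =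
      (f.appLE t.U t.U' t.le).hom.comp (g.appLE t.V t.U t.e).hom
    rw [← CommRingCat.hom_comp, Scheme.Hom.appLE_comp_appLE])
  haveI : Algebra.FormallySmooth Γ(Y, t.U) Γ(X, t.U') :=
    formallySmooth_appLE_of_isFormallySmoothHom hf t.hU' t.hU t.le
  obtain ⟨E, Φ', -, hμ⟩ := exists_chart_description f dY dX c hc t.hU t.hU' t.le hY hX t.hV t.hV
    t.e (t.le' f g)
  have h1 := hμ (KaehlerDifferential.mapBaseChange Γ(S, t.V) Γ(Y, t.U) Γ(X, t.U')) (fun a' s => by
    rw [KaehlerDifferential.mapBaseChange_tmul, KaehlerDifferential.map_D]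
    rfl)
  intro x y hxy
  apply E.injective
  apply mapBaseChange_injective_of_formallySmooth Γ(S, t.V) Γ(Y, t.U) Γ(X, t.U')
  rw [← h1, ← h1, hxy]

end
end Groth.Agent.H44
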