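import Groth.Agent.H44.ConormalTrans
import Groth.Agent.H44.ConormalAlg5
import Groth.Agent.H44.LocFree
import Groth.Agent.H44.FormallySmoothOmega
import Groth.Agent.H39.ImmCompChart
import Groth.Agent.H94.H1QuasiFlat
import Groth.Prelude.Def_RegImm

/-!
# Conormal sheaves of `H_1`-regular immersions (helper44)

* `exists_pullSectLE_eq`: over an affine chart on which `h` induces a surjection on sections, every
  section of `h^*M` is the pullback of a section of `M`.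
* `transMap_app_injective_of_isH1Regular`: chart-level injectivity of `j^*C_{Y/X} ⟶ C_{Y'/X}` when the
  kernel of `Γ(Y,U) → Γ(Y',j⁻¹U)` is generated by an `H_1`-regular family.
* `exists_h1TransChart`, `mono_transMap_of_isRegularImmersion_h1`,
  `isFinLocFree_conormal_of_isRegularImmersion_h1`, `trans_seq_shortExact_of_h1`.
-/

set_option autoImplicit false
universe u
open CategoryTheory Limits Opposite AlgebraicGeometry TopologicalSpace TensorProduct Scheme.Modules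

namespace Groth.Agent.H44

section PullbackSurj
variable {X' X : Scheme.{u}} (h : X' ⟶ X) (M : X.Modules) [M.IsQuasicoherent]
  {U : X.Opens} {U' : X'.Opens} (hU : IsAffineOpen U) (hU' : IsAffineOpen U') (le : U' ≤ h ⁻¹ᵁ U)

include hU hU' in
/-- If `Γ(X,U) → Γ(X',U')` is surjective then every section of `h^*M` over `U'` is a pulled-back
section. -/
theorem exists_pullSectLE_eq (hsurj : Function.Surjective (h.appLE U U' le))
    (y : Γ((Scheme.Modules.pullback h).obj M, U')) : ∃ m : Γ(M, U), y = pullSectLE h M U U' le m := by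
  letI := (h.appLE U U' le).hom.toAlgebra
  have hsurj' : Function.Surjective (algebraMap Γ(X, U) Γ(X', U')) := hsurj
  obtain ⟨m, hm⟩ := exists_one_tmul_eq' hsurj' (pullbackSectionsEquiv h M hU' hU le y)
  refine ⟨m, (pullbackSectionsEquiv h M hU' hU le).injective ?_⟩
  rw [hm]
  exact (pullbackSectionsEquiv_pullSectLE h M hU' hU le m).symm

end PullbackSurj

section ChartInj
variable {Y' Y X : Scheme.{u}} {j : Y' ⟶ Y} {f : Y ⟶ X} [IsImmersion j] [IsImmersion f]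
  [QuasiCompact j] [QuasiCompact f]
  (φ₁ : (Scheme.Modules.pullback j).obj (Omega.conormal f) ⟶ Omega.conormal (j ≫ f))
  (hφ₁ : OmegaSh.IsConormalMap (j ≫ f) f (𝟙 X) j φ₁)

include hφ₁ in
/-- Chart-level injectivity of `j^*C_{Y/X} ⟶ C_{Y'/X}` for `j` cut out by an `H_1`-regular family. -/
theorem transMap_app_eq_zero_of_isH1Regular (dc : DoubleChart j f) (geU : f ⁻¹ᵁ dc.V ≤ dc.U)
    (hsurj : Function.Surjective (f.appLE dc.V dc.U dc.e)) {c : ℕ} (fA : Fin c → Γ(Y, dc.U))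
    (hfA : CAlgX.IsH1Regular fA)
    (hker : RingHom.ker (j.app dc.U).hom = Ideal.span (Set.range fA))
    (y : Γ((Scheme.Modules.pullback j).obj (Omega.conormal f), j ⁻¹ᵁ dc.U))
    (hy : φ₁.app (j ⁻¹ᵁ dc.U) y = 0) : y = 0 := by
  letI algRA : Algebra Γ(X, dc.V) Γ(Y, dc.U) := (f.appLE dc.V dc.U dc.e).hom.toAlgebra
  letI algRB : Algebra Γ(X, dc.V) Γ(Y', j ⁻¹ᵁ dc.U) :=
    ((j ≫ f).appLE dc.V (j ⁻¹ᵁ dc.U) dc.leW).hom.toAlgebra
  letI algAB : Algebra Γ(Y, dc.U) Γ(Y', j ⁻¹ᵁ dc.U) :=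
    (j.appLE dc.U (j ⁻¹ᵁ dc.U) le_rfl).hom.toAlgebra
  haveI : IsScalarTower Γ(X, dc.V) Γ(Y, dc.U) Γ(Y', j ⁻¹ᵁ dc.U) :=
    IsScalarTower.of_algebraMap_eq' (by
      change ((j ≫ f).appLE dc.V (j ⁻¹ᵁ dc.U) dc.leW).hom =
        (j.appLE dc.U (j ⁻¹ᵁ dc.U) le_rfl).hom.comp (f.appLE dc.V dc.U dc.e).hom
      rw [← CommRingCat.hom_comp, Scheme.Hom.appLE_comp_appLE])
  have hRA : Function.Surjective (algebraMap Γ(X, dc.V) Γ(Y, dc.U)) := hsurj
  have hAB : Function.Surjective (j.appLE dc.U (j ⁻¹ᵁ dc.U) le_rfl) := by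
    change Function.Surjective (j.appLE dc.U (j ⁻¹ᵁ dc.U) le_rfl).hom
    rw [Scheme.Hom.appLE_eq_app]
    exact app_surjective_of_le_coborderRange j dc.hU dc.hcU
  have hRB : Function.Surjective (algebraMap Γ(X, dc.V) Γ(Y', j ⁻¹ᵁ dc.U)) := dc.surjRB
  have hI : RingHom.ker (algebraMap Γ(Y, dc.U) Γ(Y', j ⁻¹ᵁ dc.U)) = Ideal.span (Set.range fA) := by
    change RingHom.ker (j.appLE dc.U (j ⁻¹ᵁ dc.U) le_rfl).hom = _
    rw [Scheme.Hom.appLE_eq_app]
    exact hker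
  haveI : (Omega.conormal f).IsQuasicoherent := isQuasicoherent_conormal f
  obtain ⟨m, rfl⟩ := exists_pullSectLE_eq j (Omega.conormal f) dc.hU dc.hW le_rfl hAB y
  obtain ⟨s', rfl⟩ := exists_pullSectLE_eq f (ClSub.idealMod f.ker) dc.hV dc.hU dc.e hsurj m
  have h1 := transMap_chart_generator φ₁ hφ₁ dc geU s'
  rw [hy, map_zero] at h1
  have h2 := (one_tmul_eq_zero_iff hRB _).1 h1.symm
  have h3 := mem_mul_of_mem_sq_of_isH1Regular hRA fA hfA hI _
    (idealKerEquiv f dc.hV dc.e geU s').2 h2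
  have h4 := one_tmul_eq_zero_of_mem_mul (B := Γ(Y', j ⁻¹ᵁ dc.U))
    (conormalEquiv f dc.hV dc.hU dc.e geU)
    (pullSectLE f (ClSub.idealMod f.ker) dc.V dc.U dc.e s') (idealKerEquiv f dc.hV dc.e geU s')
    (conormalEquiv_pullSectLE f dc.hV dc.hU dc.e geU s') h3
  apply (pullbackSectionsEquiv j (Omega.conormal f) dc.hW dc.hU le_rfl).injective
  rw [map_zero]
  exact (pullbackSectionsEquiv_pullSectLE j (Omega.conormal f) dc.hW dc.hU le_rfl _).trans h4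

include hφ₁ in
theorem transMap_app_injective_of_isH1Regular (dc : DoubleChart j f) (geU : f ⁻¹ᵁ dc.V ≤ dc.U)
    (hsurj : Function.Surjective (f.appLE dc.V dc.U dc.e)) {c : ℕ} (fA : Fin c → Γ(Y, dc.U))
    (hfA : CAlgX.IsH1Regular fA)
    (hker : RingHom.ker (j.app dc.U).hom = Ideal.span (Set.range fA)) :
    Function.Injective (φ₁.app (j ⁻¹ᵁ dc.U)) := by
  intro y₁ y₂ h
  have h0 : φ₁.app (j ⁻¹ᵁ dc.U) (y₁ - y₂) = 0 := by
    rw [map_sub, h, sub_self]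
  have := transMap_app_eq_zero_of_isH1Regular φ₁ hφ₁ dc geU hsurj fA hfA hker _ h0
  exact sub_eq_zero.1 this

end ChartInj

section H1Chart
variable {Y' Y X : Scheme.{u}} (j : Y' ⟶ Y) (f : Y ⟶ X) [IsImmersion j] [IsImmersion f]

/-- Transitivity charts inside a prescribed open neighbourhood in `Y`. -/
theorem exists_transChart_le (y' : Y') (W : Y'.Opens) (hy' : y' ∈ W) (U₀ : Y.Opens)
    (hU₀ : j.base y' ∈ U₀) :
    ∃ t : TransChart j f, y' ∈ j ⁻¹ᵁ (f ⁻¹ᵁ t.V) ∧ j ⁻¹ᵁ (f ⁻¹ᵁ t.V) ≤ W ∧ f ⁻¹ᵁ t.V ≤ U₀ := by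
  obtain ⟨O, hO, hOc⟩ := f.isEmbedding.isInducing.isOpen_iff.1 j.coborderRange.2
  obtain ⟨O', hO', hOc'⟩ := f.isEmbedding.isInducing.isOpen_iff.1 U₀.2
  have h1 : (j ≫ f).base y' ∈ ((⟨O, hO⟩ : X.Opens) ⊓ ⟨O', hO'⟩) ⊓ f.coborderRange := by
    refine ⟨⟨?_, ?_⟩, subset_coborder ⟨j.base y', rfl⟩⟩
    · change j.base y' ∈ f.base ⁻¹' O
      rw [hOc]
      exact subset_coborder ⟨y', rfl⟩
    · change j.base y' ∈ f.base ⁻¹' O'
      rw [hOc']
      exact hU₀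
  obtain ⟨V, hV, hyV, hVle, hVc, hVW⟩ :=
    exists_affine_le_coborderRange (j ≫ f) y' _ h1 W hy'
  refine ⟨⟨V, hV, hVle.trans inf_le_right, ?_, hVc⟩, hyV, hVW, ?_⟩
  · intro y hy
    have h2 : f.base y ∈ O := (hVle hy).1.1
    have h3 : y ∈ f.base ⁻¹' O := h2
    rw [hOc] at h3
    exact h3
  · intro y hy
    have h2 : f.base y ∈ O' := (hVle hy).1.2
    have h3 : y ∈ f.base ⁻¹' O' := h2
    rw [hOc'] at h3
    exact h3

omit [IsImmersion j] in
/-- Transfer of the `H_1`-regular presentation of the kernel to a smaller affine open. -/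
theorem exists_h1_presentation_of_le {U₀ U : Y.Opens} (hU₀ : IsAffineOpen U₀) (hU : IsAffineOpen U)
    (hle : U ≤ U₀) [IsClosedImmersion (j ∣_ U₀)] (rs : List Γ(Y, U₀))
    (hrs : CAlgX.IsH1Regular rs.get) (hker : RingHom.ker (j.app U₀).hom = Ideal.ofList rs) :
    ∃ (c : ℕ) (fA : Fin c → Γ(Y, U)), CAlgX.IsH1Regular fA ∧
      RingHom.ker (j.app U).hom = Ideal.span (Set.range fA) := by
  refine ⟨rs.length, fun k => (Y.presheaf.map (homOfLE hle).op).hom (rs.get k),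
    Groth.Agent.H94.H1QuasiFlat.isH1Regular_map_of_flat _
      (Groth.Agent.H39.ImmCompChart.flat_res hle hU₀ hU) rs.get hrs, ?_⟩
  rw [Groth.Agent.H39.ImmCompChart.ker_app_of_le j hle hU₀ hU, hker,
    ← Groth.Agent.H39.RelRegAlg.span_range_get, Ideal.map_span, ← Set.range_comp]
  rfl

theorem exists_h1TransChart (hj : RegImm.IsRegularImmersion RegImm.Kind.h1 j) (y' : Y')
    (W : Y'.Opens) (hy' : y' ∈ W) :
    ∃ (t : TransChart j f) (c : ℕ) (fA : Fin c → Γ(Y, f ⁻¹ᵁ t.V)),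
      y' ∈ j ⁻¹ᵁ (f ⁻¹ᵁ t.V) ∧ j ⁻¹ᵁ (f ⁻¹ᵁ t.V) ≤ W ∧ CAlgX.IsH1Regular fA ∧
      RingHom.ker (j.app (f ⁻¹ᵁ t.V)).hom = Ideal.span (Set.range fA) := by
  obtain ⟨U₀, hyU₀, hcl, rs, hrs, hker⟩ := hj.2 y'
  obtain ⟨t, hyt, htW, htU₀⟩ := exists_transChart_le j f y' W hy' U₀.1 hyU₀
  haveI := hcl
  obtain ⟨c, fA, hfA, hkerA⟩ := exists_h1_presentation_of_le j U₀.2 t.hfV htU₀ rs hrs hker
  exact ⟨t, c, fA, hyt, htW, hfA, hkerA⟩

/-- The index type of `H_1`-charts. -/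
structure H1TransChart extends TransChart j f where
  c : ℕ
  fA : Fin c → Γ(Y, f ⁻¹ᵁ V)
  hfA : CAlgX.IsH1Regular fA
  hker : RingHom.ker (j.app (f ⁻¹ᵁ V)).hom = Ideal.span (Set.range fA)

theorem isBasis_h1TransChart (hj : RegImm.IsRegularImmersion RegImm.Kind.h1 j) :
    Opens.IsBasis (Set.range (fun t : H1TransChart j f => j ⁻¹ᵁ (f ⁻¹ᵁ t.V))) := by
  rw [Opens.isBasis_iff_nbhd]
  intro W x hx
  obtain ⟨t, c, fA, hxt, htW, hfA, hker⟩ := exists_h1TransChart j f hj x W hx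
  exact ⟨_, ⟨⟨t, c, fA, hfA, hker⟩, rfl⟩, hxt, htW⟩

end H1Chart

section Main
variable {Y' Y X : Scheme.{u}} {j : Y' ⟶ Y} {f : Y ⟶ X} [IsImmersion j] [IsImmersion f]
  [QuasiCompact j] [QuasiCompact f]
  (φ₁ : (Scheme.Modules.pullback j).obj (Omega.conormal f) ⟶ Omega.conormal (j ≫ f))
  (hφ₁ : OmegaSh.IsConormalMap (j ≫ f) f (𝟙 X) j φ₁)

include hφ₁ in
/-- For `j` an `H_1`-regular immersion, `j^*C_{Y/X} ⟶ C_{Y'/X}` is a monomorphism. -/
theorem mono_transMap_of_isRegularImmersion_h1 (hj : RegImm.IsRegularImmersion RegImm.Kind.h1 j) :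
    Mono φ₁ := by
  refine mono_of_injective_on_basis φ₁ (fun t : H1TransChart j f => j ⁻¹ᵁ (f ⁻¹ᵁ t.V))
    (isBasis_h1TransChart j f hj) fun t => ?_
  exact transMap_app_injective_of_isH1Regular φ₁ hφ₁ t.toTransChart.toDoubleChart le_rfl
    t.toTransChart.surj_appLE t.fA t.hfA t.hker

omit [IsImmersion j] [IsImmersion f] [QuasiCompact f] in
/-- The conormal sheaf of an `H_1`-regular immersion is finite locally free. -/
theorem isFinLocFree_conormal_of_isRegularImmersion_h1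
    (hj : RegImm.IsRegularImmersion RegImm.Kind.h1 j) :
    FlatMod.IsFinLocFree (Omega.conormal j) := by
  haveI : (Omega.conormal j).IsQuasicoherent := isQuasicoherent_conormal j
  refine isFinLocFree_of_forall_exists_affine _ fun y' => ?_
  obtain ⟨U₀, hyU₀, hcl, rs, hrs, hker⟩ := hj.2 y'
  haveI := hcl
  obtain ⟨hW, hsurj⟩ :=
    Groth.Agent.H39.RegImmStalk3.isAffineOpen_preimage_and_surjective_of_isClosedImmersion_restrict
      j U₀.1 U₀.2
  refine ⟨j ⁻¹ᵁ U₀.1, hW, hyU₀, ?_⟩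
  letI algAB : Algebra Γ(Y, U₀.1) Γ(Y', j ⁻¹ᵁ U₀.1) :=
    (j.appLE U₀.1 (j ⁻¹ᵁ U₀.1) le_rfl).hom.toAlgebra
  have hAB : Function.Surjective (algebraMap Γ(Y, U₀.1) Γ(Y', j ⁻¹ᵁ U₀.1)) := by
    change Function.Surjective (j.appLE U₀.1 (j ⁻¹ᵁ U₀.1) le_rfl).hom
    rw [Scheme.Hom.appLE_eq_app]
    exact hsurj
  have hI : RingHom.ker (algebraMap Γ(Y, U₀.1) Γ(Y', j ⁻¹ᵁ U₀.1)) =
      Ideal.span (Set.range rs.get) := by
    change RingHom.ker (j.appLE U₀.1 (j ⁻¹ᵁ U₀.1) le_rfl).hom = _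
    rw [Scheme.Hom.appLE_eq_app, Groth.Agent.H39.RelRegAlg.span_range_get]
    exact hker
  obtain ⟨hfin, hfree⟩ := conormal_finite_free_of_isH1Regular hAB rs.get hrs hI
  let E := conormalEquiv j U₀.2 hW le_rfl le_rfl
  exact ⟨Module.Finite.equiv E.symm, Module.Projective.of_equiv E.symm⟩

variable (φ₂ : (Scheme.Modules.pullback (𝟙 Y')).obj (Omega.conormal (j ≫ f)) ⟶ Omega.conormal j)
  (hφ₂ : OmegaSh.IsConormalMap j (j ≫ f) f (𝟙 Y') φ₂)

include hφ₁ hφ₂ in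
/-- **Conormal sequence of a composition with `H_1`-regular inner immersion**:
`0 ⟶ j^*C_{Y/X} ⟶ C_{Y'/X} ⟶ C_{Y'/Y} ⟶ 0` is short exact. -/
theorem trans_seq_shortExact_of_h1 (hj : RegImm.IsRegularImmersion RegImm.Kind.h1 j) :
    ∃ w : φ₁ ≫ ((pullbackId Y').inv.app (Omega.conormal (j ≫ f)) ≫ φ₂) = 0,
      (ShortComplex.mk φ₁ ((pullbackId Y').inv.app (Omega.conormal (j ≫ f)) ≫ φ₂) w).ShortExact := by
  obtain ⟨hepi, w, hex⟩ := trans_seq_exact φ₁ hφ₁ φ₂ hφ₂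
  haveI := mono_transMap_of_isRegularImmersion_h1 φ₁ hφ₁ hj
  haveI : Epi ((pullbackId Y').inv.app (Omega.conormal (j ≫ f)) ≫ φ₂) := epi_comp _ _
  exact ⟨w, { exact := hex, mono_f := inferInstance, epi_g := inferInstance }⟩

end Main
end Groth.Agent.H44
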