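import Mathlib
import Groth.Prelude.Def_Formal2

/-!
# Multiplication by ring elements on `O_X`-modules and the quotients `F/f^nF`

* `smulMod_naturality`, `smulMod_mul`, `smulMod_one` for `Formal.smulMod`.
* `quot_comp_shortExact`: in an abelian category, for `g` mono, `0 → F/f → F/(fg) → F/g → 0`.
* `exact_smulMod_pow_modPowπ`: `F --f^n--> F --> F/(f)^nF` is exact.
-/

universe v' u' u
open CategoryTheory CategoryTheory.Limits AlgebraicGeometry Opposite TopologicalSpace

namespace Groth.Agent.H44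


variable {A : Type u} [CommRing A] {X : Scheme.{u}} [X.Over (Spec (CommRingCat.of A))]

/-- restriction of a global function, typed in `Γ(X, U)`. -/
noncomputable def resΓ (X : Scheme.{u}) (U : X.Opens) (r : Coh.Γtop X) : Γ(X, U) := Coh.resTop X (op U) r

theorem smulModΓ_app_apply (M : X.Modules) (r : Coh.Γtop X) (U : X.Opens) (m : Γ(M, U)) :
    (Formal.smulModΓ M r).app U m = resΓ X U r • m := rfl

theorem resΓ_mul (U : X.Opens) (r s : Coh.Γtop X) : resΓ X U (r * s) = resΓ X U r * resΓ X U s :=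
  map_mul (Coh.resTop X (op U)) r s

theorem resΓ_one (U : X.Opens) : resΓ X U 1 = 1 :=
  map_one (Coh.resTop X (op U))

theorem smulModΓ_naturality {M N : X.Modules} (φ : M ⟶ N) (r : Coh.Γtop X) :
    Formal.smulModΓ M r ≫ φ = φ ≫ Formal.smulModΓ N r := by
  ext U m
  change φ.app U (resΓ X U r • m) = resΓ X U r • φ.app U m
  exact Scheme.Modules.Hom.app_smul φ _ _

theorem smulModΓ_mul (M : X.Modules) (r s : Coh.Γtop X) :
    Formal.smulModΓ M (r * s) = Formal.smulModΓ M r ≫ Formal.smulModΓ M s := by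
  ext U m
  change resΓ X U (r * s) • m = resΓ X U s • (resΓ X U r • m)
  rw [resΓ_mul, ← mul_smul, mul_comm]

theorem smulModΓ_one (M : X.Modules) : Formal.smulModΓ M 1 = 𝟙 M := by
  ext U m
  change resΓ X U 1 • m = m
  rw [resΓ_one, one_smul]

variable (A)

theorem smulMod_naturality {M N : X.Modules} (φ : M ⟶ N) (a : A) :
    Formal.smulMod A M a ≫ φ = φ ≫ Formal.smulMod A N a :=
  smulModΓ_naturality φ _

theorem smulMod_mul (M : X.Modules) (a b : A) :
    Formal.smulMod A M (a * b) = Formal.smulMod A M a ≫ Formal.smulMod A M b := by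
  unfold Formal.smulMod
  rw [map_mul, smulModΓ_mul]

theorem smulMod_one (M : X.Modules) : Formal.smulMod A M 1 = 𝟙 M := by
  unfold Formal.smulMod
  rw [map_one, smulModΓ_one]



section Abstract
variable {C : Type u'} [Category.{v'} C] [Abelian C]

/-- Abstract form of `0 → F/f → F/(fg) → F/g → 0` for `g` a monomorphism. -/
theorem quot_comp_shortExact {F P₁ P₂ P₃ : C} (f g : F ⟶ F) [Mono g]
    (π₁ : F ⟶ P₁) (π₂ : F ⟶ P₂) (π₃ : F ⟶ P₃) [Epi π₁] [Epi π₂] [Epi π₃]
    (w₁ : f ≫ π₁ = 0) (w₂ : (f ≫ g) ≫ π₂ = 0) (w₃ : g ≫ π₃ = 0)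
    (h₂ : (ShortComplex.mk (f ≫ g) π₂ w₂).Exact)
    (h₃ : (ShortComplex.mk g π₃ w₃).Exact)
    (i : P₁ ⟶ P₂) (hi : π₁ ≫ i = g ≫ π₂) (t : P₂ ⟶ P₃) (ht : π₂ ≫ t = π₃) :
    Mono i ∧ ∃ w : i ≫ t = 0, (ShortComplex.mk i t w).ShortExact := by
  have hmono : Mono i := by
    apply Preadditive.mono_of_cancel_zero
    intro T x hx
    obtain ⟨T', e, he, x', hx'⟩ := surjective_up_to_refinements_of_epi π₁ x
    have h0 : (x' ≫ g) ≫ π₂ = 0 := by
      rw [Category.assoc, ← hi, ← Category.assoc, ← hx', Category.assoc, hx, comp_zero]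
    obtain ⟨T'', e', he', y, hy⟩ := h₂.exact_up_to_refinements (x' ≫ g) h0
    dsimp at y hy
    have h1 : e' ≫ x' = y ≫ f := by
      rw [← cancel_mono g, Category.assoc, hy, Category.assoc]
    have h2 : (e' ≫ e) ≫ x = 0 := by
      rw [Category.assoc, hx', ← Category.assoc, h1, Category.assoc, w₁, comp_zero]
    exact (cancel_epi (e' ≫ e)).1 (h2.trans comp_zero.symm)
  have w : i ≫ t = 0 := by
    rw [← cancel_epi π₁, ← Category.assoc, hi, Category.assoc, ht, w₃, comp_zero]
  refine ⟨hmono, w, ?_⟩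
  have hepi : Epi t := by
    have : Epi (π₂ ≫ t) := by rw [ht]; infer_instance
    exact epi_of_epi π₂ t
  have hex : (ShortComplex.mk i t w).Exact := by
    rw [ShortComplex.exact_iff_exact_up_to_refinements]
    intro T x hx
    dsimp at x hx
    obtain ⟨T', e, he, x', hx'⟩ := surjective_up_to_refinements_of_epi π₂ x
    have h0 : x' ≫ π₃ = 0 := by
      rw [← ht, ← Category.assoc, ← hx', Category.assoc, hx, comp_zero]
    obtain ⟨T'', e', he', y, hy⟩ := h₃.exact_up_to_refinements x' h0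
    dsimp at y hy
    refine ⟨T'', e' ≫ e, inferInstance, y ≫ π₁, ?_⟩
    dsimp
    rw [Category.assoc, hx', ← Category.assoc, hy, Category.assoc, Category.assoc, hi]
  exact { exact := hex, mono_f := hmono, epi_g := hepi }


end Abstract

section Concrete
variable {A : Type u} [CommRing A] {X : Scheme.{u}} [X.Over (Spec (CommRingCat.of A))]

instance epi_modPowπ (I : Ideal A) (n : ℕ) (M : X.Modules) : Epi (Formal.modPowπ I n M) :=
  coequalizer.π_epi

theorem smulMod_comp_modPowπ_of_mem (I : Ideal A) (n : ℕ) (M : X.Modules) (a : A) (ha : a ∈ I ^ n) :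
    Formal.smulMod A M a ≫ Formal.modPowπ I n M = 0 := by
  have e : Formal.smulMod A M a =
      Sigma.ι (fun _ : ↥(I ^ n) => M) ⟨a, ha⟩ ≫ Formal.smulFamily (I ^ n) M := by
    simp [Formal.smulFamily]
  rw [e, Category.assoc]
  exact (congrArg (fun t => Sigma.ι (fun _ : ↥(I ^ n) => M) ⟨a, ha⟩ ≫ t)
    (cokernel.condition (Formal.smulFamily (I ^ n) M))).trans comp_zero

theorem smulMod_pow_comp_modPowπ (f : A) (n : ℕ) (M : X.Modules) :
    Formal.smulMod A M (f ^ n) ≫ Formal.modPowπ (Ideal.span ({f} : Set A)) n M = 0 :=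
  smulMod_comp_modPowπ_of_mem _ n M _ (Ideal.pow_mem_pow (Ideal.mem_span_singleton_self f) n)

theorem smulFamily_span_comp_eq_zero (f : A) (n : ℕ) (M : X.Modules) {T : X.Modules} (g : M ⟶ T)
    (hg : Formal.smulMod A M (f ^ n) ≫ g = 0) :
    Formal.smulFamily (Ideal.span ({f} : Set A) ^ n) M ≫ g = 0 := by
  apply Sigma.hom_ext
  intro a
  have ha : (a : A) ∈ Ideal.span ({f ^ n} : Set A) := by
    rw [← Ideal.span_singleton_pow]; exact a.2
  obtain ⟨b, hb⟩ := Ideal.mem_span_singleton'.1 ha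
  have e : Sigma.ι (fun _ : ↥(Ideal.span ({f} : Set A) ^ n) => M) a ≫
      Formal.smulFamily (Ideal.span ({f} : Set A) ^ n) M = Formal.smulMod A M (a : A) := by
    simp [Formal.smulFamily]
  rw [comp_zero, ← Category.assoc, e, ← hb, smulMod_mul, Category.assoc, hg, comp_zero]

/-- `F --f^n--> F --> F/(f)^n F` is exact. -/
theorem exact_smulMod_pow_modPowπ (f : A) (n : ℕ) (M : X.Modules) :
    (ShortComplex.mk (Formal.smulMod A M (f ^ n)) (Formal.modPowπ (Ideal.span ({f} : Set A)) n M)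
      (smulMod_pow_comp_modPowπ f n M)).Exact := by
  apply ShortComplex.exact_of_g_is_cokernel
  refine CokernelCofork.IsColimit.ofπ _ _
    (fun g' hg' => cokernel.desc _ g' (smulFamily_span_comp_eq_zero f n M g' hg')) ?_ ?_
  · intro T g' hg'
    exact cokernel.π_desc _ _ _
  · intro T g' hg' m hm
    rw [← cancel_epi (Formal.modPowπ (Ideal.span ({f} : Set A)) n M), hm]
    exact (cokernel.π_desc _ _ _).symm

end Concrete

end Groth.Agent.H44
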