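import Groth.Agent.H44.PullbackAffine
import Groth.Prelude.Def_Omega4

/-!
# Tracking pulled-back sections through the pullback isomorphisms (helper44)

* `pullSectLE h M W W' le t` : the pullback along `h` of the section `t ∈ Γ(M, W)`, restricted to `W' ≤ h⁻¹W`.
* `restrictFunctorIsoPullback_hom_app`, `pullbackComp_hom_app`, `pullbackCongr_hom_app`,
  `pullSectLE_naturality` : how Mathlib's canonical isomorphisms act on pulled-back sections.
* `pullbackTildeIso_pullSect` : `(Spec φ)^*(M^~) ≅ (S ⊗ M)^~` sends the pullback of `m` to `1 ⊗ m`.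
* `pullbackSectionsEquiv_pullSectLE` : the affine base change isomorphism
  `Γ(f^*F, U) ≃ Γ(X,U) ⊗ Γ(F,V)` sends the pullback of `m ∈ Γ(F,V)` to `1 ⊗ m`.
-/

set_option autoImplicit false
universe u
open CategoryTheory Opposite AlgebraicGeometry TopologicalSpace TensorProduct Scheme.Modules

namespace Groth.Agent.H44

section General
variable {X Y Z : Scheme.{u}}

theorem resM_refl {M : X.Modules} {A : X.Opens} (x : Γ(M, A)) :
    M.presheaf.map (homOfLE (le_refl A)).op x = x := by
  have : (homOfLE (le_refl A)).op = 𝟙 (op A) := rfl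
  rw [this, M.presheaf.map_id]
  rfl

theorem resM_comp {M : X.Modules} {A B C : X.Opens} (h₁ : B ≤ A) (h₂ : C ≤ B) (x : Γ(M, A)) :
    M.presheaf.map (homOfLE h₂).op (M.presheaf.map (homOfLE h₁).op x) =
      M.presheaf.map (homOfLE (h₂.trans h₁)).op x :=
  OmegaSh.resM_resM _ _ _

theorem hom_app_resLE {M N : X.Modules} (φ : M ⟶ N) {U V : X.Opens} (e : V ≤ U) (x : Γ(M, U)) :
    φ.app V (M.presheaf.map (homOfLE e).op x) = N.presheaf.map (homOfLE e).op (φ.app U x) :=
  congr($((Scheme.Modules.Hom.mapPresheaf φ).naturality (homOfLE e).op) x)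

/-- Pull a section over `W` back along `h` and restrict to an open `W' ≤ h⁻¹W`. -/
noncomputable def pullSectLE (h : X ⟶ Y) (M : Y.Modules) (W : Y.Opens) (W' : X.Opens)
    (le : W' ≤ h ⁻¹ᵁ W) (t : Γ(M, W)) : Γ((pullback h).obj M, W') :=
  ((pullback h).obj M).presheaf.map (homOfLE le).op (OmegaSh.pullSect h M W t)

theorem pullSectLE_self (h : X ⟶ Y) (M : Y.Modules) (W : Y.Opens) (t : Γ(M, W)) :
    pullSectLE h M W (h ⁻¹ᵁ W) le_rfl t = OmegaSh.pullSect h M W t :=
  resM_refl _

theorem pullSectLE_res (h : X ⟶ Y) (M : Y.Modules) (W : Y.Opens) (W' W'' : X.Opens)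
    (le : W' ≤ h ⁻¹ᵁ W) (le' : W'' ≤ W') (t : Γ(M, W)) :
    ((pullback h).obj M).presheaf.map (homOfLE le').op (pullSectLE h M W W' le t) =
      pullSectLE h M W W'' (le'.trans le) t :=
  resM_comp _ _ _

theorem pullSectLE_of_res (h : X ⟶ Y) (M : Y.Modules) {W₁ W₂ : Y.Opens} (e : W₂ ≤ W₁) (W' : X.Opens)
    (le : W' ≤ h ⁻¹ᵁ W₂) (t : Γ(M, W₁)) :
    pullSectLE h M W₂ W' le (M.presheaf.map (homOfLE e).op t) =
      pullSectLE h M W₁ W' (le.trans (h.preimage_mono e)) t := by
  unfold pullSectLE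
  rw [OmegaSh.pullSect_map, resM_comp]

theorem pullSectLE_smul (h : X ⟶ Y) (M : Y.Modules) (W : Y.Opens) (W' : X.Opens)
    (le : W' ≤ h ⁻¹ᵁ W) (r : Γ(Y, W)) (t : Γ(M, W)) :
    pullSectLE h M W W' le (r • t) = h.appLE W W' le r • pullSectLE h M W W' le t := by
  unfold pullSectLE
  rw [OmegaSh.pullSect_smul, Scheme.Modules.map_smul]
  rfl

/-- Naturality of `pullSectLE` in the module. -/
theorem pullSectLE_naturality (h : X ⟶ Y) {M N : Y.Modules} (ψ : M ⟶ N) (W : Y.Opens) (W' : X.Opens)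
    (le : W' ≤ h ⁻¹ᵁ W) (t : Γ(M, W)) :
    ((pullback h).map ψ).app W' (pullSectLE h M W W' le t) = pullSectLE h N W W' le (ψ.app W t) := by
  unfold pullSectLE
  rw [hom_app_resLE]
  congr 1
  have := (Scheme.Modules.pullbackPushforwardAdjunction h).unit.naturality ψ
  exact congr(($this).app W t).symm


/-- Under `restrictFunctorIsoPullback`, the restriction of a section corresponds to its pullback. -/
theorem restrictFunctorIsoPullback_hom_app (j : X ⟶ Y) [IsOpenImmersion j] (M : Y.Modules)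
    (W : Y.Opens) (W' : X.Opens) (le : W' ≤ j ⁻¹ᵁ W) (t : Γ(M, W)) :
    ((restrictFunctorIsoPullback j).hom.app M).app W'
        (M.presheaf.map (homOfLE ((j.image_mono le).trans (j.image_preimage_le W))).op t) =
      pullSectLE j M W W' le t := by
  have h := Adjunction.unit_leftAdjointUniq_hom_app (restrictAdjunction j)
    (pullbackPushforwardAdjunction j) M
  have h2 := congr(($h).app W t)
  have h3 : ((restrictFunctorIsoPullback j).hom.app M).app (j ⁻¹ᵁ W)
      (M.presheaf.map (homOfLE (j.image_preimage_le W)).op t) = OmegaSh.pullSect j M W t := h2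
  unfold pullSectLE
  rw [← h3, ← hom_app_resLE]
  congr 1
  exact (resM_comp (M := M) _ _ t).symm

/-- Compatibility of `pullbackComp` with pulled-back sections. -/
theorem pullbackComp_hom_app (j : Z ⟶ Y) (q : Y ⟶ X) (M : X.Modules) (W : X.Opens) (W' : Y.Opens)
    (W'' : Z.Opens) (le : W' ≤ q ⁻¹ᵁ W) (le' : W'' ≤ j ⁻¹ᵁ W') (t : Γ(M, W)) :
    ((pullbackComp j q).hom.app M).app W''
        (pullSectLE j ((Scheme.Modules.pullback q).obj M) W' W'' le' (pullSectLE q M W W' le t)) =
      pullSectLE (j ≫ q) M W W'' (le'.trans (j.preimage_mono le)) t := by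
  have h := unit_conjugateEquiv
    ((pullbackPushforwardAdjunction q).comp (pullbackPushforwardAdjunction j))
    (pullbackPushforwardAdjunction (j ≫ q)) (pullbackComp j q).inv M
  rw [conjugateEquiv_pullbackComp_inv] at h
  have h2 := congr(($h).app W t)
  simp only [Scheme.Modules.Hom.comp_app, Adjunction.comp_unit_app] at h2
  have h3 : OmegaSh.pullSect j ((Scheme.Modules.pullback q).obj M) (q ⁻¹ᵁ W)
      (OmegaSh.pullSect q M W t) =
      ((pullbackComp j q).inv.app M).app ((j ≫ q) ⁻¹ᵁ W) (OmegaSh.pullSect (j ≫ q) M W t) := h2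
  have h4 : ((pullbackComp j q).hom.app M).app ((j ≫ q) ⁻¹ᵁ W)
      (OmegaSh.pullSect j ((Scheme.Modules.pullback q).obj M) (q ⁻¹ᵁ W)
        (OmegaSh.pullSect q M W t)) = OmegaSh.pullSect (j ≫ q) M W t := by
    rw [h3, ← ConcreteCategory.comp_apply, ← Scheme.Modules.Hom.comp_app, Iso.inv_hom_id_app]
    rfl
  unfold pullSectLE
  rw [← h4, OmegaSh.pullSect_map, resM_comp]
  exact (hom_app_resLE _ _ _)

theorem pullbackCongr_hom_app {f g : X ⟶ Y} (hfg : f = g) (M : Y.Modules) (W : Y.Opens) (W' : X.Opens)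
    (le : W' ≤ f ⁻¹ᵁ W) (t : Γ(M, W)) :
    ((pullbackCongr hfg).hom.app M).app W' (pullSectLE f M W W' le t) =
      pullSectLE g M W W' (hfg ▸ le) t := by
  subst hfg
  simp [pullbackCongr]


theorem pullbackComp_inv_app (j : Z ⟶ Y) (q : Y ⟶ X) (M : X.Modules) (W : X.Opens) (W' : Y.Opens)
    (W'' : Z.Opens) (le : W' ≤ q ⁻¹ᵁ W) (le' : W'' ≤ j ⁻¹ᵁ W') (t : Γ(M, W)) :
    ((pullbackComp j q).inv.app M).app W''
        (pullSectLE (j ≫ q) M W W'' (le'.trans (j.preimage_mono le)) t) =
      pullSectLE j ((Scheme.Modules.pullback q).obj M) W' W'' le' (pullSectLE q M W W' le t) := by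
  rw [← pullbackComp_hom_app j q M W W' W'' le le' t, ← ConcreteCategory.comp_apply,
    ← Scheme.Modules.Hom.comp_app, Iso.hom_inv_id_app]
  rfl

theorem restrictFunctorIsoPullback_inv_app (j : X ⟶ Y) [IsOpenImmersion j] (M : Y.Modules)
    (W : Y.Opens) (W' : X.Opens) (le : W' ≤ j ⁻¹ᵁ W) (t : Γ(M, W)) :
    ((restrictFunctorIsoPullback j).inv.app M).app W' (pullSectLE j M W W' le t) =
      M.presheaf.map (homOfLE ((j.image_mono le).trans (j.image_preimage_le W))).op t := by
  rw [← restrictFunctorIsoPullback_hom_app j M W W' le t, ← ConcreteCategory.comp_apply,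
    ← Scheme.Modules.Hom.comp_app, Iso.hom_inv_id_app]
  rfl

end General

section Tilde
variable {R S : CommRingCat.{u}} (φ : R ⟶ S)

theorem pullbackTildeIso_unit (M : ModuleCat.{u} R) :
    tilde.adjunction.unit.app M ≫
      (moduleSpecΓFunctor (R := R)).map
        ((Scheme.Modules.pullbackPushforwardAdjunction (Spec.map φ)).unit.app ((tilde.functor R).obj M)) ≫
      (pushforwardΓIso φ).hom.app _ ≫
      (ModuleCat.restrictScalars φ.hom).map
        ((moduleSpecΓFunctor (R := S)).map ((pullbackTildeIso φ).hom.app M)) =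
    (ModuleCat.extendRestrictScalarsAdj φ.hom).unit.app M ≫
      (ModuleCat.restrictScalars φ.hom).map (tilde.adjunction.unit.app _) := by
  have := Adjunction.unit_leftAdjointUniq_hom_app
    ((tilde.adjunction.comp (Scheme.Modules.pullbackPushforwardAdjunction (Spec.map φ))).ofNatIsoRight
      (pushforwardΓIso φ))
    ((ModuleCat.extendRestrictScalarsAdj φ.hom).comp tilde.adjunction) M
  simp [pullbackTildeIso] at this ⊢
  exact this

theorem pullbackTildeIso_pullSect (M : ModuleCat.{u} R) (m : M) :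
    ((pullbackTildeIso φ).hom.app M).app ⊤
      (OmegaSh.pullSect (Spec.map φ) ((tilde.functor R).obj M) ⊤ (tilde.adjunction.unit.app M m)) =
    (tilde.adjunction (R := S)).unit.app ((ModuleCat.extendScalars φ.hom).obj M)
      (show ((ModuleCat.extendScalars φ.hom).obj M) from
        (ModuleCat.extendRestrictScalarsAdj φ.hom).unit.app M m) :=
  congr($(pullbackTildeIso_unit φ M) m)

end Tilde

section Affine
variable {X Y : Scheme.{u}} (f : X ⟶ Y) (F : Y.Modules)
  {U : X.Opens} {V : Y.Opens} (hU : IsAffineOpen U) (hV : IsAffineOpen V) (e : U ≤ f ⁻¹ᵁ V)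

include e in
theorem fromSpec_image_top_le : hU.fromSpec ''ᵁ ⊤ ≤ f ⁻¹ᵁ V := by
  rw [fromSpec_image_top' hU]; exact e

theorem pullbackRestrictSpecIso_hom_app (m : Γ(F, V)) :
    ((pullbackRestrictSpecIso f F hU hV e).hom).app ⊤
        (pullSectLE f F V (hU.fromSpec ''ᵁ ⊤) (fromSpec_image_top_le f hU e) m) =
      pullSectLE (Spec.map (f.appLE V U e)) (F.restrict hV.fromSpec) ⊤ ⊤ le_top
        (F.presheaf.map (homOfLE (by rw [fromSpec_image_top' hV])).op m) := by
  have w := IsAffineOpen.SpecMap_appLE_fromSpec f hV hU e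
  have le1 : (⊤ : (Spec Γ(X, U)).Opens) ≤ hU.fromSpec ⁻¹ᵁ (f ⁻¹ᵁ V) := by
    intro x _
    exact fromSpec_image_top_le f hU e ⟨x, trivial, rfl⟩
  have le2 : (⊤ : (Spec Γ(Y, V)).Opens) ≤ hV.fromSpec ⁻¹ᵁ V := by
    intro x _
    exact (fromSpec_image_top' hV).le ⟨x, trivial, rfl⟩
  -- step 1
  have s1 := restrictFunctorIsoPullback_hom_app hU.fromSpec ((Scheme.Modules.pullback f).obj F)
    (f ⁻¹ᵁ V) ⊤ le1 (OmegaSh.pullSect f F V m)
  -- step 2
  have s2 := pullbackComp_hom_app hU.fromSpec f F V (f ⁻¹ᵁ V) ⊤ le_rfl le1 m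
  rw [pullSectLE_self] at s2
  -- step 3
  have s3 := pullbackCongr_hom_app w.symm F V ⊤ (le1.trans (hU.fromSpec.preimage_mono le_rfl)) m
  -- step 4
  have s4 := pullbackComp_inv_app (Spec.map (f.appLE V U e)) hV.fromSpec F V ⊤ ⊤ le2 le_top m
  -- step 5
  have s5 := pullSectLE_naturality (Spec.map (f.appLE V U e))
    ((restrictFunctorIsoPullback hV.fromSpec).inv.app F) ⊤ ⊤ le_top (pullSectLE hV.fromSpec F V ⊤ le2 m)
  rw [restrictFunctorIsoPullback_inv_app] at s5
  simp only [pullbackRestrictSpecIso, Iso.trans_hom, Iso.app_hom, Iso.symm_hom, Functor.mapIso_hom,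
    Scheme.Modules.Hom.comp_app, ConcreteCategory.comp_apply]
  have e1 : ((restrictFunctorIsoPullback hU.fromSpec).hom.app ((Scheme.Modules.pullback f).obj F)).app ⊤
      (pullSectLE f F V (hU.fromSpec ''ᵁ ⊤) (fromSpec_image_top_le f hU e) m) =
      pullSectLE hU.fromSpec ((Scheme.Modules.pullback f).obj F) (f ⁻¹ᵁ V) ⊤ le1
        (OmegaSh.pullSect f F V m) := s1
  rw [e1, s2, s3, s4, s5]


theorem sectionsSpecEquiv_symm_pullSectLE (m : Γ(F, V)) :
    (sectionsSpecEquiv ((Scheme.Modules.pullback f).obj F) hU).symm (pullSectLE f F V U e m) =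
      pullSectLE f F V (hU.fromSpec ''ᵁ ⊤) (fromSpec_image_top_le f hU e) m := by
  rw [LinearEquiv.symm_apply_eq]
  exact (pullSectLE_res f F V (hU.fromSpec ''ᵁ ⊤) U (fromSpec_image_top_le f hU e)
    (fromSpec_image_top' hU).ge m).symm

theorem sectionsSpecEquiv_res (m : Γ(F, V)) :
    sectionsSpecEquiv F hV (F.presheaf.map (homOfLE (fromSpec_image_top' hV).le).op m) = m := by
  change F.presheaf.map _ (F.presheaf.map _ m) = m
  rw [← ConcreteCategory.comp_apply, ← Functor.map_comp]
  exact resM_refl m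

theorem inv_fromTildeΓ_app_top {R : CommRingCat.{u}} (N : (Spec R).Modules) [IsIso N.fromTildeΓ]
    (n : Γ(N, ⊤)) :
    (inv N.fromTildeΓ).app ⊤ n = tilde.adjunction.unit.app (gammaSpec N) n := by
  have h := tilde.adjunction.right_triangle_components N
  have h2 : (N.fromTildeΓ).app ⊤ (tilde.adjunction.unit.app (gammaSpec N) n) = n := congr($h n)
  rw [← h2, ← ConcreteCategory.comp_apply, ← Scheme.Modules.Hom.comp_app, IsIso.hom_inv_id]
  rw [h2]
  rfl


/-- **Unit tracking for affine base change of pullbacks**: the isomorphism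
`Γ(f^*F, U) ≃ Γ(X,U) ⊗ Γ(F,V)` sends the pullback of a section `m` to `1 ⊗ m`. -/
theorem pullbackSectionsEquiv_pullSectLE [F.IsQuasicoherent] (m : Γ(F, V)) :
    letI := (f.appLE V U e).hom.toAlgebra
    pullbackSectionsEquiv f F hU hV e (pullSectLE f F V U e m) =
      (1 : Γ(X, U)) ⊗ₜ[Γ(Y, V)] m := by
  letI := (f.appLE V U e).hom.toAlgebra
  unfold pullbackSectionsEquiv
  rw [LinearEquiv.trans_apply, LinearEquiv.trans_apply, sectionsSpecEquiv_symm_pullSectLE]
  haveI : IsIso (F.restrict hV.fromSpec).fromTildeΓ := inferInstance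
  set m₀ : Γ(F.restrict hV.fromSpec, ⊤) :=
    F.presheaf.map (homOfLE (fromSpec_image_top' hV).le).op m with hm₀
  have t1 := pullbackRestrictSpecIso_hom_app f F hU hV e m
  have t2 := pullSectLE_naturality (Spec.map (f.appLE V U e)) (inv (F.restrict hV.fromSpec).fromTildeΓ)
    ⊤ ⊤ le_top m₀
  rw [inv_fromTildeΓ_app_top] at t2
  have t3 := pullbackTildeIso_pullSect (f.appLE V U e) (gammaSpec (F.restrict hV.fromSpec)) m₀
  rw [CategoryTheory.Iso.toLinearEquiv_apply]
  unfold pullbackSectionsIso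
  simp only [Iso.trans_hom, Functor.mapIso_hom, Iso.symm_hom, Iso.app_hom, Iso.app_inv,
    ModuleCat.hom_comp, LinearMap.comp_apply]
  have g1 : (ModuleCat.Hom.hom
      ((moduleSpecΓFunctor (R := Γ(X, U))).map
        ((pullbackRestrictSpecIso f F hU hV e).hom ≫
          (Scheme.Modules.pullback (Spec.map (f.appLE V U e))).map
            (asIso (F.restrict hV.fromSpec).fromTildeΓ).inv ≫
          (pullbackTildeIso (f.appLE V U e)).hom.app (gammaSpec (F.restrict hV.fromSpec)))))
      (pullSectLE f F V (hU.fromSpec ''ᵁ ⊤) (fromSpec_image_top_le f hU e) m) =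
      (tilde.adjunction (R := Γ(X, U))).unit.app
        ((ModuleCat.extendScalars (f.appLE V U e).hom).obj (gammaSpec (F.restrict hV.fromSpec)))
        (show ((ModuleCat.extendScalars (f.appLE V U e).hom).obj (gammaSpec (F.restrict hV.fromSpec)))
          from (ModuleCat.extendRestrictScalarsAdj (f.appLE V U e).hom).unit.app
            (gammaSpec (F.restrict hV.fromSpec)) m₀) := by
    change ((pullbackTildeIso (f.appLE V U e)).hom.app (gammaSpec (F.restrict hV.fromSpec))).app ⊤
      (((Scheme.Modules.pullback (Spec.map (f.appLE V U e))).map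
            (inv (F.restrict hV.fromSpec).fromTildeΓ)).app ⊤
        ((pullbackRestrictSpecIso f F hU hV e).hom.app ⊤
          (pullSectLE f F V (hU.fromSpec ''ᵁ ⊤) (fromSpec_image_top_le f hU e) m))) = _
    rw [t1, t2, ← t3]
    congr 1
    exact resM_refl _
  have g2 : ∀ (M' : ModuleCat.{u} Γ(X, U)) (y : M'),
      (tilde.toTildeΓNatIso.inv.app M') (tilde.adjunction.unit.app M' y) = y := fun M' y => by
    change (tilde.toTildeΓNatIso.hom.app M' ≫ tilde.toTildeΓNatIso.inv.app M') y = y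
    rw [Iso.hom_inv_id_app]
    rfl
  erw [g1, g2]
  exact congrArg (fun z => (1 : Γ(X, U)) ⊗ₜ[Γ(Y, V)] z) (sectionsSpecEquiv_res F hV m)

end Affine
end Groth.Agent.H44
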