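-- helper44: bijectivity of m ↦ 1 ⊗ m and of the unit F ⟶ j_* j^* F on affine opens when the ideal kills F
import Groth.Agent.H44.PullUnit
import Groth.Agent.H44.FittSupport
import Groth.Agent.H12.QCohIso
import Groth.Agent.H8.PushQCoh

set_option autoImplicit false
universe u
open CategoryTheory Opposite AlgebraicGeometry TopologicalSpace TensorProduct Scheme.Modules

namespace Groth.Agent.H44

section Alg
variable {A B : Type u} [CommRing A] [CommRing B] [Algebra A B] (M : Type u) [AddCommGroup M]
  [Module A M]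

/-- If `A → B` is surjective and its kernel kills `M`, then `m ↦ 1 ⊗ m : M → B ⊗[A] M` is bijective. -/
theorem bijective_one_tmul (hs : Function.Surjective (algebraMap A B))
    (hk : ∀ a : A, algebraMap A B a = 0 → ∀ m : M, a • m = 0) :
    Function.Bijective (fun m : M => (1 : B) ⊗ₜ[A] m) := by
  -- the action of `B` on `M`
  have hwd : ∀ a a' : A, algebraMap A B a = algebraMap A B a' → ∀ m : M, a • m = a' • m := by
    intro a a' h m
    have := hk (a - a') (by rw [map_sub, h, sub_self]) m
    rwa [sub_smul, sub_eq_zero] at this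
  let act : B → M → M := fun b m => (Function.surjInv hs b) • m
  have hact : ∀ (a : A) (m : M), act (algebraMap A B a) m = a • m := fun a m =>
    hwd _ _ (Function.surjInv_eq hs _) m
  let μ : B →ₗ[A] M →ₗ[A] M :=
    { toFun := fun b =>
        { toFun := act b
          map_add' := fun m m' => smul_add _ _ _
          map_smul' := fun a m => smul_comm _ _ _ }
      map_add' := fun b b' => by
        ext m
        obtain ⟨a, rfl⟩ := hs b
        obtain ⟨a', rfl⟩ := hs b'
        change act (algebraMap A B a + algebraMap A B a') m = act _ m + act _ m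
        rw [← map_add, hact, hact, hact, add_smul]
      map_smul' := fun a b => by
        ext m
        obtain ⟨a', rfl⟩ := hs b
        change act (a • algebraMap A B a') m = a • act _ m
        rw [Algebra.smul_def, ← map_mul, hact, hact, mul_smul] }
  have hμ1 : ∀ m : M, TensorProduct.lift μ ((1 : B) ⊗ₜ[A] m) = m := fun m => by
    rw [TensorProduct.lift.tmul]
    change act 1 m = m
    rw [← map_one (algebraMap A B), hact, one_smul]
  refine ⟨fun m m' h => ?_, fun t => ?_⟩
  · have := congrArg (TensorProduct.lift μ) h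
    simpa only [hμ1] using this
  · induction t using TensorProduct.induction_on with
    | zero => exact ⟨0, TensorProduct.tmul_zero _ _⟩
    | tmul b m =>
      obtain ⟨a, rfl⟩ := hs b
      refine ⟨a • m, ?_⟩
      change (1 : B) ⊗ₜ[A] (a • m) = _
      rw [← TensorProduct.smul_tmul, Algebra.smul_def, mul_one]
    | add x y hx hy =>
      obtain ⟨m, hm⟩ := hx
      obtain ⟨m', hm'⟩ := hy
      exact ⟨m + m', by change (1 : B) ⊗ₜ[A] (m + m') = _; rw [TensorProduct.tmul_add]; exact congr($hm + $hm')⟩

end Alg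

end Groth.Agent.H44

namespace Groth.Agent.H44

section Main
variable {X : Scheme.{u}} (F : X.Modules) [F.IsQuasicoherent] (J : X.IdealSheafData)

theorem unit_app_bijective_of_ideal_le_annihilator {U : X.Opens} (hU : IsAffineOpen U)
    (hJ : J.ideal ⟨U, hU⟩ ≤ Module.annihilator Γ(X, U) Γ(F, U)) :
    Function.Bijective (((pullbackPushforwardAdjunction J.subschemeι).unit.app F).app U) := by
  have hW : IsAffineOpen (J.subschemeι ⁻¹ᵁ U) := hU.preimage J.subschemeι
  letI := (J.subschemeι.appLE U (J.subschemeι ⁻¹ᵁ U) le_rfl).hom.toAlgebra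
  have halg : (algebraMap Γ(X, U) Γ(J.subscheme, J.subschemeι ⁻¹ᵁ U)) = (J.subschemeι.app U).hom := by
    change (J.subschemeι.appLE U (J.subschemeι ⁻¹ᵁ U) le_rfl).hom = _
    rw [← Scheme.Hom.app_eq_appLE]
  have hE : ∀ m : Γ(F, U), pullbackSectionsEquiv J.subschemeι F hW hU le_rfl
      (OmegaSh.pullSect J.subschemeι F U m) =
      (1 : Γ(J.subscheme, J.subschemeι ⁻¹ᵁ U)) ⊗ₜ[Γ(X, U)] m := by
    intro m
    have := pullbackSectionsEquiv_pullSectLE J.subschemeι F hW hU le_rfl m
    rwa [pullSectLE_self] at this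
  have hb := bijective_one_tmul (A := Γ(X, U)) (B := Γ(J.subscheme, J.subschemeι ⁻¹ᵁ U)) Γ(F, U)
    (by rw [halg]; exact J.subschemeι_app_surjective ⟨U, hU⟩)
    (by
      intro a ha m
      have ha' : a ∈ RingHom.ker (J.subschemeι.app U).hom := by
        rw [RingHom.mem_ker, ← halg]; exact ha
      rw [J.ker_subschemeι_app ⟨U, hU⟩] at ha'
      exact Module.mem_annihilator.mp (hJ ha') m)
  have hfun : ∀ m : Γ(F, U), ((pullbackPushforwardAdjunction J.subschemeι).unit.app F).app U m =
      OmegaSh.pullSect J.subschemeι F U m := fun m => rfl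
  refine ⟨fun m m' h => hb.1 ?_, fun t => ?_⟩
  · change (1 : Γ(J.subscheme, J.subschemeι ⁻¹ᵁ U)) ⊗ₜ[Γ(X, U)] m = 1 ⊗ₜ[Γ(X, U)] m'
    rw [hfun, hfun] at h
    rw [← hE m, ← hE m', h]
  · let t' : Γ((Scheme.Modules.pullback J.subschemeι).obj F, J.subschemeι ⁻¹ᵁ U) := t
    obtain ⟨m, hm⟩ := hb.2 (pullbackSectionsEquiv J.subschemeι F hW hU le_rfl t')
    refine ⟨m, ?_⟩
    rw [hfun]
    change OmegaSh.pullSect J.subschemeι F U m = t'
    apply (pullbackSectionsEquiv J.subschemeι F hW hU le_rfl).injective
    rw [hE m]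
    exact hm

end Main
end Groth.Agent.H44
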