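import Groth.Agent.H44.DerRestrict

/-!
# Local structure of an arbitrary universal derivation (helper44)

* `exists_iso_of_isUniversal` : two universal derivations for the same morphism are uniquely isomorphic.
* `exists_kaehler_equiv_of_isUniversal` : for ANY morphism `f` and any universal `(Ω', d)`, on an affine chart
  `U ≤ f⁻¹ V` one has `Γ(Ω', U) ≃ Ω[Γ(X,U)/Γ(Y,V)]` carrying `d s` to `D s`.
-/

set_option autoImplicit false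
universe u
open CategoryTheory Opposite AlgebraicGeometry TopologicalSpace TensorProduct Scheme.Modules

namespace Groth.Agent.H44

section
variable {X Y : Scheme.{u}} {f : X ⟶ Y} {Ω₁ Ω₂ Ω₃ : X.Modules}

theorem postcomp_comp (d : OmegaSh.Der f Ω₁) (α : Ω₁ ⟶ Ω₂) (β : Ω₂ ⟶ Ω₃) :
    d.postcomp (α ≫ β).val = (d.postcomp α.val).postcomp β.val := rfl

theorem postcomp_id (d : OmegaSh.Der f Ω₁) : d.postcomp (𝟙 Ω₁ : Ω₁ ⟶ Ω₁).val = d := rfl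

/-- Two universal derivations are isomorphic. -/
theorem exists_iso_of_isUniversal (d₁ : OmegaSh.Der f Ω₁) (hd₁ : OmegaSh.IsUniversal d₁)
    (d₂ : OmegaSh.Der f Ω₂) (hd₂ : OmegaSh.IsUniversal d₂) :
    ∃ ε : Ω₁ ≅ Ω₂, d₁.postcomp ε.hom.val = d₂ ∧ d₂.postcomp ε.inv.val = d₁ := by
  obtain ⟨α, hα, -⟩ := hd₁ Ω₂ d₂
  obtain ⟨β, hβ, -⟩ := hd₂ Ω₁ d₁
  have h1 : α ≫ β = 𝟙 Ω₁ := by
    obtain ⟨γ, -, hγ⟩ := hd₁ Ω₁ d₁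
    rw [hγ (α ≫ β) (by change d₁.postcomp (α ≫ β).val = d₁; rw [postcomp_comp, hα, hβ]),
      hγ (𝟙 Ω₁) (postcomp_id d₁)]
  have h2 : β ≫ α = 𝟙 Ω₂ := by
    obtain ⟨γ, -, hγ⟩ := hd₂ Ω₂ d₂
    rw [hγ (β ≫ α) (by change d₂.postcomp (β ≫ α).val = d₂; rw [postcomp_comp, hβ, hα]),
      hγ (𝟙 Ω₂) (postcomp_id d₂)]
  exact ⟨⟨α, β, h1, h2⟩, hα, hβ⟩

end

theorem kaehler_transport {R A : Type u} [CommRing R] [CommRing A] (φ ψ : R →+* A) (h : φ = ψ)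
    {N : Type u} [AddCommGroup N] [Module A N] (δ : A → N)
    (H : letI := φ.toAlgebra
      ∃ Φ : N ≃ₗ[A] Ω[A⁄R], ∀ s, Φ (δ s) = KaehlerDifferential.D R A s) :
    letI := ψ.toAlgebra
    ∃ Φ : N ≃ₗ[A] Ω[A⁄R], ∀ s, Φ (δ s) = KaehlerDifferential.D R A s := by
  subst h
  exact H

section
variable {X Y : Scheme.{u}} {f : X ⟶ Y} {Ω' : X.Modules} (d : OmegaSh.Der f Ω')
  {U : X.Opens} {V : Y.Opens} (hU : IsAffineOpen U) (hV : IsAffineOpen V) (e : U ≤ f ⁻¹ᵁ V)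

/-- An isomorphism of modules induces linear equivalences on sections. -/
noncomputable def secEquivOfIso {Z : Scheme.{u}} {M N : Z.Modules} (α : M ≅ N) (W : Z.Opens) :
    Γ(M, W) ≃ₗ[Γ(Z, W)] Γ(N, W) where
  toFun := α.hom.app W
  invFun := α.inv.app W
  map_add' := map_add _
  map_smul' r x := Hom.app_smul α.hom r x
  left_inv x := by
    change (α.hom.app W ≫ α.inv.app W) x = x
    rw [← Hom.comp_app, α.hom_inv_id]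
    rfl
  right_inv x := by
    change (α.inv.app W ≫ α.hom.app W) x = x
    rw [← Hom.comp_app, α.inv_hom_id]
    rfl

theorem secEquivOfIso_apply {Z : Scheme.{u}} {M N : Z.Modules} (α : M ≅ N) (W : Z.Opens)
    (m : Γ(M, W)) : secEquivOfIso α W m = α.hom.app W m := rfl

include hU hV e in
theorem quasiSeparated_ι_comp : QuasiSeparated (U.ι ≫ f) := by
  haveI : IsAffine U.toScheme := hU
  haveI : IsAffine V.toScheme := hV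
  rw [← Scheme.Hom.resLE_comp_ι f e]
  infer_instance

include hU hV e in
/-- Local description on the open subscheme `↑U`. -/
theorem exists_kaehler_equiv_restrict (hd : OmegaSh.IsUniversal d)
    (eg : (⊤ : U.toScheme.Opens) ≤ (U.ι ≫ f) ⁻¹ᵁ V) :
    letI := ((U.ι ≫ f).appLE V ⊤ eg).hom.toAlgebra
    ∃ Ψ : Γ(Ω'.restrict U.ι, (⊤ : U.toScheme.Opens)) ≃ₗ[Γ(U.toScheme, ⊤)]
        Ω[Γ(U.toScheme, ⊤)⁄Γ(Y, V)],
      ∀ s : Γ(U.toScheme, ⊤), Ψ ((restrictDer U.ι d).app ⊤ s) =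
        KaehlerDifferential.D Γ(Y, V) Γ(U.toScheme, ⊤) s := by
  haveI := quasiSeparated_ι_comp hU hV e
  haveI : IsAffine U.toScheme := hU
  letI := ((U.ι ≫ f).appLE V ⊤ eg).hom.toAlgebra
  obtain ⟨ε, hε, -⟩ := exists_iso_of_isUniversal (restrictDer U.ι d)
    (isUniversal_restrictDer U.ι d hd) (OmegaSh.dOmega (U.ι ≫ f)) (isUniversal_dOmega (U.ι ≫ f))
  obtain ⟨Φg, hΦg⟩ := exists_omega_kaehler_equiv (U.ι ≫ f) (isAffineOpen_top U.toScheme) hV eg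
  refine ⟨secEquivOfIso ε ⊤ ≪≫ₗ Φg, fun s => ?_⟩
  rw [LinearEquiv.trans_apply, secEquivOfIso_apply, ← postcomp_app, hε, dOmega_app, hΦg]

theorem appLE_ι_comp (eg : (⊤ : U.toScheme.Opens) ≤ (U.ι ≫ f) ⁻¹ᵁ V)
    (e' : U.ι ''ᵁ ⊤ ≤ f ⁻¹ᵁ V) :
    ((U.ι ≫ f).appLE V ⊤ eg).hom = (f.appLE V (U.ι ''ᵁ ⊤) e').hom := by
  have h1 : (U.ι ≫ f).appLE V ⊤ eg =
      f.appLE V (U.ι ''ᵁ ⊤) e' ≫ U.ι.appLE (U.ι ''ᵁ ⊤) ⊤ (U.ι.preimage_image_eq ⊤).ge :=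
    (Scheme.Hom.appLE_comp_appLE _ _ _ _ _ _ _).symm
  rw [h1, Scheme.Opens.ι_appLE]
  have h2 : X.presheaf.map (homOfLE (le_refl (U.ι ''ᵁ ⊤))).op = 𝟙 _ := X.presheaf.map_id _
  change (f.appLE V (U.ι ''ᵁ ⊤) e' ≫ X.presheaf.map (homOfLE (le_refl (U.ι ''ᵁ ⊤))).op).hom = _
  rw [h2, Category.comp_id]

include hU hV e in
theorem exists_kaehler_equiv_image_top (hd : OmegaSh.IsUniversal d) (e' : U.ι ''ᵁ ⊤ ≤ f ⁻¹ᵁ V) :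
    letI := (f.appLE V (U.ι ''ᵁ ⊤) e').hom.toAlgebra
    ∃ Φ : Γ(Ω', U.ι ''ᵁ ⊤) ≃ₗ[Γ(X, U.ι ''ᵁ ⊤)] Ω[Γ(X, U.ι ''ᵁ ⊤)⁄Γ(Y, V)],
      ∀ s, Φ (d.app (U.ι ''ᵁ ⊤) s) = KaehlerDifferential.D Γ(Y, V) Γ(X, U.ι ''ᵁ ⊤) s := by
  have eg : (⊤ : U.toScheme.Opens) ≤ (U.ι ≫ f) ⁻¹ᵁ V := fun x _ => e x.2
  refine kaehler_transport (R := Γ(Y, V)) (A := Γ(X, U.ι ''ᵁ ⊤))
    ((U.ι ≫ f).appLE V ⊤ eg).hom (f.appLE V (U.ι ''ᵁ ⊤) e').hom (appLE_ι_comp eg e')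
    (N := Γ(Ω', U.ι ''ᵁ ⊤)) (fun s => d.app (U.ι ''ᵁ ⊤) s) ?_
  letI algU : Algebra Γ(Y, V) Γ(U.toScheme, ⊤) := ((U.ι ≫ f).appLE V ⊤ eg).hom.toAlgebra
  letI algX : Algebra Γ(Y, V) Γ(X, U.ι ''ᵁ ⊤) := ((U.ι ≫ f).appLE V ⊤ eg).hom.toAlgebra
  obtain ⟨Ψ, hΨ⟩ := exists_kaehler_equiv_restrict d hU hV e hd eg
  let Ψ' : Γ(Ω', U.ι ''ᵁ ⊤) → Ω[Γ(X, U.ι ''ᵁ ⊤)⁄Γ(Y, V)] := fun m => Ψ m
  let Ψi : Ω[Γ(X, U.ι ''ᵁ ⊤)⁄Γ(Y, V)] → Γ(Ω', U.ι ''ᵁ ⊤) := fun ω => Ψ.symm ω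
  have hadd : ∀ m m' : Γ(Ω', U.ι ''ᵁ ⊤), Ψ' (m + m') = Ψ' m + Ψ' m' := fun m m' => map_add Ψ m m'
  have hsm : ∀ (r : Γ(X, U.ι ''ᵁ ⊤)) (m : Γ(Ω', U.ι ''ᵁ ⊤)), Ψ' (r • m) = r • Ψ' m := by
    intro r m
    let r' : Γ(U.toScheme, ⊤) := r
    let m' : Γ(Ω'.restrict U.ι, (⊤ : U.toScheme.Opens)) := m
    have h1 : Ψ (r' • m') = r' • Ψ m' := _root_.map_smul Ψ r' m'
    refine Eq.trans ?_ (h1.trans rfl)
    change Ψ _ = Ψ _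
    congr 1
    change _ = ((U.ι.appIso ⊤).inv r • m : Γ(Ω', U.ι ''ᵁ ⊤))
    rw [Scheme.Opens.ι_appIso]
    rfl
  let Φ : Γ(Ω', U.ι ''ᵁ ⊤) ≃ₗ[Γ(X, U.ι ''ᵁ ⊤)] Ω[Γ(X, U.ι ''ᵁ ⊤)⁄Γ(Y, V)] :=
    { toFun := Ψ', invFun := Ψi, map_add' := hadd, map_smul' := hsm,
      left_inv := fun m => Ψ.left_inv m, right_inv := fun ω => Ψ.right_inv ω }
  refine ⟨Φ, fun s => ?_⟩
  have := hΨ s
  rw [restrictDer_app, Scheme.Opens.ι_appIso] at this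
  exact this

include hU hV in
/-- **Local structure of a universal derivation**: for ANY morphism `f : X ⟶ Y` and any universal
`Y`-derivation `d : O_X → Ω'`, on an affine chart `U ≤ f⁻¹ V` the sections `Γ(Ω', U)` are the Kähler
differentials `Ω[Γ(X,U)/Γ(Y,V)]`, compatibly with the differentials. -/
theorem exists_kaehler_equiv_of_isUniversal (hd : OmegaSh.IsUniversal d) :
    letI := (f.appLE V U e).hom.toAlgebra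
    ∃ Φ : Γ(Ω', U) ≃ₗ[Γ(X, U)] Ω[Γ(X, U)⁄Γ(Y, V)],
      ∀ s, Φ (d.app U s) = KaehlerDifferential.D Γ(Y, V) Γ(X, U) s := by
  have key : ∀ (U' : X.Opens) (hU' : U' = U) (e' : U' ≤ f ⁻¹ᵁ V),
      (letI := (f.appLE V U' e').hom.toAlgebra
      ∃ Φ : Γ(Ω', U') ≃ₗ[Γ(X, U')] Ω[Γ(X, U')⁄Γ(Y, V)],
        ∀ s, Φ (d.app U' s) = KaehlerDifferential.D Γ(Y, V) Γ(X, U') s) →
      (letI := (f.appLE V U e).hom.toAlgebra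
      ∃ Φ : Γ(Ω', U) ≃ₗ[Γ(X, U)] Ω[Γ(X, U)⁄Γ(Y, V)],
        ∀ s, Φ (d.app U s) = KaehlerDifferential.D Γ(Y, V) Γ(X, U) s) := by
    intro U' hU' e' H
    subst hU'
    exact H
  exact key (U.ι ''ᵁ ⊤) U.ι_image_top (U.ι_image_top.le.trans e)
    (exists_kaehler_equiv_image_top d hU hV e hd _)

end

end Groth.Agent.H44
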