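import Groth.Agent.H44.OmegaRestrictAux
import Mathlib.Topology.Sheaves.SheafCondition.Sites

/-!
# Morphisms of `O_X`-modules from data on a basis of opens (helper44)

* `homOfBasis B hB φ hφ : M ⟶ N` from `Γ(X, B i)`-linear maps `φ i : Γ(M, B i) → Γ(N, B i)` compatible with
  restriction between members of the basis; `homOfBasis_app`.
* `hom_ext_of_isBasis` : two morphisms agreeing on a basis are equal.
-/

set_option autoImplicit false
universe u
open CategoryTheory Opposite AlgebraicGeometry TopologicalSpace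

namespace Groth.Agent.H44

section
variable {X : Scheme.{u}} {M N : X.Modules}

theorem modules_section_ext (F : X.Modules) {W : X.Opens} (s t : Γ(F, W))
    (h : ∀ x ∈ W, ∃ (V : X.Opens) (hV : V ≤ W), x ∈ V ∧
      F.presheaf.map (homOfLE hV).op s = F.presheaf.map (homOfLE hV).op t) : s = t := by
  refine TopCat.Presheaf.IsSheaf.section_ext F.isSheaf (U := op W) fun x hx => ?_
  obtain ⟨V, hV, hxV, e⟩ := h x hx
  exact ⟨V, hV, hxV, e⟩

theorem hom_app_presheaf_map (φ : M ⟶ N) {U V : X.Opens} (h : V ≤ U) (m : Γ(M, U)) :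
    φ.app V (M.presheaf.map (homOfLE h).op m) = N.presheaf.map (homOfLE h).op (φ.app U m) :=
  congr($(φ.mapPresheaf.naturality (homOfLE h).op) m)

theorem presheaf_map_smul (F : X.Modules) {U V : X.Opens} (h : V ≤ U) (r : Γ(X, U)) (m : Γ(F, U)) :
    F.presheaf.map (homOfLE h).op (r • m) =
      X.presheaf.map (homOfLE h).op r • F.presheaf.map (homOfLE h).op m :=
  F.val.map_smul (homOfLE h).op r m

variable {ι : Type*} (B : ι → X.Opens) (hB : Opens.IsBasis (Set.range B))

include hB in
/-- Two morphisms of modules agreeing on a basis are equal. -/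
theorem hom_ext_of_isBasis (φ ψ : M ⟶ N)
    (h : ∀ i (m : Γ(M, B i)), φ.app (B i) m = ψ.app (B i) m) : φ = ψ := by
  refine Scheme.Modules.hom_ext _ _ fun U => ?_
  ext s
  refine modules_section_ext N _ _ fun x hx => ?_
  obtain ⟨W, ⟨i, rfl⟩, hxW, hWU⟩ := Opens.isBasis_iff_nbhd.mp hB hx
  refine ⟨B i, hWU, hxW, ?_⟩
  rw [← hom_app_presheaf_map, ← hom_app_presheaf_map, h]

variable (φ : ∀ i, Γ(M, B i) →ₗ[Γ(X, B i)] Γ(N, B i))
  (hφ : ∀ (i j : ι) (h : B j ≤ B i) (m : Γ(M, B i)),
    φ j (M.presheaf.map (homOfLE h).op m) = N.presheaf.map (homOfLE h).op (φ i m))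

/-- the morphism on the basis, as a natural transformation -/
noncomputable def homOfBasisNat :
    (inducedFunctor B).op ⋙ M.presheaf ⟶ (inducedFunctor B).op ⋙ N.presheaf where
  app i := AddCommGrpCat.ofHom (φ i.unop).toAddMonoidHom
  naturality := by
    intro i j g
    ext m
    exact hφ i.unop j.unop (leOfHom g.unop.hom) m

/-- the morphism on underlying abelian presheaves -/
noncomputable def homOfBasisPre : M.presheaf ⟶ N.presheaf :=
  TopCat.Sheaf.restrictHomEquivHom M.presheaf
    (⟨N.presheaf, N.isSheaf⟩ : TopCat.Sheaf AddCommGrpCat X.toTopCat) hB (homOfBasisNat B φ hφ)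

theorem homOfBasisPre_app (i : ι) (m : Γ(M, B i)) :
    (homOfBasisPre B hB φ hφ).app (op (B i)) m = φ i m := by
  have := TopCat.Sheaf.extend_hom_app M.presheaf
    (⟨N.presheaf, N.isSheaf⟩ : TopCat.Sheaf AddCommGrpCat X.toTopCat) hB (homOfBasisNat B φ hφ) i
  exact ConcreteCategory.congr_hom this m

theorem homOfBasisPre_res {V V' : X.Opens} (h : V' ≤ V) (s : Γ(M, V)) :
    (homOfBasisPre B hB φ hφ).app (op V') (M.presheaf.map (homOfLE h).op s) =
      N.presheaf.map (homOfLE h).op ((homOfBasisPre B hB φ hφ).app (op V) s) :=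
  ConcreteCategory.congr_hom ((homOfBasisPre B hB φ hφ).naturality (homOfLE h).op) s

theorem homOfBasisPre_smul (V : X.Opens) (r : Γ(X, V)) (s : Γ(M, V)) :
    (homOfBasisPre B hB φ hφ).app (op V) (r • s) = r • (homOfBasisPre B hB φ hφ).app (op V) s := by
  refine modules_section_ext N _ _ fun x hx => ?_
  obtain ⟨W, ⟨i, rfl⟩, hxW, hWU⟩ := Opens.isBasis_iff_nbhd.mp hB hx
  refine ⟨B i, hWU, hxW, ?_⟩
  rw [← homOfBasisPre_res, presheaf_map_smul, presheaf_map_smul, ← homOfBasisPre_res,
    homOfBasisPre_app, homOfBasisPre_app, map_smul]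

/-- The morphism `M ⟶ N` defined by compatible linear maps on a basis. -/
noncomputable def homOfBasis : M ⟶ N :=
  ⟨PresheafOfModules.homMk (homOfBasisPre B hB φ hφ)
    (fun V r s => homOfBasisPre_smul B hB φ hφ V.unop r s)⟩

theorem homOfBasis_app (i : ι) (m : Γ(M, B i)) :
    (homOfBasis B hB φ hφ).app (B i) m = φ i m :=
  homOfBasisPre_app B hB φ hφ i m

end
end Groth.Agent.H44
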