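import Groth.Agent.H44.OmegaD
import Groth.Agent.H44.HomOfBasis

/-!
# `dOmega f` is a universal derivation (helper44)
-/

set_option autoImplicit false
universe u
open CategoryTheory Opposite AlgebraicGeometry TopologicalSpace TensorProduct Scheme.Modules

namespace Groth.Agent.H44

section
variable {X Y : Scheme.{u}} (f : X ⟶ Y)

/-- Charts: an affine open of `X` mapping into an affine open of `Y`. -/
structure OmegaChart where
  U : X.Opens
  V : Y.Opens
  hU : IsAffineOpen U
  hV : IsAffineOpen V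
  le : U ≤ f ⁻¹ᵁ V

theorem isBasis_omegaChart : Opens.IsBasis (Set.range (fun c : OmegaChart f => c.U)) := by
  rw [Opens.isBasis_iff_nbhd]
  intro W x hx
  obtain ⟨V, hV, hxV, -⟩ := Opens.isBasis_iff_nbhd.mp Y.isBasis_affineOpens
    (show f.base x ∈ (⊤ : Y.Opens) from trivial)
  obtain ⟨U, hU, hxU, hUW⟩ := Opens.isBasis_iff_nbhd.mp X.isBasis_affineOpens
    (show x ∈ W ⊓ f ⁻¹ᵁ V from ⟨hx, hxV⟩)
  exact ⟨U, ⟨⟨U, V, hU, hV, hUW.trans inf_le_right⟩, rfl⟩, hxU, hUW.trans inf_le_left⟩

variable {f} {F : X.Modules} (D : OmegaSh.Der f F)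

theorem Der_app_mul (U : X.Opens) (a b : Γ(X, U)) :
    D.app U (a * b) = a • D.app U b + b • D.app U a := D.d_mul a b

theorem Der_app_map {U V : X.Opens} (e : V ≤ U) (s : Γ(X, U)) :
    D.app V (X.presheaf.map (homOfLE e).op s) = F.presheaf.map (homOfLE e).op (D.app U s) :=
  D.d_map (homOfLE e).op s

theorem Der_app_app (V : Y.Opens) (c : Γ(Y, V)) : D.app (f ⁻¹ᵁ V) (f.app V c) = 0 :=
  D.d_app (X := op V) c

theorem Der_app_appLE {U : X.Opens} {V : Y.Opens} (e : U ≤ f ⁻¹ᵁ V) (r : Γ(Y, V)) :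
    D.app U (f.appLE V U e r) = 0 := by
  rw [appLE_eq_res_app, Der_app_map, Der_app_app, map_zero]

variable (f) in
theorem span_range_dSect [QuasiSeparated f] (c : OmegaChart f) :
    Submodule.span Γ(X, c.U) (Set.range (OmegaSh.dSect f c.U)) = ⊤ := by
  obtain ⟨U, V, hU, hV, e⟩ := c
  letI alg1 : Algebra Γ(Y, V) Γ(X, U) := (f.appLE V U e).hom.toAlgebra
  obtain ⟨Φ, hΦ⟩ := exists_omega_kaehler_equiv f hU hV e
  have h1 : Set.range (OmegaSh.dSect f U) =
      Φ.symm.toLinearMap '' Set.range (KaehlerDifferential.D Γ(Y, V) Γ(X, U)) := by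
    rw [← Set.range_comp]
    congr 1
    funext s
    change _ = Φ.symm (KaehlerDifferential.D Γ(Y, V) Γ(X, U) s)
    rw [← hΦ, Φ.symm_apply_apply]
  change Submodule.span Γ(X, U) (Set.range (OmegaSh.dSect f U)) = ⊤
  rw [h1, ← Submodule.map_span, KaehlerDifferential.span_range_derivation, Submodule.map_top,
    LinearMap.range_eq_top]
  exact Φ.symm.surjective

theorem exists_linearMap_dSect [QuasiSeparated f] (c : OmegaChart f) :
    ∃ φ : Γ(Omega.sheaf f, c.U) →ₗ[Γ(X, c.U)] Γ(F, c.U),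
      ∀ s, φ (OmegaSh.dSect f c.U s) = D.app c.U s := by
  obtain ⟨U, V, hU, hV, e⟩ := c
  letI alg1 : Algebra Γ(Y, V) Γ(X, U) := (f.appLE V U e).hom.toAlgebra
  letI modR : Module Γ(Y, V) Γ(F, U) := Module.compHom _ (algebraMap Γ(Y, V) Γ(X, U))
  haveI : IsScalarTower Γ(Y, V) Γ(X, U) Γ(F, U) :=
    IsScalarTower.of_algebraMap_smul fun _ _ => rfl
  obtain ⟨Φ, hΦ⟩ := exists_omega_kaehler_equiv f hU hV e
  let D₀ : Γ(X, U) →ₗ[Γ(Y, V)] Γ(F, U) :=
    { toFun := D.app U
      map_add' := map_add _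
      map_smul' := fun r a => by
        rw [Algebra.smul_def, Der_app_mul]
        change _ • _ + a • D.app U (f.appLE V U e r) = _
        rw [Der_app_appLE, smul_zero, add_zero]
        rfl }
  let d' : Derivation Γ(Y, V) Γ(X, U) Γ(F, U) := Derivation.mk' D₀ (Der_app_mul D U)
  refine ⟨d'.liftKaehlerDifferential ∘ₗ Φ.toLinearMap, fun s => ?_⟩
  change d'.liftKaehlerDifferential (Φ (OmegaSh.dSect f U s)) = _
  rw [hΦ, Derivation.liftKaehlerDifferential_comp_D]
  rfl

theorem dOmega_app [QuasiSeparated f] (U : X.Opens) (s : Γ(X, U)) :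
    (OmegaSh.dOmega f).app U s = OmegaSh.dSect f U s := rfl

theorem postcomp_app {Ω' : X.Modules} (d : OmegaSh.Der f Ω') (α : Ω' ⟶ F) (U : X.Opens) (s : Γ(X, U)) :
    OmegaSh.Der.app (d.postcomp α.val) U s = α.app U (d.app U s) := rfl

theorem Der_ext {D D' : OmegaSh.Der f F} (h : ∀ (U : X.Opens) (s : Γ(X, U)), D.app U s = D'.app U s) :
    D = D' := by
  apply PresheafOfModules.Derivation.ext
  funext U
  ext s
  exact h U.unop s

variable (f) in
/-- **`dOmega f` is a universal `Y`-derivation.** -/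
theorem isUniversal_dOmega [QuasiSeparated f] : OmegaSh.IsUniversal (OmegaSh.dOmega f) := by
  intro F D
  choose φ hφ using fun c : OmegaChart f => exists_linearMap_dSect D c
  have hspan := span_range_dSect f
  have hcompat : ∀ (c c' : OmegaChart f) (h : c'.U ≤ c.U) (m : Γ(Omega.sheaf f, c.U)),
      φ c' ((Omega.sheaf f).presheaf.map (homOfLE h).op m) =
        F.presheaf.map (homOfLE h).op (φ c m) := by
    intro c c' h m
    have hm : m ∈ Submodule.span Γ(X, c.U) (Set.range (OmegaSh.dSect f c.U)) := by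
      rw [hspan]; trivial
    induction hm using Submodule.span_induction with
    | mem x hx =>
      obtain ⟨s, rfl⟩ := hx
      have := OmegaSh.dSect_map f h s
      erw [← this]
      rw [hφ, hφ, Der_app_map]
    | zero => simp
    | add x y _ _ hx hy => rw [map_add, map_add, hx, hy, map_add, map_add]
    | smul a x _ hx => rw [presheaf_map_smul, _root_.map_smul, hx, _root_.map_smul (φ c), presheaf_map_smul]
  refine ⟨homOfBasis (fun c : OmegaChart f => c.U) (isBasis_omegaChart f) φ hcompat, ?_, ?_⟩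
  · apply Der_ext
    intro W s
    rw [postcomp_app, dOmega_app]
    refine modules_section_ext F _ _ fun x hx => ?_
    obtain ⟨_, ⟨c, rfl⟩, hxc, hcW⟩ := Opens.isBasis_iff_nbhd.mp (isBasis_omegaChart f) hx
    refine ⟨c.U, hcW, hxc, ?_⟩
    rw [← hom_app_presheaf_map, ← Der_app_map]
    have := OmegaSh.dSect_map f hcW s
    erw [← this]
    rw [homOfBasis_app (fun c : OmegaChart f => c.U) (isBasis_omegaChart f) φ hcompat c, hφ]
  · intro β hβ
    apply hom_ext_of_isBasis (fun c : OmegaChart f => c.U) (isBasis_omegaChart f)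
    intro c m
    rw [homOfBasis_app (fun c : OmegaChart f => c.U) (isBasis_omegaChart f) φ hcompat c]
    have hm : m ∈ Submodule.span Γ(X, c.U) (Set.range (OmegaSh.dSect f c.U)) := by
      rw [hspan]; trivial
    induction hm using Submodule.span_induction with
    | mem x hx =>
      obtain ⟨s, rfl⟩ := hx
      rw [hφ, ← hβ, postcomp_app, dOmega_app]
    | zero => simp
    | add x y _ _ hx hy => rw [map_add, map_add, hx, hy]
    | smul a x _ hx => rw [Scheme.Modules.Hom.app_smul, hx, _root_.map_smul (φ c)]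

end
end Groth.Agent.H44
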