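import Groth.Agent.H44.EtaleSquare
import Mathlib.AlgebraicGeometry.Morphisms.Flat
import Mathlib.RingTheory.Kaehler.TensorProduct

/-!
# Base change of differentials for universal receptacles (helper44)
-/

set_option autoImplicit false
universe u
open CategoryTheory Limits Opposite AlgebraicGeometry TopologicalSpace TensorProduct Scheme.Modules

namespace Groth.Agent.H44

section
variable {X S X' S' : Scheme.{u}} {f : X ⟶ S} {g : S' ⟶ S} {g' : X' ⟶ X} {f' : X' ⟶ S'}
  (H : IsPullback g' f' f g)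

/-- Base change charts. -/
structure BCChart (f : X ⟶ S) (g : S' ⟶ S) where
  U : X.Opens
  V : S.Opens
  V' : S'.Opens
  hU : IsAffineOpen U
  hV : IsAffineOpen V
  hV' : IsAffineOpen V'
  e : U ≤ f ⁻¹ᵁ V
  leV : V' ≤ g ⁻¹ᵁ V

/-- The open of `X'` of a base change chart. -/
def BCChart.U' (t : BCChart f g) (g' : X' ⟶ X) (f' : X' ⟶ S') : X'.Opens :=
  g' ⁻¹ᵁ t.U ⊓ f' ⁻¹ᵁ t.V'

include H in
theorem BCChart.isAffineOpen_U' (t : BCChart f g) : IsAffineOpen (t.U' g' f') := by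
  have : IsAffine _ := t.hV
  have : IsAffine _ := t.hV'
  have : IsAffine _ := t.hU
  exact .of_isIso (Scheme.Hom.isPullback_resLE H t.leV t.e rfl).isoPullback.hom

include H in
theorem exists_bcChart (x : X') : ∃ t : BCChart f g, x ∈ t.U' g' f' := by
  obtain ⟨V, hV, hxV, -⟩ := Opens.isBasis_iff_nbhd.mp S.isBasis_affineOpens
    (show f.base (g'.base x) ∈ (⊤ : S.Opens) from trivial)
  have hpt : g.base (f'.base x) = f.base (g'.base x) := by
    have := congr(($(H.w)).base x)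
    exact this.symm
  obtain ⟨V', hV', hxV', hV'V⟩ := Opens.isBasis_iff_nbhd.mp S'.isBasis_affineOpens
    (show f'.base x ∈ g ⁻¹ᵁ V from by change g.base (f'.base x) ∈ V; rw [hpt]; exact hxV)
  obtain ⟨U, hU, hxU, hUV⟩ := Opens.isBasis_iff_nbhd.mp X.isBasis_affineOpens
    (show g'.base x ∈ f ⁻¹ᵁ V from hxV)
  exact ⟨⟨U, V, V', hU, hV, hV', hUV, hV'V⟩, hxU, hxV'⟩

variable {Ω : X.Modules} (d : OmegaSh.Der f Ω) (hd : OmegaSh.IsUniversal d)
  {Ω' : X'.Modules} (d' : OmegaSh.Der f' Ω') (hd' : OmegaSh.IsUniversal d')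
  (c : (Scheme.Modules.pullback g').obj Ω ⟶ Ω') (hc : OmegaSh.IsDiffCompat g' d d' c)

include H hd hd' hc in
theorem app_bijective_of_isPullback (t : BCChart f g) : Function.Bijective (c.app (t.U' g' f')) := by
  have hW : IsAffineOpen (t.U' g' f') := t.isAffineOpen_U' H
  have le : t.U' g' f' ≤ g' ⁻¹ᵁ t.U := inf_le_left
  have e' : t.U' g' f' ≤ f' ⁻¹ᵁ t.V' := inf_le_right
  letI algRA : Algebra Γ(S, t.V) Γ(X, t.U) := (f.appLE t.V t.U t.e).hom.toAlgebra
  letI algR'A' : Algebra Γ(S', t.V') Γ(X', t.U' g' f') := (f'.appLE t.V' (t.U' g' f') e').hom.toAlgebra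
  letI algAA' : Algebra Γ(X, t.U) Γ(X', t.U' g' f') := (g'.appLE t.U (t.U' g' f') le).hom.toAlgebra
  letI algRR' : Algebra Γ(S, t.V) Γ(S', t.V') := (g.appLE t.V t.V' t.leV).hom.toAlgebra
  letI algRA' : Algebra Γ(S, t.V) Γ(X', t.U' g' f') :=
    (f.appLE t.V t.U t.e ≫ g'.appLE t.U (t.U' g' f') le).hom.toAlgebra
  haveI t1 : IsScalarTower Γ(S, t.V) Γ(X, t.U) Γ(X', t.U' g' f') := .of_algebraMap_eq' rfl
  have hcomm : f.appLE t.V t.U t.e ≫ g'.appLE t.U (t.U' g' f') le =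
      g.appLE t.V t.V' t.leV ≫ f'.appLE t.V' (t.U' g' f') e' := by
    rw [Scheme.Hom.appLE_comp_appLE, Scheme.Hom.appLE_comp_appLE]
    exact appLE_congr_hom H.w _ _ _ _
  haveI t2 : IsScalarTower Γ(S, t.V) Γ(S', t.V') Γ(X', t.U' g' f') :=
    .of_algebraMap_eq' congr($(hcomm).hom)
  have hpo := (isIso_pushoutSection_iff H t.leV t.e rfl).1
    (isIso_pushoutSection_of_isAffineOpen H t.leV t.e rfl t.hV t.hV' t.hU)
  haveI p1 : Algebra.IsPushout Γ(S, t.V) Γ(X, t.U) Γ(S', t.V') Γ(X', t.U' g' f') :=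
    CommRingCat.isPushout_iff_isPushout.mp hpo
  haveI p2 : Algebra.IsPushout Γ(S, t.V) Γ(S', t.V') Γ(X, t.U) Γ(X', t.U' g' f') := p1.symm
  obtain ⟨E, Φ', -, hμ⟩ := exists_chart_description g' d d' c hc t.hU hW le hd hd' t.hV t.hV'
    t.e e'
  have h1 := hμ (KaehlerDifferential.tensorKaehlerEquiv Γ(S, t.V) Γ(S', t.V') Γ(X, t.U)
    Γ(X', t.U' g' f')).toLinearMap (fun a' s => by
      change KaehlerDifferential.tensorKaehlerEquiv Γ(S, t.V) Γ(S', t.V') Γ(X, t.U)
        Γ(X', t.U' g' f') _ = _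
      rw [KaehlerDifferential.tensorKaehlerEquiv_tmul_D]
      rfl)
  have : (c.app (t.U' g' f') : Γ((Scheme.Modules.pullback g').obj Ω, t.U' g' f') →
      Γ(Ω', t.U' g' f')) = fun x => Φ'.symm
        (KaehlerDifferential.tensorKaehlerEquiv Γ(S, t.V) Γ(S', t.V') Γ(X, t.U)
          Γ(X', t.U' g' f') (E x)) := by
    funext x
    rw [← LinearEquiv.coe_toLinearMap (KaehlerDifferential.tensorKaehlerEquiv _ _ _ _), ← h1,
      Φ'.symm_apply_apply]
  rw [this]
  exact Φ'.symm.bijective.comp ((LinearEquiv.bijective _).comp E.bijective)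

include H hd hd' hc in
/-- **Base change**: for a cartesian square the canonical map `g'^*Ω_{X/S} ⟶ Ω_{X'/S'}` is an isomorphism. -/
theorem isIso_diffCompat_of_isPullback : IsIso c := by
  haveI := isQuasicoherent_of_isUniversal d hd
  haveI := isQuasicoherent_of_isUniversal d' hd'
  exact Groth.Agent.H12.QCohIso.isIso_of_bijective_on_cover c
    (fun t : BCChart f g => t.U' g' f') (fun x => exists_bcChart H x)
    (fun t => t.isAffineOpen_U' H)
    (fun t => app_bijective_of_isPullback H d hd d' hd' c hc t)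

end
end Groth.Agent.H44
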