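import Groth.Agent.H44.OmegaLocal
import Groth.Agent.H44.OmegaFitting
import Groth.Agent.H18.QCohLocal
import Groth.Agent.H12.QCohAbelian
import Groth.Agent.H71.QCoh.FPCriterion
import Mathlib.AlgebraicGeometry.Morphisms.FinitePresentation
import Mathlib.RingTheory.Extension.Cotangent.Basic

/-!
# Finiteness of universal receptacles of differentials (helper44)
-/

set_option autoImplicit false
universe u
open CategoryTheory Limits Opposite AlgebraicGeometry TopologicalSpace Scheme.Modules

namespace Groth.Agent.H44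

section
variable {X Y : Scheme.{u}} {f : X ⟶ Y} {Ω' : X.Modules} (d : OmegaSh.Der f Ω')
  (hd : OmegaSh.IsUniversal d)

variable (f) in
theorem isOpenCover_omegaChart : IsOpenCover (fun c : OmegaChart f => c.U) := by
  rw [IsOpenCover, eq_top_iff]
  intro x _
  obtain ⟨_, ⟨c, rfl⟩, hxU, -⟩ := Opens.isBasis_iff_nbhd.mp (isBasis_omegaChart f)
    (show x ∈ (⊤ : X.Opens) from trivial)
  exact Opens.mem_iSup.mpr ⟨c, hxU⟩

include hd in
/-- A universal receptacle of differentials is quasi-coherent. -/
theorem isQuasicoherent_of_isUniversal : Ω'.IsQuasicoherent := by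
  -- the index type must live in `Type u`
  refine Groth.Agent.H18.isQuasicoherent_of_isOpenCover Ω' (fun c : OmegaChart f => c.U)
    (isOpenCover_omegaChart f) fun c => ?_
  haveI := quasiSeparated_ι_comp c.hU c.hV c.le
  obtain ⟨ε, -, -⟩ := exists_iso_of_isUniversal (restrictDer c.U.ι d)
    (isUniversal_restrictDer c.U.ι d hd) (OmegaSh.dOmega (c.U.ι ≫ f)) (isUniversal_dOmega (c.U.ι ≫ f))
  exact Groth.Agent.H12.QCohAbelian.isQuasicoherent_of_iso ε.symm

include hd in
theorem isFiniteType_of_isUniversal [LocallyOfFiniteType f] :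
    SheafOfModules.IsFiniteType (R := X.ringCatSheaf) Ω' := by
  haveI := isQuasicoherent_of_isUniversal d hd
  refine isFiniteType_of_finite_sections_cover Ω' (fun c : OmegaChart f => c.U)
    (isOpenCover_omegaChart f) (fun c => c.hU) fun c => ?_
  letI := (f.appLE c.V c.U c.le).hom.toAlgebra
  haveI : Algebra.FiniteType Γ(Y, c.V) Γ(X, c.U) := f.finiteType_appLE c.hV c.hU c.le
  obtain ⟨Φ, -⟩ := exists_kaehler_equiv_of_isUniversal d c.hU c.hV c.le hd
  exact Module.Finite.equiv Φ.symm

include hd in
theorem isFinitePresentation_of_isUniversal [LocallyOfFinitePresentation f] :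
    SheafOfModules.IsFinitePresentation (R := X.ringCatSheaf) Ω' := by
  haveI := isQuasicoherent_of_isUniversal d hd
  refine Groth.Agent.H71.QCoh.isFinitePresentation_of_finitePresentation_sections Ω'
    (fun c : OmegaChart f => c.U) (isOpenCover_omegaChart f) (fun c => c.hU) fun c => ?_
  letI := (f.appLE c.V c.U c.le).hom.toAlgebra
  haveI : Algebra.FinitePresentation Γ(Y, c.V) Γ(X, c.U) := f.finitePresentation_appLE c.hV c.hU c.le
  obtain ⟨Φ, -⟩ := exists_kaehler_equiv_of_isUniversal d c.hU c.hV c.le hd
  exact Module.FinitePresentation.of_equiv Φ.symm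

end
end Groth.Agent.H44
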