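import Mathlib.AlgebraicGeometry.Modules.Tilde
import Mathlib.Algebra.Category.ModuleCat.ChangeOfRings
import Mathlib.RingTheory.TensorProduct.Basic

/-!
# Pullback of `M^~` along `Spec φ` is `(S ⊗_R M)^~`

* `pushforwardΓIso φ` : `(Spec φ)_* ⋙ Γ ≅ Γ ⋙ restrictScalars φ`.
* `pullbackTildeIso φ` : `tilde ⋙ (Spec φ)^* ≅ extendScalars φ ⋙ tilde` (uniqueness of left adjoints).
* `extendScalarsEquiv` : `(extendScalars (algebraMap A B)).obj N ≃ₗ[B] B ⊗[A] N`.
* `pullbackTildeIsoTensor` : `(Spec (A → B))^* (N^~) ≅ (B ⊗[A] N)^~`.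
-/

set_option autoImplicit false
universe u
open CategoryTheory Limits Opposite AlgebraicGeometry TopologicalSpace TensorProduct

namespace Groth.Agent.H44

section
variable {R S : CommRingCat.{u}} (φ : R ⟶ S)

/-- Global sections of a pushforward along `Spec φ`. -/
noncomputable def pushforwardΓIso :
    Scheme.Modules.pushforward (Spec.map φ) ⋙ moduleSpecΓFunctor (R := R) ≅
      moduleSpecΓFunctor (R := S) ⋙ ModuleCat.restrictScalars φ.hom :=
  Functor.isoWhiskerRight (pushforwardCompModulesSpecToSheafIso φ)
      (TopCat.Sheaf.forget _ _ ⋙ (evaluation _ _).obj (.op ⊤)) ≪≫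
    NatIso.ofComponents (fun M => Iso.refl _) (by intros; rfl)

/-- Pullback of `M^~` along `Spec φ` is `(S ⊗_R M)^~`, naturally in `M`. -/
noncomputable def pullbackTildeIso :
    tilde.functor R ⋙ Scheme.Modules.pullback (Spec.map φ) ≅
      ModuleCat.extendScalars φ.hom ⋙ tilde.functor S :=
  Adjunction.leftAdjointUniq
    ((tilde.adjunction.comp (Scheme.Modules.pullbackPushforwardAdjunction (Spec.map φ))).ofNatIsoRight
      (pushforwardΓIso φ))
    ((ModuleCat.extendRestrictScalarsAdj φ.hom).comp tilde.adjunction)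

end

section
variable {A B : Type u} [CommRing A] [CommRing B] [Algebra A B]

/-- `B` with its restricted `A`-module structure is `B`. -/
noncomputable def restrictSelfEquiv :
    ((ModuleCat.restrictScalars (algebraMap A B)).obj (ModuleCat.of B B)) ≃ₗ[A] B where
  toFun x := x
  invFun x := x
  map_add' _ _ := rfl
  map_smul' a x := by
    rw [ModuleCat.restrictScalars.smul_def, RingHom.id_apply]
    show algebraMap A B a * (show B from x) = a • (show B from x)
    rw [Algebra.smul_def]
  left_inv _ := rfl
  right_inv _ := rfl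

/-- The `A`-linear comparison. -/
noncomputable def extendScalarsEquivA (N : ModuleCat.{u} A) :
    TensorProduct A ((ModuleCat.restrictScalars (algebraMap A B)).obj (ModuleCat.of B B)) N ≃ₗ[A]
      B ⊗[A] N :=
  TensorProduct.congr restrictSelfEquiv (LinearEquiv.refl A N)

theorem extendScalarsEquivA_tmul (N : ModuleCat.{u} A)
    (s : (ModuleCat.restrictScalars (algebraMap A B)).obj (ModuleCat.of B B)) (n : N) :
    extendScalarsEquivA (B := B) N (s ⊗ₜ n) = (show B from s) ⊗ₜ n := rfl

theorem extendScalarsEquivA_smul (N : ModuleCat.{u} A) (b : B)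
    (t : ((ModuleCat.extendScalars (algebraMap A B)).obj N)) :
    extendScalarsEquivA (B := B) N (b • t) = b • extendScalarsEquivA (B := B) N t := by
  refine TensorProduct.induction_on
    (motive := fun t => extendScalarsEquivA (B := B) N
      (HSMul.hSMul (α := B) (β := ↑((ModuleCat.extendScalars (algebraMap A B)).obj N)) b t) =
        b • extendScalarsEquivA (B := B) N t) t ?_ ?_ ?_
  · have h0 : (HSMul.hSMul (α := B) (β := ↑((ModuleCat.extendScalars (algebraMap A B)).obj N)) b 0)
        = 0 := smul_zero b
    rw [map_zero, smul_zero]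
    exact (congrArg _ h0).trans (map_zero _)
  · intro s n
    rw [extendScalarsEquivA_tmul, TensorProduct.smul_tmul']
    exact extendScalarsEquivA_tmul N _ n
  · intro x y hx hy
    have h0 : (HSMul.hSMul (α := B) (β := ↑((ModuleCat.extendScalars (algebraMap A B)).obj N)) b
        (x + y)) = HSMul.hSMul (α := B) (β := ↑((ModuleCat.extendScalars (algebraMap A B)).obj N)) b x
          + HSMul.hSMul (α := B) (β := ↑((ModuleCat.extendScalars (algebraMap A B)).obj N)) b y :=
      smul_add b _ _
    rw [map_add, smul_add, ← hx, ← hy, ← map_add]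
    exact congrArg _ h0

/-- `extendScalars` along `algebraMap A B` is the standard base change `B ⊗[A] −`. -/
noncomputable def extendScalarsEquiv (N : ModuleCat.{u} A) :
    ((ModuleCat.extendScalars (algebraMap A B)).obj N) ≃ₗ[B] B ⊗[A] N :=
  { (extendScalarsEquivA (B := B) N).toAddEquiv with
    map_smul' := extendScalarsEquivA_smul N }

variable (A B) in
/-- `(Spec (A → B))^* (N^~) ≅ (B ⊗[A] N)^~`. -/
noncomputable def pullbackTildeIsoTensor (N : Type u) [AddCommGroup N] [Module A N] :
    (Scheme.Modules.pullback (Spec.map (CommRingCat.ofHom (algebraMap A B)))).obj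
        (tilde (ModuleCat.of A N)) ≅ tilde (ModuleCat.of B (B ⊗[A] N)) :=
  (pullbackTildeIso (CommRingCat.ofHom (algebraMap A B))).app (ModuleCat.of A N) ≪≫
    (tilde.functor (CommRingCat.of B)).mapIso
      (extendScalarsEquiv (B := B) (ModuleCat.of A N)).toModuleIso

end

end Groth.Agent.H44
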