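import Groth.Agent.H44.AffineModules
import Groth.Agent.H44.PullbackTilde
import Groth.Agent.H44.AffineFree
import Groth.Agent.H18.QCohLocal

/-!
# Affine base change for pullbacks of quasi-coherent modules

For `f : X ⟶ Y`, `F` quasi-coherent on `Y`, `V ⊆ Y` affine and `U ⊆ f⁻¹V` affine:
* `pullbackRestrictSpecIso` : `(f^*F)|_{Spec Γ(X,U)} ≅ (Spec φ)^* (F|_{Spec Γ(Y,V)})`, `φ = f.appLE V U e`.
* `pullbackSectionsIso`, `pullbackSectionsEquiv` : `Γ(f^*F, U) ≃ₗ[Γ(X,U)] Γ(X,U) ⊗[Γ(Y,V)] Γ(F,V)`.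
* `isQuasicoherent_pullback` : the pullback of a quasi-coherent module is quasi-coherent (instance).
-/

set_option autoImplicit false
universe u
open CategoryTheory AlgebraicGeometry Scheme.Modules TopologicalSpace Opposite TensorProduct

namespace Groth.Agent.H44

variable {X Y : Scheme.{u}} (f : X ⟶ Y) (F : Y.Modules)
  {U : X.Opens} {V : Y.Opens} (hU : IsAffineOpen U) (hV : IsAffineOpen V) (e : U ≤ f ⁻¹ᵁ V)

/-- On an affine open `U ≤ f⁻¹V` (with `V` affine), the pullback `f^*F` restricted to `Spec Γ(X,U)` is the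
pullback along `Spec (Γ(Y,V) → Γ(X,U))` of `F` restricted to `Spec Γ(Y,V)`. -/
noncomputable def pullbackRestrictSpecIso :
    ((pullback f).obj F).restrict hU.fromSpec ≅
      (pullback (Spec.map (f.appLE V U e))).obj (F.restrict hV.fromSpec) :=
  (restrictFunctorIsoPullback hU.fromSpec).app _ ≪≫
    (pullbackComp hU.fromSpec f).app F ≪≫
    (pullbackCongr (hV.SpecMap_appLE_fromSpec f hU e).symm).app F ≪≫
    (pullbackComp (Spec.map (f.appLE V U e)) hV.fromSpec).symm.app F ≪≫
    (pullback (Spec.map (f.appLE V U e))).mapIso ((restrictFunctorIsoPullback hV.fromSpec).symm.app F)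


/-- Sections of `f^*F` over an affine open `U ≤ f⁻¹V` (with `V` affine), as an object of
`ModuleCat Γ(X,U)`: it is the extension of scalars of `Γ(F,V)`. -/
noncomputable def pullbackSectionsIso [F.IsQuasicoherent] :
    gammaSpec (((pullback f).obj F).restrict hU.fromSpec) ≅
      (ModuleCat.extendScalars (f.appLE V U e).hom).obj (ModuleCat.of Γ(Y, V) Γ(F, V)) :=
  haveI : IsIso (F.restrict hV.fromSpec).fromTildeΓ := inferInstance
  (moduleSpecΓFunctor (R := Γ(X, U))).mapIso (pullbackRestrictSpecIso f F hU hV e ≪≫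
      (pullback (Spec.map (f.appLE V U e))).mapIso (asIso (F.restrict hV.fromSpec).fromTildeΓ).symm ≪≫
      (pullbackTildeIso (f.appLE V U e)).app (gammaSpec (F.restrict hV.fromSpec))) ≪≫
    (tilde.toTildeΓNatIso.app _).symm ≪≫
    (ModuleCat.extendScalars (f.appLE V U e).hom).mapIso (sectionsSpecEquiv F hV).toModuleIso


/-- **Affine base change for pullbacks.** For `F` quasi-coherent on `Y`, `V ⊆ Y` and `U ⊆ f⁻¹V` affine
opens: `Γ(f^*F, U) ≃ Γ(X,U) ⊗_{Γ(Y,V)} Γ(F,V)`, `Γ(X,U)`-linearly. -/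
noncomputable def pullbackSectionsEquiv [F.IsQuasicoherent] :
    letI := (f.appLE V U e).hom.toAlgebra
    Γ((pullback f).obj F, U) ≃ₗ[Γ(X, U)] Γ(X, U) ⊗[Γ(Y, V)] Γ(F, V) :=
  letI := (f.appLE V U e).hom.toAlgebra
  (sectionsSpecEquiv ((pullback f).obj F) hU).symm ≪≫ₗ
    (pullbackSectionsIso f F hU hV e).toLinearEquiv ≪≫ₗ
    extendScalarsEquiv (A := Γ(Y, V)) (B := Γ(X, U)) (ModuleCat.of Γ(Y, V) Γ(F, V))


include hV e in
theorem isQuasicoherent_restrict_fromSpec_pullback [F.IsQuasicoherent] :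
    (((pullback f).obj F).restrict hU.fromSpec).IsQuasicoherent := by
  have : IsIso (F.restrict hV.fromSpec).fromTildeΓ := inferInstance
  refine (SheafOfModules.isQuasicoherent (Spec Γ(X, U)).ringCatSheaf).prop_of_iso
    (pullbackRestrictSpecIso f F hU hV e ≪≫
      (pullback (Spec.map (f.appLE V U e))).mapIso (asIso (F.restrict hV.fromSpec).fromTildeΓ).symm ≪≫
      (pullbackTildeIso (f.appLE V U e)).app (gammaSpec (F.restrict hV.fromSpec))).symm ?_
  change ((tilde.functor Γ(X, U)).obj _).IsQuasicoherent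
  infer_instance

include hU hV e in
theorem isQuasicoherent_restrict_ι_pullback [F.IsQuasicoherent] :
    (((pullback f).obj F).restrict U.ι).IsQuasicoherent := by
  have := isQuasicoherent_restrict_fromSpec_pullback f F hU hV e
  refine (SheafOfModules.isQuasicoherent (U : Scheme.{u}).ringCatSheaf).prop_of_iso
    (restrictRestrictIso ((pullback f).obj F) hU.isoSpec.hom hU.fromSpec U.ι (by simp)) ?_
  change ((((pullback f).obj F).restrict hU.fromSpec).restrict hU.isoSpec.hom).IsQuasicoherent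
  infer_instance

/-- The pullback of a quasi-coherent module is quasi-coherent. -/
instance isQuasicoherent_pullback [F.IsQuasicoherent] : ((pullback f).obj F).IsQuasicoherent := by
  let ι : Type u := {U : X.Opens // IsAffineOpen U ∧ ∃ V : Y.Opens, IsAffineOpen V ∧ U ≤ f ⁻¹ᵁ V}
  refine Groth.Agent.H18.isQuasicoherent_of_isOpenCover _ (fun i : ι => i.1) ?_ ?_
  · rw [IsOpenCover, eq_top_iff]
    intro x _
    obtain ⟨V, hV, hxV, -⟩ := exists_isAffineOpen_mem_and_subset (X := Y) (x := f.base x)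
      (U := ⊤) trivial
    obtain ⟨U, hU, hxU, hUV⟩ := exists_isAffineOpen_mem_and_subset (X := X) (x := x)
      (U := f ⁻¹ᵁ V) hxV
    exact Opens.mem_iSup.mpr ⟨⟨U, hU, V, hV, hUV⟩, hxU⟩
  · rintro ⟨U, hU, V, hV, hUV⟩
    exact isQuasicoherent_restrict_ι_pullback f F hU hV hUV

end Groth.Agent.H44
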