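import Groth.Agent.H44.OmegaSpecAux
import Groth.Agent.H12.RestrictLim
import Groth.Prelude.Def_Omega2

set_option autoImplicit false
universe u
open CategoryTheory Limits Opposite AlgebraicGeometry TopologicalSpace Scheme.Modules

namespace Groth.Agent.H44

section Cat
variable {C : Type*} [Category C] [HasPullbacks C]

set_option backward.isDefEq.respectTransparency false in
/-- The diagonal square of a commutative square with monic horizontal maps is cartesian. -/
theorem isPullback_diagonal_map {U V X S : C} (g : U ⟶ V) (f : X ⟶ S) (j : U ⟶ X) (i : V ⟶ S)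
    [Mono j] (w : g ≫ i = j ≫ f) :
    IsPullback (pullback.diagonal g) j (pullback.map g g f f j j i w w) (pullback.diagonal f) := by
  refine ⟨⟨by ext <;> simp [pullback.map]⟩, ⟨PullbackCone.IsLimit.mk _ (fun s => s.fst ≫ pullback.fst g g) ?_ ?_ ?_⟩⟩
  · intro s
    have h1 : s.fst ≫ pullback.fst g g ≫ j = s.snd := by
      have := s.condition =≫ pullback.fst f f
      simpa [pullback.map] using this
    have h2 : s.fst ≫ pullback.snd g g ≫ j = s.snd := by
      have := s.condition =≫ pullback.snd f f
      simpa [pullback.map] using this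
    have h3 : s.fst ≫ pullback.fst g g = s.fst ≫ pullback.snd g g := by
      rw [← cancel_mono j, Category.assoc, Category.assoc, h1, h2]
    ext
    · simp
    · simp [h3]
  · intro s
    have := s.condition =≫ pullback.fst f f
    simpa [pullback.map] using this
  · intro s m h1 h2
    have := h1 =≫ pullback.fst g g
    simpa [pullback.map] using this

end Cat

section Ker
variable {U V X S : Scheme.{u}} (g : U ⟶ V) (f : X ⟶ S) (j : U ⟶ X) (i : V ⟶ S)
  [IsOpenImmersion j] [IsOpenImmersion i] (w : g ≫ i = j ≫ f)

/-- The open immersion `U ×_V U ⟶ X ×_S X`. -/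
noncomputable abbrev diagMap : pullback g g ⟶ pullback f f := pullback.map g g f f j j i w w

theorem ker_diagonal_eq_comap [QuasiSeparated f] :
    (pullback.diagonal g).ker = (pullback.diagonal f).ker.comap (diagMap g f j i w) := by
  refine Scheme.IdealSheafData.ext (funext fun W => ?_)
  rw [Scheme.IdealSheafData.ideal_comap_of_isOpenImmersion]
  exact Scheme.ker_ideal_of_isPullback_of_isOpenImmersion _ _ j _
    (isPullback_diagonal_map g f j i w) W

end Ker

section Basis
variable {X : Scheme.{u}} {M N : X.Modules}

/-- A morphism of modules that vanishes on a basis of opens is zero. -/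
theorem hom_eq_zero_of_isBasis (φ : M ⟶ N) (B : Set X.Opens) (hB : Opens.IsBasis B)
    (h : ∀ W ∈ B, ∀ x : Γ(M, W), φ.app W x = 0) : φ = 0 := by
  refine Scheme.Modules.hom_ext _ _ fun U => ?_
  ext s
  refine TopCat.Presheaf.IsSheaf.section_ext N.isSheaf (U := op U) fun x hx => ?_
  obtain ⟨W, hW, hxW, hWU⟩ := Opens.isBasis_iff_nbhd.mp hB hx
  refine ⟨W, hWU, hxW, ?_⟩
  have hn := congr($(φ.mapPresheaf.naturality (homOfLE hWU).op) s)
  change N.presheaf.map (homOfLE hWU).op (φ.app U s) = _
  have h0 : N.presheaf.map (homOfLE hWU).op (φ.app U s) =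
      φ.app W (M.presheaf.map (homOfLE hWU).op s) := hn.symm
  rw [h0, h W hW]
  exact (map_zero (N.presheaf.map (homOfLE hWU).op).hom).symm

/-- A morphism of modules that vanishes on affine opens is zero. -/
theorem hom_eq_zero_of_affine (φ : M ⟶ N)
    (h : ∀ W : X.Opens, IsAffineOpen W → ∀ x : Γ(M, W), φ.app W x = 0) : φ = 0 :=
  hom_eq_zero_of_isBasis φ {W | IsAffineOpen W} X.isBasis_affineOpens (fun W hW => h W hW)

end Basis


end Groth.Agent.H44
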