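import Groth.Agent.H44.OmegaSpecAux
import Groth.Agent.H44.OmegaRestrictAux
import Groth.Prelude.Def_Omega2

set_option autoImplicit false
universe u
open CategoryTheory Limits Opposite AlgebraicGeometry TopologicalSpace Scheme.Modules

namespace Groth.Agent.H44

section IdealSections
variable {P : Scheme.{u}} (K : P.IdealSheafData) {W : P.Opens} (hW : IsAffineOpen W)

theorem toSubscheme_app_eq_zero_iff (y : Γ(P, W)) :
    (ClSub.toSubscheme K).app W (OmegaSh.strSect P W y) = 0 ↔ y ∈ K.ideal ⟨W, hW⟩ := by
  rw [OmegaSh.toSubscheme_app_strSect, ← Scheme.IdealSheafData.ker_subschemeι_app, RingHom.mem_ker]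
  rfl

theorem toSubscheme_app_idealModι (x : Γ(ClSub.idealMod K, W)) :
    (ClSub.toSubscheme K).app W ((ClSub.idealModι K).app W x) = 0 := by
  rw [← ConcreteCategory.comp_apply, ← Scheme.Modules.Hom.comp_app]
  have : ClSub.idealModι K ≫ ClSub.toSubscheme K = 0 := kernel.condition _
  rw [this]
  rfl

theorem idealModι_app_mem_ideal (x : Γ(ClSub.idealMod K, W)) :
    OmegaSh.fnSect P W ((ClSub.idealModι K).app W x) ∈ K.ideal ⟨W, hW⟩ := by
  rw [← toSubscheme_app_eq_zero_iff]
  exact toSubscheme_app_idealModι K x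

end IdealSections

section RestrictIdeal
variable {P P' : Scheme.{u}} (ι : P' ⟶ P) [IsOpenImmersion ι] (K : P.IdealSheafData)

/-- The inclusion of the restricted ideal module into `𝒪_{P'}`. -/
noncomputable def restrictIdealι :
    (restrictFunctor ι).obj (ClSub.idealMod K) ⟶ Coh.structureModule P' :=
  (restrictFunctor ι).map (ClSub.idealModι K) ≫ (restrictUnitIso ι).hom

theorem restrictIdealι_app (W : P'.Opens) (x : Γ(ClSub.idealMod K, ι ''ᵁ W)) :
    (restrictIdealι ι K).app W x =
      OmegaSh.strSect P' W ((ι.appIso W).hom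
        (OmegaSh.fnSect P (ι ''ᵁ W) ((ClSub.idealModι K).app (ι ''ᵁ W) x))) := rfl

theorem restrictIdealι_comp_toSubscheme :
    restrictIdealι ι K ≫ ClSub.toSubscheme (K.comap ι) = 0 := by
  refine hom_eq_zero_of_affine _ fun W hW x => ?_
  have h := idealModι_app_mem_ideal K (hW.image_of_isOpenImmersion ι)
    (show Γ(ClSub.idealMod K, ι ''ᵁ W) from x)
  have h2 : (ι.appIso W).hom
      (OmegaSh.fnSect P (ι ''ᵁ W) ((ClSub.idealModι K).app (ι ''ᵁ W)
        (show Γ(ClSub.idealMod K, ι ''ᵁ W) from x))) ∈ (K.comap ι).ideal ⟨W, hW⟩ := by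
    rw [Scheme.IdealSheafData.ideal_comap_of_isOpenImmersion K ι ⟨W, hW⟩, Ideal.mem_comap]
    convert h using 1
    exact congr($((ι.appIso W).hom_inv_id) _)
  exact (toSubscheme_app_eq_zero_iff (K.comap ι) hW _).2 h2

/-- Forward comparison map. -/
noncomputable def restrictIdealTo :
    (restrictFunctor ι).obj (ClSub.idealMod K) ⟶ ClSub.idealMod (K.comap ι) :=
  kernel.lift (ClSub.toSubscheme (K.comap ι)) (restrictIdealι ι K)
    (restrictIdealι_comp_toSubscheme ι K)

theorem restrictIdealTo_ι :
    restrictIdealTo ι K ≫ ClSub.idealModι (K.comap ι) = restrictIdealι ι K :=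
  kernel.lift_ι _ _ _

theorem idealModι_comp_restrict_toSubscheme :
    (ClSub.idealModι (K.comap ι) ≫ (restrictUnitIso ι).inv) ≫
      (restrictFunctor ι).map (ClSub.toSubscheme K) = 0 := by
  refine hom_eq_zero_of_affine _ fun W hW y => ?_
  have h := idealModι_app_mem_ideal (K.comap ι) hW y
  rw [Scheme.IdealSheafData.ideal_comap_of_isOpenImmersion K ι ⟨W, hW⟩, Ideal.mem_comap] at h
  exact (toSubscheme_app_eq_zero_iff K (hW.image_of_isOpenImmersion ι) _).2 h

/-- Backward comparison map. -/
noncomputable def restrictIdealFrom :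
    ClSub.idealMod (K.comap ι) ⟶ (restrictFunctor ι).obj (ClSub.idealMod K) :=
  kernel.lift ((restrictFunctor ι).map (ClSub.toSubscheme K))
      (ClSub.idealModι (K.comap ι) ≫ (restrictUnitIso ι).inv)
      (idealModι_comp_restrict_toSubscheme ι K) ≫
    (PreservesKernel.iso (restrictFunctor ι) (ClSub.toSubscheme K)).inv

theorem restrictIdealFrom_ι :
    restrictIdealFrom ι K ≫ restrictIdealι ι K = ClSub.idealModι (K.comap ι) := by
  have h1 : (PreservesKernel.iso (restrictFunctor ι) (ClSub.toSubscheme K)).inv ≫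
      (restrictFunctor ι).map (ClSub.idealModι K) =
      kernel.ι ((restrictFunctor ι).map (ClSub.toSubscheme K)) :=
    PreservesKernel.iso_inv_ι _ _
  have h2 : restrictIdealFrom ι K ≫ restrictIdealι ι K =
      kernel.lift ((restrictFunctor ι).map (ClSub.toSubscheme K))
        (ClSub.idealModι (K.comap ι) ≫ (restrictUnitIso ι).inv)
        (idealModι_comp_restrict_toSubscheme ι K) ≫
        ((PreservesKernel.iso (restrictFunctor ι) (ClSub.toSubscheme K)).inv ≫
          (restrictFunctor ι).map (ClSub.idealModι K)) ≫ (restrictUnitIso ι).hom := by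
    simp only [restrictIdealFrom, restrictIdealι, Category.assoc]
    rfl
  rw [h2, h1, kernel.lift_ι_assoc, Category.assoc, Iso.inv_hom_id, Category.comp_id]

instance mono_restrictIdealι : Mono (restrictIdealι ι K) := by
  haveI : Mono (ClSub.idealModι K) := inferInstanceAs (Mono (kernel.ι _))
  unfold restrictIdealι
  infer_instance

/-- Restricting the ideal module along an open immersion gives the ideal module of the pulled back
ideal sheaf. -/
noncomputable def restrictIdealModIso :
    (restrictFunctor ι).obj (ClSub.idealMod K) ≅ ClSub.idealMod (K.comap ι) where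
  hom := restrictIdealTo ι K
  inv := restrictIdealFrom ι K
  hom_inv_id := by
    rw [← cancel_mono (restrictIdealι ι K), Category.assoc, restrictIdealFrom_ι, restrictIdealTo_ι,
      Category.id_comp]
  inv_hom_id := by
    haveI : Mono (ClSub.idealModι (K.comap ι)) := inferInstanceAs (Mono (kernel.ι _))
    rw [← cancel_mono (ClSub.idealModι (K.comap ι)), Category.assoc, restrictIdealTo_ι,
      restrictIdealFrom_ι, Category.id_comp]

end RestrictIdeal

section Restrict
variable {U V X S : Scheme.{u}} (g : U ⟶ V) (f : X ⟶ S) (j : U ⟶ X) (i : V ⟶ S)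
  [IsOpenImmersion j] [IsOpenImmersion i] (w : g ≫ i = j ≫ f) [QuasiSeparated f]

/-- `Ω_{X/S}` restricted to an open `U ⊆ X` mapping into an open `V ⊆ S` is `Ω_{U/V}`. -/
noncomputable def omegaRestrictIso :
    (Scheme.Modules.pullback j).obj (Omega.sheaf f) ≅ Omega.sheaf g :=
  (pullbackComp j (pullback.diagonal f)).app (ClSub.idealMod (pullback.diagonal f).ker) ≪≫
    (pullbackCongr (isPullback_diagonal_map g f j i w).w.symm).app _ ≪≫
    ((pullbackComp (pullback.diagonal g) (diagMap g f j i w)).app _).symm ≪≫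
    (Scheme.Modules.pullback (pullback.diagonal g)).mapIso
      ((restrictFunctorIsoPullback (diagMap g f j i w)).symm.app _ ≪≫
        restrictIdealModIso (diagMap g f j i w) (pullback.diagonal f).ker ≪≫
        eqToIso (by rw [ker_diagonal_eq_comap g f j i w]))

end Restrict

end Groth.Agent.H44
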