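import Groth.Agent.H44.LocFree
import Groth.Agent.H18.QCohCriterion

set_option autoImplicit false
universe u
open CategoryTheory Limits AlgebraicGeometry Scheme.Modules TopologicalSpace Opposite

namespace Groth.Agent.H44

variable {X : Scheme.{u}}

theorem hom_app_res {M P : X.Modules} (φ : M ⟶ P) {U V : X.Opens} (i : U ⟶ V) (x : Γ(M, V)) :
    φ.app U (M.presheaf.map i.op x) = P.presheaf.map i.op (φ.app V x) := by
  have := congr($(φ.mapPresheaf.naturality i.op) x)
  exact this

/-- A retract of a quasi-coherent module is quasi-coherent. -/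
theorem isQuasicoherent_of_retract {M P : X.Modules} [P.IsQuasicoherent] (i : M ⟶ P) (q : P ⟶ M)
    (h : i ≫ q = 𝟙 M) : M.IsQuasicoherent := by
  have hq : ∀ (U : X.Opens) (x : Γ(M, U)), q.app U (i.app U x) = x := by
    intro U x
    have := congr($(congrArg (fun φ => Scheme.Modules.Hom.app φ U) h) x)
    simpa using this
  let ι : Type u := X.affineOpens
  refine Groth.Agent.H18.isQuasicoherent_of_localizes M (fun V : X.affineOpens => V.1)
    ?_ (fun V => V.2) ?_ ?_
  · rw [IsOpenCover, eq_top_iff]
    intro x _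
    obtain ⟨_, ⟨V, hV, rfl⟩, hxV, -⟩ :=
      X.isBasis_affineOpens.exists_subset_of_mem_open (Set.mem_univ x) isOpen_univ
    exact TopologicalSpace.Opens.mem_iSup.mpr ⟨⟨V, hV⟩, hxV⟩
  · intro V r y
    obtain ⟨n, s, hs⟩ := Groth.Agent.H8.exists_res_eq_pow_smul P V.2 r (i.app _ y)
    refine ⟨n, q.app _ s, ?_⟩
    change _ = M.presheaf.map (homOfLE (X.basicOpen_le r)).op (q.app _ s)
    rw [← hom_app_res, hs, Scheme.Modules.Hom.app_smul, hq]
  · intro V r x hx
    have h0 : P.presheaf.map (homOfLE (X.basicOpen_le r)).op (i.app _ x) = 0 := by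
      rw [← hom_app_res]
      change i.app _ (M.presheaf.map (homOfLE (X.basicOpen_le r)).op x) = 0
      have : M.presheaf.map (homOfLE (X.basicOpen_le r)).op x = 0 := hx
      rw [this, map_zero]
    obtain ⟨n, hn⟩ := Groth.Agent.H8.exists_pow_smul_eq_zero_of_res_basicOpen_eq_zero P V.2 r _ h0
    refine ⟨n, ?_⟩
    have := congrArg (q.app _) hn
    rw [Scheme.Modules.Hom.app_smul, hq, map_zero] at this
    exact this

instance isQuasicoherent_freeMod (n : ℕ) : (FlatMod.freeMod X n).IsQuasicoherent := by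
  have h : (SheafOfModules.free (R := X.ringCatSheaf) (ULift.{u} (Fin n))).IsQuasicoherent :=
    inferInstance
  exact (SheafOfModules.isQuasicoherent X.ringCatSheaf).prop_of_iso (freeModIsoFree X n).symm h

/-- Sections over an affine open of a retract of a free module of finite rank are finite projective. -/
theorem finite_projective_of_retract_freeMod {M : X.Modules} {n : ℕ}
    (i : M ⟶ FlatMod.freeMod X n) (q : FlatMod.freeMod X n ⟶ M) (h : i ≫ q = 𝟙 M)
    {V : X.Opens} (hV : IsAffineOpen V) :
    Module.Finite Γ(X, V) Γ(M, V) ∧ Module.Projective Γ(X, V) Γ(M, V) := by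
  have hq : ∀ x : Γ(M, V), q.app V (i.app V x) = x := by
    intro x
    have := congr($(congrArg (fun φ => Scheme.Modules.Hom.app φ V) h) x)
    simpa using this
  obtain ⟨b⟩ := nonempty_basis_of_iso_freeMod (FlatMod.freeMod X n) hV le_rfl
    (restrictFreeModIso V.ι n)
  haveI : Module.Free Γ(X, V) Γ(FlatMod.freeMod X n, V) := Module.Free.of_basis b
  haveI : Module.Finite Γ(X, V) Γ(FlatMod.freeMod X n, V) := Module.Finite.of_basis b
  let iₗ : Γ(M, V) →ₗ[Γ(X, V)] Γ(FlatMod.freeMod X n, V) :=
    { toFun := i.app V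
      map_add' := map_add _
      map_smul' := fun r x => Scheme.Modules.Hom.app_smul i r x }
  let qₗ : Γ(FlatMod.freeMod X n, V) →ₗ[Γ(X, V)] Γ(M, V) :=
    { toFun := q.app V
      map_add' := map_add _
      map_smul' := fun r x => Scheme.Modules.Hom.app_smul q r x }
  have hsplit : qₗ ∘ₗ iₗ = LinearMap.id := LinearMap.ext hq
  refine ⟨Module.Finite.of_surjective qₗ (fun x => ⟨iₗ x, hq x⟩), ?_⟩
  exact Module.Projective.of_split iₗ qₗ hsplit

/-- A direct summand of a free module of finite rank is finite locally free. -/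
theorem isFinLocFree_of_retract_freeMod {M : X.Modules} {n : ℕ}
    (i : M ⟶ FlatMod.freeMod X n) (q : FlatMod.freeMod X n ⟶ M) (h : i ≫ q = 𝟙 M) :
    FlatMod.IsFinLocFree M := by
  haveI : M.IsQuasicoherent := isQuasicoherent_of_retract i q h
  rw [isFinLocFree_iff]
  intro V
  exact finite_projective_of_retract_freeMod i q h V.2

end Groth.Agent.H44
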