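import Groth.Agent.H44.LocFree
import Groth.Agent.H44.Retract
import Groth.Agent.H8.PushQCoh
import Groth.Prelude.Def_Mor2

set_option autoImplicit false
universe u
open CategoryTheory Limits AlgebraicGeometry Scheme.Modules TopologicalSpace Opposite

namespace Groth.Agent.H44

variable {X S : Scheme.{u}} (f : X ⟶ S)

instance isQuasicoherent_structureModule : (Coh.structureModule X).IsQuasicoherent :=
  (SheafOfModules.isQuasicoherent X.ringCatSheaf).prop_of_iso
    (coproductUniqueIso (fun _ : Fin 1 => Coh.structureModule X)) (isQuasicoherent_freeMod 1)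

/-- `Γ(f_* O_X, U)` is `Γ(X, f⁻¹U)` with the `Γ(S,U)`-module structure given by `f.app U`. -/
noncomputable def pushUnitSectionsEquiv (U : S.Opens) :
    letI := (f.app U).hom.toAlgebra
    Γ((Scheme.Modules.pushforward f).obj (Coh.structureModule X), U) ≃ₗ[Γ(S, U)] Γ(X, f ⁻¹ᵁ U) :=
  letI := (f.app U).hom.toAlgebra
  { toFun := fun s => s
    invFun := fun s => s
    map_add' := fun _ _ => rfl
    map_smul' := fun _ _ => rfl
    left_inv := fun _ => rfl
    right_inv := fun _ => rfl }

/-- For an affine morphism, a property defined by a local ring hom property can be checked on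
the maps `f.app U`, `U` affine open in the target. -/
theorem iff_app_of_isAffineHom {P : MorphismProperty Scheme.{u}}
    {Q : ∀ {R T : Type u} [CommRing R] [CommRing T], (R →+* T) → Prop}
    [HasRingHomProperty P Q] [IsAffineHom f] :
    P f ↔ ∀ U : S.Opens, IsAffineOpen U → Q (f.app U).hom := by
  have hQ : RingHom.PropertyIsLocal Q := HasRingHomProperty.isLocal_ringHomProperty P
  have h1 := targetAffineLocally_affineAnd_iff_affineLocally hQ f
  have h2 := targetAffineLocally_affineAnd_iff' hQ.respectsIso f
  rw [HasRingHomProperty.eq_affineLocally P]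
  constructor
  · intro h
    exact (h2.mp (h1.mpr ⟨inferInstance, h⟩)).2
  · intro h
    exact (h1.mp (h2.mpr ⟨inferInstance, h⟩)).2

/-- Finite projectivity of `Γ(f_* O_X, U)` in terms of the ring map `f.app U`. -/
theorem finite_projective_pushUnit_iff (U : S.Opens) :
    letI := (f.app U).hom.toAlgebra
    (Module.Finite Γ(S, U) Γ((Scheme.Modules.pushforward f).obj (Coh.structureModule X), U) ∧
      Module.Projective Γ(S, U)
        Γ((Scheme.Modules.pushforward f).obj (Coh.structureModule X), U)) ↔
    (Module.Finite Γ(S, U) Γ(X, f ⁻¹ᵁ U) ∧ Module.Projective Γ(S, U) Γ(X, f ⁻¹ᵁ U)) := by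
  letI := (f.app U).hom.toAlgebra
  constructor
  · rintro ⟨h1, h2⟩
    exact ⟨Module.Finite.equiv (pushUnitSectionsEquiv f U),
      Module.Projective.of_equiv' (pushUnitSectionsEquiv f U)⟩
  · rintro ⟨h1, h2⟩
    exact ⟨Module.Finite.equiv (pushUnitSectionsEquiv f U).symm,
      Module.Projective.of_equiv' (pushUnitSectionsEquiv f U).symm⟩

theorem isAffineHom_and_isFinLocFree_iff :
    (IsAffineHom f ∧
      FlatMod.IsFinLocFree ((Scheme.Modules.pushforward f).obj (Coh.structureModule X))) ↔
      Mor2.IsFinLocFree f := by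
  constructor
  · rintro ⟨hAff, hG⟩
    haveI := hAff
    haveI : ((Scheme.Modules.pushforward f).obj (Coh.structureModule X)).IsQuasicoherent :=
      Groth.Agent.H8.isQuasicoherent_pushforward_of_isAffineHom f _
    have key : ∀ U : S.Opens, IsAffineOpen U →
        letI := (f.app U).hom.toAlgebra
        Module.Finite Γ(S, U) Γ(X, f ⁻¹ᵁ U) ∧ Module.Projective Γ(S, U) Γ(X, f ⁻¹ᵁ U) :=
      fun U hU => (finite_projective_pushUnit_iff f U).mp
        (finite_projective_of_isFinLocFree _ hG hU)
    refine ⟨?_, ?_, ?_⟩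
    · rw [isFinite_iff]
      exact ⟨hAff, fun U hU => (key U hU).1⟩
    · rw [iff_app_of_isAffineHom (P := @Flat) (Q := RingHom.Flat) f]
      intro U hU
      letI := (f.app U).hom.toAlgebra
      haveI := (key U hU).2
      exact (inferInstance : Module.Flat Γ(S, U) Γ(X, f ⁻¹ᵁ U))
    · rw [iff_app_of_isAffineHom (P := @LocallyOfFinitePresentation)
        (Q := RingHom.FinitePresentation) f]
      intro U hU
      letI := (f.app U).hom.toAlgebra
      haveI := (key U hU).1
      haveI := (key U hU).2
      haveI : Module.FinitePresentation Γ(S, U) Γ(X, f ⁻¹ᵁ U) :=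
        Module.finitePresentation_of_projective _ _
      exact (inferInstance : Algebra.FinitePresentation Γ(S, U) Γ(X, f ⁻¹ᵁ U))
  · rintro ⟨hfin, hflat, hfp⟩
    haveI := hfin
    haveI : IsAffineHom f := inferInstance
    haveI : ((Scheme.Modules.pushforward f).obj (Coh.structureModule X)).IsQuasicoherent :=
      Groth.Agent.H8.isQuasicoherent_pushforward_of_isAffineHom f _
    refine ⟨inferInstance, ?_⟩
    rw [isFinLocFree_iff]
    intro U
    rw [finite_projective_pushUnit_iff]
    letI := (f.app U.1).hom.toAlgebra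
    haveI h1 : Module.Finite Γ(S, U.1) Γ(X, f ⁻¹ᵁ U.1) := f.finite_app U.1 U.2
    haveI h2 : Module.Flat Γ(S, U.1) Γ(X, f ⁻¹ᵁ U.1) :=
      (iff_app_of_isAffineHom (P := @Flat) (Q := RingHom.Flat) f).mp hflat U.1 U.2
    haveI h3 : Algebra.FinitePresentation Γ(S, U.1) Γ(X, f ⁻¹ᵁ U.1) :=
      (iff_app_of_isAffineHom (P := @LocallyOfFinitePresentation)
        (Q := RingHom.FinitePresentation) f).mp hfp U.1 U.2
    haveI h4 : Module.FinitePresentation Γ(S, U.1) Γ(X, f ⁻¹ᵁ U.1) :=
      Module.FinitePresentation.of_finite_of_finitePresentation _ _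
    exact ⟨h1, Module.Flat.projective_of_finitePresentation⟩

end Groth.Agent.H44
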