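import Groth.Agent.H44.RigDomain
import Groth.Agent.H44.AdicLemmas
import Mathlib.RingTheory.Finiteness.Ideal

set_option autoImplicit false
universe u

namespace Groth.Agent.H44

variable {A : Type*} [CommRing A]

/-- `q` is rig-closed for `I`: `I ⊄ q` and `q` is maximal among the primes not containing `I`. -/
def IsRigClosed (I : Ideal A) (q : PrimeSpectrum A) : Prop :=
  ¬ I ≤ q.asIdeal ∧ ∀ q' : PrimeSpectrum A, q ≤ q' → ¬ I ≤ q'.asIdeal → q' = q

section

variable [IsNoetherianRing A] (I : Ideal A) [IsAdicComplete I A] (q : PrimeSpectrum A)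

theorem map_mk_ne_top : I.map (Ideal.Quotient.mk q.asIdeal) ≠ ⊤ := by
  have : IsAdicComplete (I.map (Ideal.Quotient.mk q.asIdeal)) (A ⧸ q.asIdeal) :=
    isAdicComplete_quotient I q.asIdeal
  intro h
  have h1 := IsAdicComplete.le_jacobson_bot (I.map (Ideal.Quotient.mk q.asIdeal))
  rw [h, top_le_iff, Ideal.jacobson_eq_top_iff] at h1
  exact bot_ne_top h1

variable {I q}

omit [IsNoetherianRing A] [IsAdicComplete I A] in
theorem IsRigClosed.map_mk_ne_bot (h : IsRigClosed I q) :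
    I.map (Ideal.Quotient.mk q.asIdeal) ≠ ⊥ := by
  intro h0
  rw [Ideal.map_eq_bot_iff_le_ker, Ideal.mk_ker] at h0
  exact h.1 h0

omit [IsNoetherianRing A] [IsAdicComplete I A] in
theorem IsRigClosed.map_mk_le (h : IsRigClosed I q) (P : Ideal (A ⧸ q.asIdeal)) (hP : P.IsPrime)
    (hP0 : P ≠ ⊥) : I.map (Ideal.Quotient.mk q.asIdeal) ≤ P := by
  by_contra hnot
  have hqP : q ≤ ⟨P.comap (Ideal.Quotient.mk q.asIdeal), inferInstance⟩ := by
    change q.asIdeal ≤ P.comap (Ideal.Quotient.mk q.asIdeal)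
    have h0 : q.asIdeal = (⊥ : Ideal (A ⧸ q.asIdeal)).comap (Ideal.Quotient.mk q.asIdeal) := by
      rw [← RingHom.ker_eq_comap_bot, Ideal.mk_ker]
    exact le_trans (le_of_eq h0) (Ideal.comap_mono bot_le)
  have := h.2 ⟨P.comap (Ideal.Quotient.mk q.asIdeal), inferInstance⟩ hqP
    (fun h => hnot (Ideal.map_le_iff_le_comap.mpr h))
  have h2 : P.comap (Ideal.Quotient.mk q.asIdeal) = q.asIdeal :=
    congrArg PrimeSpectrum.asIdeal this
  apply hP0
  rw [← Ideal.map_comap_of_surjective _ Ideal.Quotient.mk_surjective P, h2,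
    Ideal.map_quotient_self]

omit [IsNoetherianRing A] [IsAdicComplete I A] in
theorem map_mk_isPrime_ne_bot {P : Ideal A} [hP : P.IsPrime] (hqP : q.asIdeal < P) :
    (P.map (Ideal.Quotient.mk q.asIdeal)).IsPrime ∧ P.map (Ideal.Quotient.mk q.asIdeal) ≠ ⊥ := by
  refine ⟨Ideal.map_isPrime_of_surjective Ideal.Quotient.mk_surjective
    (by rw [Ideal.mk_ker]; exact hqP.le), ?_⟩
  intro h0
  rw [Ideal.map_eq_bot_iff_le_ker, Ideal.mk_ker] at h0
  exact absurd h0 (not_le_of_gt hqP)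

omit [IsNoetherianRing A] [IsAdicComplete I A] in
theorem comap_map_mk {P : Ideal A} (hqP : q.asIdeal ≤ P) :
    (P.map (Ideal.Quotient.mk q.asIdeal)).comap (Ideal.Quotient.mk q.asIdeal) = P := by
  rw [Ideal.comap_map_of_surjective _ Ideal.Quotient.mk_surjective, ← RingHom.ker_eq_comap_bot,
    Ideal.mk_ker, sup_eq_left]
  exact hqP

/-- primes strictly above a rig-closed prime are maximal -/
theorem IsRigClosed.isMaximal_of_lt (h : IsRigClosed I q) (P : Ideal A) [hP : P.IsPrime]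
    (hqP : q.asIdeal < P) : P.IsMaximal := by
  obtain ⟨hprime, hne⟩ := map_mk_isPrime_ne_bot hqP
  have hmax := isMaximal_of_ne_bot (I.map (Ideal.Quotient.mk q.asIdeal)) h.map_mk_ne_bot
    h.map_mk_le (P.map (Ideal.Quotient.mk q.asIdeal)) hne
  have := Ideal.comap_isMaximal_of_surjective (Ideal.Quotient.mk q.asIdeal)
    Ideal.Quotient.mk_surjective (K := P.map (Ideal.Quotient.mk q.asIdeal))
  rwa [comap_map_mk hqP.le] at this

/-- there is a unique maximal ideal above a rig-closed prime -/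
theorem IsRigClosed.maximal_unique (h : IsRigClosed I q) (m₁ m₂ : Ideal A) [hm₁ : m₁.IsMaximal]
    [hm₂ : m₂.IsMaximal] (h₁ : q.asIdeal ≤ m₁) (h₂ : q.asIdeal ≤ m₂) : m₁ = m₂ := by
  have hK0 := h.map_mk_ne_bot
  have hK1 := map_mk_ne_top I q
  have hK := h.map_mk_le
  obtain ⟨N, hN⟩ := Ideal.exists_radical_pow_le_of_fg (I.map (Ideal.Quotient.mk q.asIdeal))
    (IsNoetherian.noetherian _)
  have : IsAdicComplete (I.map (Ideal.Quotient.mk q.asIdeal)) (A ⧸ q.asIdeal) :=
    isAdicComplete_quotient I q.asIdeal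
  have : IsAdicComplete (I.map (Ideal.Quotient.mk q.asIdeal)).radical (A ⧸ q.asIdeal) :=
    isAdicComplete_of_pow_le _ _ Ideal.le_radical N hN
  have hmax : ∀ m : Ideal A, m.IsMaximal → q.asIdeal ≤ m →
      (m.map (Ideal.Quotient.mk q.asIdeal)).IsMaximal := by
    intro m hm hqm
    rcases Ideal.map_eq_top_or_isMaximal_of_surjective (Ideal.Quotient.mk q.asIdeal)
      Ideal.Quotient.mk_surjective hm with htop | hmax
    · exfalso
      have := comap_map_mk hqm
      rw [htop, Ideal.comap_top] at this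
      exact hm.ne_top this.symm
    · exact hmax
  have hm₁' := hmax m₁ hm₁ h₁
  have hm₂' := hmax m₂ hm₂ h₂
  have := Groth.Agent.H44.maximal_unique (I.map (Ideal.Quotient.mk q.asIdeal)) hK0 hK1 hK
    (m₁.map (Ideal.Quotient.mk q.asIdeal)) (m₂.map (Ideal.Quotient.mk q.asIdeal))
  rw [← comap_map_mk h₁, ← comap_map_mk h₂, this]

end

end Groth.Agent.H44
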