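import Mathlib.RingTheory.Jacobson.Ring
import Mathlib.RingTheory.Localization.Integral
import Mathlib.RingTheory.IntegralClosure.IsIntegralClosure.Basic

set_option autoImplicit false
universe u

namespace Groth.Agent.H44

open Polynomial

section

variable {C κ : Type*} [CommRing C] [IsDomain C] [Field κ] [Algebra C κ]

/-- A finite type field extension of a domain (embedded in it) is algebraic. -/
theorem isAlgebraic_of_finiteType_field (hinj : Function.Injective (algebraMap C κ))
    [Algebra.FiniteType C κ] : Algebra.IsAlgebraic C κ := by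
  let K₀ := FractionRing C
  let g : K₀ →+* κ := IsFractionRing.lift (g := algebraMap C κ) hinj
  let _ : Algebra K₀ κ := g.toAlgebra
  have htower : IsScalarTower C K₀ κ := IsScalarTower.of_algebraMap_eq fun c =>
    (IsFractionRing.lift_algebraMap hinj c).symm
  have hft : Algebra.FiniteType K₀ κ := Algebra.FiniteType.of_restrictScalars_finiteType C K₀ κ
  have hfin : Module.Finite K₀ κ := finite_of_finite_type_of_isJacobsonRing K₀ κ
  have halg : Algebra.IsAlgebraic K₀ κ := Algebra.IsAlgebraic.of_finite K₀ κ
  exact (IsFractionRing.comap_isAlgebraic_iff (A := C) (K := K₀) (C := κ)).mpr halg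

/-- Generic integrality: a finite type field extension `κ` of a domain `C` becomes integral after
inverting one nonzero element of `C`. -/
theorem exists_forall_isIntegral_pow_mul_of_injective
    (hinj : Function.Injective (algebraMap C κ)) [Algebra.FiniteType C κ] :
    ∃ c : C, c ≠ 0 ∧ ∀ x : κ, ∃ k : ℕ, IsIntegral C ((algebraMap C κ c) ^ k * x) := by
  classical
  have halg := isAlgebraic_of_finiteType_field hinj
  obtain ⟨s, hs⟩ := (Algebra.FiniteType.out : (⊤ : Subalgebra C κ).FG)
  choose p hp0 hpx using fun x : κ => halg.isAlgebraic x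
  refine ⟨∏ x ∈ s, (p x).leadingCoeff, ?_, ?_⟩
  · rw [Finset.prod_ne_zero_iff]
    intro x _
    exact leadingCoeff_ne_zero.mpr (hp0 x)
  · set c := ∏ x ∈ s, (p x).leadingCoeff with hc
    have hcint : ∀ k : ℕ, IsIntegral C ((algebraMap C κ c) ^ k) := fun k =>
      (isIntegral_algebraMap).pow k
    have hmem : ∀ x ∈ s, IsIntegral C (algebraMap C κ c * x) := by
      intro x hx
      have h1 : IsIntegral C ((p x).leadingCoeff • x) := isIntegral_leadingCoeff_smul _ _ (hpx x)
      have h2 : c = (∏ y ∈ s.erase x, (p y).leadingCoeff) * (p x).leadingCoeff := by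
        rw [hc, Finset.prod_erase_mul s _ hx]
      rw [h2, map_mul, mul_assoc, ← Algebra.smul_def ((p x).leadingCoeff) x]
      exact isIntegral_algebraMap.mul h1
    intro x
    have hx : x ∈ Algebra.adjoin C (s : Set κ) := by rw [hs]; trivial
    induction hx using Algebra.adjoin_induction with
    | mem x hx => exact ⟨1, by rw [pow_one]; exact hmem x hx⟩
    | algebraMap r => exact ⟨0, by rw [pow_zero, one_mul]; exact isIntegral_algebraMap⟩
    | add x y _ _ hx hy =>
      obtain ⟨k₁, h₁⟩ := hx
      obtain ⟨k₂, h₂⟩ := hy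
      refine ⟨k₁ + k₂, ?_⟩
      have : (algebraMap C κ c) ^ (k₁ + k₂) * (x + y) =
          (algebraMap C κ c) ^ k₂ * ((algebraMap C κ c) ^ k₁ * x) +
          (algebraMap C κ c) ^ k₁ * ((algebraMap C κ c) ^ k₂ * y) := by ring
      rw [this]
      exact ((hcint k₂).mul h₁).add ((hcint k₁).mul h₂)
    | mul x y _ _ hx hy =>
      obtain ⟨k₁, h₁⟩ := hx
      obtain ⟨k₂, h₂⟩ := hy
      refine ⟨k₁ + k₂, ?_⟩
      have : (algebraMap C κ c) ^ (k₁ + k₂) * (x * y) =
          ((algebraMap C κ c) ^ k₁ * x) * ((algebraMap C κ c) ^ k₂ * y) := by ring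
      rw [this]
      exact h₁.mul h₂

end

section

variable {A κ : Type*} [CommRing A] [Field κ] [Algebra A κ]

/-- Generic integrality for a finite type field over an arbitrary ring: there is `f : A`, nonzero
in `κ`, such that every element of `κ` becomes integral over `A` after multiplication by a power
of `f`. -/
theorem exists_forall_isIntegral_pow_mul [Algebra.FiniteType A κ] :
    ∃ f : A, algebraMap A κ f ≠ 0 ∧
      ∀ x : κ, ∃ k : ℕ, IsIntegral A ((algebraMap A κ f) ^ k * x) := by
  let p₀ := RingHom.ker (algebraMap A κ)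
  have hprime : p₀.IsPrime := RingHom.ker_isPrime _
  let C := A ⧸ p₀
  let g : C →+* κ := RingHom.kerLift (algebraMap A κ)
  let _ : Algebra C κ := g.toAlgebra
  have hinj : Function.Injective (algebraMap C κ) := RingHom.kerLift_injective _
  have htower : IsScalarTower A C κ := IsScalarTower.of_algebraMap_eq fun a => rfl
  have hft : Algebra.FiniteType C κ := Algebra.FiniteType.of_restrictScalars_finiteType A C κ
  obtain ⟨c, hc0, hc⟩ := exists_forall_isIntegral_pow_mul_of_injective (C := C) (κ := κ) hinj
  obtain ⟨f, rfl⟩ := Ideal.Quotient.mk_surjective c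
  have hAC : Algebra.IsIntegral A C :=
    Algebra.isIntegral_of_surjective Ideal.Quotient.mk_surjective
  have hfc : algebraMap A κ f = algebraMap C κ (Ideal.Quotient.mk p₀ f) := rfl
  refine ⟨f, ?_, fun x => ?_⟩
  · rw [hfc]
    exact fun h => hc0 (hinj (h.trans (map_zero _).symm))
  · obtain ⟨k, hk⟩ := hc x
    exact ⟨k, by rw [hfc]; exact isIntegral_trans _ hk⟩

end

end Groth.Agent.H44
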