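import Groth.Agent.H44.RigClosed
import Mathlib.RingTheory.Finiteness.NilpotentKer
import Mathlib.RingTheory.Jacobson.Ring
import Mathlib.RingTheory.Ideal.GoingUp
import Mathlib.RingTheory.Ideal.GoingDown
import Mathlib.RingTheory.FiniteType

set_option autoImplicit false
universe u

namespace Groth.Agent.H44

variable {A : Type*} [CommRing A] [IsNoetherianRing A] (I : Ideal A) [IsAdicComplete I A]
  {B : Type*} [CommRing B] [Algebra A B] [IsNoetherianRing B]
  [IsAdicComplete (I.map (algebraMap A B)) B]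
  (q : PrimeSpectrum B)

omit [IsNoetherianRing A] [IsAdicComplete I A] [IsNoetherianRing B] in
theorem map_le_of_isMaximal (m : Ideal B) [hm : m.IsMaximal] : I.map (algebraMap A B) ≤ m :=
  (IsAdicComplete.le_jacobson_bot (I.map (algebraMap A B))).trans (sInf_le ⟨bot_le, hm⟩)

omit [IsNoetherianRing A] [IsAdicComplete I A] [IsNoetherianRing B]
  [IsAdicComplete (I.map (algebraMap A B)) B] in
/-- (c) ⇒ (a) -/
theorem finite_quotient_of_le (h : Module.Finite A (B ⧸ q.asIdeal)) (m : Ideal B)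
    (hqm : q.asIdeal ≤ m) : Module.Finite A (B ⧸ m) :=
  Module.Finite.of_surjective (Ideal.Quotient.factorₐ A hqm).toLinearMap
    (Ideal.Quotient.factor_surjective hqm)

omit [IsNoetherianRing A] [IsAdicComplete I A] in
/-- (a) ⇒ (c), first step: `B ⧸ (q ⊔ IB)` is finite over `A`. -/
theorem finite_quotient_sup (hq : IsRigClosed (I.map (algebraMap A B)) q)
    (h : ∀ m : Ideal B, m.IsMaximal → q.asIdeal ≤ m → Module.Finite A (B ⧸ m)) :
    Module.Finite A (B ⧸ (q.asIdeal ⊔ I.map (algebraMap A B))) := by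
  obtain ⟨m, hm, hqm⟩ := Ideal.exists_le_maximal q.asIdeal q.2.ne_top
  have hfin := h m hm hqm
  have hJm : q.asIdeal ⊔ I.map (algebraMap A B) ≤ m := sup_le hqm (map_le_of_isMaximal I m)
  refine Module.finite_of_surjective_of_ker_le_nilradical (Ideal.Quotient.factorₐ A hJm)
    (Ideal.Quotient.factor_surjective hJm) ?_ (IsNoetherian.noetherian _)
  intro x hx
  obtain ⟨b, rfl⟩ := Ideal.Quotient.mk_surjective x
  have hbm : b ∈ m := by
    rw [RingHom.mem_ker] at hx
    have : (Ideal.Quotient.factorₐ A hJm) (Ideal.Quotient.mk _ b) = Ideal.Quotient.mk m b := rfl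
    rw [this, Ideal.Quotient.eq_zero_iff_mem] at hx
    exact hx
  have hrad : b ∈ (q.asIdeal ⊔ I.map (algebraMap A B)).radical := by
    rw [Ideal.radical_eq_sInf, Ideal.mem_sInf]
    rintro P ⟨hJP, hP⟩
    have hqP : q.asIdeal < P := by
      refine lt_of_le_of_ne (le_sup_left.trans hJP) (fun heq => hq.1 ?_)
      rw [heq]
      exact le_sup_right.trans hJP
    have hPmax := hq.isMaximal_of_lt P hqP
    rw [hq.maximal_unique P m hqP.le hqm]
    exact hbm
  obtain ⟨n, hn⟩ := hrad
  rw [mem_nilradical]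
  refine ⟨n, ?_⟩
  rw [← map_pow, Ideal.Quotient.eq_zero_iff_mem]
  exact hn

omit [IsNoetherianRing A] in
/-- (a) ⇒ (c), second step: complete Nakayama. -/
theorem finite_quotient_of_finite_quotient_sup
    (hfin : Module.Finite A (B ⧸ (q.asIdeal ⊔ I.map (algebraMap A B)))) :
    Module.Finite A (B ⧸ q.asIdeal) := by
  classical
  have hcompl : IsAdicComplete (I.map (algebraMap A B)) (B ⧸ q.asIdeal) :=
    isAdicComplete_quotient_module (I.map (algebraMap A B)) q.asIdeal
  have hhaus : IsHausdorff I (B ⧸ q.asIdeal) :=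
    (IsHausdorff.map_algebraMap_iff (S := B)).mp hcompl.toIsHausdorff
  obtain ⟨n, s, hs⟩ := Module.Finite.exists_fin (R := A)
    (M := B ⧸ (q.asIdeal ⊔ I.map (algebraMap A B)))
  have hlift : ∀ i, ∃ b : B, Ideal.Quotient.mk (q.asIdeal ⊔ I.map (algebraMap A B)) b = s i :=
    fun i => Ideal.Quotient.mk_surjective (s i)
  choose b hb using hlift
  refine finite_of_exists_approx I (B ⧸ q.asIdeal)
    (fun i => Ideal.Quotient.mk q.asIdeal (b i)) (fun y => ?_)
  obtain ⟨y, rfl⟩ := Ideal.Quotient.mk_surjective y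
  have hy : Ideal.Quotient.mk (q.asIdeal ⊔ I.map (algebraMap A B)) y ∈
      Submodule.span A (Set.range s) := by rw [hs]; trivial
  obtain ⟨a, ha⟩ := (Submodule.mem_span_range_iff_exists_fun A).mp hy
  refine ⟨a, ?_⟩
  have h1 : y - ∑ i, a i • b i ∈ q.asIdeal ⊔ I.map (algebraMap A B) := by
    rw [← Ideal.Quotient.eq, map_sum, ← ha]
    apply Finset.sum_congr rfl
    intro i _
    rw [← hb i, Algebra.smul_def, Algebra.smul_def, map_mul]
    rfl
  obtain ⟨x, hx, z, hz, hxz⟩ := Submodule.mem_sup.mp h1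
  have h2 : Ideal.Quotient.mk q.asIdeal y - ∑ i, a i • Ideal.Quotient.mk q.asIdeal (b i) =
      Ideal.Quotient.mk q.asIdeal z := by
    have h3 : ∑ i, a i • Ideal.Quotient.mk q.asIdeal (b i) =
        Ideal.Quotient.mk q.asIdeal (∑ i, a i • b i) := by
      rw [map_sum]
      apply Finset.sum_congr rfl
      intro i _
      rw [Algebra.smul_def, Algebra.smul_def, map_mul]
      rfl
    rw [h3, ← map_sub, ← hxz, map_add, Ideal.Quotient.eq_zero_iff_mem.mpr hx, zero_add]
  rw [h2]
  have hz' : z ∈ (I • ⊤ : Submodule A B) := by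
    rw [Ideal.smul_top_eq_map]
    exact hz
  have h4 : (Ideal.Quotient.mkₐ A q.asIdeal).toLinearMap z ∈
      Submodule.map (Ideal.Quotient.mkₐ A q.asIdeal).toLinearMap (I • ⊤ : Submodule A B) :=
    Submodule.mem_map_of_mem hz'
  rw [Submodule.map_smul''] at h4
  exact Submodule.smul_mono le_rfl le_top h4

omit [IsNoetherianRing A] [IsAdicComplete I A] [IsNoetherianRing B]
  [IsAdicComplete (I.map (algebraMap A B)) B] in
/-- (c) ⇒ (b): if `B ⧸ q` is finite over `A` then the contraction of a rig-closed prime is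
rig-closed. -/
theorem isRigClosed_comap_of_finite (hq : IsRigClosed (I.map (algebraMap A B)) q)
    (hfin : Module.Finite A (B ⧸ q.asIdeal)) :
    IsRigClosed I (PrimeSpectrum.comap (algebraMap A B) q) := by
  refine ⟨fun h => hq.1 (Ideal.map_le_iff_le_comap.mpr h), fun p' hpp' hIp' => ?_⟩
  by_contra hne
  have hint : Algebra.IsIntegral A (B ⧸ q.asIdeal) := Algebra.IsIntegral.of_finite A _
  have hker : RingHom.ker (algebraMap A (B ⧸ q.asIdeal)) ≤ p'.asIdeal := by
    intro a ha
    apply hpp'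
    change algebraMap A B a ∈ q.asIdeal
    rw [RingHom.mem_ker, IsScalarTower.algebraMap_apply A B (B ⧸ q.asIdeal)] at ha
    exact Ideal.Quotient.eq_zero_iff_mem.mp ha
  obtain ⟨Q, hQ, hQp'⟩ := Ideal.exists_ideal_over_prime_of_isIntegral_of_isDomain
    (S := B ⧸ q.asIdeal) p'.asIdeal hker
  let q' : PrimeSpectrum B := ⟨Q.comap (Ideal.Quotient.mk q.asIdeal), inferInstance⟩
  have hqq' : q ≤ q' := by
    change q.asIdeal ≤ Q.comap (Ideal.Quotient.mk q.asIdeal)
    intro x hx
    rw [Ideal.mem_comap, Ideal.Quotient.eq_zero_iff_mem.mpr hx]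
    exact Q.zero_mem
  have hq'p' : q'.asIdeal.comap (algebraMap A B) = p'.asIdeal := by
    rw [← hQp']
    change (Q.comap (Ideal.Quotient.mk q.asIdeal)).comap (algebraMap A B) = _
    rw [Ideal.comap_comap]
    rfl
  by_cases hIq' : I.map (algebraMap A B) ≤ q'.asIdeal
  · apply hIp'
    rw [← hq'p']
    exact Ideal.map_le_iff_le_comap.mp hIq'
  · have := hq.2 q' hqq' hIq'
    apply hne
    apply PrimeSpectrum.ext
    rw [← hq'p', this]
    rfl

omit [IsNoetherianRing B] in
/-- (b) ⇒ (a): if the contraction `p` of `q` is rig-closed, residue fields of `B ⧸ q` are finite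
over `A`. -/
theorem finite_quotient_maximal_of_isRigClosed_comap
    (hft : Algebra.FiniteType A (B ⧸ I.map (algebraMap A B)))
    (hp : IsRigClosed I (PrimeSpectrum.comap (algebraMap A B) q)) (m : Ideal B)
    (hm : m.IsMaximal) (hqm : q.asIdeal ≤ m) : Module.Finite A (B ⧸ m) := by
  have hIBm : I.map (algebraMap A B) ≤ m := map_le_of_isMaximal I m
  have hprime : (m.comap (algebraMap A B)).IsPrime := Ideal.comap_isPrime _ _
  have hlt : (PrimeSpectrum.comap (algebraMap A B) q).asIdeal < m.comap (algebraMap A B) := by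
    refine lt_of_le_of_ne (Ideal.comap_mono hqm) (fun heq => hp.1 ?_)
    rw [heq]
    exact Ideal.map_le_iff_le_comap.mp hIBm
  have hmax : (m.comap (algebraMap A B)).IsMaximal := hp.isMaximal_of_lt _ hlt
  let _ : Field (A ⧸ m.comap (algebraMap A B)) := Ideal.Quotient.field _
  let _ : Field (B ⧸ m) := Ideal.Quotient.field _
  have hft1 : Algebra.FiniteType A (B ⧸ m) :=
    Algebra.FiniteType.of_surjective (Ideal.Quotient.factorₐ A hIBm)
      (Ideal.Quotient.factor_surjective hIBm)
  have hft2 : Algebra.FiniteType (A ⧸ m.comap (algebraMap A B)) (B ⧸ m) :=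
    Algebra.FiniteType.of_restrictScalars_finiteType A _ _
  have hfin : Module.Finite (A ⧸ m.comap (algebraMap A B)) (B ⧸ m) :=
    finite_of_finite_type_of_isJacobsonRing _ _
  exact Module.Finite.trans (A ⧸ m.comap (algebraMap A B)) (B ⧸ m)

omit [IsNoetherianRing A] [IsAdicComplete I A] [IsNoetherianRing B] in
/-- if `A ⧸ I` is Jacobson, residue fields of `B` are finite over `A`. -/
theorem finite_quotient_maximal_of_isJacobsonRing
    (hft : Algebra.FiniteType A (B ⧸ I.map (algebraMap A B))) (hJ : IsJacobsonRing (A ⧸ I))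
    (m : Ideal B) (hm : m.IsMaximal) : Module.Finite A (B ⧸ m) := by
  have hIBm : I.map (algebraMap A B) ≤ m := map_le_of_isMaximal I m
  let _ : Field (B ⧸ m) := Ideal.Quotient.field _
  have hft1 : Algebra.FiniteType A (B ⧸ m) :=
    Algebra.FiniteType.of_surjective (Ideal.Quotient.factorₐ A hIBm)
      (Ideal.Quotient.factor_surjective hIBm)
  have hI : ∀ a ∈ I, algebraMap A (B ⧸ m) a = 0 := by
    intro a ha
    rw [IsScalarTower.algebraMap_apply A B (B ⧸ m)]
    exact Ideal.Quotient.eq_zero_iff_mem.mpr (hIBm (Ideal.mem_map_of_mem _ ha))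
  let _ : Algebra (A ⧸ I) (B ⧸ m) :=
    RingHom.toAlgebra (Ideal.Quotient.lift I (algebraMap A (B ⧸ m)) hI)
  have : IsScalarTower A (A ⧸ I) (B ⧸ m) := IsScalarTower.of_algebraMap_eq (fun x => rfl)
  have hft2 : Algebra.FiniteType (A ⧸ I) (B ⧸ m) :=
    Algebra.FiniteType.of_restrictScalars_finiteType A _ _
  have hfin : Module.Finite (A ⧸ I) (B ⧸ m) :=
    finite_of_finite_type_of_isJacobsonRing _ _
  exact Module.Finite.trans (A ⧸ I) (B ⧸ m)

omit [IsNoetherianRing B] in
/-- maximal ideals above `q` contract to maximal ideals when the contraction of `q` is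
rig-closed -/
theorem isMaximal_comap_of_isRigClosed_comap
    (hp : IsRigClosed I (PrimeSpectrum.comap (algebraMap A B) q)) (m : Ideal B)
    (hm : m.IsMaximal) (hqm : q.asIdeal ≤ m) : (m.comap (algebraMap A B)).IsMaximal := by
  have hIBm : I.map (algebraMap A B) ≤ m := map_le_of_isMaximal I m
  have hprime : (m.comap (algebraMap A B)).IsPrime := Ideal.comap_isPrime _ _
  have hlt : (PrimeSpectrum.comap (algebraMap A B) q).asIdeal < m.comap (algebraMap A B) := by
    refine lt_of_le_of_ne (Ideal.comap_mono hqm) (fun heq => hp.1 ?_)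
    rw [heq]
    exact Ideal.map_le_iff_le_comap.mp hIBm
  exact hp.isMaximal_of_lt _ hlt

omit [IsNoetherianRing A] [IsAdicComplete I A] [IsAdicComplete (I.map (algebraMap A B)) B] in
/-- flat case: a rig-closed prime of `A` lifts to a rig-closed prime of `B` as soon as some
prime of `B` lies over a prime containing it. -/
theorem exists_isRigClosed_comap_eq [Module.Flat A B] (p : PrimeSpectrum A)
    (hp : IsRigClosed I p) (Q : PrimeSpectrum B)
    (hpQ : p.asIdeal ≤ (PrimeSpectrum.comap (algebraMap A B) Q).asIdeal) :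
    ∃ q : PrimeSpectrum B, IsRigClosed (I.map (algebraMap A B)) q ∧
      PrimeSpectrum.comap (algebraMap A B) q = p := by
  have hprime : p.asIdeal.IsPrime := p.2
  have hQprime : Q.asIdeal.IsPrime := Q.2
  have hlies : Q.asIdeal.LiesOver (Q.asIdeal.comap (algebraMap A B)) := ⟨rfl⟩
  have hprime' : (Q.asIdeal.comap (algebraMap A B)).IsPrime := Ideal.comap_isPrime _ _
  obtain ⟨q₀, _, hq₀prime, hq₀over⟩ :=
    Ideal.exists_ideal_le_liesOver_of_le (p := p.asIdeal) (q := Q.asIdeal.comap (algebraMap A B))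
      Q.asIdeal hpQ
  have hq₀p : q₀.comap (algebraMap A B) = p.asIdeal := hq₀over.over.symm
  -- the set of primes above `q₀` not containing `IB`
  let S : Set (Ideal B) := {q' | q'.IsPrime ∧ q₀ ≤ q' ∧ ¬ I.map (algebraMap A B) ≤ q'}
  have hq₀S : q₀ ∈ S := ⟨hq₀prime, le_rfl, fun h => hp.1 (by
    rw [← hq₀p]; exact Ideal.map_le_iff_le_comap.mp h)⟩
  obtain ⟨(q : Ideal B), hqS, hqmax⟩ := set_has_maximal_iff_noetherian.mpr
    (inferInstance : IsNoetherian B B) S ⟨q₀, hq₀S⟩
  have hqprime : q.IsPrime := hqS.1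
  refine ⟨⟨q, hqprime⟩, ⟨hqS.2.2, fun q' hqq' hq' => ?_⟩, ?_⟩
  · have hq'S : q'.asIdeal ∈ S := ⟨q'.2, hqS.2.1.trans hqq', hq'⟩
    have hle : q ≤ q'.asIdeal := hqq'
    rcases eq_or_lt_of_le hle with heq | hlt
    · exact PrimeSpectrum.ext heq.symm
    · exact absurd hlt (hqmax q'.asIdeal hq'S)
  · have hle : p ≤ PrimeSpectrum.comap (algebraMap A B) ⟨q, hqprime⟩ := by
      change p.asIdeal ≤ q.comap (algebraMap A B)
      rw [← hq₀p]
      exact Ideal.comap_mono hqS.2.1
    exact hp.2 _ hle (fun h => hqS.2.2 (Ideal.map_le_iff_le_comap.mpr h))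

end Groth.Agent.H44
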