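import Groth.Agent.H44.RigClosed
import Mathlib.RingTheory.FiniteType
import Mathlib.RingTheory.IntegralClosure.IsIntegralClosure.Basic

set_option autoImplicit false
universe u

namespace Groth.Agent.H44

section transfer

variable {B T : Type*} [CommRing B] [CommRing T] [Algebra B T] (q : Ideal B)

/-- If `B ⧸ q → T ⧸ qT` is surjective, ideals of `T` above `qT` are determined by their
contraction to `B`. -/
theorem le_of_comap_le_of_surjective
    (hsurj : Function.Surjective (Ideal.quotientMap (q.map (algebraMap B T)) (algebraMap B T)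
      Ideal.le_comap_map))
    (y' : Ideal T) (hy' : q.map (algebraMap B T) ≤ y') (J : Ideal B)
    (h : y'.comap (algebraMap B T) ≤ J) : y' ≤ J.map (algebraMap B T) ⊔ q.map (algebraMap B T) := by
  intro t ht
  obtain ⟨x, hx⟩ := hsurj (Ideal.Quotient.mk _ t)
  obtain ⟨b, rfl⟩ := Ideal.Quotient.mk_surjective x
  rw [Ideal.quotientMap_mk, Ideal.Quotient.eq] at hx
  have hb : algebraMap B T b ∈ y' := by
    have := Ideal.add_mem _ (hy' hx) ht
    simpa using this
  have hbJ : b ∈ J := h hb
  have : t = algebraMap B T b - (algebraMap B T b - t) := by ring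
  rw [this]
  exact Ideal.sub_mem _ (Ideal.mem_sup_left (Ideal.mem_map_of_mem _ hbJ)) (Ideal.mem_sup_right hx)

/-- `B → T ⧸ m'` is surjective for `m' ⊇ qT` when `B ⧸ q → T ⧸ qT` is. -/
theorem surjective_mk_comp_of_surjective
    (hsurj : Function.Surjective (Ideal.quotientMap (q.map (algebraMap B T)) (algebraMap B T)
      Ideal.le_comap_map))
    (m' : Ideal T) (hm' : q.map (algebraMap B T) ≤ m') :
    Function.Surjective ((Ideal.Quotient.mk m').comp (algebraMap B T)) := by
  intro y
  obtain ⟨t, rfl⟩ := Ideal.Quotient.mk_surjective y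
  obtain ⟨x, hx⟩ := hsurj (Ideal.Quotient.mk _ t)
  obtain ⟨b, rfl⟩ := Ideal.Quotient.mk_surjective x
  rw [Ideal.quotientMap_mk, Ideal.Quotient.eq] at hx
  refine ⟨b, ?_⟩
  rw [RingHom.comp_apply, Ideal.Quotient.eq]
  exact hm' hx

end transfer

section rig

variable {B T : Type*} [CommRing B] [CommRing T] [Algebra B T] (K : Ideal B)
  (q : PrimeSpectrum B)

/-- Rig-closedness transfers along `B → T` when `B ⧸ q → T ⧸ qT` is bijective. -/
theorem isRigClosed_map_of_bijective (hq : IsRigClosed K q)
    (hbij : Function.Bijective (Ideal.quotientMap (q.asIdeal.map (algebraMap B T))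
      (algebraMap B T) Ideal.le_comap_map))
    (hprime : (q.asIdeal.map (algebraMap B T)).IsPrime) :
    IsRigClosed (K.map (algebraMap B T)) ⟨q.asIdeal.map (algebraMap B T), hprime⟩ := by
  have hcomap : (q.asIdeal.map (algebraMap B T)).comap (algebraMap B T) = q.asIdeal := by
    apply le_antisymm _ Ideal.le_comap_map
    intro b hb
    have h1 : Ideal.quotientMap (q.asIdeal.map (algebraMap B T)) (algebraMap B T)
        Ideal.le_comap_map (Ideal.Quotient.mk _ b) = 0 := by
      rw [Ideal.quotientMap_mk, Ideal.Quotient.eq_zero_iff_mem]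
      exact hb
    have h2 := hbij.1 (h1.trans (map_zero _).symm)
    exact Ideal.Quotient.eq_zero_iff_mem.mp h2
  refine ⟨fun h => hq.1 ?_, fun y' hy' hKy' => ?_⟩
  · rw [← hcomap]
    exact Ideal.map_le_iff_le_comap.mp h
  · have hy'le : q.asIdeal.map (algebraMap B T) ≤ y'.asIdeal := hy'
    let y : PrimeSpectrum B := PrimeSpectrum.comap (algebraMap B T) y'
    have hqy : q ≤ y := by
      change q.asIdeal ≤ y'.asIdeal.comap (algebraMap B T)
      rw [← hcomap]
      exact Ideal.comap_mono hy'le
    have hKy : ¬ K ≤ y.asIdeal := fun h => hKy' (Ideal.map_le_iff_le_comap.mpr h)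
    have hyq : y = q := hq.2 y hqy hKy
    have hle := le_of_comap_le_of_surjective q.asIdeal hbij.2 y'.asIdeal hy'le q.asIdeal
      (by rw [← hyq]; exact le_rfl)
    rw [sup_idem] at hle
    exact PrimeSpectrum.ext (le_antisymm hle hy'le)

end rig

section finite

variable {A A' B T : Type*} [CommRing A] [CommRing A'] [CommRing B] [CommRing T]
  [Algebra A A'] [Algebra A B] [Algebra A T] [Algebra A' T] [Algebra B T]
  [IsScalarTower A A' T] [IsScalarTower A B T]

/-- Finiteness of a residue ring of `T` over `A'` from integrality up to powers of `f` of the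
corresponding residue ring of `B` over `A`, when `f` is invertible in `A'`. -/
theorem finite_quotient_of_isIntegral_pow_mul (m' : Ideal T) (f : A)
    (hf : IsUnit (algebraMap A A' f))
    (hsurj : Function.Surjective ((Ideal.Quotient.mk m').comp (algebraMap B T)))
    (hft : Algebra.FiniteType A (B ⧸ m'.comap (algebraMap B T)))
    (hint : ∀ x : B ⧸ m'.comap (algebraMap B T), ∃ k : ℕ,
      IsIntegral A (algebraMap A (B ⧸ m'.comap (algebraMap B T)) f ^ k * x)) :
    Module.Finite A' (T ⧸ m') := by
  let ρ : (B ⧸ m'.comap (algebraMap B T)) →ₐ[A] (T ⧸ m') :=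
    Ideal.quotientMapₐ m' (IsScalarTower.toAlgHom A B T) le_rfl
  have hρ : Function.Surjective ρ := by
    intro y
    obtain ⟨b, hb⟩ := hsurj y
    exact ⟨Ideal.Quotient.mk _ b, hb⟩
  have hftT : Algebra.FiniteType A (T ⧸ m') := Algebra.FiniteType.of_surjective ρ hρ
  have hftT' : Algebra.FiniteType A' (T ⧸ m') :=
    Algebra.FiniteType.of_restrictScalars_finiteType A A' (T ⧸ m')
  have hintT : Algebra.IsIntegral A' (T ⧸ m') := by
    refine ⟨fun y => ?_⟩
    obtain ⟨x, rfl⟩ := hρ y
    obtain ⟨k, hk⟩ := hint x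
    have h1 : IsIntegral A (ρ (algebraMap A (B ⧸ m'.comap (algebraMap B T)) f ^ k * x)) :=
      hk.map ρ
    have h2 : IsIntegral A' (ρ (algebraMap A (B ⧸ m'.comap (algebraMap B T)) f ^ k * x)) :=
      h1.tower_top
    obtain ⟨v, hv⟩ := hf
    have h3 : ρ x = algebraMap A' (T ⧸ m') ((↑(v⁻¹) : A') ^ k) *
        ρ (algebraMap A (B ⧸ m'.comap (algebraMap B T)) f ^ k * x) := by
      have e1 : ρ (algebraMap A (B ⧸ m'.comap (algebraMap B T)) f ^ k * x) =
          (algebraMap A' (T ⧸ m') (algebraMap A A' f)) ^ k * ρ x := by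
        rw [map_mul, map_pow, AlgHom.commutes, IsScalarTower.algebraMap_apply A A' (T ⧸ m')]
      rw [e1, ← hv, map_pow, ← mul_assoc, ← mul_pow, ← map_mul, Units.inv_mul, map_one, one_pow,
        one_mul]
    rw [h3]
    exact isIntegral_algebraMap.mul h2
  exact Algebra.IsIntegral.finite

end finite

end Groth.Agent.H44
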