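import Groth.Agent.H44.ComplLoc
import Groth.Agent.H44.RigComap
import Groth.Agent.H44.RigTransfer
import Groth.Agent.H44.GenFinite

set_option autoImplicit false
universe u

namespace Groth.Agent.H44

section unit

variable {B : Type*} [CommRing B] [IsNoetherianRing B] (K : Ideal B) [IsAdicComplete K B]
  (q : PrimeSpectrum B)

/-- An element outside the unique maximal ideal over a rig-closed prime is a unit modulo it. -/
theorem IsRigClosed.isUnit_mk_of_notMem (hq : IsRigClosed K q) (m : Ideal B) [hm : m.IsMaximal]
    (hqm : q.asIdeal ≤ m) (b : B) (hb : b ∉ m) : IsUnit (Ideal.Quotient.mk q.asIdeal b) := by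
  by_contra h
  obtain ⟨M, hM, hbM⟩ := exists_max_ideal_of_mem_nonunits (mem_nonunits_iff.mpr h)
  have hM' : (M.comap (Ideal.Quotient.mk q.asIdeal)).IsMaximal :=
    Ideal.comap_isMaximal_of_surjective _ Ideal.Quotient.mk_surjective
  have hqM' : q.asIdeal ≤ M.comap (Ideal.Quotient.mk q.asIdeal) := by
    intro x hx
    rw [Ideal.mem_comap, Ideal.Quotient.eq_zero_iff_mem.mpr hx]
    exact Ideal.zero_mem _
  have heq := hq.maximal_unique (M.comap (Ideal.Quotient.mk q.asIdeal)) m hqM' hqm
  exact hb (heq ▸ (Ideal.mem_comap.mpr hbM))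

end unit

section main

variable {A : Type u} [CommRing A] [IsNoetherianRing A] (I : Ideal A) [IsAdicComplete I A]
  {B : Type u} [CommRing B] [Algebra A B] [IsNoetherianRing B]
  [IsAdicComplete (I.map (algebraMap A B)) B]

local notation "Af" f => Localization.Away f
local notation "Ahat" f => AdicCompletion (Ideal.map (algebraMap A (Localization.Away f)) I)
  (Localization.Away f)
local notation "Bf" f => Localization.Away (algebraMap A B f)
local notation "Bhat" f => AdicCompletion (Ideal.map (algebraMap B (Localization.Away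
  (algebraMap A B f))) (Ideal.map (algebraMap A B) I)) (Localization.Away (algebraMap A B f))

omit [IsAdicComplete I A] in
/-- Stacks-style lemma: for a rig-closed prime `q` of `B` there is `f ∈ A`, a unit modulo `q`, such
that the contraction to the completed localization `A_{f}` of `q B_{f}` is rig-closed. -/
theorem exists_isRigClosed_comap_completedLocalization
    (hft : Algebra.FiniteType A (B ⧸ I.map (algebraMap A B))) (q : PrimeSpectrum B)
    (hq : IsRigClosed (I.map (algebraMap A B)) q) :
    ∃ f : A, IsUnit (Ideal.Quotient.mk q.asIdeal (algebraMap A B f)) ∧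
      ∀ ψ : (Ahat f) →+* (Bhat f),
        ψ.comp (algebraMap (Af f) (Ahat f)) =
          (algebraMap (Bf f) (Bhat f)).comp (Localization.awayMap (algebraMap A B) f) →
        ∃ hprime : ((q.asIdeal.map (algebraMap B (Bhat f))).comap ψ).IsPrime,
          IsRigClosed (I.map (algebraMap A (Ahat f)))
            ⟨(q.asIdeal.map (algebraMap B (Bhat f))).comap ψ, hprime⟩ := by
  obtain ⟨m, hm, hqm⟩ := Ideal.exists_le_maximal q.asIdeal q.2.ne_top
  have hIBm : I.map (algebraMap A B) ≤ m := map_le_of_isMaximal I m
  let _ : Field (B ⧸ m) := Ideal.Quotient.field m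
  have hftm : Algebra.FiniteType A (B ⧸ m) :=
    Algebra.FiniteType.of_surjective (Ideal.Quotient.factorₐ A hIBm)
      (Ideal.Quotient.factor_surjective hIBm)
  obtain ⟨f, hf0, hint⟩ := exists_forall_isIntegral_pow_mul (A := A) (κ := B ⧸ m)
  have hfm : algebraMap A B f ∉ m := fun h => hf0 (Ideal.Quotient.eq_zero_iff_mem.mpr h)
  have hunit : IsUnit (Ideal.Quotient.mk q.asIdeal (algebraMap A B f)) :=
    hq.isUnit_mk_of_notMem (I.map (algebraMap A B)) q m hqm _ hfm
  refine ⟨f, hunit, fun ψ hψ => ?_⟩
  obtain ⟨v, hv⟩ := hunit.exists_right_inv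
  obtain ⟨u, rfl⟩ := Ideal.Quotient.mk_surjective v
  have hu : algebraMap A B f * u - 1 ∈ q.asIdeal := by
    rw [← Ideal.Quotient.eq, map_mul, hv, map_one]
  have hbij := quotientMap_completedLocalization_bijective (I.map (algebraMap A B)) q.asIdeal
    (algebraMap A B f) u hu
  -- q' is prime and rig-closed
  have hq'prime : (q.asIdeal.map (algebraMap B (Bhat f))).IsPrime := by
    rw [← Ideal.Quotient.isDomain_iff_prime]
    exact (RingEquiv.ofBijective _ hbij).toMulEquiv.symm.isDomain
  have hq'rig := isRigClosed_map_of_bijective (I.map (algebraMap A B)) q hq hbij hq'prime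
  -- algebra structures
  let _ : Algebra (Ahat f) (Bhat f) := ψ.toAlgebra
  have hψalg : algebraMap (Ahat f) (Bhat f) = ψ := rfl
  have htowerB : IsScalarTower A B (Bhat f) := IsScalarTower.of_algebraMap_eq fun a => by
    change algebraMap (Bf f) (Bhat f) (algebraMap A (Bf f) a) =
      algebraMap (Bf f) (Bhat f) (algebraMap B (Bf f) (algebraMap A B a))
    rw [IsScalarTower.algebraMap_apply A B (Bf f)]
  have htower : IsScalarTower A (Ahat f) (Bhat f) := IsScalarTower.of_algebraMap_eq fun a => by
    have h1 : algebraMap (Ahat f) (Bhat f) (algebraMap A (Ahat f) a) =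
        (ψ.comp (algebraMap (Af f) (Ahat f))) (algebraMap A (Af f) a) := rfl
    rw [h1, hψ, RingHom.comp_apply, Localization.awayMap, IsLocalization.Away.map,
      IsLocalization.map_eq]
    exact IsScalarTower.algebraMap_apply A B (Bhat f) a
  -- instances
  have : IsNoetherianRing (Af f) :=
    IsLocalization.isNoetherianRing (Submonoid.powers f) _ inferInstance
  have : IsNoetherianRing (Bf f) :=
    IsLocalization.isNoetherianRing (Submonoid.powers (algebraMap A B f)) _ inferInstance
  have hJAfg : (Ideal.map (algebraMap A (Af f)) I).FG := Ideal.FG.map (IsNoetherian.noetherian I) _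
  have hJBfg : (Ideal.map (algebraMap B (Bf f)) (Ideal.map (algebraMap A B) I)).FG :=
    Ideal.FG.map (IsNoetherian.noetherian _) _
  have hIA' : I.map (algebraMap A (Ahat f)) =
      (I.map (algebraMap A (Af f))).map (algebraMap (Af f) (Ahat f)) :=
    (Ideal.map_map (I := I) (algebraMap A (Af f)) (algebraMap (Af f) (Ahat f))).symm
  have hIB' : (I.map (algebraMap A B)).map (algebraMap B (Bhat f)) =
      ((I.map (algebraMap A B)).map (algebraMap B (Bf f))).map (algebraMap (Bf f) (Bhat f)) :=
    (Ideal.map_map (I := I.map (algebraMap A B)) (algebraMap B (Bf f))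
      (algebraMap (Bf f) (Bhat f))).symm
  have hKeq : (I.map (algebraMap A (Ahat f))).map (algebraMap (Ahat f) (Bhat f)) =
      (I.map (algebraMap A B)).map (algebraMap B (Bhat f)) :=
    calc (I.map (algebraMap A (Ahat f))).map (algebraMap (Ahat f) (Bhat f))
        = I.map ((algebraMap (Ahat f) (Bhat f)).comp (algebraMap A (Ahat f))) :=
          Ideal.map_map _ _
      _ = I.map (algebraMap A (Bhat f)) :=
          congrArg (fun g => Ideal.map g I) (IsScalarTower.algebraMap_eq A (Ahat f) (Bhat f)).symm
      _ = I.map ((algebraMap B (Bhat f)).comp (algebraMap A B)) :=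
          congrArg (fun g => Ideal.map g I) (IsScalarTower.algebraMap_eq A B (Bhat f))
      _ = (I.map (algebraMap A B)).map (algebraMap B (Bhat f)) := (Ideal.map_map _ _).symm
  have : IsAdicComplete (I.map (algebraMap A (Ahat f))) (Ahat f) := by
    rw [hIA']
    exact AdicCompletion.isAdicComplete_self _ hJAfg
  have : IsAdicComplete ((I.map (algebraMap A (Ahat f))).map (algebraMap (Ahat f) (Bhat f))) (Bhat f) := by
    rw [hKeq, hIB']
    exact AdicCompletion.isAdicComplete_self _ hJBfg
  have hq'rig' : IsRigClosed ((I.map (algebraMap A (Ahat f))).map (algebraMap (Ahat f) (Bhat f)))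
      ⟨q.asIdeal.map (algebraMap B (Bhat f)), hq'prime⟩ := by
    rw [hKeq]; exact hq'rig
  have hfunit : IsUnit (algebraMap A (Ahat f) f) := by
    have h1 : algebraMap A (Ahat f) f = algebraMap (Af f) (Ahat f) (algebraMap A (Af f) f) := rfl
    rw [h1]
    exact (IsLocalization.Away.algebraMap_isUnit f).map _
  -- residue fields
  have hfinmax : ∀ m' : Ideal (Bhat f), m'.IsMaximal → q.asIdeal.map (algebraMap B (Bhat f)) ≤ m' →
      Module.Finite (Ahat f) ((Bhat f) ⧸ m') := by
    intro m' hm' hq'm'
    have hsurj := surjective_mk_comp_of_surjective q.asIdeal hbij.2 m' hq'm'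
    have hcomap : m'.comap (algebraMap B (Bhat f)) = m := by
      let _ : Field ((Bhat f) ⧸ m') := Ideal.Quotient.field m'
      have hker : m'.comap (algebraMap B (Bhat f)) =
          RingHom.ker ((Ideal.Quotient.mk m').comp (algebraMap B (Bhat f))) := by
        rw [← RingHom.comap_ker, Ideal.mk_ker]
      have hmax1 : (m'.comap (algebraMap B (Bhat f))).IsMaximal := by
        rw [hker]
        exact RingHom.ker_isMaximal_of_surjective _ hsurj
      have hle : q.asIdeal ≤ m'.comap (algebraMap B (Bhat f)) :=
        Ideal.le_comap_map.trans (Ideal.comap_mono hq'm')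
      exact hq.maximal_unique _ m hle hqm
    subst hcomap
    exact finite_quotient_of_isIntegral_pow_mul (A := A) (A' := (Ahat f)) (B := B) (T := (Bhat f)) m' f
      hfunit hsurj hftm hint
  have hfin_sup := finite_quotient_sup (I.map (algebraMap A (Ahat f)))
    ⟨q.asIdeal.map (algebraMap B (Bhat f)), hq'prime⟩ hq'rig' hfinmax
  have hfin := finite_quotient_of_finite_quotient_sup (I.map (algebraMap A (Ahat f)))
    ⟨q.asIdeal.map (algebraMap B (Bhat f)), hq'prime⟩ hfin_sup
  have hrig := isRigClosed_comap_of_finite (I.map (algebraMap A (Ahat f)))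
    ⟨q.asIdeal.map (algebraMap B (Bhat f)), hq'prime⟩ hq'rig' hfin
  exact ⟨(PrimeSpectrum.comap (algebraMap (Ahat f) (Bhat f))
    ⟨q.asIdeal.map (algebraMap B (Bhat f)), hq'prime⟩).2, hrig⟩

end main

end Groth.Agent.H44
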