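import Mathlib.RingTheory.Ideal.KrullsHeightTheorem
import Mathlib.RingTheory.Ideal.MinimalPrime.Noetherian
import Mathlib.RingTheory.Ideal.Height
import Mathlib.RingTheory.KrullDimension.Basic
import Mathlib.RingTheory.Henselian

set_option autoImplicit false
universe u

namespace Groth.Agent.H44

variable {D : Type*} [CommRing D] [IsDomain D] [IsNoetherianRing D]

/-- In a Noetherian domain in which every nonzero prime contains a fixed nonzero element `f`,
every prime has height at most one. -/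
theorem height_le_one_of_forall_mem (f : D) (hf : f ≠ 0)
    (hall : ∀ P : Ideal D, P.IsPrime → P ≠ ⊥ → f ∈ P) (P : Ideal D) [hP : P.IsPrime] :
    P.height ≤ 1 := by
  classical
  by_cases hP0 : P = ⊥
  · rw [hP0, Ideal.height_bot]; exact zero_le_one
  have hfin := Ideal.finite_minimalPrimes_of_isNoetherianRing D (Ideal.span {f})
  by_cases hPS : P ∈ (Ideal.span {f}).minimalPrimes
  · exact Ideal.height_le_one_of_isPrincipal_of_mem_minimalPrimes _ P hPS
  exfalso
  have hfP : Ideal.span {f} ≤ P := by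
    rw [Ideal.span_singleton_le_iff_mem]; exact hall P hP hP0
  obtain ⟨Q, hQS, hQP⟩ := Ideal.exists_minimalPrimes_le hfP
  have hnot : ∀ Q' ∈ (Ideal.span {f}).minimalPrimes, ¬ P ≤ Q' := by
    intro Q' hQ' hPQ'
    have h1 : Q' ≤ Q := hQ'.2 hQS.1 (hQP.trans hPQ')
    have h2 : P = Q := le_antisymm (hPQ'.trans h1) hQP
    exact hPS (h2 ▸ hQS)
  have havoid : ¬ ((P : Set D) ⊆ ⋃ i ∈ (↑hfin.toFinset : Set (Ideal D)), (id i : Ideal D)) := by
    rw [Ideal.subset_union_prime (f := id) ⊥ ⊥]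
    · rintro ⟨i, hi, hPi⟩
      exact hnot i (hfin.mem_toFinset.mp hi) hPi
    · intro i hi _ _
      exact (hfin.mem_toFinset.mp hi).isPrime
  rw [Set.not_subset] at havoid
  obtain ⟨g, hgP, hg⟩ := havoid
  have hgS : ∀ Q' ∈ (Ideal.span {f}).minimalPrimes, g ∉ Q' := by
    intro Q' hQ' hgQ'
    apply hg
    rw [Set.mem_iUnion₂]
    exact ⟨Q', Finset.mem_coe.mpr (hfin.mem_toFinset.mpr hQ'), hgQ'⟩
  have hgP' : Ideal.span {g} ≤ P := by
    rw [Ideal.span_singleton_le_iff_mem]; exact hgP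
  obtain ⟨Q₂, hQ₂, hQ₂P⟩ := Ideal.exists_minimalPrimes_le hgP'
  have hQ₂prime : Q₂.IsPrime := hQ₂.isPrime
  have hgQ₂ : g ∈ Q₂ := hQ₂.1.2 (Ideal.mem_span_singleton_self g)
  have hg0 : g ≠ 0 := fun h => hgS Q hQS (h ▸ Q.zero_mem)
  have hQ₂0 : Q₂ ≠ ⊥ := fun h => hg0 (by rw [h] at hgQ₂; exact hgQ₂)
  have hfQ₂ : Ideal.span {f} ≤ Q₂ := by
    rw [Ideal.span_singleton_le_iff_mem]; exact hall Q₂ hQ₂prime hQ₂0
  obtain ⟨Q₃, hQ₃, hQ₃Q₂⟩ := Ideal.exists_minimalPrimes_le hfQ₂
  have hQ₃prime : Q₃.IsPrime := hQ₃.isPrime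
  have hQ₂h : Q₂.height ≤ 1 := Ideal.height_le_one_of_isPrincipal_of_mem_minimalPrimes _ Q₂ hQ₂
  have hfQ₃ : f ∈ Q₃ := hQ₃.1.2 (Ideal.mem_span_singleton_self f)
  have hQ₃0 : Q₃ ≠ ⊥ := fun h => hf (by rw [h] at hfQ₃; exact hfQ₃)
  rcases eq_or_lt_of_le hQ₃Q₂ with heq | hlt
  · exact hgS Q₃ hQ₃ (heq ▸ hgQ₂)
  · have h1 := Ideal.height_add_one_le_of_lt_of_isPrime hlt
    have h2 : Q₃.height = 0 := by
      have : Q₃.height + 1 ≤ 1 := h1.trans hQ₂h
      by_contra hne
      have h3 : (1 : ℕ∞) ≤ Q₃.height := Order.one_le_iff_pos.mpr (pos_iff_ne_zero.mpr hne)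
      have h4 : (1 : ℕ∞) + 1 ≤ 1 := (add_le_add_left h3 1).trans this
      exact absurd h4 (by decide)
    exact hQ₃0 (Ideal.height_eq_zero_iff_eq_bot.mp h2)


section

variable (K : Ideal D) (hK0 : K ≠ ⊥) (hK1 : K ≠ ⊤)
  (hK : ∀ P : Ideal D, P.IsPrime → P ≠ ⊥ → K ≤ P)

include hK0 hK in
theorem height_le_one_of_forall_le (P : Ideal D) [P.IsPrime] : P.height ≤ 1 := by
  obtain ⟨f, hfK, hf0⟩ := Submodule.exists_mem_ne_zero_of_ne_bot hK0
  exact height_le_one_of_forall_mem f hf0 (fun Q hQ hQ0 => hK Q hQ hQ0 hfK) P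

include hK0 hK in
theorem isMaximal_of_ne_bot (P : Ideal D) [hP : P.IsPrime] (hP0 : P ≠ ⊥) : P.IsMaximal := by
  obtain ⟨m, hm, hPm⟩ := Ideal.exists_le_maximal P hP.ne_top
  rcases eq_or_lt_of_le hPm with heq | hlt
  · exact heq ▸ hm
  · exfalso
    have : m.IsPrime := hm.isPrime
    have h1 := Ideal.height_add_one_le_of_lt_of_isPrime hlt
    have h2 := height_le_one_of_forall_le K hK0 hK m
    have h3 : P.height = 0 := by
      by_contra hne
      have h3 : (1 : ℕ∞) ≤ P.height := Order.one_le_iff_pos.mpr (pos_iff_ne_zero.mpr hne)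
      have h4 : (1 : ℕ∞) + 1 ≤ 1 := (add_le_add_left h3 1).trans (h1.trans h2)
      exact absurd h4 (by decide)
    exact hP0 (Ideal.height_eq_zero_iff_eq_bot.mp h3)

include hK0 hK1 hK in
theorem ringKrullDim_eq_one_of_forall_le : ringKrullDim D = 1 := by
  apply le_antisymm
  · rw [ringKrullDim_le_iff_height_le]
    intro P hP
    have := height_le_one_of_forall_le K hK0 hK P
    exact_mod_cast this
  · obtain ⟨m, hm, hKm⟩ := Ideal.exists_le_maximal K hK1
    have : m.IsPrime := hm.isPrime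
    have hm0 : m ≠ ⊥ := fun h => hK0 (le_bot_iff.mp (h ▸ hKm))
    have h1 : (1 : ℕ∞) ≤ m.height := by
      apply Order.one_le_iff_pos.mpr
      apply pos_iff_ne_zero.mpr
      intro h
      exact hm0 (Ideal.height_eq_zero_iff_eq_bot.mp h)
    refine le_trans ?_ (Ideal.height_le_ringKrullDim_of_isPrime (I := m))
    exact_mod_cast h1

end


section Local

variable (K : Ideal D) (hK0 : K ≠ ⊥) (hK1 : K ≠ ⊤)
  (hK : ∀ P : Ideal D, P.IsPrime → P ≠ ⊥ → K ≤ P)

omit [IsDomain D] [IsNoetherianRing D] in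
include hK0 hK1 in
theorem maximal_ne_bot (m : Ideal D) [hm : m.IsMaximal] : m ≠ ⊥ := by
  rintro rfl
  exact hK1 (hm.1.2 K (bot_lt_iff_ne_bot.mpr hK0))

include hK0 hK1 hK in
theorem maximal_unique [HenselianRing D K.radical] (m₁ m₂ : Ideal D) [hm₁ : m₁.IsMaximal]
    [hm₂ : m₂.IsMaximal] : m₁ = m₂ := by
  classical
  by_contra hne
  obtain ⟨f, hfK, hf0⟩ := Submodule.exists_mem_ne_zero_of_ne_bot hK0
  have hfin := Ideal.finite_minimalPrimes_of_isNoetherianRing D (Ideal.span {f})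
  -- maximal ideals are minimal over `f`
  have hmaxS : ∀ m : Ideal D, m.IsMaximal → m ∈ (Ideal.span {f}).minimalPrimes := by
    intro m hm
    have hm0 : m ≠ ⊥ := maximal_ne_bot K hK0 hK1 m
    refine ⟨⟨hm.isPrime, ?_⟩, ?_⟩
    · rw [Ideal.span_singleton_le_iff_mem]
      exact hK m hm.isPrime hm0 hfK
    · rintro Q ⟨hQ, hfQ⟩ hQm
      have hQ0 : Q ≠ ⊥ := fun h => hf0 (by
        have := hfQ (Ideal.mem_span_singleton_self f)
        rw [h] at this
        exact this)
      have hQmax := isMaximal_of_ne_bot K hK0 hK Q hQ0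
      exact (hQmax.eq_of_le hm.ne_top hQm).ge
  have hSmax : ∀ P ∈ (Ideal.span {f}).minimalPrimes, P.IsMaximal := by
    intro P hP
    have hPprime : P.IsPrime := hP.isPrime
    have hfP : f ∈ P := hP.1.2 (Ideal.mem_span_singleton_self f)
    have hP0 : P ≠ ⊥ := fun h => hf0 (by rw [h] at hfP; exact hfP)
    exact isMaximal_of_ne_bot K hK0 hK P hP0
  -- membership in the radical
  have hrad : ∀ x : D, (∀ P ∈ (Ideal.span {f}).minimalPrimes, x ∈ P) → x ∈ K.radical := by
    intro x hx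
    rw [Ideal.radical_eq_sInf, Ideal.mem_sInf]
    rintro P ⟨hKP, hP⟩
    have hP0 : P ≠ ⊥ := fun h => hK0 (le_bot_iff.mp (h ▸ hKP))
    exact hx P (hmaxS P (isMaximal_of_ne_bot K hK0 hK P hP0))
  have hradle : ∀ m : Ideal D, m.IsMaximal → K.radical ≤ m := by
    intro m hm
    have hm0 : m ≠ ⊥ := maximal_ne_bot K hK0 hK1 m
    exact hm.isPrime.radical_le_iff.mpr (hK m hm.isPrime hm0)
  let T : Finset (Ideal D) := hfin.toFinset.erase m₁
  have hsup : m₁ ⊔ ⨅ P ∈ T, P = ⊤ := by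
    apply Ideal.sup_iInf_eq_top
    intro P hP
    rw [Finset.mem_erase] at hP
    have hPmax := hSmax P (hfin.mem_toFinset.mp hP.2)
    exact Ideal.IsMaximal.coprime_of_ne hm₁ hPmax (Ne.symm hP.1)
  have h1 : (1 : D) ∈ m₁ ⊔ ⨅ P ∈ T, P := by rw [hsup]; trivial
  obtain ⟨a, ha, e, he, hae⟩ := Submodule.mem_sup.mp h1
  have heT : ∀ P ∈ T, e ∈ P := by
    intro P hP
    have := he
    rw [Ideal.mem_iInf] at this
    have h2 := this P
    rw [Ideal.mem_iInf] at h2
    exact h2 hP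
  have hea : e * a ∈ K.radical := by
    apply hrad
    intro P hP
    by_cases hPm : P = m₁
    · rw [hPm]; exact Ideal.mul_mem_left _ _ ha
    · exact Ideal.mul_mem_right _ _ (heT P (Finset.mem_erase.mpr ⟨hPm, hfin.mem_toFinset.mpr hP⟩))
  have ha' : a = 1 - e := by rw [← hae]; ring
  -- Hensel
  have hroot := HenselianRing.is_henselian (I := K.radical)
    (Polynomial.X ^ 2 - Polynomial.X : Polynomial D)
    (by
      apply Polynomial.monic_X_pow_sub
      rw [Polynomial.degree_X]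
      norm_num) e
    (by
      have : (Polynomial.X ^ 2 - Polynomial.X : Polynomial D).eval e = -(e * a) := by
        simp only [Polynomial.eval_sub, Polynomial.eval_pow, Polynomial.eval_X, ha']
        ring
      rw [this]
      exact neg_mem hea)
    (by
      have hder : (Polynomial.X ^ 2 - Polynomial.X : Polynomial D).derivative.eval e =
          2 * e - 1 := by
        simp only [Polynomial.derivative_sub, Polynomial.derivative_X_pow, Polynomial.derivative_X,
          Polynomial.eval_sub, Polynomial.eval_mul, Polynomial.eval_pow, Polynomial.eval_X,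
          Polynomial.eval_one, Polynomial.eval_C, Nat.cast_ofNat]
        norm_num
      rw [hder]
      apply IsUnit.of_mul_eq_one (Ideal.Quotient.mk K.radical (2 * e - 1))
      rw [← map_mul, ← map_one (Ideal.Quotient.mk K.radical), Ideal.Quotient.eq]
      have : (2 * e - 1) * (2 * e - 1) - 1 = -(4 * (e * a)) := by rw [ha']; ring
      rw [this]
      exact neg_mem (Ideal.mul_mem_left _ _ hea))
  obtain ⟨e', he'root, he'e⟩ := hroot
  have he'2 : e' * (e' - 1) = 0 := by
    have := he'root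
    simp only [Polynomial.IsRoot, Polynomial.eval_sub, Polynomial.eval_pow,
      Polynomial.eval_X] at this
    rw [← this]; ring
  rcases mul_eq_zero.mp he'2 with h0 | h1'
  · -- e' = 0
    have heK : e ∈ K.radical := by
      have := neg_mem he'e
      rwa [h0, zero_sub, neg_neg] at this
    have : (1 : D) ∈ m₁ := by
      rw [← hae]
      exact add_mem ha (hradle m₁ hm₁ heK)
    exact hm₁.ne_top ((Ideal.eq_top_iff_one _).mpr this)
  · -- e' = 1
    have he'1 : e' = 1 := sub_eq_zero.mp h1'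
    have h1e : 1 - e ∈ K.radical := by rwa [he'1] at he'e
    have hm₂T : m₂ ∈ T := Finset.mem_erase.mpr
      ⟨fun h => hne h.symm, hfin.mem_toFinset.mpr (hmaxS m₂ hm₂)⟩
    have : (1 : D) ∈ m₂ := by
      have h2 : (1 : D) = (1 - e) + e := by ring
      rw [h2]
      exact add_mem (hradle m₂ hm₂ h1e) (heT m₂ hm₂T)
    exact hm₂.ne_top ((Ideal.eq_top_iff_one _).mpr this)

end Local

end Groth.Agent.H44
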