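import Groth.Agent.H44.AffineFree
import Groth.Agent.H18.EpiLocSurj

/-!
# Local lifting of maps out of finite free modules through an epimorphism

* `restrictUnitIso_hom_app_one`, `restrictUnitIso_inv_app_one`.
* `exists_local_lift_unit` : a map `𝒪_Y ⟶ F` lifts locally through an epi `G ⟶ F`.
* `exists_local_lift_freeMod` : the same for `𝒪_Y^n`.
* `restrictRestrictNatIso` : the natural isomorphism `(−)|_k|_j ≅ (−)|_l` for `j ≫ k = l`.
* `exists_local_lift_of_isFinLocFree` : the same for a finite locally free source.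
-/

set_option autoImplicit false
universe u
open CategoryTheory Limits Opposite AlgebraicGeometry TopologicalSpace Scheme.Modules

namespace Groth.Agent.H44
variable {X Y Z : Scheme.{u}}

theorem restrictUnitIso_hom_app_one {Y' : Scheme.{u}} (j : Y' ⟶ Y) [IsOpenImmersion j] (O : Y'.Opens) :
    (restrictUnitIso j).hom.val.app (op O) (1 : Γ(Y, j ''ᵁ O)) = (1 : Γ(Y', O)) := by
  exact map_one (j.appIso O).hom.hom

theorem restrictUnitIso_inv_app_one {Y' : Scheme.{u}} (j : Y' ⟶ Y) [IsOpenImmersion j] (O : Y'.Opens) :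
    (restrictUnitIso j).inv.val.app (op O) (1 : Γ(Y', O)) = (1 : Γ(Y, j ''ᵁ O)) := by
  exact map_one (j.appIso O).inv.hom

/-- A map `𝒪_Y ⟶ F` lifts locally through an epimorphism `G ⟶ F`. -/
theorem exists_local_lift_unit {G F : Y.Modules} (q : G ⟶ F) [Epi q]
    (c : Coh.structureModule Y ⟶ F) (y : Y) :
    ∃ W : Y.Opens, y ∈ W ∧ ∀ (Y' : Scheme.{u}) (j : Y' ⟶ Y) [IsOpenImmersion j],
      j.opensRange ≤ W → ∃ d : Coh.structureModule Y' ⟶ G.restrict j,
        d ≫ (restrictFunctor j).map q = (restrictUnitIso j).inv ≫ (restrictFunctor j).map c := by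
  let s := F.unitHomEquiv c
  have hq : @Epi (SheafOfModules.{u} Y.ringCatSheaf) _ G F q := ‹Epi q›
  obtain ⟨S, hS, hS'⟩ := @Groth.Agent.H18.exists_cover_mem_range_of_epi _ _ _ Y.ringCatSheaf _ _
    G F q hq (⊤ : Y.Opens) (s.val (op ⊤))
  obtain ⟨W, f, hf, hyW⟩ := hS y trivial
  obtain ⟨m, hm⟩ := hS' f hf
  have hm' : q.val.app (op W) m = s.val (op W) := by
    rw [hm]; exact PresheafOfModules.sections_property s f.op
  refine ⟨W, hyW, fun Y' j _ hj => ?_⟩
  have hle : ∀ O : Y'.Opens, j ''ᵁ O ≤ W := fun O =>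
    le_trans (by
      rw [← Scheme.Hom.image_top_eq_opensRange]
      exact Scheme.Hom.image_mono j le_top) hj
  let t : (G.restrict j).val.sections :=
    PresheafOfModules.sectionsMk (M := (G.restrict j).val)
      (fun O => G.val.map (homOfLE (hle O.unop)).op m)
      (by
        intro O O' g
        change (G.val.map (j.opensFunctor.map g.unop).op) (G.val.map (homOfLE (hle O.unop)).op m) = _
        rw [← PresheafOfModules.map_comp_apply]
        rfl)
  refine ⟨(G.restrict j).unitHomEquiv.symm t, ?_⟩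
  have ht : (G.restrict j).unitHomEquiv ((G.restrict j).unitHomEquiv.symm t) = t :=
    Equiv.apply_symm_apply _ _
  apply (F.restrict j).unitHomEquiv.injective
  apply PresheafOfModules.sections_ext
  intro O
  have h0 : ((G.restrict j).unitHomEquiv ((G.restrict j).unitHomEquiv.symm t)).val O =
      G.val.map (homOfLE (hle O.unop)).op m :=
    congrArg (fun z : (G.restrict j).val.sections => z.val O) ht
  have h1 : ((F.restrict j).unitHomEquiv
      ((G.restrict j).unitHomEquiv.symm t ≫ (restrictFunctor j).map q)).val O =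
      q.val.app (op (j ''ᵁ O.unop)) (G.val.map (homOfLE (hle O.unop)).op m) :=
    Eq.trans (by rfl) (congrArg (q.val.app (op (j ''ᵁ O.unop))) h0)
  have h2 : ((F.restrict j).unitHomEquiv ((restrictUnitIso j).inv ≫ (restrictFunctor j).map c)).val O =
      c.val.app (op (j ''ᵁ O.unop)) ((restrictUnitIso j).inv.val.app O (1 : Γ(Y', O.unop))) := rfl
  refine h1.trans (Eq.trans ?_ h2.symm)
  obtain ⟨O⟩ := O
  rw [restrictUnitIso_inv_app_one]
  have h3 : q.val.app (op (j ''ᵁ O)) (G.val.map (homOfLE (hle O)).op m) =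
      F.val.map (homOfLE (hle O)).op (q.val.app (op W) m) :=
    PresheafOfModules.naturality_apply q.val (homOfLE (hle O)).op m
  rw [h3, hm']
  exact PresheafOfModules.sections_property s (homOfLE (hle O)).op

/-- A map `𝒪_Y^n ⟶ F` lifts locally through an epimorphism `G ⟶ F`. -/
theorem exists_local_lift_freeMod {G F : Y.Modules} (q : G ⟶ F) [Epi q] {n : ℕ}
    (a : FlatMod.freeMod Y n ⟶ F) (y : Y) :
    ∃ W : Y.Opens, y ∈ W ∧ ∀ (Y' : Scheme.{u}) (j : Y' ⟶ Y) [IsOpenImmersion j],
      j.opensRange ≤ W → ∃ b : FlatMod.freeMod Y' n ⟶ G.restrict j,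
        b ≫ (restrictFunctor j).map q = restrictFreeHom j a := by
  choose W hyW hW using fun i : Fin n =>
    exists_local_lift_unit q (Sigma.ι (fun _ : Fin n => Coh.structureModule Y) i ≫ a) y
  refine ⟨⨅ i, W i, ?_, fun Y' j _ hj => ?_⟩
  · rw [← SetLike.mem_coe, Opens.coe_iInf]
    exact Set.mem_iInter.mpr hyW
  · choose d hd using fun i => hW i Y' j (hj.trans (iInf_le W i))
    refine ⟨Sigma.desc d, ?_⟩
    apply Sigma.hom_ext
    intro i
    rw [Sigma.ι_desc_assoc, hd i]
    simp [restrictFreeHom, restrictFreeModIso]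

/-- The natural isomorphism `(−)|_k|_j ≅ (−)|_l` for `j ≫ k = l`. -/
noncomputable def restrictRestrictNatIso (j : Y ⟶ Z) (k : Z ⟶ X) (l : Y ⟶ X)
    [IsOpenImmersion j] [IsOpenImmersion k] [IsOpenImmersion l] (h : j ≫ k = l) :
    restrictFunctor k ⋙ restrictFunctor j ≅ restrictFunctor l :=
  haveI : IsOpenImmersion (j ≫ k) := by rw [h]; infer_instance
  (restrictFunctorComp j k).symm ≪≫ restrictFunctorCongr h

/-- A map out of a finite locally free module lifts locally through an epimorphism. -/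
theorem exists_local_lift_of_isFinLocFree {E F G : X.Modules} (p : G ⟶ F) [Epi p] (φ : E ⟶ F)
    (hE : FlatMod.IsFinLocFree E) (x : X) :
    ∃ (V : X.Opens) (ψ : E.restrict V.ι ⟶ G.restrict V.ι), x ∈ V ∧
      ψ ≫ (restrictFunctor V.ι).map p = (restrictFunctor V.ι).map φ := by
  obtain ⟨U, n, hxU, ⟨e⟩⟩ := hE x
  have : Epi ((restrictFunctor U.ι).map p) := inferInstance
  obtain ⟨W, hxW, hW⟩ := exists_local_lift_freeMod ((restrictFunctor U.ι).map p)
    (e.inv ≫ (restrictFunctor U.ι).map φ) ⟨x, hxU⟩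
  let V : X.Opens := U.ι ''ᵁ W
  have hVU : V ≤ U := U.ι_image_le W
  let j : V.toScheme ⟶ U.toScheme := X.homOfLE hVU
  have hj : j ≫ U.ι = V.ι := X.homOfLE_ι hVU
  have hjW : j.opensRange ≤ W := by
    rw [Scheme.opensRange_homOfLE]
    exact le_of_eq (Scheme.Hom.preimage_image_eq U.ι W)
  obtain ⟨b, hb⟩ := hW V.toScheme j hjW
  let N := restrictRestrictNatIso j U.ι V.ι hj
  refine ⟨V, N.inv.app E ≫ (restrictFunctor j).map e.hom ≫ (restrictFreeModIso j n).hom ≫ b ≫
    N.hom.app G, ⟨⟨x, hxU⟩, hxW, rfl⟩, ?_⟩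
  have hnatG : N.hom.app G ≫ (restrictFunctor V.ι).map p =
      (restrictFunctor j).map ((restrictFunctor U.ι).map p) ≫ N.hom.app F := (N.hom.naturality p).symm
  have hnatE : N.hom.app E ≫ (restrictFunctor V.ι).map φ =
      (restrictFunctor j).map ((restrictFunctor U.ι).map φ) ≫ N.hom.app F := (N.hom.naturality φ).symm
  simp only [Category.assoc]
  rw [hnatG, reassoc_of% hb]
  simp only [restrictFreeHom, Functor.map_comp, Category.assoc, Iso.hom_inv_id_assoc]
  rw [← (restrictFunctor j).map_comp_assoc e.hom e.inv, e.hom_inv_id, CategoryTheory.Functor.map_id,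
    Category.id_comp, ← hnatE, Iso.inv_hom_id_app_assoc]

end Groth.Agent.H44
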