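import Groth.Agent.H44.AffineFree
import Groth.Agent.H44.FiniteSections

/-!
# Sections of finitely presented O-modules over affine opens are finitely presented modules (helper44)

`finitePresentation_sections_of_isFinitePresentation`: if `F` is a finitely presented `O_X`-module
(`SheafOfModules.IsFinitePresentation`, the prelude's `CohB1.IsFP`), then `Γ(F,V)` is a finitely presented
`Γ(X,V)`-module for every affine open `V`.
-/

set_option autoImplicit false
universe u
open CategoryTheory Limits AlgebraicGeometry Scheme.Modules TopologicalSpace Opposite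

namespace Groth.Agent.H44

theorem presentation_map_isFinite {C : Type*} [Category C] {J : GrothendieckTopology C}
    {R : Sheaf J RingCat.{u}} [HasSheafify J AddCommGrpCat.{u}]
    [J.WEqualsLocallyBijective AddCommGrpCat.{u}]
    {C' : Type*} [Category C'] {J' : GrothendieckTopology C'} {S : Sheaf J' RingCat.{u}}
    [HasSheafify J' AddCommGrpCat.{u}] [J'.WEqualsLocallyBijective AddCommGrpCat.{u}]
    {M : SheafOfModules.{u} R} (P : M.Presentation) [P.IsFinite]
    (F : SheafOfModules.{u} R ⥤ SheafOfModules.{u} S) [PreservesColimitsOfSize.{u, u} F]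
    (η : SheafOfModules.unit S ≅ F.obj (SheafOfModules.unit R)) : (P.map F η).IsFinite where
  isFiniteType_generators := ⟨inferInstanceAs (Finite P.generators.I)⟩
  isFiniteType_relations := ⟨inferInstanceAs (Finite P.relations.I)⟩

set_option backward.isDefEq.respectTransparency false in
/-- finite-presentation analogue of `Scheme.Modules.exists_isOpenCover_presentation` -/
lemma exists_isOpenCover_presentation_isFinite {X : Scheme.{u}} (M : X.Modules)
    [SheafOfModules.IsFinitePresentation (R := X.ringCatSheaf) M] :
    ∃ (ι : Type u) (U : ι → X.Opens) (σ : ∀ i, (M.restrict (U i).ι).Presentation),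
      (∀ i, (σ i).IsFinite) ∧ IsOpenCover U ∧ (∀ i, IsAffineOpen (U i)) := by
  obtain ⟨q, hq⟩ := SheafOfModules.IsFinitePresentation.exists_quasicoherentData M
  choose κ hsub heq using fun i ↦ Opens.isBasis_iff_cover.mp X.isBasis_affineOpens (q.X i)
  have key : ∀ j : (Σ (i : q.I), κ i),
      ∃ σ : (M.restrict (Scheme.Opens.ι (j.2 : X.Opens))).Presentation, σ.IsFinite := by
    intro i
    let u := X.homOfLE (U := i.2) (V := q.X i.1) (by simp [heq, le_sSup])
    have : PreservesColimitsOfSize.{u, u} (restrictFunctor u) := inferInstance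
    let F := (overEquiv (q.X i.1)).functor ⋙ restrictFunctor u
    let iso : SheafOfModules.overFunctor X.ringCatSheaf _ ⋙ F ≅ restrictFunctor
      (Scheme.Opens.ι i.2.1) := (Functor.associator _ _ _).symm ≪≫
        Functor.isoWhiskerRight (Scheme.Modules.overFunctorEquiv _) _ ≪≫
        (restrictFunctorComp _ _).symm ≪≫ (restrictFunctorCongr (by simp [u]))
    have := hq.isFinite_presentation i.1
    have := presentation_map_isFinite (q.presentation i.1) F (Scheme.Modules.restrictUnitIso _).symm
    exact ⟨SheafOfModules.Presentation.ofIsIso.{u, u, u} (iso.app M).hom <|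
      (q.presentation i.1).map F (Scheme.Modules.restrictUnitIso _).symm, inferInstance⟩
  choose σ hσ using key
  refine ⟨Σ (i : q.I), κ i, fun j ↦ j.2, σ, hσ, ?_, ?_⟩
  · have cov := q.coversTop
    rw [Opens.coversTop_iff, IsOpenCover] at cov
    rw [IsOpenCover, iSup_sigma, ← cov]
    refine iSup_congr fun i ↦ ?_
    rw [heq i, sSup_eq_iSup']
  · intro j
    exact hsub _ j.2.2

set_option backward.isDefEq.respectTransparency false in
theorem finitePresentation_of_presentation_Spec {R : CommRingCat.{u}} (N : (Spec R).Modules)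
    (P : N.Presentation) [P.IsFinite] :
    Module.FinitePresentation R (gammaSpec N : Type u) := by
  let I := P.generators.I
  let J := P.relations.I
  haveI : Finite I := inferInstance
  haveI : Finite J := inferInstance
  let ρ : SheafOfModules.free J ⟶ SheafOfModules.free I :=
    (SheafOfModules.freeHomEquiv _).symm P.relations.s ≫ kernel.ι _
  have hcolim := P.isColimit
  let A : ModuleCat.{u} R := ModuleCat.of R (J →₀ R)
  let B : ModuleCat.{u} R := ModuleCat.of R (I →₀ R)
  let g : (tilde.functor R).obj A ⟶ (tilde.functor R).obj B :=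
    (tildeFinsupp J).hom ≫ ρ ≫ (tildeFinsupp I).inv
  let ψ : A ⟶ B := (tilde.functor R).preimage g
  have hψ : (tilde.functor R).map ψ = g := (tilde.functor R).map_preimage g
  let Q : ModuleCat.{u} R := ModuleCat.of R ((I →₀ R) ⧸ LinearMap.range ψ.hom)
  let p : B ⟶ Q := ModuleCat.ofHom (LinearMap.range ψ.hom).mkQ
  have hex : Function.Exact ψ.hom p.hom := by
    rw [LinearMap.exact_iff]
    exact (Submodule.ker_mkQ _)
  have hsurj : Function.Surjective p.hom := Submodule.mkQ_surjective _
  have h₁ := ModuleCat.isColimitCokernelCofork ψ p hex hsurj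
  have h₂ := CokernelCofork.mapIsColimit _ h₁ (tilde.functor R)
  have hw : ρ ≫ ((tildeFinsupp I).inv ≫ (tilde.functor R).map p) = 0 := by
    have : ρ = (tildeFinsupp J).inv ≫ (tilde.functor R).map ψ ≫ (tildeFinsupp I).hom := by
      rw [hψ]; simp [g]
    rw [this]
    simp only [Category.assoc, Iso.hom_inv_id_assoc]
    rw [← Functor.map_comp]
    have h0 : ψ ≫ p = 0 := ModuleCat.hom_ext (LinearMap.ext fun x => hex.apply_apply_eq_zero x)
    rw [h0]
    change _ ≫ tilde.map (0 : A ⟶ Q) = 0
    rw [tilde.map_zero, comp_zero]
  have h₃ : IsColimit (CokernelCofork.ofπ (f := ρ)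
      ((tildeFinsupp I).inv ≫ (tilde.functor R).map p) hw) :=
    IsCokernel.ofIso _ h₂ _ (tildeFinsupp J) (tildeFinsupp I) (Iso.refl _)
      (by rw [hψ]; simp [g]) (by simp)
  let e : N ≅ (tilde.functor R).obj Q := hcolim.coconePointUniqueUpToIso h₃
  let e1 : gammaSpec N ≅ Q :=
    (moduleSpecΓFunctor (R := R)).mapIso e ≪≫ (tilde.toTildeΓNatIso.app Q).symm
  haveI : Module.FinitePresentation R ((I →₀ R) ⧸ LinearMap.range ψ.hom) := by
    refine Module.finitePresentation_of_surjective (LinearMap.range ψ.hom).mkQ
      (Submodule.mkQ_surjective _) ?_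
    rw [Submodule.ker_mkQ, LinearMap.range_eq_map]
    exact Submodule.FG.map _ (Module.Finite.fg_top)
  exact Module.FinitePresentation.of_equiv e1.toLinearEquiv.symm

set_option backward.isDefEq.respectTransparency false in
theorem finitePresentation_of_presentation_restrict {X : Scheme.{u}} (M : X.Modules)
    {V : X.Opens} (hV : IsAffineOpen V) (σ : (M.restrict V.ι).Presentation)
    [σ.IsFinite] : Module.FinitePresentation Γ(X, V) Γ(M, V) := by
  have : PreservesColimitsOfSize.{u, u} (restrictFunctor hV.isoSpec.inv) := inferInstance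
  have := presentation_map_isFinite σ (restrictFunctor hV.isoSpec.inv)
    (Scheme.Modules.restrictUnitIso _).symm
  let σ' : (M.restrict hV.fromSpec).Presentation :=
    SheafOfModules.Presentation.ofIsIso.{u, u, u}
      ((restrictFunctorComp hV.isoSpec.inv V.ι).app M).inv
      (σ.map (restrictFunctor hV.isoSpec.inv) (Scheme.Modules.restrictUnitIso _).symm)
  have hσ' : σ'.IsFinite := by
    dsimp only [σ']
    infer_instance
  have hfp : Module.FinitePresentation Γ(X, V)
      (gammaSpec (R := Γ(X, V)) (M.restrict hV.fromSpec) : Type u) :=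
    finitePresentation_of_presentation_Spec (R := Γ(X, V)) (M.restrict hV.fromSpec) σ'
  exact Module.FinitePresentation.of_equiv (sectionsSpecEquiv M hV)

theorem finitePresentation_sections_of_cover {X : Scheme.{u}} (F : X.Modules) [F.IsQuasicoherent]
    {ι : Type*} (U : ι → X.affineOpens) (hU : (⨆ i, (U i : X.Opens)) = ⊤)
    (h : ∀ i, Module.FinitePresentation Γ(X, (U i).1) Γ(F, (U i).1)) (V : X.affineOpens) :
    Module.FinitePresentation Γ(X, V.1) Γ(F, V.1) := by
  refine of_affine_open_cover (P := fun W => Module.FinitePresentation Γ(X, W.1) Γ(F, W.1))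
    U hU V ?_ ?_ h
  · intro W g hW
    change Module.FinitePresentation Γ(X, X.basicOpen g) Γ(F, X.basicOpen g)
    letI := basicOpenModule F g
    haveI := isScalarTower_basicOpen F g
    haveI := isLocalizedModule_resBasicOpen F g W.2
    haveI : IsLocalization (.powers g) Γ(X, X.basicOpen g) := W.2.isLocalization_basicOpen g
    exact FinitePresentation.of_isBaseChange (resBasicOpen F g)
      (IsLocalizedModule.isBaseChange (.powers g) Γ(X, X.basicOpen g) (resBasicOpen F g))
  · intro W s hs hP
    have hP' : ∀ g : (s : Set Γ(X, W.1)),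
        Module.FinitePresentation Γ(X, X.basicOpen g.1) Γ(F, X.basicOpen g.1) :=
      fun g => hP ⟨g.1, g.2⟩
    letI := fun g : (s : Set Γ(X, W.1)) => basicOpenModule F g.1
    haveI := fun g : (s : Set Γ(X, W.1)) => isScalarTower_basicOpen F g.1
    haveI : ∀ g : (s : Set Γ(X, W.1)),
        IsLocalizedModule (.powers g.1) (resBasicOpen F g.1) :=
      fun g => isLocalizedModule_resBasicOpen F g.1 W.2
    haveI : ∀ g : (s : Set Γ(X, W.1)), IsLocalization.Away g.1 Γ(X, X.basicOpen g.1) :=
      fun g => W.2.isLocalization_basicOpen g.1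
    exact Module.FinitePresentation.of_localizationSpan' (s : Set Γ(X, W.1)) hs
      (fun g => resBasicOpen F g.1) hP'

/-- **Sections of a finitely presented `O_X`-module over an affine open form a finitely presented module.** -/
theorem finitePresentation_sections_of_isFinitePresentation {X : Scheme.{u}} (F : X.Modules)
    [SheafOfModules.IsFinitePresentation (R := X.ringCatSheaf) F] {V : X.Opens}
    (hV : IsAffineOpen V) : Module.FinitePresentation Γ(X, V) Γ(F, V) := by
  obtain ⟨ι, U, σ, hσ, hU, hUa⟩ := exists_isOpenCover_presentation_isFinite F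
  have := hσ
  exact finitePresentation_sections_of_cover F (fun i => (⟨U i, hUa i⟩ : X.affineOpens)) hU
    (fun i => finitePresentation_of_presentation_restrict F (hUa i) (σ i)) ⟨V, hV⟩

end Groth.Agent.H44
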