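import Mathlib.RingTheory.Lasker
import Mathlib.RingTheory.Ideal.UFD
import Mathlib.RingTheory.UniqueFactorizationDomain.GCDMonoid
import Mathlib.RingTheory.UniqueFactorizationDomain.Multiplicity
import Mathlib.RingTheory.Ideal.Height
import Mathlib.RingTheory.Finiteness.Ideal

/-!
# Unmixed height-one ideals in a Noetherian UFD are principal
-/

set_option autoImplicit false
universe u

namespace Groth.Agent.H44

variable {R : Type u} [CommRing R] [IsDomain R]

lemma primary_eq_span_pow [IsNoetherianRing R] [UniqueFactorizationMonoid R] (J : Ideal R)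
    (hJ : J.IsPrimary) (π : R) (hπ : Prime π) (hrad : J.radical = Ideal.span {π}) :
    ∃ n : ℕ, J = Ideal.span {π ^ n} := by
  classical
  have hfg : J.radical.FG := (isNoetherianRing_iff_ideal_fg R).mp inferInstance _
  obtain ⟨m, hm⟩ := Ideal.exists_radical_pow_le_of_fg J hfg
  have hex : ∃ n : ℕ, π ^ n ∈ J := by
    refine ⟨m, hm ?_⟩
    rw [hrad, Ideal.span_singleton_pow]
    exact Ideal.mem_span_singleton_self _
  refine ⟨Nat.find hex, le_antisymm ?_ ?_⟩
  · intro x hx
    rw [Ideal.mem_span_singleton]
    by_cases hx0 : x = 0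
    · rw [hx0]; exact dvd_zero _
    obtain ⟨k, u, hu, rfl⟩ := WfDvdMonoid.max_power_factor hx0 hπ.irreducible
    by_cases hk : Nat.find hex ≤ k
    · exact Dvd.dvd.mul_right (pow_dvd_pow π hk) u
    · exfalso
      rcases (Ideal.isPrimary_iff.mp hJ).2 hx with h1 | h2
      · exact Nat.find_min hex (not_le.mp hk) h1
      · rw [hrad, Ideal.mem_span_singleton] at h2
        exact hu h2
  · rw [Ideal.span_singleton_le_iff_mem]
    exact Nat.find_spec hex

lemma inf_principal [UniqueFactorizationMonoid R] (t : Finset (Ideal R))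
    (ht : ∀ J ∈ t, ∃ g : R, J = Ideal.span {g}) : ∃ g : R, t.inf id = Ideal.span {g} := by
  classical
  letI : GCDMonoid R := UniqueFactorizationMonoid.toGCDMonoid R
  induction t using Finset.induction_on with
  | empty => exact ⟨1, by simp⟩
  | insert J t hJt ih =>
    obtain ⟨g, hg⟩ := ih (fun K hK => ht K (Finset.mem_insert_of_mem hK))
    obtain ⟨a, ha⟩ := ht J (Finset.mem_insert_self J t)
    refine ⟨lcm a g, ?_⟩
    rw [Finset.inf_insert, hg, id, ha]
    ext x
    rw [Ideal.mem_inf, Ideal.mem_span_singleton, Ideal.mem_span_singleton,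
      Ideal.mem_span_singleton, lcm_dvd_iff]

lemma mem_associatedPrimes_quotient (I : Ideal R) (p : Ideal R)
    (hp : p ∈ Submodule.associatedPrimes (I : Submodule R R)) : p ∈ associatedPrimes R (R ⧸ I) := by
  obtain ⟨hprime, x, hx⟩ := hp
  refine ⟨hprime, Ideal.Quotient.mk I x, ?_⟩
  rw [hx]
  congr 1
  ext r
  rw [Submodule.mem_colon_singleton, Submodule.mem_colon_singleton, Submodule.mem_bot,
    ← Ideal.Quotient.eq_zero_iff_mem]
  rfl

theorem principal_of_unmixed_height_one [IsNoetherianRing R] [UniqueFactorizationMonoid R]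
    (I : Ideal R)
    (h1 : ∀ p : Ideal R, p ∈ associatedPrimes R (R ⧸ I) → p ∈ I.minimalPrimes)
    (h2 : ∀ p : Ideal R, p ∈ I.minimalPrimes → p.height = 1) :
    ∃ f : R, I = Ideal.span {f} := by
  obtain ⟨t, ht⟩ := Submodule.IsLasker.exists_isMinimalPrimaryDecomposition
    (Submodule.isLasker R R) (I : Submodule R R)
  have hprin : ∀ J ∈ t, ∃ g : R, J = Ideal.span {g} := by
    intro (J : Ideal R) hJ
    have hJprim : Ideal.IsPrimary J := ht.primary hJ
    have hass : (Submodule.colon J Set.univ).radical ∈ Submodule.associatedPrimes (I : Submodule R R) :=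
      ht.mem_associatedPrimes hJ
    have hcolon : Submodule.colon J (Set.univ : Set R) = J := Submodule.colon_univ
    rw [hcolon] at hass
    have hmin := h1 _ (mem_associatedPrimes_quotient I _ hass)
    have hht : (Ideal.radical J).height = 1 := h2 _ hmin
    haveI : (Ideal.radical J).IsPrime := hmin.1.1
    have hprinc : (Ideal.radical J).IsPrincipal :=
      UniqueFactorizationMonoid.isPrincipal_of_height_eq_one hht
    have hne : Ideal.radical J ≠ ⊥ := by
      intro hbot
      rw [hbot] at hht
      simp at hht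
    have hπ : Prime (Submodule.IsPrincipal.generator (Ideal.radical J)) :=
      Submodule.IsPrincipal.prime_generator_of_isPrime (Ideal.radical J) hne
    have hrad : Ideal.radical J = Ideal.span {Submodule.IsPrincipal.generator (Ideal.radical J)} :=
      (Ideal.span_singleton_generator (Ideal.radical J)).symm
    obtain ⟨n, hn⟩ := primary_eq_span_pow J hJprim _ hπ hrad
    exact ⟨_, hn⟩
  obtain ⟨g, hg⟩ := inf_principal t hprin
  exact ⟨g, by rw [← hg]; exact ht.inf_eq.symm⟩

end Groth.Agent.H44
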