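import Groth.Agent.H44.ConormalTriple
import Groth.Agent.H44.FormallySmoothOmega
import Mathlib.Algebra.Homology.ShortComplex.Exact

/-!
# The conormal sequence split by a left inverse (helper44)

For a quasi-compact immersion `i : Z ⟶ X` over `S` with a left inverse `g : X ⟶ Z` over `S`:
`0 ⟶ C_{Z/X} ⟶ i^*Ω_{X/S} ⟶ Ω_{Z/S} ⟶ 0` is split exact.
`RetrChart`, `exists_retrChart`, `conormalDiff_app_injective_of_leftInverse`,
`exists_section_of_leftInverse`, `conormal_seq_split`.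
-/

set_option autoImplicit false
universe u
open CategoryTheory Limits Opposite AlgebraicGeometry TopologicalSpace TensorProduct Scheme.Modules

namespace Groth.Agent.H44

section RetrChart
variable {Z X S : Scheme.{u}} (i : Z ⟶ X) [IsImmersion i] (f : X ⟶ S) (g : X ⟶ Z)

/-- Immersion charts `U` compatible with a left inverse `g` of `i`: `U ≤ g⁻¹(i⁻¹U)`. -/
structure RetrChart extends ImmChart i f where
  hg : U ≤ g ⁻¹ᵁ (i ⁻¹ᵁ U)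

variable {g} (hgi : i ≫ g = 𝟙 Z)

omit [IsImmersion i] in
include hgi in
theorem preimage_preimage_of_leftInverse (O : Z.Opens) : i ⁻¹ᵁ (g ⁻¹ᵁ O) = O := by
  rw [← Scheme.Hom.comp_preimage, hgi]
  rfl

include hgi in
theorem exists_retrChart (z : Z) (W : Z.Opens) (hz : z ∈ W) :
    ∃ t : RetrChart i f g, z ∈ i ⁻¹ᵁ t.U ∧ i ⁻¹ᵁ t.U ≤ W := by
  obtain ⟨V, hV, hzV, -⟩ := Opens.isBasis_iff_nbhd.mp S.isBasis_affineOpens
    (show f.base (i.base z) ∈ (⊤ : S.Opens) from trivial)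
  obtain ⟨U₀, hU₀, hzU₀, hU₀V, hcU₀, hU₀W⟩ :=
    exists_affine_le_coborderRange i z (f ⁻¹ᵁ V) hzV W hz
  have hgz : g.base (i.base z) = z := by
    have := congr(($hgi).base z)
    exact this
  -- shrink to a basic open inside `U₀ ⊓ g⁻¹(i⁻¹U₀)`
  have hz1 : i.base z ∈ U₀ ⊓ g ⁻¹ᵁ (i ⁻¹ᵁ U₀) := by
    refine ⟨hzU₀, ?_⟩
    change g.base (i.base z) ∈ i ⁻¹ᵁ U₀
    rw [hgz]
    exact hzU₀
  obtain ⟨a, haU₁, hza⟩ := hU₀.exists_basicOpen_le (V := U₀ ⊓ g ⁻¹ᵁ (i ⁻¹ᵁ U₀))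
    ⟨i.base z, hz1⟩ hzU₀
  have hU₂ : IsAffineOpen (X.basicOpen a) := hU₀.basicOpen a
  have hU₂g : X.basicOpen a ≤ g ⁻¹ᵁ (i ⁻¹ᵁ U₀) := haU₁.trans inf_le_right
  have hpre : i ⁻¹ᵁ X.basicOpen a = Z.basicOpen (i.app U₀ a) := Scheme.preimage_basicOpen i a
  have hU₃eq := Scheme.basicOpen_appLE g (X.basicOpen a) (i ⁻¹ᵁ U₀) hU₂g (i.app U₀ a)
  rw [← hpre] at hU₃eq
  have hiU₃ : i ⁻¹ᵁ X.basicOpen (g.appLE (i ⁻¹ᵁ U₀) (X.basicOpen a) hU₂g (i.app U₀ a)) =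
      i ⁻¹ᵁ X.basicOpen a := by
    rw [hU₃eq]
    change i ⁻¹ᵁ X.basicOpen a ⊓ i ⁻¹ᵁ (g ⁻¹ᵁ (i ⁻¹ᵁ X.basicOpen a)) = _
    rw [preimage_preimage_of_leftInverse i hgi, inf_idem]
  have hle₀ : X.basicOpen (g.appLE (i ⁻¹ᵁ U₀) (X.basicOpen a) hU₂g (i.app U₀ a)) ≤ U₀ := by
    rw [hU₃eq]
    exact inf_le_left.trans (X.basicOpen_le a)
  refine ⟨⟨⟨X.basicOpen (g.appLE (i ⁻¹ᵁ U₀) (X.basicOpen a) hU₂g (i.app U₀ a)), V,
    hU₂.basicOpen _, hV, hle₀.trans hU₀V, hle₀.trans hcU₀⟩, ?_⟩, ?_, ?_⟩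
  · change X.basicOpen (g.appLE (i ⁻¹ᵁ U₀) (X.basicOpen a) hU₂g (i.app U₀ a)) ≤
      g ⁻¹ᵁ (i ⁻¹ᵁ X.basicOpen (g.appLE (i ⁻¹ᵁ U₀) (X.basicOpen a) hU₂g (i.app U₀ a)))
    rw [hiU₃]
    conv_lhs => rw [hU₃eq]
    exact inf_le_right
  · change z ∈ i ⁻¹ᵁ X.basicOpen (g.appLE (i ⁻¹ᵁ U₀) (X.basicOpen a) hU₂g (i.app U₀ a))
    rw [hiU₃]
    exact hza
  · change i ⁻¹ᵁ X.basicOpen (g.appLE (i ⁻¹ᵁ U₀) (X.basicOpen a) hU₂g (i.app U₀ a)) ≤ W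
    rw [hiU₃]
    exact (i.preimage_mono (X.basicOpen_le a)).trans hU₀W

include hgi in
theorem isBasis_retrChart :
    Opens.IsBasis (Set.range (fun t : RetrChart i f g => i ⁻¹ᵁ t.U)) := by
  rw [Opens.isBasis_iff_nbhd]
  intro W x hx
  obtain ⟨t, hxt, htW⟩ := exists_retrChart i f hgi x W hx
  exact ⟨_, ⟨t, rfl⟩, hxt, htW⟩

end RetrChart


theorem appLE_of_eq {X Y : Scheme.{u}} {q f : X ⟶ Y} (hq : q = f) {U : X.Opens} {V : Y.Opens}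
    (le : U ≤ q ⁻¹ᵁ V) (le' : U ≤ f ⁻¹ᵁ V) : q.appLE V U le = f.appLE V U le' := by
  subst hq
  rfl

theorem id_appLE_self {X : Scheme.{u}} (U : X.Opens) (le : U ≤ (𝟙 X) ⁻¹ᵁ U) (s : Γ(X, U)) :
    (𝟙 X : X ⟶ X).appLE U U le s = s := by
  rw [Scheme.Hom.appLE]
  change X.presheaf.map (homOfLE le).op s = s
  exact congr($(X.presheaf.map_id (op U)) s)

section SplitMono
variable {Z X S : Scheme.{u}} {i : Z ⟶ X} [IsImmersion i] [QuasiCompact i] {f : X ⟶ S} {g : X ⟶ Z}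
  (hgi : i ≫ g = 𝟙 Z) (hgS : g ≫ i ≫ f = f)
  {ΩX : X.Modules} (dX : OmegaSh.Der f ΩX) (hX : OmegaSh.IsUniversal dX)
  (φ : Omega.conormal i ⟶ (Scheme.Modules.pullback i).obj ΩX) (hφ : OmegaSh.IsConormalDiff i dX φ)

include hgi hgS hX hφ in
theorem conormalDiff_app_injective_of_leftInverse (t : RetrChart i f g) :
    Function.Injective (φ.app (i ⁻¹ᵁ t.U)) := by
  refine conormalDiff_app_injective dX hX φ hφ t.toImmChart ?_
  letI algAB : Algebra Γ(S, t.V) Γ(X, t.U) := (f.appLE t.V t.U t.e).hom.toAlgebra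
  letI algAC : Algebra Γ(S, t.V) Γ(Z, i ⁻¹ᵁ t.U) :=
    ((i ≫ f).appLE t.V (i ⁻¹ᵁ t.U) t.e').hom.toAlgebra
  letI algBC : Algebra Γ(X, t.U) Γ(Z, i ⁻¹ᵁ t.U) := (i.appLE t.U (i ⁻¹ᵁ t.U) le_rfl).hom.toAlgebra
  haveI : IsScalarTower Γ(S, t.V) Γ(X, t.U) Γ(Z, i ⁻¹ᵁ t.U) := IsScalarTower.of_algebraMap_eq' (by
    change ((i ≫ f).appLE t.V (i ⁻¹ᵁ t.U) t.e').hom =
      (i.appLE t.U (i ⁻¹ᵁ t.U) le_rfl).hom.comp (f.appLE t.V t.U t.e).hom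
    rw [← CommRingCat.hom_comp, Scheme.Hom.appLE_comp_appLE])
  have hsurj : Function.Surjective (algebraMap Γ(X, t.U) Γ(Z, i ⁻¹ᵁ t.U)) := by
    change Function.Surjective (i.appLE t.U (i ⁻¹ᵁ t.U) le_rfl).hom
    rw [Scheme.Hom.appLE_eq_app]
    exact t.surj
  let gs : Γ(Z, i ⁻¹ᵁ t.U) →ₐ[Γ(S, t.V)] Γ(X, t.U) :=
    { (g.appLE (i ⁻¹ᵁ t.U) t.U t.hg).hom with
      commutes' := fun a => by
        change (g.appLE (i ⁻¹ᵁ t.U) t.U t.hg) (((i ≫ f).appLE t.V (i ⁻¹ᵁ t.U) t.e') a) =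
          f.appLE t.V t.U t.e a
        rw [← CommRingCat.comp_apply, Scheme.Hom.appLE_comp_appLE]
        exact congr($(appLE_of_eq hgS _ t.e) a) }
  refine conormalToTensor_injective_of_section _ _ _ hsurj gs fun c => ?_
  change (i.appLE t.U (i ⁻¹ᵁ t.U) le_rfl) ((g.appLE (i ⁻¹ᵁ t.U) t.U t.hg) c) = c
  rw [← CommRingCat.comp_apply, Scheme.Hom.appLE_comp_appLE]
  have h1 := appLE_of_eq hgi (U := i ⁻¹ᵁ t.U) (V := i ⁻¹ᵁ t.U)
    (le_rfl.trans ((Opens.map i.base).map (homOfLE t.hg)).le) (by exact le_rfl)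
  rw [h1]
  exact id_appLE_self _ _ c

end SplitMono

section SplitSection
variable {Z X S : Scheme.{u}} {i : Z ⟶ X} {f : X ⟶ S} {g : X ⟶ Z}
  (hgi : i ≫ g = 𝟙 Z) (hgS : g ≫ i ≫ f = f)
  {ΩX : X.Modules} (dX : OmegaSh.Der f ΩX)
  {ΩZ : Z.Modules} (dZ : OmegaSh.Der (i ≫ f) ΩZ) (hZ : OmegaSh.IsUniversal dZ)
  (c : (Scheme.Modules.pullback i).obj ΩX ⟶ ΩZ) (hc : OmegaSh.IsDiffCompat i dX dZ c)

include hgi hgS hZ hc in
/-- A left inverse `g` of `i` over `S` gives a section of `i^*Ω_{X/S} ⟶ Ω_{Z/S}`. -/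
theorem exists_section_of_leftInverse :
    ∃ σ : ΩZ ⟶ (Scheme.Modules.pullback i).obj ΩX, σ ≫ c = 𝟙 _ := by
  obtain ⟨cg, hcg, -⟩ := existsUnique_isDiffCompat g (𝟙 S)
    (show f ≫ 𝟙 S = g ≫ (i ≫ f) by rw [Category.comp_id, hgS]) dZ dX hZ
  let θ : ΩZ ⟶ (Scheme.Modules.pullback i).obj ((Scheme.Modules.pullback g).obj ΩZ) :=
    (pullbackId Z).inv.app ΩZ ≫ (pullbackCongr hgi.symm).hom.app ΩZ ≫ (pullbackComp i g).inv.app ΩZ
  refine ⟨θ ≫ (Scheme.Modules.pullback i).map cg, ?_⟩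
  obtain ⟨α, -, huniq⟩ := hZ ΩZ dZ
  have key : ∀ (U : Z.Opens) (s : Γ(Z, U)),
      ((θ ≫ (Scheme.Modules.pullback i).map cg) ≫ c).app U (dZ.app U s) = dZ.app U s := by
    intro U s
    have hle : U ≤ i ⁻¹ᵁ (g ⁻¹ᵁ U) := by
      rw [← Scheme.Hom.comp_preimage, hgi]
      exact le_rfl
    have e1 : ((pullbackId Z).inv.app ΩZ).app U (dZ.app U s) =
        pullSectLE (𝟙 Z) ΩZ U U le_rfl (dZ.app U s) := by
      rw [pullbackId_inv_app_apply]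
      exact (pullSectLE_self (𝟙 Z) ΩZ U _).symm
    have e2 := pullbackCongr_hom_app hgi.symm ΩZ U U le_rfl (dZ.app U s)
    have e3 := pullbackComp_inv_app i g ΩZ U (g ⁻¹ᵁ U) U le_rfl hle (dZ.app U s)
    have e4 := pullSectLE_naturality i cg (g ⁻¹ᵁ U) U hle
      (pullSectLE g ΩZ U (g ⁻¹ᵁ U) le_rfl (dZ.app U s))
    have e5 : cg.app (g ⁻¹ᵁ U) (pullSectLE g ΩZ U (g ⁻¹ᵁ U) le_rfl (dZ.app U s)) =
        dX.app (g ⁻¹ᵁ U) (g.appLE U (g ⁻¹ᵁ U) le_rfl s) :=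
      diffCompat_pullSectLE g dZ dX cg hcg le_rfl s
    have e6 := diffCompat_pullSectLE i dX dZ c hc hle (g.appLE U (g ⁻¹ᵁ U) le_rfl s)
    have e7 : i.appLE (g ⁻¹ᵁ U) U hle (g.appLE U (g ⁻¹ᵁ U) le_rfl s) = s := by
      rw [← CommRingCat.comp_apply, Scheme.Hom.appLE_comp_appLE]
      have h1 := appLE_of_eq hgi (U := U) (V := U)
        (hle.trans ((Opens.map i.base).map (homOfLE (le_refl (g ⁻¹ᵁ U)))).le) (by exact le_rfl)
      rw [h1]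
      exact id_appLE_self _ _ s
    simp only [Scheme.Modules.Hom.comp_app, θ]
    change c.app U (((Scheme.Modules.pullback i).map cg).app U
      (((pullbackComp i g).inv.app ΩZ).app U (((pullbackCongr hgi.symm).hom.app ΩZ).app U
        (((pullbackId Z).inv.app ΩZ).app U (dZ.app U s))))) = _
    rw [e1, e2, e3, e4, e5, e6, e7]
  rw [huniq ((θ ≫ (Scheme.Modules.pullback i).map cg) ≫ c) (by
      apply Der_ext
      intro U s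
      rw [postcomp_app]
      exact key U s),
    huniq (𝟙 ΩZ) (by
      apply Der_ext
      intro U s
      rw [postcomp_app]
      rfl)]

end SplitSection

section Split
variable {Z X S : Scheme.{u}} {i : Z ⟶ X} [IsImmersion i] [QuasiCompact i] {f : X ⟶ S} {g : X ⟶ Z}
  (hgi : i ≫ g = 𝟙 Z) (hgS : g ≫ i ≫ f = f)
  {ΩX : X.Modules} (dX : OmegaSh.Der f ΩX) (hX : OmegaSh.IsUniversal dX)
  {ΩZ : Z.Modules} (dZ : OmegaSh.Der (i ≫ f) ΩZ) (hZ : OmegaSh.IsUniversal dZ)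
  (φ : Omega.conormal i ⟶ (Scheme.Modules.pullback i).obj ΩX) (hφ : OmegaSh.IsConormalDiff i dX φ)
  (c : (Scheme.Modules.pullback i).obj ΩX ⟶ ΩZ) (hc : OmegaSh.IsDiffCompat i dX dZ c)

include hgi hgS hX hZ hφ hc in
/-- **The conormal sequence of an immersion with a left inverse is split exact.** -/
theorem conormal_seq_split :
    ∃ w : φ ≫ c = 0, (ShortComplex.mk φ c w).Exact ∧
      (∃ r : (Scheme.Modules.pullback i).obj ΩX ⟶ Omega.conormal i, φ ≫ r = 𝟙 _) ∧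
      ∃ σ : ΩZ ⟶ (Scheme.Modules.pullback i).obj ΩX, σ ≫ c = 𝟙 _ := by
  obtain ⟨-, w, hex⟩ := conormal_seq_exact dX hX φ hφ dZ hZ c hc
  obtain ⟨σ, hσ⟩ := exists_section_of_leftInverse hgi hgS dX dZ hZ c hc
  have hmono : Mono φ := mono_of_injective_on_basis φ (fun t : RetrChart i f g => i ⁻¹ᵁ t.U)
    (isBasis_retrChart i f hgi)
    (fun t => conormalDiff_app_injective_of_leftInverse hgi hgS dX hX φ hφ t)
  let sp := ShortComplex.Splitting.ofExactOfSection (ShortComplex.mk φ c w) hex σ hσ hmono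
  exact ⟨w, hex, ⟨sp.r, sp.f_r⟩, σ, hσ⟩

end Split
end Groth.Agent.H44
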