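import Groth.Agent.H44.ConormalAlg5
import Mathlib.RingTheory.Flat.Basic

/-!
# Algebra of the conormal map of a cartesian square (helper44)

For a commutative square of rings `R₀ → R`, `R₀ → B₀`, `R → B`, `B₀ → B` with kernels
`I₀ = ker (R₀ → B₀)` and `I = ker (R → B)`:
`kerIncl : I₀ → I`, `kerBC : R ⊗[R₀] I₀ → I`, `sqMap : B ⊗[B₀] (B₀ ⊗[R₀] I₀) → B ⊗[R] I`;
`sqMap` is surjective when `I = I₀ R` and injective when moreover `R₀ → R` is flat.
-/

set_option autoImplicit false
universe u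
open TensorProduct Function

namespace Groth.Agent.H44

section
variable (R₀ R B₀ B : Type u) [CommRing R₀] [CommRing R] [CommRing B₀] [CommRing B]
  [Algebra R₀ R] [Algebra R B] [Algebra R₀ B₀] [Algebra B₀ B] [Algebra R₀ B]
  [IsScalarTower R₀ R B] [IsScalarTower R₀ B₀ B]

theorem algebraMap_mem_ker_of_mem_ker {x : R₀} (hx : x ∈ RingHom.ker (algebraMap R₀ B₀)) :
    algebraMap R₀ R x ∈ RingHom.ker (algebraMap R B) := by
  rw [RingHom.mem_ker, ← IsScalarTower.algebraMap_apply, IsScalarTower.algebraMap_apply R₀ B₀ B,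
    (RingHom.mem_ker).1 hx, map_zero]

/-- `I₀ → I`, `x ↦ g x`. -/
def kerIncl : RingHom.ker (algebraMap R₀ B₀) →ₗ[R₀] RingHom.ker (algebraMap R B) where
  toFun x := ⟨algebraMap R₀ R x, algebraMap_mem_ker_of_mem_ker R₀ R B₀ B x.2⟩
  map_add' x y := by
    apply Subtype.ext
    change algebraMap R₀ R ((x : R₀) + y) = algebraMap R₀ R x + algebraMap R₀ R y
    rw [map_add]
  map_smul' r x := by
    apply Subtype.ext
    change algebraMap R₀ R (r * (x : R₀)) = r • algebraMap R₀ R x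
    rw [map_mul, Algebra.smul_def]

theorem kerIncl_coe (x : RingHom.ker (algebraMap R₀ B₀)) :
    (kerIncl R₀ R B₀ B x : R) = algebraMap R₀ R x := rfl

/-- `R ⊗[R₀] I₀ → I`, `r ⊗ x ↦ r g(x)`. -/
noncomputable def kerBC :
    R ⊗[R₀] (RingHom.ker (algebraMap R₀ B₀)) →ₗ[R] RingHom.ker (algebraMap R B) :=
  (kerIncl R₀ R B₀ B).liftBaseChange R

theorem kerBC_tmul (r : R) (x : RingHom.ker (algebraMap R₀ B₀)) :
    kerBC R₀ R B₀ B (r ⊗ₜ x) = r • kerIncl R₀ R B₀ B x := by
  rw [kerBC, LinearMap.liftBaseChange_tmul]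

theorem kerBC_surjective
    (h : RingHom.ker (algebraMap R B) = (RingHom.ker (algebraMap R₀ B₀)).map (algebraMap R₀ R)) :
    Surjective (kerBC R₀ R B₀ B) := by
  have key : ∀ x ∈ Submodule.span R ((algebraMap R₀ R) '' (RingHom.ker (algebraMap R₀ B₀) : Set R₀)),
      ∃ t, (kerBC R₀ R B₀ B t : R) = x := by
    intro x hx
    induction hx using Submodule.span_induction with
    | mem x hx =>
      obtain ⟨x', hx', rfl⟩ := hx
      exact ⟨1 ⊗ₜ ⟨x', hx'⟩, by rw [kerBC_tmul, one_smul]; rfl⟩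
    | zero => exact ⟨0, by rw [map_zero]; rfl⟩
    | add x y _ _ hx hy =>
      obtain ⟨t, rfl⟩ := hx
      obtain ⟨t', rfl⟩ := hy
      exact ⟨t + t', by rw [map_add]; rfl⟩
    | smul r x _ hx =>
      obtain ⟨t, rfl⟩ := hx
      exact ⟨r • t, by rw [_root_.map_smul]; rfl⟩
  intro y
  have hy : (y : R) ∈ (RingHom.ker (algebraMap R₀ B₀)).map (algebraMap R₀ R) := by
    rw [← h]; exact y.2
  obtain ⟨t, ht⟩ := key y hy
  exact ⟨t, Subtype.ext ht⟩

theorem kerBC_injective [Module.Flat R₀ R] : Injective (kerBC R₀ R B₀ B) := by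
  have h1 : Injective ((RingHom.ker (algebraMap R₀ B₀)).subtype.lTensor R) :=
    Module.Flat.lTensor_preserves_injective_linearMap _ Subtype.val_injective
  have h2 : ∀ t, ((kerBC R₀ R B₀ B t : RingHom.ker (algebraMap R B)) : R) =
      TensorProduct.rid R₀ R (((RingHom.ker (algebraMap R₀ B₀)).subtype.lTensor R) t) := by
    intro t
    induction t using TensorProduct.induction_on with
    | zero => simp
    | tmul r x =>
      rw [kerBC_tmul, LinearMap.lTensor_tmul, TensorProduct.rid_tmul]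
      change r * algebraMap R₀ R x = (x : R₀) • r
      rw [Algebra.smul_def, mul_comm]
    | add x y hx hy =>
      rw [map_add, map_add, map_add, ← hx, ← hy]
      rfl
  intro t t' htt
  apply h1
  apply (TensorProduct.rid R₀ R).injective
  rw [← h2, ← h2, htt]

/-- The algebraic model of the canonical map of conormal sheaves of a square. -/
noncomputable def sqMap :
    B ⊗[B₀] (B₀ ⊗[R₀] (RingHom.ker (algebraMap R₀ B₀))) →ₗ[B] B ⊗[R] (RingHom.ker (algebraMap R B)) :=
  (LinearMap.baseChange B (kerBC R₀ R B₀ B)) ∘ₗ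
    ((AlgebraTensorModule.cancelBaseChange R₀ R B B (RingHom.ker (algebraMap R₀ B₀))).symm.toLinearMap ∘ₗ
      (AlgebraTensorModule.cancelBaseChange R₀ B₀ B B (RingHom.ker (algebraMap R₀ B₀))).toLinearMap)

theorem sqMap_one_tmul (x : RingHom.ker (algebraMap R₀ B₀)) :
    sqMap R₀ R B₀ B ((1 : B) ⊗ₜ[B₀] ((1 : B₀) ⊗ₜ[R₀] x)) = (1 : B) ⊗ₜ[R] kerIncl R₀ R B₀ B x := by
  unfold sqMap
  rw [LinearMap.comp_apply, LinearMap.comp_apply, LinearEquiv.coe_coe, LinearEquiv.coe_coe,
    AlgebraTensorModule.cancelBaseChange_tmul, one_smul,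
    AlgebraTensorModule.cancelBaseChange_symm_tmul, LinearMap.baseChange_tmul, kerBC_tmul, one_smul]

theorem sqMap_surjective
    (h : RingHom.ker (algebraMap R B) = (RingHom.ker (algebraMap R₀ B₀)).map (algebraMap R₀ R)) :
    Surjective (sqMap R₀ R B₀ B) := by
  unfold sqMap
  rw [LinearMap.coe_comp, LinearMap.coe_comp]
  refine Surjective.comp ?_ (Surjective.comp (LinearEquiv.surjective _) (LinearEquiv.surjective _))
  exact LinearMap.lTensor_surjective _ (kerBC_surjective R₀ R B₀ B h)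

theorem sqMap_injective [Module.Flat R₀ R]
    (h : RingHom.ker (algebraMap R B) = (RingHom.ker (algebraMap R₀ B₀)).map (algebraMap R₀ R)) :
    Injective (sqMap R₀ R B₀ B) := by
  unfold sqMap
  rw [LinearMap.coe_comp, LinearMap.coe_comp]
  refine Injective.comp ?_ (Injective.comp (LinearEquiv.injective _) (LinearEquiv.injective _))
  let e : R ⊗[R₀] (RingHom.ker (algebraMap R₀ B₀)) ≃ₗ[R] RingHom.ker (algebraMap R B) :=
    LinearEquiv.ofBijective (kerBC R₀ R B₀ B)
      ⟨kerBC_injective R₀ R B₀ B, kerBC_surjective R₀ R B₀ B h⟩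
  have : LinearMap.baseChange B (kerBC R₀ R B₀ B) = (LinearEquiv.baseChange R B _ _ e).toLinearMap := by
    ext t
    rfl
  rw [this]
  exact LinearEquiv.injective _

end
end Groth.Agent.H44
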