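import Groth.Agent.H44.ConormalAlg3

/-!
# Transitivity of conormal modules for two surjections (helper44)

For surjections `R → A → B` with `L = ker (R → A)`, `J = ker (R → B)`, `I = ker (A → B)`:
`B ⊗[R] J → B ⊗[A] I` is surjective with kernel the classes `1 ⊗ x`, `x ∈ L`.
-/

set_option autoImplicit false
universe u
open TensorProduct Function

namespace Groth.Agent.H44

section
variable (R A B : Type u) [CommRing R] [CommRing A] [CommRing B] [Algebra R A] [Algebra A B]
  [Algebra R B] [IsScalarTower R A B]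

theorem ker_le_ker : RingHom.ker (algebraMap R A) ≤ RingHom.ker (algebraMap R B) := by
  intro x hx
  rw [RingHom.mem_ker] at hx ⊢
  rw [IsScalarTower.algebraMap_apply R A B, hx, map_zero]

theorem conormalMap_one_tmul_of_mem_ker (x : R) (hx : x ∈ RingHom.ker (algebraMap R A)) :
    conormalMap R A B ((1 : B) ⊗ₜ[R] ⟨x, ker_le_ker R A B hx⟩) = 0 := by
  rw [conormalMap_tmul]
  have : (⟨algebraMap R A x, algebraMap_mem_ker R A B ⟨x, ker_le_ker R A B hx⟩⟩ :
      RingHom.ker (algebraMap A B)) = 0 := by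
    ext
    exact RingHom.mem_ker.1 hx
  rw [this, tmul_zero]

variable {R A B}

theorem conormalMap_surjective_of_surjective (hRA : Surjective (algebraMap R A))
    (hAB : Surjective (algebraMap A B)) : Surjective (conormalMap R A B) := by
  intro t
  obtain ⟨y, rfl⟩ := exists_one_tmul_eq hAB t
  obtain ⟨r, hr⟩ := hRA (y : A)
  have hrJ : r ∈ RingHom.ker (algebraMap R B) := by
    rw [RingHom.mem_ker, IsScalarTower.algebraMap_apply R A B, hr]
    exact RingHom.mem_ker.1 y.2
  refine ⟨(1 : B) ⊗ₜ[R] ⟨r, hrJ⟩, ?_⟩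
  rw [conormalMap_tmul]
  congr 1
  exact Subtype.ext hr

theorem exists_of_conormalMap_eq_zero (hRA : Surjective (algebraMap R A))
    (hAB : Surjective (algebraMap A B)) (t : B ⊗[R] (RingHom.ker (algebraMap R B)))
    (ht : conormalMap R A B t = 0) :
    ∃ (x : R) (hx : x ∈ RingHom.ker (algebraMap R A)),
      t = (1 : B) ⊗ₜ[R] ⟨x, ker_le_ker R A B hx⟩ := by
  have hRB : Surjective (algebraMap R B) := by
    rw [IsScalarTower.algebraMap_eq R A B]
    exact hAB.comp hRA
  obtain ⟨r, rfl⟩ := exists_one_tmul_eq hRB t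
  rw [conormalMap_tmul, one_tmul_eq_zero_iff hAB] at ht
  have hI : RingHom.ker (algebraMap A B) =
      (RingHom.ker (algebraMap R B)).map (algebraMap R A) := by
    have h1 : RingHom.ker (algebraMap R B) = (RingHom.ker (algebraMap A B)).comap (algebraMap R A) := by
      ext z
      rw [Ideal.mem_comap, RingHom.mem_ker, RingHom.mem_ker, IsScalarTower.algebraMap_apply R A B]
    rw [h1, Ideal.map_comap_of_surjective _ hRA]
  change algebraMap R A (r : R) ∈ _ at ht
  rw [hI, ← Ideal.map_pow, Ideal.mem_map_iff_of_surjective _ hRA] at ht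
  obtain ⟨r₂, hr₂, hr₂eq⟩ := ht
  have hr₂J : r₂ ∈ RingHom.ker (algebraMap R B) := Ideal.pow_le_self two_ne_zero hr₂
  have hx : (r : R) - r₂ ∈ RingHom.ker (algebraMap R A) := by
    rw [RingHom.mem_ker, map_sub, hr₂eq, sub_self]
  refine ⟨(r : R) - r₂, hx, ?_⟩
  have h2 : r = (⟨r₂, hr₂J⟩ : RingHom.ker (algebraMap R B)) +
      ⟨(r : R) - r₂, ker_le_ker R A B hx⟩ := by
    ext
    change (r : R) = r₂ + ((r : R) - r₂)
    ring
  conv_lhs => rw [h2]
  rw [tmul_add, (one_tmul_eq_zero_iff hRB ⟨r₂, hr₂J⟩).2 hr₂, zero_add]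

end

end Groth.Agent.H44
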