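import Groth.Agent.H44.ConormalTriple
import Groth.Agent.H44.ConormalAlg4

/-!
# Transitivity of conormal sheaves for two quasi-compact immersions (helper44)

`pullback_sections_induction`, `span_conormal_generators`, `TransChart`, `exists_transChart`,
`transMap_pullSectLE`, `trans_seq_chart`, `trans_seq_exact`.
-/

set_option autoImplicit false
universe u
open CategoryTheory Limits Opposite AlgebraicGeometry TopologicalSpace TensorProduct Scheme.Modules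

namespace Groth.Agent.H44

section PullbackInduction
variable {X' X : Scheme.{u}} (h : X' ⟶ X) (M : X.Modules) [M.IsQuasicoherent]
  {U : X.Opens} {U' : X'.Opens} (hU : IsAffineOpen U) (hU' : IsAffineOpen U') (le : U' ≤ h ⁻¹ᵁ U)

include hU hU' in
/-- Induction principle: sections of `h^*M` over an affine chart are generated by the pullbacks of a
generating family of sections of `M`. -/
theorem pullback_sections_induction (G : Set Γ(M, U)) (hG : Submodule.span Γ(X, U) G = ⊤)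
    (P : Γ((Scheme.Modules.pullback h).obj M, U') → Prop) (h0 : P 0)
    (hadd : ∀ x y, P x → P y → P (x + y)) (hsmul : ∀ (a : Γ(X', U')) x, P x → P (a • x))
    (hgen : ∀ g ∈ G, P (pullSectLE h M U U' le g)) : ∀ x, P x := by
  letI := (h.appLE U U' le).hom.toAlgebra
  let E₀ := pullbackSectionsEquiv h M hU' hU le
  have key : ∀ t : Γ(X', U') ⊗[Γ(X, U)] Γ(M, U), P (E₀.symm t) := by
    intro t
    induction t using TensorProduct.induction_on with
    | zero => rw [map_zero]; exact h0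
    | add x y hx hy => rw [map_add]; exact hadd _ _ hx hy
    | tmul a m =>
      have hm : m ∈ Submodule.span Γ(X, U) G := by rw [hG]; trivial
      induction hm using Submodule.span_induction generalizing a with
      | mem g hg =>
        have h1 : (a ⊗ₜ[Γ(X, U)] g : Γ(X', U') ⊗[Γ(X, U)] Γ(M, U)) =
            a • ((1 : Γ(X', U')) ⊗ₜ[Γ(X, U)] g) := by
          rw [TensorProduct.smul_tmul', smul_eq_mul, mul_one]
        rw [h1, _root_.map_smul, ← pullbackSectionsEquiv_pullSectLE h M hU' hU le g,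
          LinearEquiv.symm_apply_apply]
        exact hsmul _ _ (hgen g hg)
      | zero => rw [TensorProduct.tmul_zero, map_zero]; exact h0
      | add x y _ _ hx hy =>
        rw [TensorProduct.tmul_add, map_add]
        exact hadd _ _ (hx a) (hy a)
      | smul r x _ hx =>
        rw [← TensorProduct.smul_tmul]
        exact hx _
  intro x
  rw [← E₀.symm_apply_apply x]
  exact key _

end PullbackInduction

section ConormalSpan
variable {X Y : Scheme.{u}} (j : X ⟶ Y) [QuasiCompact j] {U : Y.Opens} (hU : IsAffineOpen U)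
  {U' : X.Opens} (hU' : IsAffineOpen U') (le : U' ≤ j ⁻¹ᵁ U) (ge : j ⁻¹ᵁ U ≤ U')

include hU hU' ge in
theorem span_conormal_generators :
    Submodule.span Γ(X, U') (Set.range fun σ : Γ(ClSub.idealMod j.ker, U) =>
      (pullSectLE j (ClSub.idealMod j.ker) U U' le σ : Γ(Omega.conormal j, U'))) = ⊤ := by
  rw [eq_top_iff]
  intro x _
  refine conormal_induction j hU hU' le ge (fun x => x ∈ Submodule.span Γ(X, U')
    (Set.range fun σ : Γ(ClSub.idealMod j.ker, U) =>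
      (pullSectLE j (ClSub.idealMod j.ker) U U' le σ : Γ(Omega.conormal j, U')))) ?_ ?_ ?_ ?_ x
  · exact Submodule.zero_mem _
  · exact fun x y hx hy => Submodule.add_mem _ hx hy
  · exact fun a x hx => Submodule.smul_mem _ a hx
  · exact fun σ => Submodule.subset_span ⟨σ, rfl⟩

end ConormalSpan

section TransChart
variable {Y' Y X : Scheme.{u}} (j : Y' ⟶ Y) (f : Y ⟶ X) [IsImmersion j] [IsImmersion f]

/-- Charts for two composable immersions `Y' →j Y →f X`: an affine open `V ⊆ X` over which `f`, `j`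
and `j ≫ f` are closed immersions. -/
structure TransChart where
  V : X.Opens
  hV : IsAffineOpen V
  hcf : V ≤ f.coborderRange
  hcj : f ⁻¹ᵁ V ≤ j.coborderRange
  hcjf : V ≤ (j ≫ f).coborderRange

variable {j f}

theorem TransChart.hfV (t : TransChart j f) : IsAffineOpen (f ⁻¹ᵁ t.V) :=
  isAffineOpen_preimage_of_le_coborderRange f t.hV t.hcf

/-- The double chart for `(j, f)` attached to a transitivity chart. -/
def TransChart.toDoubleChart (t : TransChart j f) : DoubleChart j f where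
  U := f ⁻¹ᵁ t.V
  V := t.V
  hU := t.hfV
  hV := t.hV
  e := le_rfl
  hcU := t.hcj
  hcV := t.hcjf
  ge := le_rfl

theorem TransChart.hW (t : TransChart j f) : IsAffineOpen (j ⁻¹ᵁ (f ⁻¹ᵁ t.V)) :=
  t.toDoubleChart.hW

theorem TransChart.surj_f (t : TransChart j f) : Function.Surjective (f.app t.V) :=
  app_surjective_of_le_coborderRange f t.hV t.hcf

theorem TransChart.surj_j (t : TransChart j f) : Function.Surjective (j.app (f ⁻¹ᵁ t.V)) :=
  app_surjective_of_le_coborderRange j t.hfV t.hcj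

variable (j f)

theorem exists_transChart (y' : Y') (W : Y'.Opens) (hy' : y' ∈ W) :
    ∃ t : TransChart j f, y' ∈ j ⁻¹ᵁ (f ⁻¹ᵁ t.V) ∧ j ⁻¹ᵁ (f ⁻¹ᵁ t.V) ≤ W := by
  obtain ⟨O, hO, hOc⟩ := f.isEmbedding.isInducing.isOpen_iff.1 j.coborderRange.2
  have h1 : (j ≫ f).base y' ∈ (⟨O, hO⟩ : X.Opens) ⊓ f.coborderRange := by
    refine ⟨?_, subset_coborder ⟨j.base y', rfl⟩⟩
    change j.base y' ∈ f.base ⁻¹' O
    rw [hOc]
    exact subset_coborder ⟨y', rfl⟩
  obtain ⟨V, hV, hyV, hVle, hVc, hVW⟩ :=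
    exists_affine_le_coborderRange (j ≫ f) y' _ h1 W hy'
  refine ⟨⟨V, hV, hVle.trans inf_le_right, ?_, hVc⟩, hyV, hVW⟩
  intro y hy
  have h2 : f.base y ∈ O := (hVle hy).1
  have h3 : y ∈ f.base ⁻¹' O := h2
  rw [hOc] at h3
  exact h3

theorem isBasis_transChart :
    Opens.IsBasis (Set.range (fun t : TransChart j f => j ⁻¹ᵁ (f ⁻¹ᵁ t.V))) := by
  rw [Opens.isBasis_iff_nbhd]
  intro W x hx
  obtain ⟨t, hxt, htW⟩ := exists_transChart j f x W hx
  exact ⟨_, ⟨t, rfl⟩, hxt, htW⟩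

end TransChart

section TransSeq
variable {Y' Y X : Scheme.{u}} {j : Y' ⟶ Y} {f : Y ⟶ X} [IsImmersion j] [IsImmersion f]
  [QuasiCompact j] [QuasiCompact f]
  (φ₁ : (Scheme.Modules.pullback j).obj (Omega.conormal f) ⟶ Omega.conormal (j ≫ f))
  (hφ₁ : OmegaSh.IsConormalMap (j ≫ f) f (𝟙 X) j φ₁)

include hφ₁ in
/-- The first canonical map of conormal sheaves on generators, over a double chart. -/
theorem transMap_pullSectLE (dc : DoubleChart j f) (s' : Γ(ClSub.idealMod f.ker, dc.V)) :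
    ∃ s : Γ(ClSub.idealMod (j ≫ f).ker, dc.V),
      OmegaSh.idealSect (j ≫ f).ker dc.V s = OmegaSh.idealSect f.ker dc.V s' ∧
      φ₁.app (j ⁻¹ᵁ dc.U) (pullSectLE j (Omega.conormal f) dc.U (j ⁻¹ᵁ dc.U) le_rfl
        (pullSectLE f (ClSub.idealMod f.ker) dc.V dc.U dc.e s')) =
      pullSectLE (j ≫ f) (ClSub.idealMod (j ≫ f).ker) dc.V (j ⁻¹ᵁ dc.U) dc.leW s := by
  have hmem : OmegaSh.idealSect f.ker dc.V s' ∈ (j ≫ f).ker.ideal ⟨dc.V, dc.hV⟩ := by
    have h1 : OmegaSh.idealSect f.ker dc.V s' ∈ f.ker.ideal ⟨dc.V, dc.hV⟩ :=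
      idealModι_app_mem_ideal f.ker dc.hV s'
    rw [Scheme.Hom.ker_apply, RingHom.mem_ker] at h1 ⊢
    have h1' : f.app dc.V (OmegaSh.idealSect f.ker dc.V s') = 0 := h1
    change j.app (f ⁻¹ᵁ dc.V) (f.app dc.V (OmegaSh.idealSect f.ker dc.V s')) = 0
    rw [h1', map_zero]
  obtain ⟨s, hs⟩ := (idealSectEquiv (j ≫ f).ker dc.hV).surjective ⟨_, hmem⟩
  have hs' : OmegaSh.idealSect (j ≫ f).ker dc.V s = OmegaSh.idealSect f.ker dc.V s' :=
    congrArg Subtype.val hs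
  refine ⟨s, hs', ?_⟩
  have key := hφ₁.2 dc.V s' s hs' (j ⁻¹ᵁ dc.U) (j.preimage_mono dc.e) dc.leW
  rw [← hom_app_resLE] at key
  refine Eq.trans ?_ key
  congr 1
  exact pullSectLE_of_res j (Omega.conormal f) dc.e (j ⁻¹ᵁ dc.U) le_rfl _

include hφ₁ in
/-- Chart value of `φ₁` on generators, in tensor form. -/
theorem transMap_chart_generator (dc : DoubleChart j f) (geU : f ⁻¹ᵁ dc.V ≤ dc.U)
    (s' : Γ(ClSub.idealMod f.ker, dc.V)) :
    letI _algRA : Algebra Γ(X, dc.V) Γ(Y, dc.U) := (f.appLE dc.V dc.U dc.e).hom.toAlgebra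
    letI _algRB : Algebra Γ(X, dc.V) Γ(Y', j ⁻¹ᵁ dc.U) :=
      ((j ≫ f).appLE dc.V (j ⁻¹ᵁ dc.U) dc.leW).hom.toAlgebra
    letI _algAB : Algebra Γ(Y, dc.U) Γ(Y', j ⁻¹ᵁ dc.U) :=
      (j.appLE dc.U (j ⁻¹ᵁ dc.U) le_rfl).hom.toAlgebra
    ∀ [IsScalarTower Γ(X, dc.V) Γ(Y, dc.U) Γ(Y', j ⁻¹ᵁ dc.U)],
    conormalEquiv (j ≫ f) dc.hV dc.hW dc.leW dc.ge
      (φ₁.app (j ⁻¹ᵁ dc.U) (pullSectLE j (Omega.conormal f) dc.U (j ⁻¹ᵁ dc.U) le_rfl
        (pullSectLE f (ClSub.idealMod f.ker) dc.V dc.U dc.e s'))) =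
      (1 : Γ(Y', j ⁻¹ᵁ dc.U)) ⊗ₜ[Γ(X, dc.V)]
        ⟨(idealKerEquiv f dc.hV dc.e geU s' : Γ(X, dc.V)),
          ker_le_ker Γ(X, dc.V) Γ(Y, dc.U) Γ(Y', j ⁻¹ᵁ dc.U)
            (idealKerEquiv f dc.hV dc.e geU s').2⟩ := by
  letI _algRA : Algebra Γ(X, dc.V) Γ(Y, dc.U) := (f.appLE dc.V dc.U dc.e).hom.toAlgebra
  letI _algRB : Algebra Γ(X, dc.V) Γ(Y', j ⁻¹ᵁ dc.U) :=
    ((j ≫ f).appLE dc.V (j ⁻¹ᵁ dc.U) dc.leW).hom.toAlgebra
  letI _algAB : Algebra Γ(Y, dc.U) Γ(Y', j ⁻¹ᵁ dc.U) :=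
    (j.appLE dc.U (j ⁻¹ᵁ dc.U) le_rfl).hom.toAlgebra
  intro _
  obtain ⟨s, hs, hk⟩ := transMap_pullSectLE φ₁ hφ₁ dc s'
  rw [hk, conormalEquiv_pullSectLE]
  congr 1
  exact Subtype.ext hs

variable (φ₂ : (Scheme.Modules.pullback (𝟙 Y')).obj (Omega.conormal (j ≫ f)) ⟶ Omega.conormal j)
  (hφ₂ : OmegaSh.IsConormalMap j (j ≫ f) f (𝟙 Y') φ₂)

include hφ₁ hφ₂ in
/-- Chart-level exactness of `j^*C_{Y/X} ⟶ C_{Y'/X} ⟶ C_{Y'/Y} ⟶ 0`. -/
theorem trans_seq_chart (dc : DoubleChart j f) (geU : f ⁻¹ᵁ dc.V ≤ dc.U)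
    (hsurj : Function.Surjective (f.appLE dc.V dc.U dc.e)) :
    Function.Surjective (φ₂.app (j ⁻¹ᵁ dc.U)) ∧
    (∀ y, φ₂.app (j ⁻¹ᵁ dc.U) (((pullbackId Y').inv.app (Omega.conormal (j ≫ f))).app
      (j ⁻¹ᵁ dc.U) (φ₁.app (j ⁻¹ᵁ dc.U) y)) = 0) ∧
    (∀ x, φ₂.app (j ⁻¹ᵁ dc.U) (((pullbackId Y').inv.app (Omega.conormal (j ≫ f))).app
      (j ⁻¹ᵁ dc.U) x) = 0 → ∃ y, φ₁.app (j ⁻¹ᵁ dc.U) y = x) := by
  letI algRA : Algebra Γ(X, dc.V) Γ(Y, dc.U) := (f.appLE dc.V dc.U dc.e).hom.toAlgebra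
  letI algRB : Algebra Γ(X, dc.V) Γ(Y', j ⁻¹ᵁ dc.U) :=
    ((j ≫ f).appLE dc.V (j ⁻¹ᵁ dc.U) dc.leW).hom.toAlgebra
  letI algAB : Algebra Γ(Y, dc.U) Γ(Y', j ⁻¹ᵁ dc.U) :=
    (j.appLE dc.U (j ⁻¹ᵁ dc.U) le_rfl).hom.toAlgebra
  haveI : IsScalarTower Γ(X, dc.V) Γ(Y, dc.U) Γ(Y', j ⁻¹ᵁ dc.U) :=
    IsScalarTower.of_algebraMap_eq' (by
      change ((j ≫ f).appLE dc.V (j ⁻¹ᵁ dc.U) dc.leW).hom =
        (j.appLE dc.U (j ⁻¹ᵁ dc.U) le_rfl).hom.comp (f.appLE dc.V dc.U dc.e).hom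
      rw [← CommRingCat.hom_comp, Scheme.Hom.appLE_comp_appLE])
  have hRA : Function.Surjective (algebraMap Γ(X, dc.V) Γ(Y, dc.U)) := hsurj
  have hAB : Function.Surjective (algebraMap Γ(Y, dc.U) Γ(Y', j ⁻¹ᵁ dc.U)) := by
    change Function.Surjective (j.appLE dc.U (j ⁻¹ᵁ dc.U) le_rfl).hom
    rw [Scheme.Hom.appLE_eq_app]
    exact app_surjective_of_le_coborderRange j dc.hU dc.hcU
  have h2 := conormalMap_chart_description φ₂ hφ₂ dc
  have h1 := fun s' => transMap_chart_generator φ₁ hφ₁ dc geU s'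
  refine ⟨fun z => ?_, ?_, fun x hx => ?_⟩
  · obtain ⟨v, hv⟩ := conormalMap_surjective_of_surjective hRA hAB
      (conormalEquiv j dc.hU dc.hW le_rfl le_rfl z)
    refine ⟨((pullbackId Y').inv.app (Omega.conormal (j ≫ f))).app (j ⁻¹ᵁ dc.U)
      ((conormalEquiv (j ≫ f) dc.hV dc.hW dc.leW dc.ge).symm v), ?_⟩
    apply (conormalEquiv j dc.hU dc.hW le_rfl le_rfl).injective
    rw [h2, LinearEquiv.apply_symm_apply, hv]
  · haveI : (Omega.conormal f).IsQuasicoherent := isQuasicoherent_conormal f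
    refine pullback_sections_induction j (Omega.conormal f) dc.hU dc.hW le_rfl _
      (span_conormal_generators f dc.hV dc.hU dc.e geU) _ ?_ ?_ ?_ ?_
    · rw [map_zero, map_zero, map_zero]
    · intro x y hx hy
      rw [map_add, map_add, map_add, hx, hy, add_zero]
    · intro a x hx
      rw [Scheme.Modules.Hom.app_smul, app_pullId_smul, hx, smul_zero]
    · rintro _ ⟨s', rfl⟩
      apply (conormalEquiv j dc.hU dc.hW le_rfl le_rfl).injective
      rw [map_zero, h2, h1 s']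
      exact conormalMap_one_tmul_of_mem_ker _ _ _ _ (idealKerEquiv f dc.hV dc.e geU s').2
  · have h3 : conormalMap Γ(X, dc.V) Γ(Y, dc.U) Γ(Y', j ⁻¹ᵁ dc.U)
        (conormalEquiv (j ≫ f) dc.hV dc.hW dc.leW dc.ge x) = 0 := by
      rw [← h2, hx, map_zero]
    obtain ⟨r, hr, hrt⟩ := exists_of_conormalMap_eq_zero hRA hAB _ h3
    refine ⟨pullSectLE j (Omega.conormal f) dc.U (j ⁻¹ᵁ dc.U) le_rfl
      (pullSectLE f (ClSub.idealMod f.ker) dc.V dc.U dc.e
        ((idealKerEquiv f dc.hV dc.e geU).symm ⟨r, hr⟩)), ?_⟩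
    apply (conormalEquiv (j ≫ f) dc.hV dc.hW dc.leW dc.ge).injective
    rw [h1, hrt]
    congr 1
    apply Subtype.ext
    change ((idealKerEquiv f dc.hV dc.e geU
      ((idealKerEquiv f dc.hV dc.e geU).symm ⟨r, hr⟩) : _) : Γ(X, dc.V)) = r
    rw [LinearEquiv.apply_symm_apply]

omit [QuasiCompact j] [QuasiCompact f] in
theorem TransChart.surj_appLE (t : TransChart j f) :
    Function.Surjective (f.appLE t.toDoubleChart.V t.toDoubleChart.U t.toDoubleChart.e) := by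
  change Function.Surjective (f.appLE t.V (f ⁻¹ᵁ t.V) le_rfl).hom
  rw [Scheme.Hom.appLE_eq_app]
  exact t.surj_f

include hφ₁ hφ₂ in
/-- **Transitivity of conormal sheaves**: for quasi-compact immersions `Y' →j Y →f X` the sequence
`j^*C_{Y/X} ⟶ C_{Y'/X} ⟶ C_{Y'/Y} ⟶ 0` is exact. -/
theorem trans_seq_exact :
    Epi φ₂ ∧ ∃ w : φ₁ ≫ ((pullbackId Y').inv.app (Omega.conormal (j ≫ f)) ≫ φ₂) = 0,
      (ShortComplex.mk φ₁ ((pullbackId Y').inv.app (Omega.conormal (j ≫ f)) ≫ φ₂) w).Exact := by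
  have hcov : ∀ y' : Y', ∃ t : TransChart j f, y' ∈ j ⁻¹ᵁ t.toDoubleChart.U := fun y' => by
    obtain ⟨t, hyt, -⟩ := exists_transChart j f y' ⊤ trivial
    exact ⟨t, hyt⟩
  have hchart := fun t : TransChart j f =>
    trans_seq_chart φ₁ hφ₁ φ₂ hφ₂ t.toDoubleChart le_rfl t.surj_appLE
  have hbasis : Opens.IsBasis (Set.range (fun t : TransChart j f => j ⁻¹ᵁ t.toDoubleChart.U)) :=
    isBasis_transChart j f
  have w : φ₁ ≫ ((pullbackId Y').inv.app (Omega.conormal (j ≫ f)) ≫ φ₂) = 0 := by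
    refine hom_eq_zero_of_isBasis _ _ hbasis ?_
    rintro _ ⟨t, rfl⟩ x
    exact (hchart t).2.1 x
  refine ⟨epi_of_surjective_on_cover φ₂ (fun t : TransChart j f => j ⁻¹ᵁ t.toDoubleChart.U) hcov
    (fun t => t.toDoubleChart.hW) (fun t => (hchart t).1), w, ?_⟩
  exact exact_of_exact_on_cover φ₁ _ w (fun t : TransChart j f => j ⁻¹ᵁ t.toDoubleChart.U) hcov
    (fun t => t.toDoubleChart.hW) (fun t => (hchart t).2.2)

end TransSeq
end Groth.Agent.H44
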