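import Groth.Agent.H44.ConormalMapExists
import Groth.Agent.H44.ConormalAlg6
import Groth.Agent.H44.ConormalTrans
import Groth.Agent.H44.FormallySmoothOmega
import Groth.Agent.H39.RelRegGeom
import Mathlib.AlgebraicGeometry.Morphisms.Flat

/-!
# The canonical map of conormal sheaves of a cartesian square (helper44)

`SqChart`, `sqMap_pullSectLE`, `sq_chart_description`, `conormalMap_epi_of_isPullback`,
`conormalMap_isIso_of_isPullback_of_flat`.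
-/

set_option autoImplicit false
universe u
open CategoryTheory Limits Opposite AlgebraicGeometry TopologicalSpace TensorProduct Scheme.Modules

namespace Groth.Agent.H44

section AppLin
variable {X : Scheme.{u}} {M N : X.Modules}

/-- `φ.app W` as a `Γ(X, W)`-linear map. -/
noncomputable def appLin (φ : M ⟶ N) (W : X.Opens) : Γ(M, W) →ₗ[Γ(X, W)] Γ(N, W) where
  toFun := φ.app W
  map_add' := map_add _
  map_smul' := fun a x => Scheme.Modules.Hom.app_smul φ a x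

theorem appLin_apply (φ : M ⟶ N) (W : X.Opens) (x : Γ(M, W)) : appLin φ W x = φ.app W x := rfl

end AppLin

section PullbackExt
variable {X' X : Scheme.{u}} (h : X' ⟶ X) (M : X.Modules) [M.IsQuasicoherent]
  {U : X.Opens} {U' : X'.Opens} (hU : IsAffineOpen U) (hU' : IsAffineOpen U') (le : U' ≤ h ⁻¹ᵁ U)

include hU hU' in
/-- Linear maps out of the sections of `h^*M` over an affine chart are determined by their values on
the pullbacks of a generating family. -/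
theorem pullback_sections_linearMap_ext (G : Set Γ(M, U)) (hG : Submodule.span Γ(X, U) G = ⊤)
    {N : Type*} [AddCommGroup N] [Module Γ(X', U') N]
    (L₁ L₂ : Γ((Scheme.Modules.pullback h).obj M, U') →ₗ[Γ(X', U')] N)
    (hgen : ∀ g ∈ G, L₁ (pullSectLE h M U U' le g) = L₂ (pullSectLE h M U U' le g)) : L₁ = L₂ := by
  refine LinearMap.ext (pullback_sections_induction h M hU hU' le G hG (fun y => L₁ y = L₂ y)
    ?_ ?_ ?_ hgen)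
  · rw [map_zero, map_zero]
  · intro x y hx hy
    rw [map_add, map_add, hx, hy]
  · intro a x hx
    rw [_root_.map_smul, _root_.map_smul, hx]

include hU hU' in
/-- Function version of `pullback_sections_linearMap_ext`. -/
theorem pullback_sections_fun_ext (G : Set Γ(M, U)) (hG : Submodule.span Γ(X, U) G = ⊤)
    {N : Type*} [AddCommGroup N] [Module Γ(X', U') N]
    (e₁ e₂ : Γ((Scheme.Modules.pullback h).obj M, U') → N)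
    (add₁ : ∀ x y, e₁ (x + y) = e₁ x + e₁ y) (smul₁ : ∀ (a : Γ(X', U')) x, e₁ (a • x) = a • e₁ x)
    (add₂ : ∀ x y, e₂ (x + y) = e₂ x + e₂ y) (smul₂ : ∀ (a : Γ(X', U')) x, e₂ (a • x) = a • e₂ x)
    (hgen : ∀ g ∈ G, e₁ (pullSectLE h M U U' le g) = e₂ (pullSectLE h M U U' le g)) :
    ∀ y, e₁ y = e₂ y := by
  have z₁ : e₁ 0 = 0 := by
    have := smul₁ 0 0
    rwa [zero_smul, zero_smul] at this
  have z₂ : e₂ 0 = 0 := by
    have := smul₂ 0 0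
    rwa [zero_smul, zero_smul] at this
  refine pullback_sections_induction h M hU hU' le G hG (fun y => e₁ y = e₂ y) ?_ ?_ ?_ hgen
  · rw [z₁, z₂]
  · intro x y hx hy
    rw [add₁, add₂, hx, hy]
  · intro a x hx
    rw [smul₁, smul₂, hx]

end PullbackExt

section SqChart
variable {Z X Z' X' : Scheme.{u}} (i : Z ⟶ X) (i' : Z' ⟶ X') [IsImmersion i] [IsImmersion i']
  (g : X ⟶ X') (gZ : Z ⟶ Z')

/-- Charts for a commutative square of immersions. -/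
structure SqChart where
  V' : X'.Opens
  V : X.Opens
  hV' : IsAffineOpen V'
  hV : IsAffineOpen V
  le : V ≤ g ⁻¹ᵁ V'
  hc' : V' ≤ i'.coborderRange
  hc : V ≤ i.coborderRange

variable {i i' g}

theorem SqChart.hW (t : SqChart i i' g) : IsAffineOpen (i ⁻¹ᵁ t.V) :=
  isAffineOpen_preimage_of_le_coborderRange i t.hV t.hc

theorem SqChart.hW' (t : SqChart i i' g) : IsAffineOpen (i' ⁻¹ᵁ t.V') :=
  isAffineOpen_preimage_of_le_coborderRange i' t.hV' t.hc'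

variable {gZ}

theorem SqChart.leW (t : SqChart i i' g) (hsq : gZ ≫ i' = i ≫ g) :
    i ⁻¹ᵁ t.V ≤ gZ ⁻¹ᵁ (i' ⁻¹ᵁ t.V') := by
  have h1 : i ⁻¹ᵁ t.V ≤ i ⁻¹ᵁ (g ⁻¹ᵁ t.V') := i.preimage_mono t.le
  have h2 : gZ ⁻¹ᵁ (i' ⁻¹ᵁ t.V') = i ⁻¹ᵁ (g ⁻¹ᵁ t.V') := by
    change (gZ ≫ i') ⁻¹ᵁ t.V' = (i ≫ g) ⁻¹ᵁ t.V'
    rw [hsq]
  rw [h2]
  exact h1

variable (i i' g gZ)

theorem exists_sqChart (hsq : gZ ≫ i' = i ≫ g) (z : Z) (O : Z.Opens) (hz : z ∈ O) :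
    ∃ t : SqChart i i' g, z ∈ i ⁻¹ᵁ t.V ∧ i ⁻¹ᵁ t.V ≤ O := by
  obtain ⟨V', hV', hzV', -, hc', -⟩ :=
    exists_affine_le_coborderRange i' (gZ.base z) ⊤ trivial ⊤ trivial
  have hz' : i.base z ∈ g ⁻¹ᵁ V' := by
    change (i ≫ g).base z ∈ V'
    rw [← hsq]
    exact hzV'
  obtain ⟨V, hV, hzV, hVle, hc, hVO⟩ := exists_affine_le_coborderRange i z _ hz' O hz
  exact ⟨⟨V', V, hV', hV, hVle, hc', hc⟩, hzV, hVO⟩

theorem isBasis_sqChart (hsq : gZ ≫ i' = i ≫ g) :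
    Opens.IsBasis (Set.range (fun t : SqChart i i' g => i ⁻¹ᵁ t.V)) := by
  rw [Opens.isBasis_iff_nbhd]
  intro W x hx
  obtain ⟨t, hxt, htW⟩ := exists_sqChart i i' g gZ hsq x W hx
  exact ⟨_, ⟨t, rfl⟩, hxt, htW⟩

end SqChart

section Description
variable {Z X Z' X' : Scheme.{u}} {i : Z ⟶ X} {i' : Z' ⟶ X'} [IsImmersion i] [IsImmersion i']
  [QuasiCompact i] [QuasiCompact i'] {g : X ⟶ X'} {gZ : Z ⟶ Z'}
  (φ : (Scheme.Modules.pullback gZ).obj (Omega.conormal i') ⟶ Omega.conormal i)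
  (hφ : OmegaSh.IsConormalMap i i' g gZ φ)

omit [QuasiCompact i'] in
include hφ in
/-- Value of the canonical map on generators over a chart. -/
theorem sqMap_pullSectLE (t : SqChart i i' g) (s' : Γ(ClSub.idealMod i'.ker, t.V')) :
    φ.app (i ⁻¹ᵁ t.V) (pullSectLE gZ (Omega.conormal i') (i' ⁻¹ᵁ t.V') (i ⁻¹ᵁ t.V) (t.leW hφ.1)
        (pullSectLE i' (ClSub.idealMod i'.ker) t.V' (i' ⁻¹ᵁ t.V') le_rfl s')) =
      pullSectLE i (ClSub.idealMod i.ker) t.V (i ⁻¹ᵁ t.V) le_rfl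
        ((ClSub.idealMod i.ker).presheaf.map (homOfLE t.le).op
          (idealPull i i' g gZ hφ.1 t.V' s')) := by
  have key := hφ.2 t.V' s' (idealPull i i' g gZ hφ.1 t.V' s')
    (idealSect_idealPull i i' g gZ hφ.1 t.V' s') (i ⁻¹ᵁ t.V) (t.leW hφ.1) (i.preimage_mono t.le)
  rw [← hom_app_resLE] at key
  rw [pullSectLE_of_res i (ClSub.idealMod i.ker) t.le (i ⁻¹ᵁ t.V) le_rfl, pullSectLE_self]
  exact key

theorem appLE_congr {A B : Scheme.{u}} {f₁ f₂ : A ⟶ B} (e : f₁ = f₂) (U : B.Opens) (W : A.Opens)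
    (h₁ : W ≤ f₁ ⁻¹ᵁ U) (h₂ : W ≤ f₂ ⁻¹ᵁ U) : f₁.appLE U W h₁ = f₂.appLE U W h₂ := by
  subst e
  rfl

include hφ in
/-- Left-hand side of the chart description on generators. -/
theorem sq_chart_generator_left (t : SqChart i i' g) (s' : Γ(ClSub.idealMod i'.ker, t.V')) :
    letI _a1 : Algebra Γ(X', t.V') Γ(X, t.V) := (g.appLE t.V' t.V t.le).hom.toAlgebra
    letI _a2 : Algebra Γ(X, t.V) Γ(Z, i ⁻¹ᵁ t.V) := (i.appLE t.V (i ⁻¹ᵁ t.V) le_rfl).hom.toAlgebra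
    letI _a3 : Algebra Γ(X', t.V') Γ(Z', i' ⁻¹ᵁ t.V') :=
      (i'.appLE t.V' (i' ⁻¹ᵁ t.V') le_rfl).hom.toAlgebra
    letI _a4 : Algebra Γ(Z', i' ⁻¹ᵁ t.V') Γ(Z, i ⁻¹ᵁ t.V) :=
      (gZ.appLE (i' ⁻¹ᵁ t.V') (i ⁻¹ᵁ t.V) (t.leW hφ.1)).hom.toAlgebra
    letI _a5 : Algebra Γ(X', t.V') Γ(Z, i ⁻¹ᵁ t.V) :=
      ((i ≫ g).appLE t.V' (i ⁻¹ᵁ t.V) (i.preimage_mono t.le)).hom.toAlgebra
    ∀ [IsScalarTower Γ(X', t.V') Γ(X, t.V) Γ(Z, i ⁻¹ᵁ t.V)]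
      [IsScalarTower Γ(X', t.V') Γ(Z', i' ⁻¹ᵁ t.V') Γ(Z, i ⁻¹ᵁ t.V)],
      conormalEquiv i t.hV t.hW le_rfl le_rfl (φ.app (i ⁻¹ᵁ t.V)
        (pullSectLE gZ (Omega.conormal i') (i' ⁻¹ᵁ t.V') (i ⁻¹ᵁ t.V) (t.leW hφ.1)
          (pullSectLE i' (ClSub.idealMod i'.ker) t.V' (i' ⁻¹ᵁ t.V') le_rfl s'))) =
      (1 : Γ(Z, i ⁻¹ᵁ t.V)) ⊗ₜ[Γ(X, t.V)]
        kerIncl Γ(X', t.V') Γ(X, t.V) Γ(Z', i' ⁻¹ᵁ t.V') Γ(Z, i ⁻¹ᵁ t.V)
          (idealKerEquiv i' t.hV' le_rfl le_rfl s') := by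
  letI _a1 : Algebra Γ(X', t.V') Γ(X, t.V) := (g.appLE t.V' t.V t.le).hom.toAlgebra
  letI _a2 : Algebra Γ(X, t.V) Γ(Z, i ⁻¹ᵁ t.V) := (i.appLE t.V (i ⁻¹ᵁ t.V) le_rfl).hom.toAlgebra
  letI _a3 : Algebra Γ(X', t.V') Γ(Z', i' ⁻¹ᵁ t.V') :=
    (i'.appLE t.V' (i' ⁻¹ᵁ t.V') le_rfl).hom.toAlgebra
  letI _a4 : Algebra Γ(Z', i' ⁻¹ᵁ t.V') Γ(Z, i ⁻¹ᵁ t.V) :=
    (gZ.appLE (i' ⁻¹ᵁ t.V') (i ⁻¹ᵁ t.V) (t.leW hφ.1)).hom.toAlgebra
  letI _a5 : Algebra Γ(X', t.V') Γ(Z, i ⁻¹ᵁ t.V) :=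
    ((i ≫ g).appLE t.V' (i ⁻¹ᵁ t.V) (i.preimage_mono t.le)).hom.toAlgebra
  intro _ _
  refine (congrArg (conormalEquiv i t.hV t.hW le_rfl le_rfl) (sqMap_pullSectLE φ hφ t s')).trans ?_
  refine (conormalEquiv_pullSectLE i t.hV t.hW le_rfl le_rfl _).trans ?_
  congr 1
  apply Subtype.ext
  change OmegaSh.idealSect i.ker t.V _ = g.appLE t.V' t.V t.le (OmegaSh.idealSect i'.ker t.V' s')
  rw [idealSect_map, idealSect_idealPull]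
  rfl

omit [QuasiCompact i] in
/-- Right-hand side of the chart description on generators. -/
theorem sq_chart_generator_right (hsq : gZ ≫ i' = i ≫ g) (t : SqChart i i' g)
    (s' : Γ(ClSub.idealMod i'.ker, t.V')) (hW : IsAffineOpen (i ⁻¹ᵁ t.V)) :
    letI _a1 : Algebra Γ(X', t.V') Γ(X, t.V) := (g.appLE t.V' t.V t.le).hom.toAlgebra
    letI _a2 : Algebra Γ(X, t.V) Γ(Z, i ⁻¹ᵁ t.V) := (i.appLE t.V (i ⁻¹ᵁ t.V) le_rfl).hom.toAlgebra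
    letI _a3 : Algebra Γ(X', t.V') Γ(Z', i' ⁻¹ᵁ t.V') :=
      (i'.appLE t.V' (i' ⁻¹ᵁ t.V') le_rfl).hom.toAlgebra
    letI _a4 : Algebra Γ(Z', i' ⁻¹ᵁ t.V') Γ(Z, i ⁻¹ᵁ t.V) :=
      (gZ.appLE (i' ⁻¹ᵁ t.V') (i ⁻¹ᵁ t.V) (t.leW hsq)).hom.toAlgebra
    letI _a5 : Algebra Γ(X', t.V') Γ(Z, i ⁻¹ᵁ t.V) :=
      ((i ≫ g).appLE t.V' (i ⁻¹ᵁ t.V) (i.preimage_mono t.le)).hom.toAlgebra
    ∀ [IsScalarTower Γ(X', t.V') Γ(X, t.V) Γ(Z, i ⁻¹ᵁ t.V)]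
      [IsScalarTower Γ(X', t.V') Γ(Z', i' ⁻¹ᵁ t.V') Γ(Z, i ⁻¹ᵁ t.V)],
      sqMap Γ(X', t.V') Γ(X, t.V) Γ(Z', i' ⁻¹ᵁ t.V') Γ(Z, i ⁻¹ᵁ t.V)
        ((pullbackSectionsEquiv gZ (Omega.conormal i') hW t.hW' (t.leW hsq) ≪≫ₗ
          LinearEquiv.baseChange Γ(Z', i' ⁻¹ᵁ t.V') Γ(Z, i ⁻¹ᵁ t.V) _ _
            (conormalEquiv i' t.hV' t.hW' le_rfl le_rfl))
          (pullSectLE gZ (Omega.conormal i') (i' ⁻¹ᵁ t.V') (i ⁻¹ᵁ t.V) (t.leW hsq)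
            (pullSectLE i' (ClSub.idealMod i'.ker) t.V' (i' ⁻¹ᵁ t.V') le_rfl s'))) =
      (1 : Γ(Z, i ⁻¹ᵁ t.V)) ⊗ₜ[Γ(X, t.V)]
        kerIncl Γ(X', t.V') Γ(X, t.V) Γ(Z', i' ⁻¹ᵁ t.V') Γ(Z, i ⁻¹ᵁ t.V)
          (idealKerEquiv i' t.hV' le_rfl le_rfl s') := by
  letI _a1 : Algebra Γ(X', t.V') Γ(X, t.V) := (g.appLE t.V' t.V t.le).hom.toAlgebra
  letI _a2 : Algebra Γ(X, t.V) Γ(Z, i ⁻¹ᵁ t.V) := (i.appLE t.V (i ⁻¹ᵁ t.V) le_rfl).hom.toAlgebra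
  letI _a3 : Algebra Γ(X', t.V') Γ(Z', i' ⁻¹ᵁ t.V') :=
    (i'.appLE t.V' (i' ⁻¹ᵁ t.V') le_rfl).hom.toAlgebra
  letI _a4 : Algebra Γ(Z', i' ⁻¹ᵁ t.V') Γ(Z, i ⁻¹ᵁ t.V) :=
    (gZ.appLE (i' ⁻¹ᵁ t.V') (i ⁻¹ᵁ t.V) (t.leW hsq)).hom.toAlgebra
  letI _a5 : Algebra Γ(X', t.V') Γ(Z, i ⁻¹ᵁ t.V) :=
    ((i ≫ g).appLE t.V' (i ⁻¹ᵁ t.V) (i.preimage_mono t.le)).hom.toAlgebra
  intro _ _
  haveI : (Omega.conormal i').IsQuasicoherent := isQuasicoherent_conormal i'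
  have h1 := pullbackSectionsEquiv_pullSectLE gZ (Omega.conormal i') hW t.hW' (t.leW hsq)
    (pullSectLE i' (ClSub.idealMod i'.ker) t.V' (i' ⁻¹ᵁ t.V') le_rfl s')
  have h2 := conormalEquiv_pullSectLE i' t.hV' t.hW' le_rfl le_rfl s'
  rw [LinearEquiv.trans_apply, h1, LinearEquiv.baseChange_tmul, h2]
  exact sqMap_one_tmul _ _ _ _ _

set_option maxRecDepth 4000 in
include hφ in
/-- Chart description of the canonical map of conormal sheaves of a commutative square. -/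
theorem sq_chart_description (t : SqChart i i' g) :
    letI _a1 : Algebra Γ(X', t.V') Γ(X, t.V) := (g.appLE t.V' t.V t.le).hom.toAlgebra
    letI _a2 : Algebra Γ(X, t.V) Γ(Z, i ⁻¹ᵁ t.V) := (i.appLE t.V (i ⁻¹ᵁ t.V) le_rfl).hom.toAlgebra
    letI _a3 : Algebra Γ(X', t.V') Γ(Z', i' ⁻¹ᵁ t.V') :=
      (i'.appLE t.V' (i' ⁻¹ᵁ t.V') le_rfl).hom.toAlgebra
    letI _a4 : Algebra Γ(Z', i' ⁻¹ᵁ t.V') Γ(Z, i ⁻¹ᵁ t.V) :=
      (gZ.appLE (i' ⁻¹ᵁ t.V') (i ⁻¹ᵁ t.V) (t.leW hφ.1)).hom.toAlgebra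
    letI _a5 : Algebra Γ(X', t.V') Γ(Z, i ⁻¹ᵁ t.V) :=
      ((i ≫ g).appLE t.V' (i ⁻¹ᵁ t.V) (i.preimage_mono t.le)).hom.toAlgebra
    ∀ [IsScalarTower Γ(X', t.V') Γ(X, t.V) Γ(Z, i ⁻¹ᵁ t.V)]
      [IsScalarTower Γ(X', t.V') Γ(Z', i' ⁻¹ᵁ t.V') Γ(Z, i ⁻¹ᵁ t.V)]
      (y : Γ((Scheme.Modules.pullback gZ).obj (Omega.conormal i'), i ⁻¹ᵁ t.V)),
      conormalEquiv i t.hV t.hW le_rfl le_rfl (φ.app (i ⁻¹ᵁ t.V) y) =
        sqMap Γ(X', t.V') Γ(X, t.V) Γ(Z', i' ⁻¹ᵁ t.V') Γ(Z, i ⁻¹ᵁ t.V)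
          ((pullbackSectionsEquiv gZ (Omega.conormal i') t.hW t.hW' (t.leW hφ.1) ≪≫ₗ
            LinearEquiv.baseChange Γ(Z', i' ⁻¹ᵁ t.V') Γ(Z, i ⁻¹ᵁ t.V) _ _
              (conormalEquiv i' t.hV' t.hW' le_rfl le_rfl)) y) := by
  intro _ _
  haveI : (Omega.conormal i').IsQuasicoherent := isQuasicoherent_conormal i'
  refine pullback_sections_fun_ext gZ (Omega.conormal i') t.hW' t.hW (t.leW hφ.1) _
    (span_conormal_generators i' t.hV' t.hW' le_rfl le_rfl) _ _ ?_ ?_ ?_ ?_ ?_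
  · intro x y
    exact (congrArg _ (map_add (φ.app (i ⁻¹ᵁ t.V)).hom x y)).trans (LinearEquiv.map_add _ _ _)
  · intro a x
    exact (congrArg _ (Scheme.Modules.Hom.app_smul φ a x)).trans (LinearEquiv.map_smul _ _ _)
  · intro x y
    exact (congrArg _ (LinearEquiv.map_add _ x y)).trans (LinearMap.map_add _ _ _)
  · intro a x
    exact (congrArg _ (LinearEquiv.map_smul _ a x)).trans (LinearMap.map_smul _ _ _)
  · rintro _ ⟨s', rfl⟩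
    exact (sq_chart_generator_left φ hφ t s').trans (sq_chart_generator_right hφ.1 t s' t.hW).symm

omit [QuasiCompact i] [QuasiCompact i'] in
/-- In a cartesian square the kernel over a chart is the extension of the kernel below. -/
theorem ker_eq_map_of_isPullback (hsq : IsPullback i gZ g i') (t : SqChart i i' g) :
    RingHom.ker (i.appLE t.V (i ⁻¹ᵁ t.V) le_rfl).hom =
      (RingHom.ker (i'.appLE t.V' (i' ⁻¹ᵁ t.V') le_rfl).hom).map (g.appLE t.V' t.V t.le).hom := by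
  haveI : IsClosedImmersion (i' ∣_ t.V') :=
    Groth.Agent.H39.RegImmStalk3.isClosedImmersion_restrict_of_le_coborderRange i' t.V' t.hc'
  rw [Scheme.Hom.appLE_eq_app, Scheme.Hom.appLE_eq_app]
  exact Groth.Agent.H39.RelRegGeom.ker_app_of_isPullback hsq.flip t.le t.hV' t.hV

include hφ in
/-- Surjectivity (and injectivity for flat `g`) of the canonical map over a chart of a cartesian
square. -/
theorem sq_chart_surjective (hsq : IsPullback i gZ g i') (t : SqChart i i' g) :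
    Function.Surjective (φ.app (i ⁻¹ᵁ t.V)) ∧
      (Flat g → Function.Injective (φ.app (i ⁻¹ᵁ t.V))) := by
  letI _a1 : Algebra Γ(X', t.V') Γ(X, t.V) := (g.appLE t.V' t.V t.le).hom.toAlgebra
  letI _a2 : Algebra Γ(X, t.V) Γ(Z, i ⁻¹ᵁ t.V) := (i.appLE t.V (i ⁻¹ᵁ t.V) le_rfl).hom.toAlgebra
  letI _a3 : Algebra Γ(X', t.V') Γ(Z', i' ⁻¹ᵁ t.V') :=
    (i'.appLE t.V' (i' ⁻¹ᵁ t.V') le_rfl).hom.toAlgebra
  letI _a4 : Algebra Γ(Z', i' ⁻¹ᵁ t.V') Γ(Z, i ⁻¹ᵁ t.V) :=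
    (gZ.appLE (i' ⁻¹ᵁ t.V') (i ⁻¹ᵁ t.V) (t.leW hφ.1)).hom.toAlgebra
  letI _a5 : Algebra Γ(X', t.V') Γ(Z, i ⁻¹ᵁ t.V) :=
    ((i ≫ g).appLE t.V' (i ⁻¹ᵁ t.V) (i.preimage_mono t.le)).hom.toAlgebra
  haveI tw1 : IsScalarTower Γ(X', t.V') Γ(X, t.V) Γ(Z, i ⁻¹ᵁ t.V) :=
    IsScalarTower.of_algebraMap_eq' (by
      change ((i ≫ g).appLE t.V' (i ⁻¹ᵁ t.V) (i.preimage_mono t.le)).hom =
        (i.appLE t.V (i ⁻¹ᵁ t.V) le_rfl).hom.comp (g.appLE t.V' t.V t.le).hom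
      rw [← CommRingCat.hom_comp, Scheme.Hom.appLE_comp_appLE])
  haveI tw2 : IsScalarTower Γ(X', t.V') Γ(Z', i' ⁻¹ᵁ t.V') Γ(Z, i ⁻¹ᵁ t.V) :=
    IsScalarTower.of_algebraMap_eq' (by
      change ((i ≫ g).appLE t.V' (i ⁻¹ᵁ t.V) (i.preimage_mono t.le)).hom =
        (gZ.appLE (i' ⁻¹ᵁ t.V') (i ⁻¹ᵁ t.V) (t.leW hφ.1)).hom.comp
          (i'.appLE t.V' (i' ⁻¹ᵁ t.V') le_rfl).hom
      rw [← CommRingCat.hom_comp, Scheme.Hom.appLE_comp_appLE]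
      exact congrArg _ (appLE_congr hφ.1.symm _ _ _ _))
  have hker : RingHom.ker (algebraMap Γ(X, t.V) Γ(Z, i ⁻¹ᵁ t.V)) =
      (RingHom.ker (algebraMap Γ(X', t.V') Γ(Z', i' ⁻¹ᵁ t.V'))).map
        (algebraMap Γ(X', t.V') Γ(X, t.V)) := ker_eq_map_of_isPullback hsq t
  have hdesc := sq_chart_description φ hφ t
  refine ⟨fun z => ?_, fun hflat => ?_⟩
  · obtain ⟨u, hu⟩ := sqMap_surjective Γ(X', t.V') Γ(X, t.V) Γ(Z', i' ⁻¹ᵁ t.V') Γ(Z, i ⁻¹ᵁ t.V) hker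
      (conormalEquiv i t.hV t.hW le_rfl le_rfl z)
    refine ⟨(pullbackSectionsEquiv gZ (Omega.conormal i') t.hW t.hW' (t.leW hφ.1) ≪≫ₗ
      LinearEquiv.baseChange Γ(Z', i' ⁻¹ᵁ t.V') Γ(Z, i ⁻¹ᵁ t.V) _ _
        (conormalEquiv i' t.hV' t.hW' le_rfl le_rfl)).symm u, ?_⟩
    apply (conormalEquiv i t.hV t.hW le_rfl le_rfl).injective
    rw [hdesc, LinearEquiv.apply_symm_apply, hu]
  · haveI : Module.Flat Γ(X', t.V') Γ(X, t.V) := by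
      have h1 : (g.appLE t.V' t.V t.le).hom.Flat :=
        HasRingHomProperty.appLE (P := @Flat) g hflat ⟨t.V', t.hV'⟩ ⟨t.V, t.hV⟩ t.le
      exact h1
    intro y₁ y₂ h
    have h3 := congrArg (conormalEquiv i t.hV t.hW le_rfl le_rfl) h
    rw [hdesc, hdesc] at h3
    exact (LinearEquiv.injective _) (sqMap_injective _ _ _ _ hker h3)

include hφ in
/-- **In a cartesian square of quasi-compact immersions the canonical map of conormal sheaves is an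
epimorphism, and an isomorphism when `g` is flat.** -/
theorem conormalMap_epi_and_isIso_of_isPullback (hsq : IsPullback i gZ g i') :
    Epi φ ∧ (Flat g → IsIso φ) := by
  haveI : (Omega.conormal i').IsQuasicoherent := isQuasicoherent_conormal i'
  haveI : (Omega.conormal i).IsQuasicoherent := isQuasicoherent_conormal i
  have hcov : ∀ z : Z, ∃ t : SqChart i i' g, z ∈ i ⁻¹ᵁ t.V := fun z => by
    obtain ⟨t, hzt, -⟩ := exists_sqChart i i' g gZ hφ.1 z ⊤ trivial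
    exact ⟨t, hzt⟩
  have hepi : Epi φ := epi_of_surjective_on_cover φ (fun t : SqChart i i' g => i ⁻¹ᵁ t.V) hcov
    (fun t => t.hW) (fun t => (sq_chart_surjective φ hφ hsq t).1)
  refine ⟨hepi, fun hflat => ?_⟩
  haveI : Mono φ := mono_of_injective_on_basis φ (fun t : SqChart i i' g => i ⁻¹ᵁ t.V)
    (isBasis_sqChart i i' g gZ hφ.1) (fun t => (sq_chart_surjective φ hφ hsq t).2 hflat)
  exact isIso_of_mono_of_epi φ

end Description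
end Groth.Agent.H44
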