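import Mathlib.AlgebraicGeometry.IdealSheaf.Functorial

/-!
# The inverse image ideal sheaf on affine opens

* `ideal_comap_top_of_isAffine` : for affine `X`, `Y`: `(f⁻¹J)(X) = J(Y)·Γ(X)` (via the Galois connection
  `comap ⊣ map` and the formula for `map` along affine morphisms).
* `ideal_eq_comap_of_eq`, `ideal_comap_ι_top` : transport lemmas.
* `ideal_comap_of_le` : for affine opens `U ≤ f⁻¹V`: `(I.comap f).ideal U = (I.ideal V).map (f.appLE V U e)`.
-/

set_option autoImplicit false
universe u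
open CategoryTheory AlgebraicGeometry TopologicalSpace Opposite

namespace Groth.Agent.H44

variable {X Y : Scheme.{u}}

/-- Affine case of the inverse image ideal sheaf: `(f⁻¹J)(X) = J(Y)·Γ(X)`. -/
theorem ideal_comap_top_of_isAffine [IsAffine X] [IsAffine Y] (J : Y.IdealSheafData) (f : X ⟶ Y) :
    (J.comap f).ideal ⟨⊤, isAffineOpen_top X⟩ =
      (J.ideal ⟨⊤, isAffineOpen_top Y⟩).map f.appTop.hom := by
  apply le_antisymm
  · have h1 : J.comap f ≤
        Scheme.IdealSheafData.ofIdealTop ((J.ideal ⟨⊤, isAffineOpen_top Y⟩).map f.appTop.hom) := by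
      rw [← Scheme.IdealSheafData.le_map_iff_comap_le]
      apply Scheme.IdealSheafData.le_of_isAffine
      rw [Scheme.IdealSheafData.ideal_map_of_isAffineHom]
      have h2 : (Scheme.IdealSheafData.ofIdealTop
          ((J.ideal ⟨⊤, isAffineOpen_top Y⟩).map f.appTop.hom)).ideal
          ⟨f ⁻¹ᵁ (⊤ : Y.Opens), (isAffineOpen_top Y).preimage f⟩ =
          (J.ideal ⟨⊤, isAffineOpen_top Y⟩).map f.appTop.hom := by
        simp
      rw [h2]
      exact Ideal.le_comap_map
    have := h1 ⟨⊤, isAffineOpen_top X⟩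
    simpa using this
  · rw [Ideal.map_le_iff_le_comap]
    have h1 := Scheme.IdealSheafData.le_map_comap J f ⟨⊤, isAffineOpen_top Y⟩
    rw [Scheme.IdealSheafData.ideal_map_of_isAffineHom] at h1
    exact h1


/-- Transport of the ideal of an ideal sheaf along an equality of affine opens. -/
theorem ideal_eq_comap_of_eq (J : X.IdealSheafData) (U U' : X.affineOpens) (h : U.1 = U'.1) :
    J.ideal U' = (J.ideal U).comap (X.presheaf.map (eqToHom h).op).hom := by
  obtain ⟨U, hU⟩ := U
  obtain ⟨U', hU'⟩ := U'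
  dsimp only at h
  subst h
  simp

/-- The restriction of an ideal sheaf to an affine open, evaluated at `⊤`. -/
theorem ideal_comap_ι_top (J : X.IdealSheafData) (U : X.affineOpens) :
    haveI : IsAffine U.1.toScheme := U.2
    (J.comap U.1.ι).ideal ⟨⊤, isAffineOpen_top _⟩ = (J.ideal U).comap U.1.topIso.hom.hom := by
  have : IsAffine U.1.toScheme := U.2
  rw [Scheme.IdealSheafData.ideal_comap_of_isOpenImmersion,
    ideal_eq_comap_of_eq J U ⟨U.1.ι ''ᵁ ⊤, _⟩ U.1.ι_image_top.symm, Ideal.comap_comap]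
  congr 1
  rw [← CommRingCat.hom_comp]
  congr 1
  simp only [Scheme.Opens.topIso, Scheme.Opens.ι_appIso, Iso.refl_inv,
    Functor.mapIso_hom, Iso.op_hom, eqToIso.hom]
  rfl


/-- **Inverse image ideal sheaf on affines**: for affine opens `U ≤ f⁻¹V`,
`(f⁻¹I)(U) = I(V)·Γ(X,U)`. -/
theorem ideal_comap_of_le (I : Y.IdealSheafData) (f : X ⟶ Y) (U : X.affineOpens)
    (V : Y.affineOpens) (e : U.1 ≤ f ⁻¹ᵁ V.1) :
    (I.comap f).ideal U = (I.ideal V).map (f.appLE V.1 U.1 e).hom := by
  have hUa : IsAffine U.1.toScheme := U.2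
  have hVa : IsAffine V.1.toScheme := V.2
  have key : (I.comap f).comap U.1.ι = (I.comap V.1.ι).comap (f.resLE V.1 U.1 e) := by
    rw [← Scheme.IdealSheafData.comap_comp, ← Scheme.IdealSheafData.comap_comp,
      Scheme.Hom.resLE_comp_ι]
  have h1 := congrArg (fun K => K.ideal ⟨⊤, isAffineOpen_top _⟩) key
  simp only at h1
  rw [ideal_comap_ι_top, ideal_comap_top_of_isAffine, ideal_comap_ι_top] at h1
  have h2 : (f.resLE V.1 U.1 e).appTop = V.1.topIso.hom ≫ f.appLE V.1 U.1 e ≫ U.1.topIso.inv :=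
    Scheme.Hom.resLE_app_top f e
  rw [h2, CommRingCat.hom_comp, CommRingCat.hom_comp, ← Ideal.map_map, ← Ideal.map_map,
    Ideal.map_comap_of_surjective _
      (ConcreteCategory.bijective_of_isIso V.1.topIso.hom).2] at h1
  have h3 := congrArg (Ideal.comap U.1.topIso.inv.hom) h1
  rw [Ideal.comap_comap, Ideal.comap_map_of_bijective _
    (ConcreteCategory.bijective_of_isIso U.1.topIso.inv)] at h3
  rw [← h3, ← CommRingCat.hom_comp, Iso.inv_hom_id]
  exact (Ideal.comap_id _).symm

end Groth.Agent.H44
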