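import Groth.Agent.H44.PullbackFT
import Groth.Agent.H44.ComapAffine
import Groth.Agent.H44.FittSheaf

/-!
# Fitting ideal sheaves commute with pullback

`fitt_sheafIdeal_comap` : `(Fitt.sheafIdeal F r).comap f = Fitt.sheafIdeal (f^*F) r` for `F` quasi-coherent of
finite type.
-/

set_option autoImplicit false
universe u
open CategoryTheory AlgebraicGeometry Scheme.Modules TopologicalSpace Opposite TensorProduct

namespace Groth.Agent.H44

variable {X Y : Scheme.{u}} (f : X ⟶ Y) (F : Y.Modules)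

/-- Fitting ideals commute with pullback. -/
theorem fitt_sheafIdeal_comap [F.IsQuasicoherent]
    [SheafOfModules.IsFiniteType (R := Y.ringCatSheaf) F] (r : ℕ) :
    (Fitt.sheafIdeal F r).comap f = Fitt.sheafIdeal ((pullback f).obj F) r := by
  let ι : Type u := {U : X.Opens // IsAffineOpen U ∧ ∃ V : Y.Opens, IsAffineOpen V ∧ U ≤ f ⁻¹ᵁ V}
  refine Scheme.IdealSheafData.ext_of_iSup_eq_top (ι := ι) (fun i => ⟨i.1, i.2.1⟩) ?_ ?_
  · rw [eq_top_iff]
    intro x _
    obtain ⟨V, hV, hxV, -⟩ := exists_isAffineOpen_mem_and_subset (X := Y) (x := f.base x)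
      (U := ⊤) trivial
    obtain ⟨U, hU, hxU, hUV⟩ := exists_isAffineOpen_mem_and_subset (X := X) (x := x)
      (U := f ⁻¹ᵁ V) hxV
    exact Opens.mem_iSup.mpr ⟨⟨U, hU, V, hV, hUV⟩, hxU⟩
  · rintro ⟨U, hU, V, hV, hUV⟩
    rw [ideal_comap_of_le _ f ⟨U, hU⟩ ⟨V, hV⟩ hUV, sheafIdeal_ideal, sheafIdeal_ideal]
    let _ := (f.appLE V U hUV).hom.toAlgebra
    have : Module.Finite Γ(Y, V) Γ(F, V) := finite_sections_of_isFiniteType F hV
    rw [Groth.Agent.Lead.fitt_ideal_congr (pullbackSectionsEquiv f F hU hV hUV) r,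
      Groth.Agent.Lead.fitt_ideal_baseChange]
    rfl

end Groth.Agent.H44
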