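import Groth.Agent.H44.OmegaFitting
import Groth.Agent.H44.FittComap
import Mathlib.RingTheory.Kaehler.TensorProduct
import Mathlib.AlgebraicGeometry.Morphisms.Flat

set_option autoImplicit false
universe u
open CategoryTheory Limits Opposite AlgebraicGeometry TopologicalSpace Scheme.Modules TensorProduct

namespace Groth.Agent.H44

section Ring
variable {R S A B : Type u} [CommRing R] [CommRing S] [CommRing A] [CommRing B] [Algebra R S]
  [Algebra R A] [Algebra S B] [Algebra A B] [Algebra R B] [IsScalarTower R S B]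
  [IsScalarTower R A B] [Algebra.IsPushout R S A B] [Algebra.FiniteType R A]

theorem fitt_kaehler_baseChange (i : ℕ) :
    (Fitt.ideal A Ω[A⁄R] i).map (algebraMap A B) = Fitt.ideal B Ω[B⁄S] i := by
  rw [← Groth.Agent.Lead.fitt_ideal_baseChange,
    Groth.Agent.Lead.fitt_ideal_congr (KaehlerDifferential.tensorKaehlerEquiv R S A B)]

end Ring

section BaseChange
variable {X S S' : Scheme.{u}} (f : X ⟶ S) [QuasiSeparated f] (g : S' ⟶ S)

/-- The affine chart `pr₁⁻¹ U ∩ pr₂⁻¹ V'` of `X ×_S S'`. -/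
noncomputable abbrev bcChart (U : X.Opens) (V' : S'.Opens) : (pullback f g).Opens :=
  pullback.fst f g ⁻¹ᵁ U ⊓ pullback.snd f g ⁻¹ᵁ V'

omit [QuasiSeparated f] in
theorem isAffineOpen_bcChart {U : X.Opens} {V : S.Opens} {V' : S'.Opens} (hU : IsAffineOpen U)
    (hV : IsAffineOpen V) (hV' : IsAffineOpen V') (eU : U ≤ f ⁻¹ᵁ V) (eV : V' ≤ g ⁻¹ᵁ V) :
    IsAffineOpen (bcChart f g U V') := by
  have : IsAffine _ := hV
  have : IsAffine _ := hV'
  have : IsAffine _ := hU
  exact .of_isIso (Scheme.Hom.isPullback_resLE (IsPullback.of_hasPullback f g) eV eU rfl).isoPullback.hom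

theorem fitt_omega_chart [LocallyOfFiniteType f] {U : X.Opens} {V : S.Opens} {V' : S'.Opens}
    (hU : IsAffineOpen U) (hV : IsAffineOpen V) (hV' : IsAffineOpen V') (eU : U ≤ f ⁻¹ᵁ V)
    (eV : V' ≤ g ⁻¹ᵁ V) (i : ℕ) :
    (Fitt.ideal Γ(X, U) Γ(Omega.sheaf f, U) i).map
        ((pullback.fst f g).appLE U (bcChart f g U V') inf_le_left).hom =
      Fitt.ideal Γ(pullback f g, bcChart f g U V') Γ(Omega.sheaf (pullback.snd f g), bcChart f g U V') i := by
  have hW := isAffineOpen_bcChart f g hU hV hV' eU eV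
  letI a1 : Algebra Γ(S, V) Γ(S', V') := (g.appLE V V' eV).hom.toAlgebra
  letI a2 : Algebra Γ(S, V) Γ(X, U) := (f.appLE V U eU).hom.toAlgebra
  letI a3 : Algebra Γ(S', V') Γ(pullback f g, bcChart f g U V') :=
    ((pullback.snd f g).appLE V' (bcChart f g U V') inf_le_right).hom.toAlgebra
  letI a4 : Algebra Γ(X, U) Γ(pullback f g, bcChart f g U V') :=
    ((pullback.fst f g).appLE U (bcChart f g U V') inf_le_left).hom.toAlgebra
  letI a5 : Algebra Γ(S, V) Γ(pullback f g, bcChart f g U V') :=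
    (f.appLE V U eU ≫ (pullback.fst f g).appLE U (bcChart f g U V') inf_le_left).hom.toAlgebra
  haveI t1 : IsScalarTower Γ(S, V) Γ(X, U) Γ(pullback f g, bcChart f g U V') :=
    .of_algebraMap_eq' rfl
  have hcomm : f.appLE V U eU ≫ (pullback.fst f g).appLE U (bcChart f g U V') inf_le_left =
      g.appLE V V' eV ≫ (pullback.snd f g).appLE V' (bcChart f g U V') inf_le_right := by
    rw [Scheme.Hom.appLE_comp_appLE, Scheme.Hom.appLE_comp_appLE]
    exact OmegaSh.appLE_congr_hom (pullback.condition (f := f) (g := g)) _ _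
  haveI t2 : IsScalarTower Γ(S, V) Γ(S', V') Γ(pullback f g, bcChart f g U V') :=
    .of_algebraMap_eq' congr($(hcomm).hom)
  have hpo := (isIso_pushoutSection_iff (IsPullback.of_hasPullback f g) eV eU rfl).1
    (isIso_pushoutSection_of_isAffineOpen (IsPullback.of_hasPullback f g) eV eU rfl hV hV' hU)
  haveI p1 : Algebra.IsPushout Γ(S, V) Γ(X, U) Γ(S', V') Γ(pullback f g, bcChart f g U V') :=
    CommRingCat.isPushout_iff_isPushout.mp hpo
  haveI p2 : Algebra.IsPushout Γ(S, V) Γ(S', V') Γ(X, U) Γ(pullback f g, bcChart f g U V') :=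
    p1.symm
  haveI ft : Algebra.FiniteType Γ(S, V) Γ(X, U) := f.finiteType_appLE hV hU eU
  rw [Groth.Agent.Lead.fitt_ideal_congr (omegaSectionsEquiv f hU hV eU) i,
    Groth.Agent.Lead.fitt_ideal_congr
      (omegaSectionsEquiv (pullback.snd f g) hW hV' inf_le_right) i]
  exact fitt_kaehler_baseChange i

/-- Fitting ideals of `Ω` commute with base change. -/
theorem fitt_omega_baseChange [LocallyOfFiniteType f] (i : ℕ) :
    (Fitt.sheafIdeal (Omega.sheaf f) i).comap (pullback.fst f g) =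
      Fitt.sheafIdeal (Omega.sheaf (pullback.snd f g)) i := by
  let ι : Type u := {t : X.Opens × S.Opens × S'.Opens // IsAffineOpen t.1 ∧ IsAffineOpen t.2.1 ∧
    IsAffineOpen t.2.2 ∧ t.1 ≤ f ⁻¹ᵁ t.2.1 ∧ t.2.2 ≤ g ⁻¹ᵁ t.2.1}
  refine Scheme.IdealSheafData.ext_of_iSup_eq_top (ι := ι)
    (fun t => ⟨bcChart f g t.1.1 t.1.2.2,
      isAffineOpen_bcChart f g t.2.1 t.2.2.1 t.2.2.2.1 t.2.2.2.2.1 t.2.2.2.2.2⟩) ?_ ?_
  · rw [eq_top_iff]
    intro x _
    obtain ⟨V, hV, hxV, -⟩ := exists_isAffineOpen_mem_and_subset (X := S)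
      (x := f.base ((pullback.fst f g).base x)) (U := ⊤) trivial
    obtain ⟨U, hU, hxU, hUV⟩ := exists_isAffineOpen_mem_and_subset (X := X)
      (x := (pullback.fst f g).base x) (U := f ⁻¹ᵁ V) hxV
    have hx' : (pullback.snd f g).base x ∈ g ⁻¹ᵁ V := by
      change g.base ((pullback.snd f g).base x) ∈ V
      have : g.base ((pullback.snd f g).base x) = f.base ((pullback.fst f g).base x) := by
        rw [← Scheme.Hom.comp_apply, ← Scheme.Hom.comp_apply, pullback.condition]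
      rw [this]; exact hxV
    obtain ⟨V', hV', hxV', hV'V⟩ := exists_isAffineOpen_mem_and_subset (X := S')
      (x := (pullback.snd f g).base x) (U := g ⁻¹ᵁ V) hx'
    exact Opens.mem_iSup.mpr ⟨⟨(U, V, V'), hU, hV, hV', hUV, hV'V⟩, ⟨hxU, hxV'⟩⟩
  · rintro ⟨⟨U, V, V'⟩, hU, hV, hV', eU, eV⟩
    have hW := isAffineOpen_bcChart f g hU hV hV' eU eV
    rw [ideal_comap_of_le _ (pullback.fst f g) ⟨bcChart f g U V', hW⟩ ⟨U, hU⟩ inf_le_left,
      sheafIdeal_ideal, sheafIdeal_ideal]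
    exact fitt_omega_chart f g hU hV hV' eU eV i

end BaseChange

end Groth.Agent.H44
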