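import Groth.Agent.H44.KaehlerPushout
import Groth.Agent.H44.PullUnit
import Groth.Agent.H44.OmegaBaseChange
import Groth.Agent.H44.OmegaRestrict
import Groth.Prelude.Def_Omega4

set_option autoImplicit false
universe u
open CategoryTheory Opposite AlgebraicGeometry TopologicalSpace TensorProduct Scheme.Modules

namespace Groth.Agent.H44

section
variable {X Y : Scheme.{u}} (f : X ⟶ Y) {U : X.Opens} {V : Y.Opens}
  (hU : IsAffineOpen U) (hV : IsAffineOpen V) (e : U ≤ f ⁻¹ᵁ V)

include hU hV e in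
theorem isAffineOpen_diagNbhd : IsAffineOpen (OmegaSh.diagNbhd f U) :=
  isAffineOpen_bcChart f f hU hV hU e e

theorem diagonal_appLE_fst (s : Γ(X, U)) :
    (Limits.pullback.diagonal f).appLE (OmegaSh.diagNbhd f U) U (OmegaSh.le_preimage_diagNbhd f U)
      ((Limits.pullback.fst f f).appLE U (OmegaSh.diagNbhd f U) inf_le_left s) = s := by
  rw [← ConcreteCategory.comp_apply, Scheme.Hom.appLE_comp_appLE,
    OmegaSh.id_appLE_eq_id (Limits.pullback.diagonal_fst f)]
  rfl

theorem diagonal_appLE_snd (s : Γ(X, U)) :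
    (Limits.pullback.diagonal f).appLE (OmegaSh.diagNbhd f U) U (OmegaSh.le_preimage_diagNbhd f U)
      ((Limits.pullback.snd f f).appLE U (OmegaSh.diagNbhd f U) inf_le_right s) = s := by
  rw [← ConcreteCategory.comp_apply, Scheme.Hom.appLE_comp_appLE,
    OmegaSh.id_appLE_eq_id (Limits.pullback.diagonal_snd f)]
  rfl

include hU hV e in
theorem isPushout_diagNbhd :
    IsPushout (f.appLE V U e) (f.appLE V U e)
      ((Limits.pullback.fst f f).appLE U (OmegaSh.diagNbhd f U) inf_le_left)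
      ((Limits.pullback.snd f f).appLE U (OmegaSh.diagNbhd f U) inf_le_right) :=
  (isIso_pushoutSection_iff (IsPullback.of_hasPullback f f) e e rfl).1
    (isIso_pushoutSection_of_isAffineOpen (IsPullback.of_hasPullback f f) e e rfl hV hU hU)


/-- The ring isomorphism `Γ(X,U) ⊗[Γ(Y,V)] Γ(X,U) ≃ Γ(X ×_Y X, U ×_V U)`. -/
noncomputable def diagNbhdRingEquiv :
    letI := (f.appLE V U e).hom.toAlgebra
    Γ(X, U) ⊗[Γ(Y, V)] Γ(X, U) ≃+* Γ(Limits.pullback f f, OmegaSh.diagNbhd f U) :=
  letI := (f.appLE V U e).hom.toAlgebra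
  ((CommRingCat.isPushout_tensorProduct Γ(Y, V) Γ(X, U) Γ(X, U)).isoIsPushout _ _
    (isPushout_diagNbhd f hU hV e)).commRingCatIsoToRingEquiv

theorem diagNbhdRingEquiv_tmul (a a' : Γ(X, U)) :
    letI := (f.appLE V U e).hom.toAlgebra
    diagNbhdRingEquiv f hU hV e (a ⊗ₜ[Γ(Y, V)] a') =
      (Limits.pullback.fst f f).appLE U (OmegaSh.diagNbhd f U) inf_le_left a *
        (Limits.pullback.snd f f).appLE U (OmegaSh.diagNbhd f U) inf_le_right a' := by
  letI := (f.appLE V U e).hom.toAlgebra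
  have h1 := (CommRingCat.isPushout_tensorProduct Γ(Y, V) Γ(X, U) Γ(X, U)).inl_isoIsPushout_hom _ _
    (isPushout_diagNbhd f hU hV e)
  have h2 := (CommRingCat.isPushout_tensorProduct Γ(Y, V) Γ(X, U) Γ(X, U)).inr_isoIsPushout_hom _ _
    (isPushout_diagNbhd f hU hV e)
  have e1 : diagNbhdRingEquiv f hU hV e (a ⊗ₜ[Γ(Y, V)] 1) =
      (Limits.pullback.fst f f).appLE U (OmegaSh.diagNbhd f U) inf_le_left a := congr($h1 a)
  have e2 : diagNbhdRingEquiv f hU hV e (1 ⊗ₜ[Γ(Y, V)] a') =
      (Limits.pullback.snd f f).appLE U (OmegaSh.diagNbhd f U) inf_le_right a' := congr($h2 a')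
  rw [← e1, ← e2, ← map_mul, Algebra.TensorProduct.tmul_mul_tmul, mul_one, one_mul]


variable [QuasiSeparated f]

/-- The inclusion of sections of the diagonal ideal into functions, as a linear map. -/
noncomputable def diagIdealι :
    Γ(ClSub.idealMod (Limits.pullback.diagonal f).ker, OmegaSh.diagNbhd f U)
      →ₗ[Γ(Limits.pullback f f, OmegaSh.diagNbhd f U)] Γ(Limits.pullback f f, OmegaSh.diagNbhd f U) where
  toFun g := OmegaSh.idealSect _ _ g
  map_add' := map_add _
  map_smul' b g := by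
    change OmegaSh.fnSect _ _ ((ClSub.idealModι _).app _ (b • g)) = b * _
    rw [Scheme.Modules.Hom.app_smul]
    rfl

theorem diagIdealι_injective : Function.Injective (diagIdealι f (U := U)) := fun a b h =>
  OmegaSh.idealModι_app_injective (OmegaSh.diagNbhd f U) _ h

theorem diagIdealι_idealLift (s : Γ(X, U)) :
    diagIdealι f (OmegaSh.idealLift f U s) =
      (Limits.pullback.snd f f).appLE U (OmegaSh.diagNbhd f U) inf_le_right s -
        (Limits.pullback.fst f f).appLE U (OmegaSh.diagNbhd f U) inf_le_left s := by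
  change OmegaSh.fnSect _ _ ((ClSub.idealModι _).app _ (OmegaSh.idealLift f U s)) = _
  rw [OmegaSh.ι_idealLift]
  rfl

theorem diagonal_app_eq_res_appLE (b : Γ(Limits.pullback f f, OmegaSh.diagNbhd f U)) :
    (Limits.pullback.diagonal f).app (OmegaSh.diagNbhd f U) b =
      X.presheaf.map (homOfLE (OmegaSh.diagonal_preimage_le f le_rfl)).op
        ((Limits.pullback.diagonal f).appLE (OmegaSh.diagNbhd f U) U
          (OmegaSh.le_preimage_diagNbhd f U) b) := by
  rw [← ConcreteCategory.comp_apply, Scheme.Hom.appLE_map, ← Scheme.Hom.app_eq_appLE]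

include hU hV e in
theorem diagonal_appLE_diagIdealι
    (g : Γ(ClSub.idealMod (Limits.pullback.diagonal f).ker, OmegaSh.diagNbhd f U)) :
    (Limits.pullback.diagonal f).appLE (OmegaSh.diagNbhd f U) U (OmegaSh.le_preimage_diagNbhd f U)
      (diagIdealι f g) = 0 := by
  have hW := isAffineOpen_diagNbhd f hU hV e
  have h := idealModι_app_mem_ideal (Limits.pullback.diagonal f).ker hW g
  rw [Scheme.Hom.ker_apply, RingHom.mem_ker] at h
  have h' : (Limits.pullback.diagonal f).app (OmegaSh.diagNbhd f U) (diagIdealι f g) = 0 := h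
  rw [Scheme.Hom.appLE, ConcreteCategory.comp_apply, h', map_zero]

include hU hV e in
theorem exists_diagIdealι_eq (b : Γ(Limits.pullback f f, OmegaSh.diagNbhd f U))
    (hb : (Limits.pullback.diagonal f).appLE (OmegaSh.diagNbhd f U) U
      (OmegaSh.le_preimage_diagNbhd f U) b = 0) :
    ∃ g, diagIdealι f g = b := by
  have hW := isAffineOpen_diagNbhd f hU hV e
  have h1 : (Limits.pullback.diagonal f).app (OmegaSh.diagNbhd f U) b = 0 := by
    rw [diagonal_app_eq_res_appLE, hb, map_zero]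
  have h2 : b ∈ (Limits.pullback.diagonal f).ker.ideal ⟨OmegaSh.diagNbhd f U, hW⟩ := by
    rw [Scheme.Hom.ker_apply, RingHom.mem_ker]
    exact h1
  have h3 := (toSubscheme_app_eq_zero_iff (Limits.pullback.diagonal f).ker hW b).2 h2
  refine ⟨OmegaSh.kerLift _ _ _ h3, ?_⟩
  change OmegaSh.fnSect _ _ ((ClSub.idealModι _).app _ (OmegaSh.kerLift _ _ _ h3)) = b
  erw [OmegaSh.ι_kerLift]
  rfl


omit [QuasiSeparated f] in
theorem appLE_eq_res_app (r : Γ(Y, V)) :
    f.appLE V U e r = X.presheaf.map (homOfLE e).op (f.app V r) := rfl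

theorem dSect_appLE (r : Γ(Y, V)) : OmegaSh.dSect f U (f.appLE V U e r) = 0 := by
  rw [appLE_eq_res_app, OmegaSh.dSect_map, OmegaSh.dSect_app]
  exact map_zero _

theorem dSect_eq_pullSectLE (s : Γ(X, U)) :
    OmegaSh.dSect f U s = pullSectLE (Limits.pullback.diagonal f)
      (ClSub.idealMod (Limits.pullback.diagonal f).ker) (OmegaSh.diagNbhd f U) U
      (OmegaSh.le_preimage_diagNbhd f U) (OmegaSh.idealLift f U s) := rfl

set_option maxRecDepth 8000 in
include hV e in
theorem pullbackSectionsEquiv_dSect (hW : IsAffineOpen (OmegaSh.diagNbhd f U)) (s : Γ(X, U)) :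
    letI := ((Limits.pullback.diagonal f).appLE (OmegaSh.diagNbhd f U) U
      (OmegaSh.le_preimage_diagNbhd f U)).hom.toAlgebra
    pullbackSectionsEquiv (Limits.pullback.diagonal f)
      (ClSub.idealMod (Limits.pullback.diagonal f).ker) hU hW (OmegaSh.le_preimage_diagNbhd f U)
      (OmegaSh.dSect f U s) = (1 : Γ(X, U)) ⊗ₜ[Γ(Limits.pullback f f, OmegaSh.diagNbhd f U)]
        OmegaSh.idealLift f U s :=
  pullbackSectionsEquiv_pullSectLE (Limits.pullback.diagonal f)
      (ClSub.idealMod (Limits.pullback.diagonal f).ker) hU hW (OmegaSh.le_preimage_diagNbhd f U)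
      (OmegaSh.idealLift f U s)

/-- The derivation `dSect` on an affine chart, as a `Γ(Y,V)`-derivation. -/
noncomputable def dSectDerivation :
    letI := (f.appLE V U e).hom.toAlgebra
    letI : Module Γ(Y, V) Γ(Omega.sheaf f, U) := Module.compHom _ (algebraMap Γ(Y, V) Γ(X, U))
    haveI : IsScalarTower Γ(Y, V) Γ(X, U) Γ(Omega.sheaf f, U) :=
      IsScalarTower.of_algebraMap_smul fun _ _ => rfl
    Derivation Γ(Y, V) Γ(X, U) Γ(Omega.sheaf f, U) :=
  letI := (f.appLE V U e).hom.toAlgebra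
  letI : Module Γ(Y, V) Γ(Omega.sheaf f, U) := Module.compHom _ (algebraMap Γ(Y, V) Γ(X, U))
  haveI : IsScalarTower Γ(Y, V) Γ(X, U) Γ(Omega.sheaf f, U) :=
    IsScalarTower.of_algebraMap_smul fun _ _ => rfl
  Derivation.mk'
    { toFun := OmegaSh.dSect f U
      map_add' := OmegaSh.dSect_add f U
      map_smul' := fun r a => by
        rw [Algebra.smul_def, OmegaSh.dSect_mul]
        change _ • _ + a • OmegaSh.dSect f U (f.appLE V U e r) = _
        rw [dSect_appLE, smul_zero, add_zero]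
        rfl } (OmegaSh.dSect_mul f U)

set_option maxRecDepth 8000 in
include hU hV in
/-- **`dOmega` is the algebraic differential on affine charts.** -/
theorem exists_omega_kaehler_equiv :
    letI := (f.appLE V U e).hom.toAlgebra
    ∃ Φ : Γ(Omega.sheaf f, U) ≃ₗ[Γ(X, U)] Ω[Γ(X, U)⁄Γ(Y, V)],
      ∀ s : Γ(X, U), Φ (OmegaSh.dSect f U s) = KaehlerDifferential.D Γ(Y, V) Γ(X, U) s := by
  letI alg1 : Algebra Γ(Y, V) Γ(X, U) := (f.appLE V U e).hom.toAlgebra
  letI alg2 : Algebra Γ(Limits.pullback f f, OmegaSh.diagNbhd f U) Γ(X, U) :=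
    ((Limits.pullback.diagonal f).appLE (OmegaSh.diagNbhd f U) U
      (OmegaSh.le_preimage_diagNbhd f U)).hom.toAlgebra
  letI modR : Module Γ(Y, V) Γ(Omega.sheaf f, U) := Module.compHom _ (algebraMap Γ(Y, V) Γ(X, U))
  haveI : IsScalarTower Γ(Y, V) Γ(X, U) Γ(Omega.sheaf f, U) :=
    IsScalarTower.of_algebraMap_smul fun _ _ => rfl
  have hW := isAffineOpen_diagNbhd f hU hV e
  let E : Γ(Omega.sheaf f, U) ≃ₗ[Γ(X, U)]
      Γ(X, U) ⊗[Γ(Limits.pullback f f, OmegaSh.diagNbhd f U)]
        Γ(ClSub.idealMod (Limits.pullback.diagonal f).ker, OmegaSh.diagNbhd f U) :=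
    pullbackSectionsEquiv (Limits.pullback.diagonal f)
      (ClSub.idealMod (Limits.pullback.diagonal f).ker) hU hW (OmegaSh.le_preimage_diagNbhd f U)
  exact KP.exists_equiv_kaehler (N' := Γ(Omega.sheaf f, U))
    ((Limits.pullback.fst f f).appLE U (OmegaSh.diagNbhd f U) inf_le_left).hom
    ((Limits.pullback.snd f f).appLE U (OmegaSh.diagNbhd f U) inf_le_right).hom
    (diagNbhdRingEquiv f hU hV e) (diagNbhdRingEquiv_tmul f hU hV e)
    (diagonal_appLE_fst f) (diagonal_appLE_snd f)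
    (diagIdealι f) (diagonal_appLE_diagIdealι f hU hV e)
    E (dSectDerivation f e) (OmegaSh.idealLift f U) (diagIdealι_idealLift f)
    (pullbackSectionsEquiv_dSect f hU hV e hW)
    (diagIdealι_injective f) (exists_diagIdealι_eq f hU hV e)

end
end Groth.Agent.H44
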