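import Groth.Agent.H44.FpqcChart
import Groth.Agent.H44.LocFree
import Mathlib.RingTheory.Flat.FaithfullyFlat.Basic
import Mathlib.Algebra.Module.FinitePresentation

/-!
# Finite locally free modules: pullback and fpqc descent

* `finitePresentation_of_tensorProduct_ff`, `finite_projective_of_tensorProduct_ff` : descent of f.p. / finite
  projective modules along faithfully flat ring maps.
* `isFinLocFree_pullback` : pullback of a quasi-coherent finite locally free module is finite locally free.
* `isFinLocFree_of_pullback_fpqc` : finite local freeness descends along flat+surjective+quasi-compact maps.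
-/

set_option autoImplicit false
universe u v w
open CategoryTheory AlgebraicGeometry Scheme.Modules TopologicalSpace Opposite TensorProduct

namespace Groth.Agent.H44

section algebra
variable (R : Type u) [CommRing R] (S : Type v) [CommRing S] [Algebra R S]
  [Module.FaithfullyFlat R S]

/-- Finite presentation of modules descends along faithfully flat ring maps
(same argument as `Groth.Agent.H97.FFDescent.finitePresentation_of_tensorProduct`, restated here with light
imports). -/
theorem finitePresentation_of_tensorProduct_ff (M : Type w) [AddCommGroup M] [Module R M]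
    [Module.FinitePresentation S (S ⊗[R] M)] : Module.FinitePresentation R M := by
  haveI : Module.Finite R M := Module.Finite.of_finite_tensorProduct_of_faithfullyFlat S
  obtain ⟨n, f, hf⟩ := Module.Finite.exists_fin' R M
  set K := LinearMap.ker f with hK
  have hex : Function.Exact (LinearMap.lTensor S K.subtype) (LinearMap.lTensor S f) :=
    lTensor_exact S (LinearMap.exact_subtype_ker_map f) hf
  let g : S ⊗[R] K →ₗ[S] S ⊗[R] (Fin n → R) := AlgebraTensorModule.lTensor S S K.subtype
  let h : S ⊗[R] (Fin n → R) →ₗ[S] S ⊗[R] M := AlgebraTensorModule.lTensor S S f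
  have hg : Function.Injective g :=
    Module.Flat.lTensor_preserves_injective_linearMap (M := S) K.subtype
      (Submodule.injective_subtype K)
  have hh : Function.Surjective h := LinearMap.lTensor_surjective S hf
  have hker : LinearMap.ker h = LinearMap.range g := by
    ext x
    rw [LinearMap.mem_ker, LinearMap.mem_range]
    exact hex x
  have hfgker : (LinearMap.ker h).FG := Module.FinitePresentation.fg_ker h hh
  have hfin : Module.Finite S (S ⊗[R] K) := by
    have e : S ⊗[R] K ≃ₗ[S] LinearMap.range g := LinearEquiv.ofInjective g hg
    rw [Module.Finite.equiv_iff e, Module.Finite.iff_fg, ← hker]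
    exact hfgker
  haveI : Module.Finite R K := Module.Finite.of_finite_tensorProduct_of_faithfullyFlat S
  exact Module.finitePresentation_of_surjective f hf (Module.Finite.iff_fg.mp inferInstance)

/-- Finite projectivity of modules descends along faithfully flat ring maps. -/
theorem finite_projective_of_tensorProduct_ff (M : Type w) [AddCommGroup M] [Module R M]
    [Module.Finite S (S ⊗[R] M)] [Module.Projective S (S ⊗[R] M)] :
    Module.Finite R M ∧ Module.Projective R M := by
  haveI : Module.FinitePresentation S (S ⊗[R] M) := Module.finitePresentation_of_projective _ _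
  haveI : Module.FinitePresentation R M := finitePresentation_of_tensorProduct_ff R S M
  haveI : Module.Flat R M := Module.Flat.of_flat_tensorProduct R M S
  exact ⟨inferInstance, Module.Flat.projective_of_finitePresentation⟩

end algebra

variable {X' X : Scheme.{u}}

/-- The pullback of a quasi-coherent finite locally free module is finite locally free. -/
theorem isFinLocFree_pullback (f : X' ⟶ X) (E : X.Modules) [E.IsQuasicoherent]
    (hE : FlatMod.IsFinLocFree E) : FlatMod.IsFinLocFree ((pullback f).obj E) := by
  refine isFinLocFree_of_forall_exists_affine _ (fun x => ?_)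
  obtain ⟨V, hV, hxV, -⟩ := exists_isAffineOpen_mem_and_subset (X := X) (x := f.base x)
    (U := ⊤) trivial
  obtain ⟨U, hU, hxU, hUV⟩ := exists_isAffineOpen_mem_and_subset (X := X') (x := x)
    (U := f ⁻¹ᵁ V) hxV
  obtain ⟨h1, h2⟩ := finite_projective_of_isFinLocFree E hE hV
  letI := (f.appLE V U hUV).hom.toAlgebra
  refine ⟨U, hU, hxU, ?_, ?_⟩
  · exact Module.Finite.equiv (pullbackSectionsEquiv f E hU hV hUV).symm
  · exact Module.Projective.of_equiv (pullbackSectionsEquiv f E hU hV hUV).symm

/-- fpqc descent of finite local freeness for quasi-coherent modules. -/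
theorem isFinLocFree_of_pullback_fpqc (f : X' ⟶ X) [Flat f] [Surjective f] [QuasiCompact f]
    (F : X.Modules) [F.IsQuasicoherent]
    (h : FlatMod.IsFinLocFree ((pullback f).obj F)) : FlatMod.IsFinLocFree F := by
  rw [isFinLocFree_iff]
  intro V
  obtain ⟨W, hW, p, e, hp, hff⟩ := exists_faithfullyFlat_chart f V.2
  letI := ((p ≫ f).appLE V.1 ⊤ e).hom.toAlgebra
  haveI : Module.FaithfullyFlat Γ(X, V.1) Γ(W, ⊤) := hff
  have h1 := isFinLocFree_pullback p _ h
  obtain ⟨h2, h3⟩ := finite_projective_of_isFinLocFree _ h1 (isAffineOpen_top W)
  haveI : Module.Finite Γ(W, ⊤) (Γ(W, ⊤) ⊗[Γ(X, V.1)] Γ(F, V.1)) :=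
    Module.Finite.equiv (chartSectionsEquiv f F V.2 p e)
  haveI : Module.Projective Γ(W, ⊤) (Γ(W, ⊤) ⊗[Γ(X, V.1)] Γ(F, V.1)) :=
    Module.Projective.of_equiv (chartSectionsEquiv f F V.2 p e)
  exact finite_projective_of_tensorProduct_ff Γ(X, V.1) Γ(W, ⊤) Γ(F, V.1)

end Groth.Agent.H44
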