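import Groth.Agent.H71.QCoh.FPCriterion
import Groth.Agent.H44.FpqcLocFree

/-!
# Finite presentation: pullback and fpqc descent (uses helper71's `FPCriterion`)

* `isFinitePresentation_pullback` : the pullback of a finitely presented module is finitely presented.
* `isFinitePresentation_of_pullback_fpqc` : finite presentation of quasi-coherent modules descends along
  flat+surjective+quasi-compact morphisms.
-/

set_option autoImplicit false
universe u
open CategoryTheory AlgebraicGeometry Scheme.Modules TopologicalSpace Opposite TensorProduct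

namespace Groth.Agent.H44

variable {X' X : Scheme.{u}}

/-- The pullback of a (quasi-coherent) finitely presented module is finitely presented. -/
theorem isFinitePresentation_pullback (f : X' ⟶ X) (F : X.Modules)
    [SheafOfModules.IsFinitePresentation (R := X.ringCatSheaf) F] :
    SheafOfModules.IsFinitePresentation (R := X'.ringCatSheaf) ((pullback f).obj F) := by
  let ι : Type u := {U : X'.Opens // IsAffineOpen U ∧ ∃ V : X.Opens, IsAffineOpen V ∧ U ≤ f ⁻¹ᵁ V}
  refine Groth.Agent.H71.QCoh.isFinitePresentation_of_finitePresentation_sections _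
    (fun i : ι => i.1) ?_ (fun i => i.2.1) ?_
  · rw [IsOpenCover, eq_top_iff]
    intro x _
    obtain ⟨V, hV, hxV, -⟩ := exists_isAffineOpen_mem_and_subset (X := X) (x := f.base x)
      (U := ⊤) trivial
    obtain ⟨U, hU, hxU, hUV⟩ := exists_isAffineOpen_mem_and_subset (X := X') (x := x)
      (U := f ⁻¹ᵁ V) hxV
    exact Opens.mem_iSup.mpr ⟨⟨U, hU, V, hV, hUV⟩, hxU⟩
  · rintro ⟨U, hU, V, hV, hUV⟩
    letI := (f.appLE V U hUV).hom.toAlgebra
    haveI : Module.FinitePresentation Γ(X, V) Γ(F, V) :=
      finitePresentation_sections_of_isFinitePresentation F hV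
    exact Module.FinitePresentation.of_equiv (pullbackSectionsEquiv f F hU hV hUV).symm

/-- fpqc descent of finite presentation for quasi-coherent modules. -/
theorem isFinitePresentation_of_pullback_fpqc (f : X' ⟶ X) [Flat f] [Surjective f] [QuasiCompact f]
    (F : X.Modules) [F.IsQuasicoherent]
    [SheafOfModules.IsFinitePresentation (R := X'.ringCatSheaf) ((pullback f).obj F)] :
    SheafOfModules.IsFinitePresentation (R := X.ringCatSheaf) F := by
  refine Groth.Agent.H71.QCoh.isFinitePresentation_of_finitePresentation_sections F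
    (fun V : X.affineOpens => V.1) (iSup_affineOpens_eq_top X) (fun V => V.2) (fun V => ?_)
  obtain ⟨W, hW, p, e, hp, hff⟩ := exists_faithfullyFlat_chart f V.2
  letI := ((p ≫ f).appLE V.1 ⊤ e).hom.toAlgebra
  haveI : Module.FaithfullyFlat Γ(X, V.1) Γ(W, ⊤) := hff
  haveI := isFinitePresentation_pullback p ((pullback f).obj F)
  haveI : Module.FinitePresentation Γ(W, ⊤)
      Γ((pullback p).obj ((pullback f).obj F), (⊤ : W.Opens)) :=
    finitePresentation_sections_of_isFinitePresentation _ (isAffineOpen_top W)
  haveI : Module.FinitePresentation Γ(W, ⊤) (Γ(W, ⊤) ⊗[Γ(X, V.1)] Γ(F, V.1)) :=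
    Module.FinitePresentation.of_equiv (chartSectionsEquiv f F V.2 p e)
  exact finitePresentation_of_tensorProduct_ff Γ(X, V.1) Γ(W, ⊤) Γ(F, V.1)

end Groth.Agent.H44
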