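import Mathlib
import Groth.Prelude.Def_CAlg
import Groth.Agent.H72.DepthFlat
import Groth.Agent.Lead.CompletionIAdic

set_option autoImplicit false
set_option linter.unusedSectionVars false
universe u
open IsLocalRing TensorProduct

namespace Groth.Agent.H44.ComplDepth

section General
variable {A C : Type u} [CommRing A] [CommRing C] [Algebra A C] [IsNoetherianRing A] [IsNoetherianRing C]
  [Module.Flat A C]
  (p : Ideal A) [p.IsPrime] (p' : Ideal C) [p'.IsPrime] (hcomap : p'.comap (algebraMap A C) = p)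
  (M : Type u) [AddCommGroup M] [Module A M] [Module.Finite A M]
  (N : Type u) [AddCommGroup N] [Module C N] (e₀ : C ⊗[A] M ≃ₗ[C] N)

local notation "R₁" => Localization.AtPrime p
local notation "S₁" => Localization.AtPrime p'

/-- The algebra structure `A_p → C_{p'}`. -/
noncomputable abbrev locAlg : Algebra R₁ S₁ :=
  (Localization.localRingHom p p' (algebraMap A C) hcomap.symm).toAlgebra

include e₀ in
theorem nonempty_tensorEquiv :
    letI := locAlg p p' hcomap
    Nonempty (S₁ ⊗[R₁] (LocalizedModule p.primeCompl M) ≃ₗ[S₁] LocalizedModule p'.primeCompl N) := by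
  letI := locAlg p p' hcomap
  haveI : IsScalarTower A R₁ S₁ := .of_algebraMap_eq fun x ↦ by
    rw [IsScalarTower.algebraMap_apply A C S₁]
    exact (Localization.localRingHom_to_map _ _ _ _ x).symm
  let e1 : S₁ ⊗[R₁] (LocalizedModule p.primeCompl M) ≃ₗ[S₁] S₁ ⊗[R₁] (R₁ ⊗[A] M) :=
    (AlgebraTensorModule.congr (LinearEquiv.refl S₁ S₁)
      (IsLocalizedModule.isBaseChange p.primeCompl R₁
        (LocalizedModule.mkLinearMap p.primeCompl M)).equiv).symm
  let e2 : S₁ ⊗[R₁] (R₁ ⊗[A] M) ≃ₗ[S₁] S₁ ⊗[A] M := AlgebraTensorModule.cancelBaseChange A R₁ S₁ S₁ M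
  let e3 : S₁ ⊗[A] M ≃ₗ[S₁] S₁ ⊗[C] (C ⊗[A] M) := (AlgebraTensorModule.cancelBaseChange A C S₁ S₁ M).symm
  let e4 : S₁ ⊗[C] (C ⊗[A] M) ≃ₗ[S₁] S₁ ⊗[C] N :=
    AlgebraTensorModule.congr (LinearEquiv.refl S₁ S₁) e₀
  let e5 : S₁ ⊗[C] N ≃ₗ[S₁] LocalizedModule p'.primeCompl N :=
    (IsLocalizedModule.isBaseChange p'.primeCompl S₁ (LocalizedModule.mkLinearMap p'.primeCompl N)).equiv
  exact ⟨e1 ≪≫ₗ e2 ≪≫ₗ e3 ≪≫ₗ e4 ≪≫ₗ e5⟩

omit [IsNoetherianRing A] [Module.Flat A C] in
theorem depth_fibre_eq_zero (hmin : p' ∈ (p.map (algebraMap A C)).minimalPrimes) :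
    letI := locAlg p p' hcomap
    LocCoh.depth S₁ (S₁ ⧸ (Ideal.map (algebraMap R₁ S₁) (maximalIdeal R₁)) • (⊤ : Submodule S₁ S₁)) = 0 := by
  letI := locAlg p p' hcomap
  haveI : IsScalarTower A R₁ S₁ := .of_algebraMap_eq fun x ↦ by
    rw [IsScalarTower.algebraMap_apply A C S₁]
    exact (Localization.localRingHom_to_map _ _ _ _ x).symm
  haveI : IsLocalHom (algebraMap R₁ S₁) := Localization.isLocalHom_localRingHom _ _ _ _
  set K : Ideal S₁ := Ideal.map (algebraMap R₁ S₁) (maximalIdeal R₁) with hK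
  have hKle : K ≤ maximalIdeal S₁ :=
    ((IsLocalRing.local_hom_TFAE (algebraMap R₁ S₁)).out 0 2).mp ‹IsLocalHom (algebraMap R₁ S₁)›
  have hKtop : K • (⊤ : Submodule S₁ S₁) = K := by
    rw [smul_eq_mul, Ideal.mul_top]
  have hlt : K • (⊤ : Submodule S₁ S₁) < ⊤ := by
    rw [hKtop, lt_top_iff_ne_top]
    intro h
    exact (Ideal.IsPrime.ne_top (inferInstance : (maximalIdeal S₁).IsPrime)) (top_le_iff.mp (h ▸ hKle))
  haveI : Nontrivial (S₁ ⧸ K • (⊤ : Submodule S₁ S₁)) := Submodule.Quotient.nontrivial_iff.mpr hlt.ne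
  obtain ⟨P, hP⟩ := associatedPrimes.nonempty S₁ (S₁ ⧸ K • (⊤ : Submodule S₁ S₁))
  obtain ⟨hPprime, t, ht⟩ := (isAssociatedPrime_iff).mp hP
  have hkillK : ∀ a ∈ K, ∀ z : S₁ ⧸ K • (⊤ : Submodule S₁ S₁), a • z = 0 := by
    intro a ha z
    obtain ⟨z, rfl⟩ := Submodule.Quotient.mk_surjective _ z
    rw [← Submodule.Quotient.mk_smul, Submodule.Quotient.mk_eq_zero, hKtop, smul_eq_mul]
    exact Ideal.mul_mem_right _ _ ha
  have hKP : K ≤ P := by
    intro a ha
    rw [ht, Submodule.mem_colon_singleton, Submodule.mem_bot]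
    exact hkillK a ha t
  have hPmax : P = maximalIdeal S₁ := by
    have hP0prime : (P.comap (algebraMap C S₁)).IsPrime := Ideal.comap_isPrime _ _
    have h1 : p.map (algebraMap A C) ≤ P.comap (algebraMap C S₁) := by
      rw [Ideal.map_le_iff_le_comap]
      intro x hx
      rw [Ideal.mem_comap, Ideal.mem_comap, ← IsScalarTower.algebraMap_apply A C S₁,
        IsScalarTower.algebraMap_apply A R₁ S₁]
      apply hKP
      apply Ideal.mem_map_of_mem
      have : x ∈ (maximalIdeal R₁).comap (algebraMap A R₁) := by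
        rw [show (maximalIdeal R₁).comap (algebraMap A R₁) = p from
          IsLocalization.AtPrime.under_maximalIdeal R₁ p]
        exact hx
      exact this
    have h2 : P.comap (algebraMap C S₁) ≤ p' := by
      have := Ideal.comap_mono (f := algebraMap C S₁) (le_maximalIdeal hPprime.ne_top)
      rwa [show (maximalIdeal S₁).comap (algebraMap C S₁) = p' from
          IsLocalization.AtPrime.under_maximalIdeal S₁ p'] at this
    have h3 : P.comap (algebraMap C S₁) = p' := le_antisymm h2 (hmin.2 ⟨hP0prime, h1⟩ h2)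
    have h4 : P = (P.comap (algebraMap C S₁)).map (algebraMap C S₁) :=
      (IsLocalization.map_under p'.primeCompl S₁ P).symm
    rw [h4, h3, Localization.AtPrime.map_eq_maximalIdeal]
  have htne : t ≠ 0 := by
    rintro rfl
    apply hPprime.ne_top
    rw [ht, eq_top_iff]
    intro a _
    rw [Submodule.mem_colon_singleton, smul_zero]
    exact Submodule.zero_mem _
  apply Groth.Agent.H72.DepthFlat.idealDepth_eq_zero_of_killed (maximalIdeal S₁) _
    (Groth.Agent.H72.DepthFlat.smul_top_ne_top_of_nontrivial _) t htne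
  intro a ha
  rw [← hPmax, ht, Submodule.mem_colon_singleton, Submodule.mem_bot] at ha
  exact ha

include e₀ hcomap in
theorem depth_eq (hmin : p' ∈ (p.map (algebraMap A C)).minimalPrimes) :
    LocCoh.depth S₁ (LocalizedModule p'.primeCompl N) =
      LocCoh.depth R₁ (LocalizedModule p.primeCompl M) := by
  letI := locAlg p p' hcomap
  haveI : IsLocalHom (algebraMap R₁ S₁) := Localization.isLocalHom_localRingHom _ _ _ _
  haveI : Module.Flat R₁ S₁ :=
    RingHom.Flat.localRingHom (f := algebraMap A C) (RingHom.flat_algebraMap_iff.mpr inferInstance)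
      p' p hcomap.symm
  obtain ⟨e⟩ := nonempty_tensorEquiv p p' hcomap M N e₀
  have h1 := Groth.Agent.H72.DepthFlat.depth_tensor_eq_add_quotient (R := R₁) (S := S₁) S₁
    (LocalizedModule p.primeCompl M)
  have h2 : LocCoh.depth S₁ (S₁ ⊗[R₁] LocalizedModule p.primeCompl M) =
      LocCoh.depth S₁ (LocalizedModule p'.primeCompl N) :=
    Groth.Agent.H15.idealDepth_congr e _
  have h3 := depth_fibre_eq_zero p p' hcomap hmin
  rw [← h2, h1, h3, add_zero]

end General

section
variable (A : Type u) [CommRing A] [IsNoetherianRing A] (I : Ideal A) (q₀ : Ideal A) [q₀.IsPrime]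

local notation "B" => Localization.AtPrime q₀
local notation "J" => Ideal.map (algebraMap A (Localization.AtPrime q₀)) I
local notation "B'" => AdicCompletion (Ideal.map (algebraMap A (Localization.AtPrime q₀)) I) (Localization.AtPrime q₀)

theorem comap_max : (maximalIdeal B).comap (algebraMap A B) = q₀ :=
  IsLocalization.AtPrime.under_maximalIdeal B q₀

theorem J_le (hI : I ≤ q₀) : J ≤ maximalIdeal B := by
  rw [Ideal.map_le_iff_le_comap, comap_max]
  exact hI

theorem J_ne_top (hI : I ≤ q₀) : J ≠ ⊤ := fun h =>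
  (Ideal.IsPrime.ne_top (inferInstance : (maximalIdeal B).IsPrime)) (top_le_iff.mp (h ▸ J_le A I q₀ hI))

instance : IsScalarTower A B B' := IsScalarTower.of_algebraMap_eq (fun _ => rfl)

instance : Module.Flat A B' := Module.Flat.trans A B B'

theorem isMaximal_map (hI : I ≤ q₀) : ((maximalIdeal B).map (algebraMap B B')).IsMaximal :=
  AdicCompletion.isMaximal_map_of_le J (maximalIdeal B) (J_le A I q₀ hI) (Ideal.fg_of_isNoetherianRing _)

/-- comap of a prime of `B'` to `A` that contains `p ⊔ I`, where `q₀` is minimal over `p ⊔ I`, is `q₀`. -/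
theorem comap_eq_of_minimal (p : Ideal A) (hq₀ : q₀ ∈ (p ⊔ I).minimalPrimes) (Q : Ideal B') [Q.IsPrime]
    (hQ : p ⊔ I ≤ Q.comap (algebraMap A B')) : Q.comap (algebraMap B B') = maximalIdeal B := by
  set c := Q.comap (algebraMap B B') with hc
  have hcp : c.IsPrime := Ideal.comap_isPrime _ _
  have h1 : c.comap (algebraMap A B) = Q.comap (algebraMap A B') := by
    rw [hc, Ideal.comap_comap, ← IsScalarTower.algebraMap_eq]
  have h2 : c.comap (algebraMap A B) ≤ q₀ := by
    have : c ≤ maximalIdeal B := le_maximalIdeal hcp.ne_top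
    have := Ideal.comap_mono (f := algebraMap A B) this
    rwa [comap_max] at this
  have h3 : c.comap (algebraMap A B) = q₀ := by
    have hpr : (c.comap (algebraMap A B)).IsPrime := Ideal.comap_isPrime _ _
    exact le_antisymm h2 (hq₀.2 ⟨hpr, h1 ▸ hQ⟩ h2)
  have h4 : c = (c.comap (algebraMap A B)).map (algebraMap A B) :=
    (IsLocalization.map_under q₀.primeCompl B c).symm
  rw [h4, h3, Localization.AtPrime.map_eq_maximalIdeal]

theorem exists_prime (p : Ideal A) [p.IsPrime] (hq₀ : q₀ ∈ (p ⊔ I).minimalPrimes) (hp : ¬ I ≤ p) :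
    ∃ p' : Ideal B', p'.IsPrime ∧ p' ∈ (p.map (algebraMap A B')).minimalPrimes ∧
      p'.comap (algebraMap A B') = p ∧ ¬ I.map (algebraMap A B') ≤ p' ∧
      (∀ q' : Ideal B', q'.IsPrime → p' ≤ q' → I.map (algebraMap A B') ≤ q' → q'.IsMaximal) := by
  have hI : I ≤ q₀ := le_sup_right.trans hq₀.1.2
  have hpq : p ≤ q₀ := le_sup_left.trans hq₀.1.2
  have hmax := isMaximal_map A I q₀ hI
  have hle : p.map (algebraMap A B') ≤ (maximalIdeal B).map (algebraMap B B') := by
    rw [Ideal.map_le_iff_le_comap]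
    intro x hx
    rw [Ideal.mem_comap, IsScalarTower.algebraMap_apply A B B']
    apply Ideal.mem_map_of_mem
    have : x ∈ (maximalIdeal B).comap (algebraMap A B) := by rw [comap_max]; exact hpq hx
    exact this
  haveI := hmax.isPrime
  obtain ⟨p', hp'min, hp'le⟩ := Ideal.exists_minimalPrimes_le hle
  have hp'prime : p'.IsPrime := hp'min.1.1
  have hpc : p ≤ p'.comap (algebraMap A B') := Ideal.map_le_iff_le_comap.mp hp'min.1.2
  have hcomap : p'.comap (algebraMap A B') = p := by
    haveI : (p'.comap (algebraMap A B')).IsPrime := Ideal.comap_isPrime _ _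
    haveI : p'.LiesOver (p'.comap (algebraMap A B')) := ⟨rfl⟩
    obtain ⟨P₁, hP₁le, hP₁prime, hP₁over⟩ :=
      Ideal.exists_ideal_le_liesOver_of_le (p := p) (q := p'.comap (algebraMap A B')) p' hpc
    have h1 : p = P₁.comap (algebraMap A B') := P₁.over_def p
    have h2 : p.map (algebraMap A B') ≤ P₁ := by
      rw [Ideal.map_le_iff_le_comap, ← h1]
    have h3 : p' ≤ P₁ := hp'min.2 ⟨hP₁prime, h2⟩ hP₁le
    have h4 : P₁ = p' := le_antisymm hP₁le h3
    rw [← h4, ← h1]
  refine ⟨p', hp'prime, hp'min, hcomap, ?_, ?_⟩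
  · intro h
    apply hp
    rw [← hcomap]
    exact Ideal.le_comap_map.trans (Ideal.comap_mono h)
  · intro q' hq' hpq' hIq'
    have h1 : p ⊔ I ≤ q'.comap (algebraMap A B') := by
      refine sup_le ?_ ?_
      · rw [← hcomap]; exact Ideal.comap_mono hpq'
      · exact Ideal.le_comap_map.trans (Ideal.comap_mono hIq')
    have h2 := comap_eq_of_minimal A I q₀ p hq₀ q' h1
    have h3 : (maximalIdeal B).map (algebraMap B B') ≤ q' := by
      rw [Ideal.map_le_iff_le_comap, h2]
    rw [← hmax.eq_of_le hq'.ne_top h3]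
    exact hmax


/-- Completion of the localization as a base change of `M`. -/
theorem nonempty_complEquiv (M : Type u) [AddCommGroup M] [Module A M] [Module.Finite A M] :
    Nonempty (B' ⊗[A] M ≃ₗ[B'] AdicCompletion J (LocalizedModule q₀.primeCompl M)) := by
  let e1 : B' ⊗[A] M ≃ₗ[B'] B' ⊗[B] (B ⊗[A] M) :=
    (AlgebraTensorModule.cancelBaseChange A B B' B' M).symm
  let e2 : B' ⊗[B] (B ⊗[A] M) ≃ₗ[B'] B' ⊗[B] (LocalizedModule q₀.primeCompl M) :=
    AlgebraTensorModule.congr (LinearEquiv.refl B' B')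
      (IsLocalizedModule.isBaseChange q₀.primeCompl B
        (LocalizedModule.mkLinearMap q₀.primeCompl M)).equiv
  let e3 : B' ⊗[B] (LocalizedModule q₀.primeCompl M) ≃ₗ[B']
      AdicCompletion J (LocalizedModule q₀.primeCompl M) :=
    AdicCompletion.ofTensorProductEquivOfFiniteNoetherian J (LocalizedModule q₀.primeCompl M)
  exact ⟨e1 ≪≫ₗ e2 ≪≫ₗ e3⟩

/-- Main lemma: depth bound at `p` from the depth condition on the completion at a prime `q₀`
minimal over `p + I`. -/
theorem lt_depth_of_minimal (M : Type u) [AddCommGroup M] [Module A M] [Module.Finite A M]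
    (p : Ideal A) [p.IsPrime] (hq₀ : q₀ ∈ (p ⊔ I).minimalPrimes) (hp : ¬ I ≤ p) (s : ℕ)
    (h6 : ∀ p' : PrimeSpectrum B', ¬ I.map (algebraMap A B') ≤ p'.asIdeal →
      (∀ q' : PrimeSpectrum B', p' ≤ q' → I.map (algebraMap A B') ≤ q'.asIdeal →
        q'.asIdeal.IsMaximal) →
      (s : ℕ∞) < LocCoh.depth (Localization.AtPrime p'.asIdeal)
        (LocalizedModule p'.asIdeal.primeCompl
          (AdicCompletion J (LocalizedModule q₀.primeCompl M)))) :
    (s : ℕ∞) < LocCoh.depth (Localization.AtPrime p) (LocalizedModule p.primeCompl M) := by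
  obtain ⟨p', hp'prime, hp'min, hcomap, hnI, hmaxl⟩ := exists_prime A I q₀ p hq₀ hp
  have h := h6 ⟨p', hp'prime⟩ hnI (fun q' hq' hIq' => hmaxl q'.asIdeal q'.isPrime hq' hIq')
  haveI : IsNoetherianRing B' :=
    Groth.Agent.Lead.RLR.isNoetherianRing_adicCompletion' B J
  obtain ⟨e₀⟩ := nonempty_complEquiv A I q₀ M
  have := depth_eq p p' hcomap M (AdicCompletion J (LocalizedModule q₀.primeCompl M)) e₀ hp'min
  rw [← this]
  exact h

end
end Groth.Agent.H44.ComplDepth
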