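import Groth.Agent.H44.CotangentEpi
import Mathlib.CategoryTheory.Abelian.Exact

/-!
# The cotangent exact sequence `f^*Ω_{Y/Z} ⟶ Ω_{X/Z} ⟶ Ω_{X/Y} ⟶ 0` (helper44)
-/

set_option autoImplicit false
universe u
open CategoryTheory Limits Opposite AlgebraicGeometry TopologicalSpace TensorProduct Scheme.Modules
open Groth.Agent.H12.QCohAbelian Groth.Agent.H12.QCohIso Groth.Agent.H12.QCohExt

namespace Groth.Agent.H44

section PullbackId
variable {X : Scheme.{u}}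

theorem pullbackId_hom_app_pullSect (M : X.Modules) (U : X.Opens) (m : Γ(M, U)) :
    ((pullbackId X).hom.app M).app U (OmegaSh.pullSect (𝟙 X) M U m) = m := by
  have h := unit_conjugateEquiv (Adjunction.id (C := X.Modules))
    (pullbackPushforwardAdjunction (𝟙 X)) (pullbackId X).hom M
  rw [conjugateEquiv_pullbackId_hom] at h
  have h2 := congr(($h).app U m)
  exact h2.symm

theorem pullbackId_inv_app_apply (M : X.Modules) (U : X.Opens) (m : Γ(M, U)) :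
    ((pullbackId X).inv.app M).app U m = OmegaSh.pullSect (𝟙 X) M U m := by
  have h1 := pullbackId_hom_app_pullSect M U m
  have h2 := congrArg (((pullbackId X).inv.app M).app U) h1
  rw [← h2, ← ConcreteCategory.comp_apply, ← Scheme.Modules.Hom.comp_app, Iso.hom_inv_id_app]
  rfl

end PullbackId

section Exactness
variable {X : Scheme.{u}} {M₁ M₂ M₃ : X.Modules} [M₁.IsQuasicoherent] [M₂.IsQuasicoherent]
  [M₃.IsQuasicoherent] (φ : M₁ ⟶ M₂) (ψ : M₂ ⟶ M₃) (w : φ ≫ ψ = 0)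

/-- A complex of quasi-coherent modules which is exact on sections over an affine open cover is exact. -/
theorem exact_of_exact_on_cover {ι : Type*} (U : ι → X.Opens) (hU : ∀ x : X, ∃ i, x ∈ U i)
    (hUa : ∀ i, IsAffineOpen (U i))
    (hex : ∀ (i : ι) (y : Γ(M₂, U i)), ψ.app (U i) y = 0 → ∃ x, φ.app (U i) x = y) :
    (ShortComplex.mk φ ψ w).Exact := by
  rw [ShortComplex.exact_iff_epi_kernel_lift]
  haveI : (kernel ψ).IsQuasicoherent := isQuasicoherent_kernel ψ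
  change Epi (kernel.lift ψ φ w)
  refine epi_of_surjective_on_cover _ U hU hUa fun i k => ?_
  have hk : ψ.app (U i) ((kernel.ι ψ).app (U i) k) = 0 := by
    have : (kernel.ι ψ).app (U i) ≫ ψ.app (U i) = 0 := by
      rw [← Scheme.Modules.Hom.comp_app, kernel.condition]
      rfl
    exact congrArg (fun q => q.hom k) this
  obtain ⟨x, hx⟩ := hex i _ hk
  refine ⟨x, ?_⟩
  apply app_injective_of_mono (kernel.ι ψ) (U i)
  rw [← hx, ← ConcreteCategory.comp_apply, ← Scheme.Modules.Hom.comp_app, kernel.lift_ι]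

end Exactness

theorem kaehler_equiv_unique {R A N : Type u} [CommRing R] [CommRing A] [Algebra R A]
    [AddCommGroup N] [Module A N] (Φ Φ' : N ≃ₗ[A] Ω[A⁄R]) (δ : A → N)
    (h : ∀ s, Φ (δ s) = KaehlerDifferential.D R A s)
    (h' : ∀ s, Φ' (δ s) = KaehlerDifferential.D R A s) : Φ = Φ' := by
  ext y
  obtain ⟨ω, rfl⟩ := Φ.symm.surjective y
  rw [Φ.apply_symm_apply]
  have hω : ω ∈ Submodule.span A (Set.range (KaehlerDifferential.D R A)) := by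
    rw [KaehlerDifferential.span_range_derivation]; trivial
  induction hω using Submodule.span_induction with
  | mem ω hω =>
    obtain ⟨s, rfl⟩ := hω
    rw [← h, Φ.symm_apply_apply, h', h]
  | zero => simp
  | add x y _ _ hx hy => rw [map_add, map_add, ← hx, ← hy]
  | smul r x _ hx => rw [_root_.map_smul, _root_.map_smul, ← hx]

section LemmaD
variable {X S₁ S₂ : Scheme.{u}} {f₁ : X ⟶ S₁} {f₂ : X ⟶ S₂} {Ω₁ Ω₂ : X.Modules}
  (d₁ : OmegaSh.Der f₁ Ω₁) (d₂ : OmegaSh.Der f₂ Ω₂) (α : Ω₁ ⟶ Ω₂)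
  (hα : ∀ (U : X.Opens) (s : Γ(X, U)), α.app U (d₁.app U s) = d₂.app U s)
  {U : X.Opens} {V₁ : S₁.Opens} {V₂ : S₂.Opens} (e₁ : U ≤ f₁ ⁻¹ᵁ V₁) (e₂ : U ≤ f₂ ⁻¹ᵁ V₂)

include hα in
/-- Chart description of a map of receptacles over the identity of `X`. -/
theorem hom_chart_description :
    letI : Algebra Γ(S₁, V₁) Γ(X, U) := (f₁.appLE V₁ U e₁).hom.toAlgebra
    letI : Algebra Γ(S₂, V₂) Γ(X, U) := (f₂.appLE V₂ U e₂).hom.toAlgebra
    ∀ (Φ₁ : Γ(Ω₁, U) ≃ₗ[Γ(X, U)] Ω[Γ(X, U)⁄Γ(S₁, V₁)])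
      (Φ₂ : Γ(Ω₂, U) ≃ₗ[Γ(X, U)] Ω[Γ(X, U)⁄Γ(S₂, V₂)])
      (_ : ∀ s, Φ₁ (d₁.app U s) = KaehlerDifferential.D Γ(S₁, V₁) Γ(X, U) s)
      (_ : ∀ s, Φ₂ (d₂.app U s) = KaehlerDifferential.D Γ(S₂, V₂) Γ(X, U) s)
      (μ : Ω[Γ(X, U)⁄Γ(S₁, V₁)] →ₗ[Γ(X, U)] Ω[Γ(X, U)⁄Γ(S₂, V₂)])
      (_ : ∀ s, μ (KaehlerDifferential.D Γ(S₁, V₁) Γ(X, U) s) =
        KaehlerDifferential.D Γ(S₂, V₂) Γ(X, U) s)
      (x : Γ(Ω₁, U)), Φ₂ (α.app U x) = μ (Φ₁ x) := by
  letI : Algebra Γ(S₁, V₁) Γ(X, U) := (f₁.appLE V₁ U e₁).hom.toAlgebra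
  letI : Algebra Γ(S₂, V₂) Γ(X, U) := (f₂.appLE V₂ U e₂).hom.toAlgebra
  intro Φ₁ Φ₂ h₁ h₂ μ hμ x
  obtain ⟨ω, rfl⟩ := Φ₁.symm.surjective x
  rw [Φ₁.apply_symm_apply]
  have hω : ω ∈ Submodule.span Γ(X, U)
      (Set.range (KaehlerDifferential.D Γ(S₁, V₁) Γ(X, U))) := by
    rw [KaehlerDifferential.span_range_derivation]; trivial
  induction hω using Submodule.span_induction with
  | mem ω hω =>
    obtain ⟨s, rfl⟩ := hω
    rw [← h₁, Φ₁.symm_apply_apply, hα, h₂, h₁, hμ]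
  | zero => simp
  | add x y _ _ hx hy => rw [map_add, map_add, map_add, hx, hy, map_add]
  | smul r x _ hx =>
    rw [_root_.map_smul, Scheme.Modules.Hom.app_smul, _root_.map_smul, hx, _root_.map_smul]

end LemmaD

section Cotangent
variable {X Y Z : Scheme.{u}} {f : X ⟶ Y} {g : Y ⟶ Z}
  {ΩY : Y.Modules} (dY : OmegaSh.Der g ΩY) (hY : OmegaSh.IsUniversal dY)
  {ΩX : X.Modules} (dX : OmegaSh.Der (f ≫ g) ΩX) (hX : OmegaSh.IsUniversal dX)
  {ΩXY : X.Modules} (dXY : OmegaSh.Der f ΩXY) (hXY : OmegaSh.IsUniversal dXY)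
  (c₁ : (Scheme.Modules.pullback f).obj ΩY ⟶ ΩX) (hc₁ : OmegaSh.IsDiffCompat f dY dX c₁)
  (c₂ : ΩX ⟶ ΩXY) (hc₂ : ∀ (U : X.Opens) (s : Γ(X, U)), c₂.app U (dX.app U s) = dXY.app U s)

include hY hX hXY hc₁ hc₂ in
/-- Chart-level statement: on a triple chart, `c₂` is surjective on sections, kills the image of `c₁`, and
its kernel on sections is the image of `c₁`. -/
theorem cotangent_chart (t : TripleChart f g) :
    Function.Surjective (c₂.app t.U') ∧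
    (∀ x, c₂.app t.U' (c₁.app t.U' x) = 0) ∧
    (∀ y, c₂.app t.U' y = 0 → ∃ x, c₁.app t.U' x = y) := by
  letI algRA : Algebra Γ(Z, t.V) Γ(Y, t.U) := (g.appLE t.V t.U t.e).hom.toAlgebra
  letI algRA' : Algebra Γ(Z, t.V) Γ(X, t.U') := ((f ≫ g).appLE t.V t.U' (t.le' f g)).hom.toAlgebra
  letI algAA' : Algebra Γ(Y, t.U) Γ(X, t.U') := (f.appLE t.U t.U' t.le).hom.toAlgebra
  haveI : IsScalarTower Γ(Z, t.V) Γ(Y, t.U) Γ(X, t.U') := IsScalarTower.of_algebraMap_eq' (by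
    change ((f ≫ g).appLE t.V t.U' (t.le' f g)).hom =
      (f.appLE t.U t.U' t.le).hom.comp (g.appLE t.V t.U t.e).hom
    rw [← CommRingCat.hom_comp, Scheme.Hom.appLE_comp_appLE])
  obtain ⟨E, ΦX, hΦX, hμ⟩ := exists_chart_description f dY dX c₁ hc₁ t.hU t.hU' t.le hY hX t.hV t.hV
    t.e (t.le' f g)
  have h1 := hμ (KaehlerDifferential.mapBaseChange Γ(Z, t.V) Γ(Y, t.U) Γ(X, t.U')) (fun a' s => by
    rw [KaehlerDifferential.mapBaseChange_tmul, KaehlerDifferential.map_D]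
    rfl)
  obtain ⟨ΦXY, hΦXY⟩ := exists_kaehler_equiv_of_isUniversal dXY t.hU' t.hU t.le hXY
  have h2 := hom_chart_description dX dXY c₂ hc₂ (t.le' f g) t.le ΦX ΦXY hΦX hΦXY
    (KaehlerDifferential.map Γ(Z, t.V) Γ(Y, t.U) Γ(X, t.U') Γ(X, t.U')) (fun s => by
      rw [KaehlerDifferential.map_D]
      rfl)
  have hex := KaehlerDifferential.exact_mapBaseChange_map Γ(Z, t.V) Γ(Y, t.U) Γ(X, t.U')
  refine ⟨fun z => ?_, fun x => ?_, fun y hy => ?_⟩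
  · obtain ⟨ω, hω⟩ := KaehlerDifferential.map_surjective Γ(Z, t.V) Γ(Y, t.U) Γ(X, t.U') (ΦXY z)
    refine ⟨ΦX.symm ω, ?_⟩
    apply ΦXY.injective
    rw [h2, ΦX.apply_symm_apply, hω]
  · apply ΦXY.injective
    rw [h2, h1, map_zero]
    exact hex.apply_apply_eq_zero _
  · have h3 : KaehlerDifferential.map Γ(Z, t.V) Γ(Y, t.U) Γ(X, t.U') Γ(X, t.U') (ΦX y) = 0 := by
      rw [← h2, hy, map_zero]
    obtain ⟨v, hv⟩ := (hex (ΦX y)).1 h3
    refine ⟨E.symm v, ?_⟩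
    apply ΦX.injective
    rw [h1, E.apply_symm_apply, hv]

variable (f g) in
theorem isBasis_tripleChart : Opens.IsBasis (Set.range (fun t : TripleChart f g => t.U')) := by
  rw [Opens.isBasis_iff_nbhd]
  intro W x hx
  obtain ⟨t, hxt, htW⟩ := exists_tripleChart f g x W hx
  exact ⟨t.U', ⟨t, rfl⟩, hxt, htW⟩

include hY hX hXY hc₁ hc₂ in
theorem cotangent_comp_eq_zero : c₁ ≫ c₂ = 0 := by
  refine hom_eq_zero_of_isBasis _ _ (isBasis_tripleChart f g) ?_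
  rintro _ ⟨t, rfl⟩ x
  exact (cotangent_chart dY hY dX hX dXY hXY c₁ hc₁ c₂ hc₂ t).2.1 x

include hY hX hXY hc₁ hc₂ in
/-- **The cotangent sequence `f^*Ω_{Y/Z} ⟶ Ω_{X/Z} ⟶ Ω_{X/Y} ⟶ 0` is exact.** -/
theorem cotangent_exact :
    Epi c₂ ∧ ∃ w : c₁ ≫ c₂ = 0, (ShortComplex.mk c₁ c₂ w).Exact := by
  haveI := isQuasicoherent_of_isUniversal dY hY
  haveI := isQuasicoherent_of_isUniversal dX hX
  haveI := isQuasicoherent_of_isUniversal dXY hXY
  have hcov : ∀ x : X, ∃ t : TripleChart f g, x ∈ t.U' := fun x => by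
    obtain ⟨t, hxt, -⟩ := exists_tripleChart f g x ⊤ trivial
    exact ⟨t, hxt⟩
  refine ⟨epi_of_surjective_on_cover c₂ (fun t : TripleChart f g => t.U') hcov (fun t => t.hU')
    (fun t => (cotangent_chart dY hY dX hX dXY hXY c₁ hc₁ c₂ hc₂ t).1),
    cotangent_comp_eq_zero dY hY dX hX dXY hXY c₁ hc₁ c₂ hc₂, ?_⟩
  exact exact_of_exact_on_cover c₁ c₂ _ (fun t : TripleChart f g => t.U') hcov (fun t => t.hU')
    (fun t => (cotangent_chart dY hY dX hX dXY hXY c₁ hc₁ c₂ hc₂ t).2.2)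

end Cotangent

end Groth.Agent.H44
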