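import Groth.Agent.H12.QCohIso

/-!
# Epimorphisms of quasi-coherent modules on affine opens (helper44)
-/

set_option autoImplicit false
universe u
open CategoryTheory Limits Opposite AlgebraicGeometry TopologicalSpace Scheme.Modules
open Groth.Agent.H12.QCohAbelian Groth.Agent.H12.QCohIso Groth.Agent.H12.QCohExt

namespace Groth.Agent.H44

section
variable {X : Scheme.{u}} {M N : X.Modules} [M.IsQuasicoherent] [N.IsQuasicoherent] (φ : M ⟶ N)

/-- An epimorphism of quasi-coherent modules is surjective on sections over affine opens. -/
theorem app_surjective_of_epi [Epi φ] {U : X.Opens} (hU : IsAffineOpen U) :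
    Function.Surjective (φ.app U) := by
  let S : ShortComplex X.Modules := ShortComplex.mk (kernel.ι φ) φ (kernel.condition φ)
  have hS : S.ShortExact := by
    have h1 : S.Exact := ShortComplex.exact_of_f_is_kernel S (kernelIsKernel φ)
    have : Mono S.f := inferInstanceAs (Mono (kernel.ι φ))
    have : Epi S.g := inferInstanceAs (Epi φ)
    exact ShortComplex.ShortExact.mk h1
  haveI : S.X₁.IsQuasicoherent := isQuasicoherent_kernel φ
  exact app_surjective_of_isAffineOpen S hS hU

/-- A morphism of quasi-coherent modules which is surjective on sections over an affine open cover is an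
epimorphism. -/
theorem epi_of_surjective_on_cover {ι : Type*} (U : ι → X.Opens) (hU : ∀ x : X, ∃ i, x ∈ U i)
    (hUa : ∀ i, IsAffineOpen (U i)) (hs : ∀ i, Function.Surjective (φ.app (U i))) : Epi φ := by
  have hC : (cokernel φ).IsQuasicoherent := isQuasicoherent_cokernel φ
  have hC0 : IsZero (cokernel φ) := by
    refine isZero_of_sections_eq_zero _ U hU hUa ?_
    intro i t
    obtain ⟨y, rfl⟩ := app_surjective_of_epi (cokernel.π φ) (hUa i) t
    obtain ⟨x, rfl⟩ := hs i y
    have : φ.app (U i) ≫ (cokernel.π φ).app (U i) = 0 := by
      rw [← Scheme.Modules.Hom.comp_app, cokernel.condition]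
      rfl
    exact congrArg (fun k => k.hom x) this
  exact Preadditive.epi_of_cokernel_zero (hC0.eq_of_tgt _ _)

end
end Groth.Agent.H44
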