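import Groth.Agent.H44.AffineModules

/-!
# Morphisms out of a quasi-coherent module on an affine scheme (helper44)

For `X` affine, `M` quasi-coherent and `F` an arbitrary `O_X`-module, `α ↦ α.app ⊤` is a bijection from
`M ⟶ F` onto the `Γ(X,⊤)`-linear maps `Γ(M,⊤) → Γ(F,⊤)`:
`hom_ext_of_app_top` (injectivity), `exists_hom_of_linearMap` (surjectivity).
-/

set_option autoImplicit false
universe u
open CategoryTheory Limits AlgebraicGeometry Scheme.Modules TopologicalSpace Opposite

namespace Groth.Agent.H44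

section SpecCase
variable {R : CommRingCat.{u}} (M F : (Spec R).Modules)

theorem moduleSpecΓFunctor_map_eq_homEquiv (α : M ⟶ F) :
    (moduleSpecΓFunctor (R := R)).map α =
      (tilde.adjunction (R := R)).homEquiv _ _ (M.fromTildeΓ ≫ α) := by
  rw [Adjunction.homEquiv_unit, Functor.map_comp, ← Category.assoc]
  have h := (tilde.adjunction (R := R)).right_triangle_components M
  have h' : (tilde.adjunction (R := R)).unit.app ((moduleSpecΓFunctor (R := R)).obj M) ≫
      (moduleSpecΓFunctor (R := R)).map M.fromTildeΓ = 𝟙 _ := h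
  exact ((congrArg (fun k => k ≫ (moduleSpecΓFunctor (R := R)).map α) h').trans
    (Category.id_comp _)).symm

theorem moduleSpecΓFunctor_map_bijective [IsIso M.fromTildeΓ] :
    Function.Bijective (fun α : M ⟶ F => (moduleSpecΓFunctor (R := R)).map α) := by
  have h1 : (fun α : M ⟶ F => (moduleSpecΓFunctor (R := R)).map α) =
      (fun β => (tilde.adjunction (R := R)).homEquiv _ _ β) ∘ (fun α : M ⟶ F => M.fromTildeΓ ≫ α) := by
    funext α
    exact moduleSpecΓFunctor_map_eq_homEquiv M F α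
  rw [h1]
  refine (Equiv.bijective _).comp ⟨fun α β h => ?_, fun γ => ⟨inv M.fromTildeΓ ≫ γ, ?_⟩⟩
  · exact (cancel_epi M.fromTildeΓ).1 h
  · change M.fromTildeΓ ≫ inv M.fromTildeΓ ≫ γ = γ
    rw [IsIso.hom_inv_id_assoc]

end SpecCase

section IsoEquiv
variable {X Y : Scheme.{u}} (j : X ⟶ Y) [IsIso j]

/-- Restriction along an isomorphism is an equivalence. -/
noncomputable def restrictEquivOfIso : Y.Modules ≌ X.Modules :=
  CategoryTheory.Equivalence.mk (restrictFunctor j) (restrictFunctor (inv j))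
    (restrictFunctorId.symm ≪≫ restrictFunctorCongr (show 𝟙 Y = inv j ≫ j by simp) ≪≫
      restrictFunctorComp (inv j) j)
    ((restrictFunctorComp j (inv j)).symm ≪≫ restrictFunctorCongr (show j ≫ inv j = 𝟙 X by simp) ≪≫
      restrictFunctorId)

instance : (restrictFunctor j).IsEquivalence := (restrictEquivOfIso j).isEquivalence_functor

end IsoEquiv

section Affine
variable {X : Scheme.{u}} [IsAffine X] (M F : X.Modules)

instance isIso_fromSpec_top : IsIso (isAffineOpen_top X).fromSpec := by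
  rw [IsAffineOpen.fromSpec_top]
  infer_instance

omit [IsAffine X] in
theorem exists_res_of_eq_top (W : X.Opens) (h : W = ⊤) (m : Γ(M, W)) :
    ∃ m' : Γ(M, ⊤), M.presheaf.map (homOfLE (le_top : W ≤ ⊤)).op m' = m := by
  subst h
  refine ⟨m, ?_⟩
  have : (homOfLE (le_top : (⊤ : X.Opens) ≤ ⊤)).op = 𝟙 (op ⊤) := rfl
  rw [this, M.presheaf.map_id]
  rfl

omit [IsAffine X] in
theorem app_res {α : M ⟶ F} {U V : X.Opens} (e : V ≤ U) (x : Γ(M, U)) :
    α.app V (M.presheaf.map (homOfLE e).op x) = F.presheaf.map (homOfLE e).op (α.app U x) :=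
  congr($((Scheme.Modules.Hom.mapPresheaf α).naturality (homOfLE e).op) x)

variable [M.IsQuasicoherent]

/-- A morphism out of a quasi-coherent module on an affine scheme is determined by its effect on global
sections. -/
theorem hom_ext_of_app_top (α β : M ⟶ F) (h : ∀ m : Γ(M, ⊤), α.app ⊤ m = β.app ⊤ m) : α = β := by
  have hV := isAffineOpen_top X
  apply (restrictFunctor hV.fromSpec).map_injective
  apply (moduleSpecΓFunctor_map_bijective (M.restrict hV.fromSpec) (F.restrict hV.fromSpec)).1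
  apply ModuleCat.hom_ext
  apply LinearMap.ext
  intro t
  change α.app (hV.fromSpec ''ᵁ ⊤) t = β.app (hV.fromSpec ''ᵁ ⊤) t
  obtain ⟨m', rfl⟩ := exists_res_of_eq_top M (hV.fromSpec ''ᵁ ⊤) (fromSpec_image_top' hV) t
  rw [app_res, app_res, h]

/-- Every `Γ(X,⊤)`-linear map on global sections out of a quasi-coherent module on an affine scheme
comes from a morphism of modules. -/
theorem exists_hom_of_linearMap (l : Γ(M, ⊤) →ₗ[Γ(X, ⊤)] Γ(F, ⊤)) :
    ∃ α : M ⟶ F, ∀ m : Γ(M, ⊤), α.app ⊤ m = l m := by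
  have hV := isAffineOpen_top X
  let EM := sectionsSpecEquiv M hV
  let EF := sectionsSpecEquiv F hV
  let lin : (gammaSpec (R := Γ(X, ⊤)) (M.restrict hV.fromSpec) : Type u) →ₗ[Γ(X, ⊤)]
      (gammaSpec (R := Γ(X, ⊤)) (F.restrict hV.fromSpec) : Type u) :=
    EF.symm.toLinearMap ∘ₗ l ∘ₗ EM.toLinearMap
  let l'' := ModuleCat.ofHom lin
  let l' : gammaSpec (R := Γ(X, ⊤)) (M.restrict hV.fromSpec) ⟶
      gammaSpec (R := Γ(X, ⊤)) (F.restrict hV.fromSpec) := l''
  obtain ⟨α', hα'⟩ :=
    (moduleSpecΓFunctor_map_bijective (M.restrict hV.fromSpec) (F.restrict hV.fromSpec)).2 l'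
  obtain ⟨α, rfl⟩ := (restrictFunctor hV.fromSpec).map_surjective α'
  refine ⟨α, fun m => ?_⟩
  have h1 : ((moduleSpecΓFunctor (R := Γ(X, ⊤))).map ((restrictFunctor hV.fromSpec).map α)).hom
      (EM.symm m) = l'.hom (EM.symm m) := by
    have hα'' : (moduleSpecΓFunctor (R := Γ(X, ⊤))).map ((restrictFunctor hV.fromSpec).map α) = l' := hα'
    exact congrArg (fun k => ModuleCat.Hom.hom k (EM.symm m)) hα''
  have h0 : α.app (hV.fromSpec ''ᵁ ⊤) (EM.symm m) =
      ((moduleSpecΓFunctor (R := Γ(X, ⊤))).map ((restrictFunctor hV.fromSpec).map α)).hom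
        (EM.symm m) := rfl
  have h2 : α.app (hV.fromSpec ''ᵁ ⊤) (EM.symm m) = EF.symm (l (EM (EM.symm m))) := h0.trans h1
  rw [EM.apply_symm_apply] at h2
  have h3 : EF (α.app (hV.fromSpec ''ᵁ ⊤) (EM.symm m)) = l m := by
    rw [h2, EF.apply_symm_apply]
  rw [← h3]
  -- naturality of sectionsSpecEquiv
  change α.app ⊤ m = F.presheaf.map (eqToHom (fromSpec_image_top' hV).symm).op
    (α.app (hV.fromSpec ''ᵁ ⊤) (EM.symm m))
  have h4 : F.presheaf.map (eqToHom (fromSpec_image_top' hV).symm).op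
      (α.app (hV.fromSpec ''ᵁ ⊤) (EM.symm m)) =
      α.app ⊤ (M.presheaf.map (eqToHom (fromSpec_image_top' hV).symm).op (EM.symm m)) :=
    (congr($((Scheme.Modules.Hom.mapPresheaf α).naturality
      (eqToHom (fromSpec_image_top' hV).symm).op) (EM.symm m))).symm
  rw [h4]
  congr 1
  exact (EM.apply_symm_apply m).symm

end Affine

end Groth.Agent.H44
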