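import Groth.Prelude.Def_Adeq
import Mathlib.RingTheory.AdjoinRoot
import Mathlib.RingTheory.RingHom.Flat
import Mathlib.RingTheory.Flat.Basic

set_option autoImplicit false
universe u
open CategoryTheory Opposite Limits TensorProduct

namespace Groth.Agent.H44

variable {A : Type u} [CommRing A]

theorem map_eq_bc (G : Adeq.MVF A) {B B' : Adeq.Alg A} (f : B ⟶ B') (x : G.obj (Adeq.pt B)) :
    G.map (Adeq.ptHom f) x = (G.bc f) ((1 : B') ⊗ₜ x) := by
  have := ModuleCat.extendRestrictScalarsAdj_homEquiv_apply.{u+1,u,u} (f := f.hom.toRingHom)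
    (G.bc f) x
  rw [← this]
  unfold Adeq.MVF.bc
  rw [Equiv.apply_symm_apply]

/-- if `B → B'` has a `B`-linear retraction and `B' ⊗_B G(B) → G(B')` is an isomorphism then
`G(B) → G(B')` is injective. -/
theorem map_injective_of_retraction (G : Adeq.MVF A) {B B' : Adeq.Alg A} (f : B ⟶ B')
    (hbc : IsIso (G.bc f)) (ρ : B' →+ B) (hρ : ∀ (r : B) (s : B'), ρ (f.hom r * s) = r * ρ s)
    (hρ1 : ρ 1 = 1) : Function.Injective (G.map (Adeq.ptHom f)) := by
  intro x y hxy
  rw [map_eq_bc, map_eq_bc] at hxy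
  have hinj : Function.Injective (G.bc f) :=
    ((ConcreteCategory.isIso_iff_bijective _).mp hbc).1
  have h1 := hinj hxy
  let _ : Module B B' := Module.compHom B' f.hom.toRingHom
  let L : B' ⊗[B] (G.obj (Adeq.pt B)) →+ G.obj (Adeq.pt B) :=
    TensorProduct.liftAddHom
      { toFun := fun s =>
          { toFun := fun z => (ρ s : B) • z
            map_zero' := smul_zero _
            map_add' := fun z w => smul_add _ z w }
        map_zero' := by
          ext z
          change (ρ 0 : B) • z = 0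
          rw [map_zero, zero_smul]
        map_add' := fun s t => by
          ext z
          change (ρ (s + t) : B) • z = (ρ s : B) • z + (ρ t : B) • z
          rw [map_add, add_smul] }
      (fun r s z => by
        change (ρ (f.hom r * s) : B) • z = (ρ s : B) • (r • z)
        rw [hρ, mul_comm, mul_smul])
  have h2 := congrArg L h1
  have hL : ∀ z : G.obj (Adeq.pt B), L ((1 : B') ⊗ₜ z) = z := fun z => by
    change (ρ 1 : B) • z = z
    rw [hρ1, one_smul]
  exact (hL x).symm.trans (h2.trans (hL y))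

theorem map_smul' (F : Adeq.MVF A) {B B' : Adeq.Alg A} (f : B ⟶ B') (b : B)
    (x : F.obj (Adeq.pt B)) :
    F.map (Adeq.ptHom f) (b • x) = (f.hom b : B') • F.map (Adeq.ptHom f) x :=
  PresheafOfModules.map_smul F (Adeq.ptHom f) b x

/-- additive transformations compatible with units are linear, provided the target satisfies flat
base change. -/
theorem smul_comm_of_additive_units_flat (F G : Adeq.MVF A)
    (φ : ∀ B : Adeq.Alg A, F.obj (Adeq.pt B) → G.obj (Adeq.pt B))
    (hnat : ∀ ⦃B B' : Adeq.Alg A⦄ (f : B ⟶ B') (x : F.obj (Adeq.pt B)),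
      φ B' (F.map (Adeq.ptHom f) x) = G.map (Adeq.ptHom f) (φ B x))
    (hadd : ∀ (B : Adeq.Alg A) (x y : F.obj (Adeq.pt B)), φ B (x + y) = φ B x + φ B y)
    (hunit : ∀ (B : Adeq.Alg A) (v : (B : Type u)ˣ) (x : F.obj (Adeq.pt B)),
      φ B ((v : B) • x) = (v : B) • φ B x)
    (hG : ∀ ⦃B B' : Adeq.Alg A⦄ (f : B ⟶ B'), f.hom.toRingHom.Flat → IsIso (G.bc f))
    (B : Adeq.Alg A) (b : B) (x : F.obj (Adeq.pt B)) : φ B (b • x) = b • φ B x := by
  classical
  rcases subsingleton_or_nontrivial B with hB | hB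
  · have : Subsingleton (G.obj (Adeq.pt B)) := Module.subsingleton B _
    exact Subsingleton.elim _ _
  let q : Polynomial B := - Polynomial.C b * Polynomial.X + 1
  have hq : q.degree < ((2 : ℕ) : WithBot ℕ) := by
    refine lt_of_le_of_lt (Polynomial.degree_add_le _ _) ?_
    refine max_lt ?_ ?_
    · rw [← Polynomial.C_neg]
      refine lt_of_le_of_lt (Polynomial.degree_C_mul_X_le _) ?_
      norm_num
    · exact lt_of_le_of_lt Polynomial.degree_one_le (by norm_num)
  let p : Polynomial B := Polynomial.X ^ 2 + q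
  have hp : p.Monic := Polynomial.monic_X_pow_add hq
  have hdeg : p.natDegree = 2 := by
    apply Polynomial.natDegree_eq_of_degree_eq_some
    rw [Polynomial.degree_add_eq_left_of_degree_lt (by rwa [Polynomial.degree_X_pow]),
      Polynomial.degree_X_pow]
  let B'' : Adeq.Alg A := Adeq.algOf A (AdjoinRoot p)
  let f : B ⟶ B'' := CommAlgCat.ofHom (IsScalarTower.toAlgHom A B (AdjoinRoot p))
  have hfb : ∀ r : B, f.hom r = algebraMap B (AdjoinRoot p) r := fun r => rfl
  have hflat : f.hom.toRingHom.Flat := by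
    have h1 : f.hom.toRingHom = algebraMap B (AdjoinRoot p) := rfl
    rw [h1, RingHom.flat_algebraMap_iff]
    have : Module.Free B (AdjoinRoot p) := hp.free_adjoinRoot
    infer_instance
  have hiso := hG f hflat
  -- the retraction
  let pb := AdjoinRoot.powerBasis' hp
  have hdim : 0 < pb.dim := by
    change 0 < p.natDegree
    rw [hdeg]; norm_num
  let ρ : AdjoinRoot p →ₗ[B] B := pb.basis.coord ⟨0, hdim⟩
  have hρ1 : ρ 1 = 1 := by
    have h1 : pb.basis ⟨0, hdim⟩ = 1 := (pb.basis_eq_pow ⟨0, hdim⟩).trans (pow_zero _)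
    change pb.basis.coord ⟨0, hdim⟩ 1 = 1
    rw [← h1, Module.Basis.coord_apply, Module.Basis.repr_self, Finsupp.single_eq_same]
  have hinj : Function.Injective (G.map (Adeq.ptHom f)) := by
    refine map_injective_of_retraction G f hiso ρ.toAddMonoidHom ?_ hρ1
    intro r s
    change ρ (f.hom r * s) = r * ρ s
    rw [hfb, ← Algebra.smul_def, map_smul, smul_eq_mul]
  -- the two units
  let t : AdjoinRoot p := AdjoinRoot.root p
  have ht : t * (algebraMap B (AdjoinRoot p) b - t) = 1 := by
    have h0 := AdjoinRoot.eval₂_root p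
    simp only [p, q, Polynomial.eval₂_add, Polynomial.eval₂_pow, Polynomial.eval₂_X,
      Polynomial.eval₂_mul, Polynomial.eval₂_neg, Polynomial.eval₂_C, Polynomial.eval₂_one] at h0
    have h2 : t * (algebraMap B (AdjoinRoot p) b - t) - 1 =
        -(AdjoinRoot.root p ^ 2 + (-(AdjoinRoot.of p) b * AdjoinRoot.root p + 1)) := by
      simp only [t, AdjoinRoot.algebraMap_eq]
      ring
    rw [h0, neg_zero, sub_eq_zero] at h2
    exact h2
  let u : (B'' : Type u)ˣ := Units.mkOfMulEqOne t (algebraMap B (AdjoinRoot p) b - t) ht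
  let v : (B'' : Type u)ˣ := Units.mkOfMulEqOne (algebraMap B (AdjoinRoot p) b - t) t
    ((mul_comm _ _).trans ht)
  have huv : (f.hom b : B'') = (u : B'') + (v : B'') := by
    rw [hfb]
    change _ = t + (algebraMap B (AdjoinRoot p) b - t)
    ring
  let η : F.obj (Adeq.pt B'') := F.map (Adeq.ptHom f) x
  let ζ : G.obj (Adeq.pt B'') := G.map (Adeq.ptHom f) (φ B x)
  have e1 : F.map (Adeq.ptHom f) (b • x) = (f.hom b : B'') • η := map_smul' F f b x
  have e2 : G.map (Adeq.ptHom f) (b • φ B x) = (f.hom b : B'') • ζ := map_smul' G f b _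
  have e3 : φ B'' η = ζ := hnat f x
  have e4 : φ B'' ((f.hom b : B'') • η) = (f.hom b : B'') • φ B'' η := by
    rw [huv, add_smul, hadd, hunit, hunit, ← add_smul]
  apply hinj
  have step1 : (G.map (Adeq.ptHom f) (φ B (b • x)) : G.obj (Adeq.pt B'')) =
      φ B'' ((f.hom b : B'') • η) := ((hnat f _).symm).trans (congrArg (φ B'') e1)
  have step2 : (f.hom b : B'') • φ B'' η = (f.hom b : B'') • ζ := by rw [e3]
  exact step1.trans (e4.trans (step2.trans e2.symm))

end Groth.Agent.H44
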