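import Groth.Agent.H44.ConormalMapExists
import Groth.Agent.H71.IdealInvertible
import Groth.Prelude.Def_BlowUp2
import Mathlib.RingTheory.Artinian.Algebra

/-!
helper44: two effective Cartier ideal sheaves `D₂ ≤ D₁` with isomorphic ideal modules agree as soon as every
regular global function is a unit.
-/

set_option autoImplicit false
universe u
open CategoryTheory CategoryTheory.Limits AlgebraicGeometry TopologicalSpace Opposite

namespace Groth.Agent.H44.CartierRatio

variable {X : Scheme.{u}}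

/-- A nonzerodivisor on an affine open restricts to a nonzerodivisor on every smaller open. -/
theorem res_mem_nonZeroDivisors {U W : X.Opens} (hU : IsAffineOpen U) (h : W ≤ U)
    {f : Γ(X, U)} (hf : f ∈ nonZeroDivisors Γ(X, U)) :
    X.presheaf.map (homOfLE h).op f ∈ nonZeroDivisors Γ(X, W) := by
  rw [mem_nonZeroDivisors_iff_right]
  intro t ht
  refine TopCat.Presheaf.section_ext X.sheaf W t 0 fun p hp => ?_
  letI : Algebra Γ(X, U) (X.presheaf.stalk p) := X.presheaf.algebra_section_stalk ⟨p, h hp⟩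
  have hloc : IsLocalization.AtPrime (X.presheaf.stalk p) (hU.primeIdealOf ⟨p, h hp⟩).asIdeal :=
    hU.isLocalization_stalk ⟨p, h hp⟩
  have hnz : X.presheaf.germ U p (h hp) f ∈ nonZeroDivisors (X.presheaf.stalk p) :=
    IsLocalization.map_nonZeroDivisors_le (hU.primeIdealOf ⟨p, h hp⟩).asIdeal.primeCompl
      (X.presheaf.stalk p) (Submonoid.mem_map_of_mem _ hf)
  have h1 : X.presheaf.germ W p hp t * X.presheaf.germ W p hp (X.presheaf.map (homOfLE h).op f) = 0 := by
    rw [← map_mul, ht, map_zero]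
  rw [TopCat.Presheaf.germ_res_apply] at h1
  rw [map_zero]
  exact (mem_nonZeroDivisors_iff_right.1 hnz) _ h1

/-- Naturality of a morphism of modules on sections. -/
theorem hom_app_map {M N : X.Modules} (φ : M ⟶ N) {W W' : X.Opens} (i : W' ≤ W) (k : Γ(M, W)) :
    φ.app W' (M.presheaf.map (homOfLE i).op k) = N.presheaf.map (homOfLE i).op (φ.app W k) := by
  rw [← ConcreteCategory.comp_apply, ← Scheme.Modules.mapPresheaf_app _ (op W')]
  erw [(Scheme.Modules.Hom.mapPresheaf φ).naturality]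
  rfl

section Chi
variable (D₁ D₂ : X.IdealSheafData) (φ : ClSub.idealMod D₁ ⟶ ClSub.idealMod D₂)

/-- The function attached to a section of `I₁` through `φ : I₁ ⟶ I₂ ⊆ O`. -/
noncomputable def chi (W : X.Opens) (σ : Γ(ClSub.idealMod D₁, W)) : Γ(X, W) :=
  OmegaSh.idealSect D₂ W (φ.app W σ)

theorem chi_smul (W : X.Opens) (r : Γ(X, W)) (σ : Γ(ClSub.idealMod D₁, W)) :
    chi D₁ D₂ φ W (r • σ) = r * chi D₁ D₂ φ W σ := by
  unfold chi
  rw [Scheme.Modules.Hom.app_smul, idealSect_smul]

theorem chi_map {W W' : X.Opens} (i : W' ≤ W) (σ : Γ(ClSub.idealMod D₁, W)) :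
    chi D₁ D₂ φ W' ((ClSub.idealMod D₁).presheaf.map (homOfLE i).op σ) =
      X.presheaf.map (homOfLE i).op (chi D₁ D₂ φ W σ) := by
  unfold chi
  rw [hom_app_map, idealSect_map]

/-- Cross-multiplication. -/
theorem cross (W : X.Opens) (σ τ : Γ(ClSub.idealMod D₁, W)) :
    OmegaSh.idealSect D₁ W σ * chi D₁ D₂ φ W τ = OmegaSh.idealSect D₁ W τ * chi D₁ D₂ φ W σ := by
  rw [← chi_smul, ← chi_smul]
  congr 1
  apply idealSect_injective D₁ W
  rw [idealSect_smul, idealSect_smul, mul_comm]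

end Chi

/-- An isomorphism of modules is injective on sections. -/
theorem iso_app_injective {M N : X.Modules} (φ : M ≅ N) (W : X.Opens) :
    Function.Injective (φ.hom.app W) := by
  intro a b hab
  have h : ∀ t : Γ(M, W), φ.inv.app W (φ.hom.app W t) = t := fun t => by
    rw [← ConcreteCategory.comp_apply, ← Scheme.Modules.Hom.comp_app, φ.hom_inv_id]
    rfl
  rw [← h a, ← h b, hab]

/-- **Main lemma.** If every regular global function on `X` is a unit, two ideal sheaves `D₂ ≤ D₁`, with `D₁`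
effective Cartier, whose ideal modules are isomorphic, are equal. -/
theorem eq_of_le_of_iso (hunit : ∀ g : Γ(X, ⊤), g ∈ nonZeroDivisors Γ(X, ⊤) → IsUnit g)
    (D₁ D₂ : X.IdealSheafData) (h₁ : BlowUp.IsEffCartierIdeal D₁) (hle : D₂ ≤ D₁)
    (φ : ClSub.idealMod D₁ ≅ ClSub.idealMod D₂) : D₁ = D₂ := by
  classical
  choose U hxU f hf hD₁ using h₁
  have hcov : ⨆ x, (U x).1 = ⊤ := top_le_iff.mp (fun x _ ↦ by simpa using ⟨x, hxU x⟩)
  have hσ : ∀ x, ∃ σ : Γ(ClSub.idealMod D₁, (U x).1), OmegaSh.idealSect D₁ (U x).1 σ = f x :=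
    fun x => Groth.Agent.H71.IdealInv.exists_idealSect_eq D₁ (U x).2 (f x)
      (by rw [hD₁]; exact Ideal.mem_span_singleton_self _)
  choose σ hσ using hσ
  have hc_mem : ∀ x, chi D₁ D₂ φ.hom (U x).1 (σ x) ∈ Ideal.span {f x} := fun x => by
    rw [← hD₁]
    exact hle (U x) (Groth.Agent.H71.IdealInv.idealSect_mem D₂ (U x).2 _)
  have hs : ∀ x, ∃ s : Γ(X, (U x).1), s * f x = chi D₁ D₂ φ.hom (U x).1 (σ x) := fun x =>
    Ideal.mem_span_singleton'.1 (hc_mem x)
  choose s hs using hs
  -- `c x` is a nonzerodivisor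
  have hc_nz : ∀ x, chi D₁ D₂ φ.hom (U x).1 (σ x) ∈ nonZeroDivisors Γ(X, (U x).1) := by
    intro x
    rw [mem_nonZeroDivisors_iff_right]
    intro r hr
    rw [← chi_smul] at hr
    have h1 : φ.hom.app (U x).1 (r • σ x) = 0 := by
      apply idealSect_injective D₂ (U x).1
      rw [map_zero]
      exact hr
    have h2 : r • σ x = 0 := by
      apply iso_app_injective φ (U x).1
      rw [h1, map_zero]
    have h3 : r * f x = 0 := by
      rw [← hσ x, ← idealSect_smul, h2, map_zero]
    exact (mem_nonZeroDivisors_iff_right.1 (hf x)) r h3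
  have hs_nz : ∀ x, s x ∈ nonZeroDivisors Γ(X, (U x).1) := by
    intro x
    rw [mem_nonZeroDivisors_iff_right]
    intro r hr
    refine (mem_nonZeroDivisors_iff_right.1 (hc_nz x)) r ?_
    rw [← hs x, ← mul_assoc, hr, zero_mul]
  -- compatibility of the local ratios
  have hcompat : TopCat.Presheaf.IsCompatible X.presheaf (fun x => (U x).1) s := by
    intro x y
    have hWx : (U x).1 ⊓ (U y).1 ≤ (U x).1 := inf_le_left
    have hWy : (U x).1 ⊓ (U y).1 ≤ (U y).1 := inf_le_right
    have hcr := cross D₁ D₂ φ.hom ((U x).1 ⊓ (U y).1)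
      ((ClSub.idealMod D₁).presheaf.map (homOfLE hWx).op (σ x))
      ((ClSub.idealMod D₁).presheaf.map (homOfLE hWy).op (σ y))
    rw [idealSect_map, idealSect_map, chi_map, chi_map, hσ, hσ, ← hs, ← hs, map_mul, map_mul] at hcr
    have hnz : X.presheaf.map (homOfLE hWx).op (f x) * X.presheaf.map (homOfLE hWy).op (f y) ∈
        nonZeroDivisors Γ(X, (U x).1 ⊓ (U y).1) :=
      mul_mem (res_mem_nonZeroDivisors (U x).2 hWx (hf x)) (res_mem_nonZeroDivisors (U y).2 hWy (hf y))
    have h0 : (X.presheaf.map (homOfLE hWx).op (s x) - X.presheaf.map (homOfLE hWy).op (s y)) *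
        (X.presheaf.map (homOfLE hWx).op (f x) * X.presheaf.map (homOfLE hWy).op (f y)) = 0 := by
      linear_combination (-1 : Γ(X, (U x).1 ⊓ (U y).1)) * hcr
    exact sub_eq_zero.1 ((mem_nonZeroDivisors_iff_right.1 hnz) _ h0)
  have hglue : ∃! g : Γ(X, (⊤ : X.Opens)), ∀ x,
      X.presheaf.map (homOfLE (le_top : (U x).1 ≤ ⊤)).op g = s x :=
    X.sheaf.existsUnique_gluing' (U := fun x => (U x).1) ⊤
      (fun x => homOfLE le_top) (by rw [hcov]) s hcompat
  obtain ⟨g, hg, -⟩ := hglue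
  -- `g` is a nonzerodivisor
  have hg_nz : g ∈ nonZeroDivisors Γ(X, ⊤) := by
    rw [mem_nonZeroDivisors_iff_right]
    intro t ht
    have hloc : ∀ x, X.presheaf.map (homOfLE (le_top : (U x).1 ≤ ⊤)).op t =
        X.presheaf.map (homOfLE (le_top : (U x).1 ≤ ⊤)).op 0 := by
      intro x
      rw [map_zero]
      refine (mem_nonZeroDivisors_iff_right.1 (hs_nz x)) _ ?_
      rw [← hg x, ← map_mul, ht, map_zero]
    exact X.sheaf.eq_of_locally_eq' (fun x => (U x).1) ⊤ (fun x => homOfLE le_top)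
      (by rw [hcov]) t 0 hloc
  have hg_unit := hunit g hg_nz
  refine le_antisymm (Scheme.IdealSheafData.le_of_iSup_eq_top U hcov fun x => ?_) hle
  rw [hD₁, Ideal.span_singleton_le_iff_mem]
  have hsx : IsUnit (s x) := by
    rw [← hg x]
    exact hg_unit.map _
  rw [← Ideal.unit_mul_mem_iff_mem _ hsx, hs x]
  exact Groth.Agent.H71.IdealInv.idealSect_mem D₂ (U x).2 _

end Groth.Agent.H44.CartierRatio
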