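import Mathlib.Algebra.Group.Subgroup.Ker
import Mathlib.Algebra.Group.Subgroup.Basic
import Mathlib.Tactic.Abel

/-!
# Two 3×3 diagram chases for additive groups
-/

set_option autoImplicit false

namespace Groth.Agent.H44

section
variable {F₁ F₂ F₃ G₁ G₂ G₃ H₁ H₂ H₃ : Type*}
  [AddCommGroup F₁] [AddCommGroup F₂] [AddCommGroup F₃]
  [AddCommGroup G₁] [AddCommGroup G₂] [AddCommGroup G₃]
  [AddCommGroup H₁] [AddCommGroup H₂] [AddCommGroup H₃]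
  (fF : F₁ →+ F₂) (gF : F₂ →+ F₃) (fG : G₁ →+ G₂) (gG : G₂ →+ G₃) (fH : H₁ →+ H₂) (gH : H₂ →+ H₃)
  (a₁ : F₁ →+ G₁) (a₂ : F₂ →+ G₂) (a₃ : F₃ →+ G₃) (b₁ : G₁ →+ H₁) (b₂ : G₂ →+ H₂) (b₃ : G₃ →+ H₃)

include fF in
/-- rows `F`, `G` right exact, columns short exact ⟹ row `H` right exact. -/
lemma chase_H
    (ca_g : ∀ x, a₃ (gF x) = gG (a₂ x))
    (cb_f : ∀ x, b₂ (fG x) = fH (b₁ x)) (cb_g : ∀ x, b₃ (gG x) = gH (b₂ x))
    (b₁_surj : Function.Surjective b₁) (b₂_surj : Function.Surjective b₂)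
    (b₃_surj : Function.Surjective b₃)
    (ex₃ : ∀ y, b₃ y = 0 → ∃ x, a₃ x = y)
    (ba₂ : ∀ x, b₂ (a₂ x) = 0)
    (gF_surj : Function.Surjective gF) (gG_surj : Function.Surjective gG)
    (exG : gG.ker = fG.range) :
    Function.Surjective gH ∧ gH.ker = fH.range := by
  have _ := fF
  constructor
  · intro z
    obtain ⟨y₃, rfl⟩ := b₃_surj z
    obtain ⟨y, rfl⟩ := gG_surj y₃
    exact ⟨b₂ y, (cb_g y).symm⟩
  · apply le_antisymm
    · intro z hz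
      rw [AddMonoidHom.mem_ker] at hz
      obtain ⟨y, rfl⟩ := b₂_surj z
      rw [← cb_g] at hz
      obtain ⟨x₃, hx₃⟩ := ex₃ _ hz
      obtain ⟨x, rfl⟩ := gF_surj x₃
      have hy' : gG (y - a₂ x) = 0 := by rw [map_sub, ← ca_g, hx₃, sub_self]
      have : y - a₂ x ∈ fG.range := by rw [← exG]; exact hy'
      obtain ⟨y₁, hy₁⟩ := this
      refine ⟨b₁ y₁, ?_⟩
      rw [← cb_f, hy₁, map_sub, ba₂, sub_zero]
    · rintro _ ⟨z₁, rfl⟩
      rw [AddMonoidHom.mem_ker]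
      obtain ⟨y₁, rfl⟩ := b₁_surj z₁
      rw [← cb_f, ← cb_g]
      have : fG y₁ ∈ gG.ker := by rw [exG]; exact ⟨y₁, rfl⟩
      rw [AddMonoidHom.mem_ker] at this
      rw [this, map_zero]

/-- rows `F`, `H` right exact, columns short exact, `gG ∘ fG = 0` ⟹ row `G` right exact. -/
lemma chase_G
    (ca_f : ∀ x, a₂ (fF x) = fG (a₁ x)) (ca_g : ∀ x, a₃ (gF x) = gG (a₂ x))
    (cb_f : ∀ x, b₂ (fG x) = fH (b₁ x)) (cb_g : ∀ x, b₃ (gG x) = gH (b₂ x))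
    (a₃_inj : Function.Injective a₃)
    (b₁_surj : Function.Surjective b₁) (b₂_surj : Function.Surjective b₂)
    (ex₂ : ∀ y, b₂ y = 0 → ∃ x, a₂ x = y) (ex₃ : ∀ y, b₃ y = 0 → ∃ x, a₃ x = y)
    (gF_surj : Function.Surjective gF) (exF : gF.ker = fF.range)
    (gH_surj : Function.Surjective gH) (exH : gH.ker = fH.range)
    (zG : ∀ x, gG (fG x) = 0) :
    Function.Surjective gG ∧ gG.ker = fG.range := by
  constructor
  · intro y₃
    obtain ⟨z, hz⟩ := gH_surj (b₃ y₃)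
    obtain ⟨y, rfl⟩ := b₂_surj z
    have h0 : b₃ (gG y - y₃) = 0 := by rw [map_sub, cb_g, hz, sub_self]
    obtain ⟨x₃, hx₃⟩ := ex₃ _ h0
    obtain ⟨x, rfl⟩ := gF_surj x₃
    refine ⟨y - a₂ x, ?_⟩
    rw [map_sub, ← ca_g, hx₃]
    abel
  · apply le_antisymm
    · intro y hy
      rw [AddMonoidHom.mem_ker] at hy
      have hz : b₂ y ∈ gH.ker := by rw [AddMonoidHom.mem_ker, ← cb_g, hy, map_zero]
      rw [exH] at hz
      obtain ⟨z₁, hz₁⟩ := hz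
      obtain ⟨y₁, rfl⟩ := b₁_surj z₁
      have h0 : b₂ (y - fG y₁) = 0 := by rw [map_sub, cb_f, hz₁, sub_self]
      obtain ⟨x, hx⟩ := ex₂ _ h0
      have hx0 : gF x = 0 := by
        apply a₃_inj
        rw [ca_g, hx, map_sub, hy, zG, sub_self, map_zero]
      have : x ∈ fF.range := by rw [← exF]; exact hx0
      obtain ⟨x₁, rfl⟩ := this
      refine ⟨y₁ + a₁ x₁, ?_⟩
      rw [map_add, ← ca_f, hx]
      abel
    · rintro _ ⟨y₁, rfl⟩
      exact zG y₁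

end

end Groth.Agent.H44
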