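import Groth.Agent.H44.ComplQuot
import Groth.Agent.H20.ComplNoeth2
import Groth.Agent.H20.AdicQuot
import Mathlib.RingTheory.Localization.Away.Basic
import Mathlib.RingTheory.Localization.Ideal

set_option autoImplicit false
universe u

namespace Groth.Agent.H44

section

variable {A : Type u} [CommRing A]

/-- If `f * u - 1 ∈ p` then `(f * u) ^ k - 1 ∈ p`. -/
lemma pow_sub_one_mem_of_sub_one_mem (p : Ideal A) (x : A) (hx : x - 1 ∈ p) (k : ℕ) :
    x ^ k - 1 ∈ p := by
  have h : x ^ k - 1 = (x - 1) * ∑ i ∈ Finset.range k, x ^ i := by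
    rw [mul_comm]; exact (geom_sum_mul x k).symm
  rw [h]
  exact Ideal.mul_mem_right _ _ hx

/-- If `f` is invertible modulo `p` (with inverse `u`) and `f ^ N * a ∈ p ⊔ K`, then
`a ∈ p ⊔ K`. -/
lemma mem_sup_of_pow_mul_mem (p K : Ideal A) (f u : A) (hu : f * u - 1 ∈ p) (N : ℕ) (a : A)
    (h : f ^ N * a ∈ p ⊔ K) : a ∈ p ⊔ K := by
  have h1 : (f * u) ^ N - 1 ∈ p := pow_sub_one_mem_of_sub_one_mem p _ hu N
  have h2 : a = u ^ N * (f ^ N * a) - ((f * u) ^ N - 1) * a := by ring
  rw [h2]
  exact Ideal.sub_mem _ (Ideal.mul_mem_left _ _ h)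
    (Ideal.mem_sup_left (Ideal.mul_mem_right _ _ h1))

/-- Contraction from `A_f` of the extension of `p ⊔ K` when `f` is invertible modulo `p`. -/
lemma mem_sup_of_algebraMap_mem_map (p K : Ideal A) (f u : A) (hu : f * u - 1 ∈ p) (a : A)
    (h : algebraMap A (Localization.Away f) a ∈
      (p ⊔ K).map (algebraMap A (Localization.Away f))) : a ∈ p ⊔ K := by
  rw [IsLocalization.mem_map_algebraMap_iff (Submonoid.powers f)] at h
  obtain ⟨⟨⟨b, hb⟩, ⟨s, k, rfl⟩⟩, hbs⟩ := h
  simp only at hbs
  rw [← map_mul, IsLocalization.eq_iff_exists (Submonoid.powers f)] at hbs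
  obtain ⟨⟨c, m, rfl⟩, hc⟩ := hbs
  simp only at hc
  apply mem_sup_of_pow_mul_mem p K f u hu (m + k) a
  have : f ^ (m + k) * a = f ^ m * b := by rw [← hc]; ring
  rw [this]
  exact Ideal.mul_mem_left _ _ hb

/-- Every element of `A_f` is congruent modulo `p A_f` to an element of `A`,
when `f` is invertible modulo `p`. -/
lemma exists_algebraMap_sub_mem_map (p : Ideal A) (f u : A) (hu : f * u - 1 ∈ p)
    (r : Localization.Away f) :
    ∃ a : A, algebraMap A (Localization.Away f) a - r ∈
      p.map (algebraMap A (Localization.Away f)) := by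
  obtain ⟨⟨a', ⟨s, k, rfl⟩⟩, hr⟩ := IsLocalization.surj (Submonoid.powers f) r
  simp only at hr
  refine ⟨a' * u ^ k, ?_⟩
  have h1 : (f * u) ^ k - 1 ∈ p := pow_sub_one_mem_of_sub_one_mem p _ hu k
  have h2 : algebraMap A (Localization.Away f) (a' * u ^ k) - r =
      r * algebraMap A (Localization.Away f) ((f * u) ^ k - 1) := by
    rw [map_mul, ← hr]
    simp only [map_sub, map_mul, map_pow, map_one]
    ring
  rw [h2]
  exact Ideal.mul_mem_left _ _ (Ideal.mem_map_of_mem _ h1)

end

section

variable {A : Type u} [CommRing A] [IsNoetherianRing A] (I : Ideal A) [IsAdicComplete I A]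
  (p : Ideal A) (f u : A)

local notation "Rf" => Localization.Away f
local notation "Jf" => Ideal.map (algebraMap A (Localization.Away f)) I
local notation "Tf" => AdicCompletion (Ideal.map (algebraMap A (Localization.Away f)) I)
  (Localization.Away f)

/-- For `A` Noetherian and `I`-adically complete and `f` invertible modulo `p`, the canonical map
`A ⧸ p → A_{f} ⧸ p A_{f}` to the completed localization is bijective. -/
theorem quotientMap_completedLocalization_bijective (hu : f * u - 1 ∈ p) :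
    Function.Bijective (Ideal.quotientMap (p.map (algebraMap A Tf)) (algebraMap A Tf)
      Ideal.le_comap_map) := by
  have : IsNoetherianRing Rf :=
    IsLocalization.isNoetherianRing (Submonoid.powers f) _ inferInstance
  have hJfg : (Jf).FG := Ideal.FG.map (IsNoetherian.noetherian I) _
  have hcomp : algebraMap A Tf = (algebraMap Rf Tf).comp (algebraMap A Rf) := rfl
  have hmap : ∀ K : Ideal A, K.map (algebraMap A Tf) =
      (K.map (algebraMap A Rf)).map (algebraMap Rf Tf) := by
    intro K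
    rw [Ideal.map_map, hcomp]
  have : IsAdicComplete (I.map (algebraMap A Tf)) Tf := by
    rw [hmap]
    exact AdicCompletion.isAdicComplete_self _ hJfg
  have hker : ∀ n : ℕ, RingHom.ker (AdicCompletion.evalₐ Jf n : Tf →+* Rf ⧸ Jf ^ n) =
      (I ^ n).map (algebraMap A Tf) := by
    intro n
    rw [Groth.Agent.H20.ker_evalₐ_eq_map _ hJfg n, hmap, Ideal.map_pow (algebraMap A Rf)]
  apply quotientMap_bijective_of_complete I p
  · intro t
    obtain ⟨r, hr⟩ := Ideal.Quotient.mk_surjective (AdicCompletion.evalₐ Jf 1 t)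
    obtain ⟨a, ha⟩ := exists_algebraMap_sub_mem_map p f u hu r
    refine ⟨a, ?_⟩
    have h1 : algebraMap A Tf a - t =
        algebraMap Rf Tf (algebraMap A Rf a - r) + (algebraMap Rf Tf r - t) := by
      rw [hcomp, RingHom.comp_apply, map_sub]; ring
    rw [h1]
    apply Ideal.add_mem
    · apply Ideal.mem_sup_left
      rw [hmap]
      exact Ideal.mem_map_of_mem _ ha
    · apply Ideal.mem_sup_right
      have : I.map (algebraMap A Tf) = (I ^ 1).map (algebraMap A Tf) := by rw [pow_one]
      rw [this, ← hker 1, RingHom.mem_ker, map_sub, sub_eq_zero]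
      exact (AdicCompletion.evalₐ_of _ 1 r).trans hr
  · intro n a ha
    apply mem_sup_of_algebraMap_mem_map p (I ^ n) f u hu a
    have h2 := Ideal.mem_map_of_mem (AdicCompletion.evalₐ Jf n : Tf →+* Rf ⧸ Jf ^ n) ha
    have h3 : ((I ^ n).map (algebraMap A Tf)).map
        (AdicCompletion.evalₐ Jf n : Tf →+* Rf ⧸ Jf ^ n) = ⊥ := by
      rw [Ideal.map_eq_bot_iff_le_ker, hker n]
    rw [Ideal.map_sup, h3, sup_bot_eq, hmap, Ideal.map_map] at h2
    have h4 : ((AdicCompletion.evalₐ Jf n : Tf →+* Rf ⧸ Jf ^ n).comp (algebraMap Rf Tf)) =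
        Ideal.Quotient.mk (Jf ^ n) := by
      ext r
      exact AdicCompletion.evalₐ_of _ n r
    rw [h4] at h2
    have h5 : (AdicCompletion.evalₐ Jf n : Tf →+* Rf ⧸ Jf ^ n) (algebraMap A Tf a) =
        Ideal.Quotient.mk (Jf ^ n) (algebraMap A Rf a) :=
      AdicCompletion.evalₐ_of _ n _
    rw [h5, Ideal.mem_quotient_iff_mem_sup, ← Ideal.map_pow, ← Ideal.map_sup] at h2
    exact h2

end

end Groth.Agent.H44
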