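import Groth.Agent.H44.AdicLemmas
import Mathlib.RingTheory.AdicCompletion.Functoriality
import Mathlib.RingTheory.Ideal.Quotient.Operations

set_option autoImplicit false
universe u

namespace Groth.Agent.H44

section

variable {A : Type*} [CommRing A] [IsNoetherianRing A] (I : Ideal A) [IsAdicComplete I A]
  (p : Ideal A) {T : Type*} [CommRing T] [Algebra A T] [IsNoetherianRing T]
  [IsAdicComplete (I.map (algebraMap A T)) T]

/-- A criterion for `A ⧸ p → T ⧸ pT` to be bijective, for complete Noetherian `A` and `T`. -/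
theorem quotientMap_bijective_of_complete
    (h1 : ∀ t : T, ∃ a : A, algebraMap A T a - t ∈
      p.map (algebraMap A T) ⊔ I.map (algebraMap A T))
    (h2 : ∀ (n : ℕ) (a : A), algebraMap A T a ∈
      p.map (algebraMap A T) ⊔ (I ^ n).map (algebraMap A T) → a ∈ p ⊔ I ^ n) :
    Function.Bijective (Ideal.quotientMap (p.map (algebraMap A T)) (algebraMap A T)
      Ideal.le_comap_map : A ⧸ p →+* T ⧸ p.map (algebraMap A T)) := by
  constructor
  · -- injectivity
    rw [injective_iff_map_eq_zero]
    intro x hx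
    obtain ⟨a, rfl⟩ := Ideal.Quotient.mk_surjective x
    rw [Ideal.quotientMap_mk, Ideal.Quotient.eq_zero_iff_mem] at hx
    have hall : ∀ n : ℕ, a ∈ p ⊔ I ^ n := fun n => h2 n a (Ideal.mem_sup_left hx)
    have hcompl : IsAdicComplete (I.map (Ideal.Quotient.mk p)) (A ⧸ p) :=
      isAdicComplete_quotient I p
    apply IsHausdorff.haus hcompl.toIsHausdorff
    intro n
    rw [SModEq.zero, smul_eq_mul, Ideal.mul_top, ← Ideal.map_pow]
    obtain ⟨x, hx, y, hy, hxy⟩ := Submodule.mem_sup.mp (hall n)
    rw [← hxy, map_add, Ideal.Quotient.eq_zero_iff_mem.mpr hx, zero_add]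
    exact Ideal.mem_map_of_mem _ hy
  · -- surjectivity
    let φ : A →+* T ⧸ p.map (algebraMap A T) :=
      (Ideal.Quotient.mk (p.map (algebraMap A T))).comp (algebraMap A T)
    have hmap : I.map φ =
        (I.map (algebraMap A T)).map (Ideal.Quotient.mk (p.map (algebraMap A T))) := by
      rw [Ideal.map_map]
    have hcompl : IsAdicComplete (I.map φ) (T ⧸ p.map (algebraMap A T)) := by
      rw [hmap]
      exact isAdicComplete_quotient _ _
    have hφ : Function.Surjective φ := by
      apply surjective_of_mk_map_comp_surjective (I := I) φ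
      intro s
      obtain ⟨s, rfl⟩ := Ideal.Quotient.mk_surjective s
      obtain ⟨t, rfl⟩ := Ideal.Quotient.mk_surjective s
      obtain ⟨a, ha⟩ := h1 t
      refine ⟨a, ?_⟩
      rw [RingHom.comp_apply, Ideal.Quotient.eq, hmap]
      change Ideal.Quotient.mk _ (algebraMap A T a) - Ideal.Quotient.mk _ t ∈ _
      rw [← map_sub]
      obtain ⟨x, hx, y, hy, hxy⟩ := Submodule.mem_sup.mp ha
      rw [← hxy, map_add, Ideal.Quotient.eq_zero_iff_mem.mpr hx, zero_add]
      exact Ideal.mem_map_of_mem _ hy
    intro s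
    obtain ⟨a, rfl⟩ := hφ s
    exact ⟨Ideal.Quotient.mk p a, rfl⟩

end

end Groth.Agent.H44
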