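import Mathlib.RingTheory.Smooth.Kaehler
import Mathlib.RingTheory.Smooth.Basic

/-!
# The conormal sequence, algebraically, in tensor form (helper44)

For `R → A → B` with `A → B` surjective with kernel `I`: the map
`B ⊗[A] I → B ⊗[A] Ω[A/R]`, `b ⊗ x ↦ b ⊗ D x`, its exactness with `mapBaseChange`, and its
injectivity when `B` is formally smooth over `R` or when `A → B` has an `R`-algebra section.
-/

set_option autoImplicit false
universe u
open TensorProduct KaehlerDifferential Function

namespace Groth.Agent.H44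

section
variable (R A B : Type u) [CommRing R] [CommRing A] [CommRing B] [Algebra R A] [Algebra A B]

/-- `B ⊗[A] I → B ⊗[A] Ω[A/R]`, `b ⊗ x ↦ b ⊗ D x`. -/
noncomputable def conormalToTensor :
    B ⊗[A] (RingHom.ker (algebraMap A B)) →ₗ[B] B ⊗[A] Ω[A⁄R] :=
  (kerToTensor R A B).liftBaseChange B

theorem conormalToTensor_tmul (b : B) (x : RingHom.ker (algebraMap A B)) :
    conormalToTensor R A B (b ⊗ₜ x) = b ⊗ₜ D R A (x : A) := by
  rw [conormalToTensor, LinearMap.liftBaseChange_tmul, kerToTensor_apply, smul_tmul', smul_eq_mul,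
    mul_one]

variable {A B} in
theorem exists_one_tmul_eq (h : Surjective (algebraMap A B))
    (t : B ⊗[A] (RingHom.ker (algebraMap A B))) :
    ∃ x : RingHom.ker (algebraMap A B), t = 1 ⊗ₜ x := by
  induction t using TensorProduct.induction_on with
  | zero => exact ⟨0, (tmul_zero _ _).symm⟩
  | tmul b x =>
    obtain ⟨a, rfl⟩ := h b
    refine ⟨a • x, ?_⟩
    rw [← smul_tmul, Algebra.algebraMap_eq_smul_one]
  | add x y hx hy =>
    obtain ⟨x', rfl⟩ := hx
    obtain ⟨y', rfl⟩ := hy
    exact ⟨x' + y', (tmul_add _ _ _).symm⟩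

theorem conormalToTensor_one_tmul (x : RingHom.ker (algebraMap A B)) :
    conormalToTensor R A B (1 ⊗ₜ x) = kerCotangentToTensor R A B (Ideal.toCotangent _ x) := by
  rw [conormalToTensor_tmul, kerCotangentToTensor_toCotangent]

variable [Algebra R B] [IsScalarTower R A B]

theorem exact_conormalToTensor_mapBaseChange (h : Surjective (algebraMap A B)) :
    Function.Exact (conormalToTensor R A B) (mapBaseChange R A B) := by
  intro y
  rw [exact_kerCotangentToTensor_mapBaseChange R A B h y]
  constructor
  · rintro ⟨ζ, rfl⟩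
    obtain ⟨x, rfl⟩ := Ideal.toCotangent_surjective _ ζ
    exact ⟨1 ⊗ₜ x, conormalToTensor_one_tmul R A B x⟩
  · rintro ⟨t, rfl⟩
    obtain ⟨x, rfl⟩ := exists_one_tmul_eq h t
    exact ⟨Ideal.toCotangent _ x, (conormalToTensor_one_tmul R A B x).symm⟩

omit [Algebra R B] [IsScalarTower R A B] in
theorem conormalToTensor_injective_of_retraction (h : Surjective (algebraMap A B))
    (l : B ⊗[A] Ω[A⁄R] →ₗ[A] (RingHom.ker (algebraMap A B)).Cotangent)
    (hl : l ∘ₗ kerCotangentToTensor R A B = LinearMap.id) :
    Injective (conormalToTensor R A B) := by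
  rw [injective_iff_map_eq_zero]
  intro t ht
  obtain ⟨x, rfl⟩ := exists_one_tmul_eq h t
  rw [conormalToTensor_one_tmul] at ht
  have h0 : Ideal.toCotangent _ x = 0 := by
    have := congrArg l ht
    rw [map_zero, ← LinearMap.comp_apply, hl] at this
    exact this
  have hx : x ∈ (RingHom.ker (algebraMap A B)) • (⊤ : Submodule A (RingHom.ker (algebraMap A B))) :=
    (Submodule.Quotient.mk_eq_zero _).1 h0
  refine Submodule.smul_induction_on hx (fun a ha y _ => ?_) (fun y z hy hz => ?_)
  · rw [← smul_tmul, Algebra.smul_def, mul_one, RingHom.mem_ker.1 ha, zero_tmul]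
  · rw [tmul_add, hy, hz, add_zero]

theorem conormalToTensor_injective_of_section (h : Surjective (algebraMap A B))
    (g : B →ₐ[R] A) (hg : ∀ b, algebraMap A B (g b) = b) :
    Injective (conormalToTensor R A B) := by
  let g' : B →ₐ[R] A ⧸ (RingHom.ker (algebraMap A B)) ^ 2 := (Ideal.Quotient.mkₐ R _).comp g
  have hg' : (IsScalarTower.toAlgHom R A B).kerSquareLift.comp g' = AlgHom.id R B := by
    ext b
    exact hg b
  obtain ⟨l, hl⟩ := (retractionKerCotangentToTensorEquivSection (R := R) h).symm ⟨g', hg'⟩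
  exact conormalToTensor_injective_of_retraction R A B h l hl

theorem conormalToTensor_injective_of_formallySmooth (h : Surjective (algebraMap A B))
    [Algebra.FormallySmooth R B] : Injective (conormalToTensor R A B) := by
  have hsurj : Surjective (IsScalarTower.toAlgHom R A B).kerSquareLift := by
    intro b
    obtain ⟨a, rfl⟩ := h b
    exact ⟨Ideal.Quotient.mk _ a, rfl⟩
  have hnil : IsNilpotent (RingHom.ker ((IsScalarTower.toAlgHom R A B).kerSquareLift :
      A ⧸ (RingHom.ker (IsScalarTower.toAlgHom R A B).toRingHom) ^ 2 →+* B)) := by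
    refine ⟨2, ?_⟩
    have := (IsScalarTower.toAlgHom R A B).ker_kerSquareLift
    rw [show RingHom.ker ((IsScalarTower.toAlgHom R A B).kerSquareLift :
      A ⧸ (RingHom.ker (IsScalarTower.toAlgHom R A B).toRingHom) ^ 2 →+* B) =
      RingHom.ker (IsScalarTower.toAlgHom R A B).kerSquareLift.toRingHom from rfl, this,
      Ideal.cotangentIdeal_square]
    rfl
  let g' := Algebra.FormallySmooth.liftOfSurjective (AlgHom.id R B)
    (IsScalarTower.toAlgHom R A B).kerSquareLift hsurj hnil
  have hg' : (IsScalarTower.toAlgHom R A B).kerSquareLift.comp g' = AlgHom.id R B :=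
    Algebra.FormallySmooth.comp_liftOfSurjective _ _ hsurj hnil
  obtain ⟨l, hl⟩ := (retractionKerCotangentToTensorEquivSection (R := R) h).symm ⟨g', hg'⟩
  exact conormalToTensor_injective_of_retraction R A B h l hl

end

end Groth.Agent.H44
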