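import Groth.Agent.H44.ConormalAlg

/-!
# The sequence `C_{Z/Y} → C_{Z/X} → i^*Ω_{X/Y} → 0`, algebraically (helper44)

For `R → A → B` with `R → B` (hence `A → B`) surjective, `J = ker (R → B)`, `I = ker (A → B)`:
`B ⊗[R] J → B ⊗[A] I → B ⊗[A] Ω[A/R] → 0` is exact.
-/

set_option autoImplicit false
universe u
open TensorProduct KaehlerDifferential Function

namespace Groth.Agent.H44

section
variable (R A B : Type u) [CommRing R] [CommRing A] [CommRing B] [Algebra R A] [Algebra A B]
  [Algebra R B] [IsScalarTower R A B]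

theorem algebraMap_mem_ker (r : RingHom.ker (algebraMap R B)) :
    algebraMap R A (r : R) ∈ RingHom.ker (algebraMap A B) := by
  rw [RingHom.mem_ker, ← IsScalarTower.algebraMap_apply]
  exact r.2

/-- `J → B ⊗[A] I`, `r ↦ 1 ⊗ r`. -/
noncomputable def kerToConormal :
    RingHom.ker (algebraMap R B) →ₗ[R] B ⊗[A] (RingHom.ker (algebraMap A B)) where
  toFun r := 1 ⊗ₜ ⟨algebraMap R A (r : R), algebraMap_mem_ker R A B r⟩
  map_add' r s := by
    rw [← tmul_add]
    congr 1
    ext
    simp
  map_smul' s r := by
    rw [RingHom.id_apply, ← tmul_smul]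
    congr 1
    ext
    simp [Algebra.smul_def]

/-- `B ⊗[R] J → B ⊗[A] I`, `b ⊗ r ↦ b ⊗ r`. -/
noncomputable def conormalMap :
    B ⊗[R] (RingHom.ker (algebraMap R B)) →ₗ[B] B ⊗[A] (RingHom.ker (algebraMap A B)) :=
  (kerToConormal R A B).liftBaseChange B

theorem conormalMap_tmul (b : B) (r : RingHom.ker (algebraMap R B)) :
    conormalMap R A B (b ⊗ₜ r) =
      b ⊗ₜ ⟨algebraMap R A (r : R), algebraMap_mem_ker R A B r⟩ := by
  rw [conormalMap, LinearMap.liftBaseChange_tmul]
  change b • ((1 : B) ⊗ₜ[A] _) = _
  rw [smul_tmul', smul_eq_mul, mul_one]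

theorem conormalToTensor_conormalMap (t : B ⊗[R] (RingHom.ker (algebraMap R B))) :
    conormalToTensor R A B (conormalMap R A B t) = 0 := by
  induction t using TensorProduct.induction_on with
  | zero => simp
  | tmul b r =>
    rw [conormalMap_tmul, conormalToTensor_tmul]
    change b ⊗ₜ[A] D R A (algebraMap R A (r : R)) = 0
    rw [Derivation.map_algebraMap, tmul_zero]
  | add x y hx hy => rw [map_add, map_add, hx, hy, add_zero]

variable {R A B} in
theorem surjective_of_surjective_base (hRB : Surjective (algebraMap R B)) :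
    Surjective (algebraMap A B) := by
  intro b
  obtain ⟨r, rfl⟩ := hRB b
  exact ⟨algebraMap R A r, (IsScalarTower.algebraMap_apply R A B r).symm⟩

theorem conormalToTensor_surjective (hRB : Surjective (algebraMap R B)) :
    Surjective (conormalToTensor R A B) := by
  intro t
  induction t using TensorProduct.induction_on with
  | zero => exact ⟨0, map_zero _⟩
  | add x y hx hy =>
    obtain ⟨x', rfl⟩ := hx
    obtain ⟨y', rfl⟩ := hy
    exact ⟨x' + y', map_add _ _ _⟩
  | tmul b ω =>
    have hω : ω ∈ Submodule.span A (Set.range (D R A)) := by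
      rw [span_range_derivation]; trivial
    induction hω using Submodule.span_induction generalizing b with
    | mem ω hω =>
      obtain ⟨a, rfl⟩ := hω
      obtain ⟨r, hr⟩ := hRB (algebraMap A B a)
      have hx : a - algebraMap R A r ∈ RingHom.ker (algebraMap A B) := by
        rw [RingHom.mem_ker, map_sub, ← IsScalarTower.algebraMap_apply, hr, sub_self]
      refine ⟨b ⊗ₜ ⟨a - algebraMap R A r, hx⟩, ?_⟩
      rw [conormalToTensor_tmul]
      change b ⊗ₜ[A] D R A (a - algebraMap R A r) = _
      rw [map_sub, Derivation.map_algebraMap, sub_zero]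
    | zero => exact ⟨0, by rw [map_zero, tmul_zero]⟩
    | add x y _ _ hx hy =>
      obtain ⟨x', hx'⟩ := hx b
      obtain ⟨y', hy'⟩ := hy b
      exact ⟨x' + y', by rw [map_add, hx', hy', tmul_add]⟩
    | smul a x _ hx =>
      obtain ⟨x', hx'⟩ := hx (a • b)
      exact ⟨x', by rw [hx', smul_tmul]⟩

/-- The cokernel of `conormalMap`. -/
abbrev ConormalCoker : Type u :=
  (B ⊗[A] (RingHom.ker (algebraMap A B))) ⧸ LinearMap.range (conormalMap R A B)

noncomputable def cokerMk : RingHom.ker (algebraMap A B) →ₗ[A] ConormalCoker R A B :=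
  ((LinearMap.range (conormalMap R A B)).mkQ.restrictScalars A) ∘ₗ
    (TensorProduct.mk A B (RingHom.ker (algebraMap A B)) 1)

theorem cokerMk_apply (x : RingHom.ker (algebraMap A B)) :
    cokerMk R A B x = Submodule.Quotient.mk (1 ⊗ₜ x) := rfl

theorem cokerMk_mul (x y : RingHom.ker (algebraMap A B)) :
    cokerMk R A B ((x : A) • y) = 0 := by
  rw [cokerMk_apply, ← smul_tmul, Algebra.smul_def, mul_one, RingHom.mem_ker.1 x.2, zero_tmul,
    Submodule.Quotient.mk_zero]

theorem cokerMk_algebraMap (r : RingHom.ker (algebraMap R B)) :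
    cokerMk R A B ⟨algebraMap R A (r : R), algebraMap_mem_ker R A B r⟩ = 0 := by
  rw [cokerMk_apply, Submodule.Quotient.mk_eq_zero]
  exact ⟨1 ⊗ₜ r, conormalMap_tmul R A B 1 r⟩

variable {R A B}
variable (hRB : Surjective (algebraMap R B))

/-- The `R`-part of an element of `A`. -/
noncomputable def rPart (a : A) : R := surjInv hRB (algebraMap A B a)

theorem sub_rPart_mem (a : A) : a - algebraMap R A (rPart hRB a) ∈ RingHom.ker (algebraMap A B) := by
  rw [RingHom.mem_ker, map_sub, ← IsScalarTower.algebraMap_apply, rPart, surjInv_eq hRB, sub_self]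

/-- The `I`-part of an element of `A`. -/
noncomputable def iPart (a : A) : RingHom.ker (algebraMap A B) :=
  ⟨a - algebraMap R A (rPart hRB a), sub_rPart_mem hRB a⟩

noncomputable def δfun (a : A) : ConormalCoker R A B := cokerMk R A B (iPart hRB a)

theorem δfun_eq (a : A) (r : R) (x : RingHom.ker (algebraMap A B))
    (h : a = algebraMap R A r + x) : δfun hRB a = cokerMk R A B x := by
  have hj : rPart hRB a - r ∈ RingHom.ker (algebraMap R B) := by
    rw [RingHom.mem_ker, map_sub, rPart, surjInv_eq hRB, h, map_add,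
      ← IsScalarTower.algebraMap_apply, RingHom.mem_ker.1 x.2, add_zero, sub_self]
  have hx : x = iPart hRB a +
      ⟨algebraMap R A ((⟨rPart hRB a - r, hj⟩ : RingHom.ker (algebraMap R B)) : R),
        algebraMap_mem_ker R A B _⟩ := by
    ext
    change (x : A) = (a - algebraMap R A (rPart hRB a)) + algebraMap R A (rPart hRB a - r)
    rw [h, map_sub]
    ring
  rw [hx, map_add, cokerMk_algebraMap, add_zero]
  rfl

theorem decomp (a : A) : a = algebraMap R A (rPart hRB a) + (iPart hRB a : A) := by
  change a = _ + (a - _)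
  ring


/-- The derivation `A → coker`, `r + x ↦ [1 ⊗ x]`. -/
noncomputable def δder : Derivation R A (ConormalCoker R A B) where
  toFun := δfun hRB
  map_add' a a' := by
    rw [δfun_eq hRB (a + a') (rPart hRB a + rPart hRB a') (iPart hRB a + iPart hRB a') (by
      rw [map_add]
      conv_lhs => rw [decomp hRB a, decomp hRB a']
      push_cast
      ring), map_add]
    rfl
  map_smul' s a := by
    rw [RingHom.id_apply, δfun_eq hRB (s • a) (s * rPart hRB a) (algebraMap R A s • iPart hRB a) (by
      rw [map_mul]
      conv_lhs => rw [decomp hRB a]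
      rw [Algebra.smul_def]
      push_cast
      rw [smul_eq_mul]
      ring), _root_.map_smul, algebraMap_smul]
    rfl
  map_one_eq_zero' := by
    change δfun hRB 1 = 0
    rw [δfun_eq hRB 1 1 0 (by simp), map_zero]
  leibniz' a a' := by
    change δfun hRB (a * a') = a • δfun hRB a' + a' • δfun hRB a
    have ha := decomp hRB a
    have ha' := decomp hRB a'
    rw [δfun_eq hRB (a * a') (rPart hRB a * rPart hRB a')
      (a • iPart hRB a' + a' • iPart hRB a - (iPart hRB a : A) • iPart hRB a') (by
        rw [map_mul]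
        push_cast
        rw [smul_eq_mul, smul_eq_mul, smul_eq_mul]
        generalize (iPart hRB a : A) = x at ha ⊢
        generalize (iPart hRB a' : A) = x' at ha' ⊢
        generalize algebraMap R A (rPart hRB a) = r at ha ⊢
        generalize algebraMap R A (rPart hRB a') = r' at ha' ⊢
        subst ha ha'
        ring), map_sub, map_add, _root_.map_smul, _root_.map_smul, cokerMk_mul, sub_zero]
    rfl

theorem δder_apply_ker (x : RingHom.ker (algebraMap A B)) :
    δder hRB (x : A) = cokerMk R A B x :=
  δfun_eq hRB (x : A) 0 x (by simp)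


include hRB in
theorem exact_conormalMap_conormalToTensor :
    Function.Exact (conormalMap R A B) (conormalToTensor R A B) := by
  intro t
  constructor
  · intro ht
    obtain ⟨x, rfl⟩ := exists_one_tmul_eq (surjective_of_surjective_base hRB) t
    rw [conormalToTensor_tmul] at ht
    let l : B ⊗[A] Ω[A⁄R] →ₗ[B] ConormalCoker R A B :=
      (δder hRB).liftKaehlerDifferential.liftBaseChange B
    have h := congrArg l ht
    rw [map_zero, LinearMap.liftBaseChange_tmul, one_smul, Derivation.liftKaehlerDifferential_comp_D,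
      δder_apply_ker, cokerMk_apply, Submodule.Quotient.mk_eq_zero] at h
    exact h
  · rintro ⟨s, rfl⟩
    exact conormalToTensor_conormalMap R A B s

end

end Groth.Agent.H44
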