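import Groth.Agent.H44.ConormalAlg2
import Mathlib.LinearAlgebra.TensorProduct.Quotient

/-!
# `J/J² → I/I²` is injective for a formally smooth middle ring (helper44)

`one_tmul_eq_zero_iff`, `conormalMap_injective_of_formallySmooth`.
-/
set_option autoImplicit false
universe u
open TensorProduct KaehlerDifferential Function

namespace Groth.Agent.H44

section
variable {A B : Type u} [CommRing A] [CommRing B] [Algebra A B]

/-- For `A → B` surjective with kernel `I`: `B ⊗[A] I → I/I²`, `1 ⊗ x ↦ [x]`. -/
theorem exists_tensorToCotangent (h : Surjective (algebraMap A B)) :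
    ∃ T : B ⊗[A] (RingHom.ker (algebraMap A B)) →ₗ[A] (RingHom.ker (algebraMap A B)).Cotangent,
      ∀ x, T (1 ⊗ₜ x) = Ideal.toCotangent _ x := by
  let I := RingHom.ker (algebraMap A B)
  let q : (A ⧸ I) →ₗ[A] B := Submodule.liftQ I (Algebra.linearMap A B) (fun a ha => by
    rw [LinearMap.mem_ker]
    exact ha)
  have hq : Bijective q := by
    constructor
    · rw [← LinearMap.ker_eq_bot, Submodule.ker_liftQ_eq_bot']
      ext a
      rfl
    · intro b
      obtain ⟨a, rfl⟩ := h b
      exact ⟨Submodule.Quotient.mk a, rfl⟩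
  let e : (A ⧸ I) ≃ₗ[A] B := LinearEquiv.ofBijective q hq
  have he1 : e.symm 1 = Ideal.Quotient.mk I 1 := by
    rw [LinearEquiv.symm_apply_eq]
    change (1 : B) = algebraMap A B 1
    rw [map_one]
  refine ⟨((LinearEquiv.rTensor I e.symm) ≪≫ₗ quotTensorEquivQuotSMul I I).toLinearMap, fun x => ?_⟩
  change quotTensorEquivQuotSMul I I ((LinearEquiv.rTensor I e.symm) (1 ⊗ₜ x)) = _
  rw [LinearEquiv.rTensor_tmul, he1, quotTensorEquivQuotSMul_mk_tmul, one_smul]
  rfl

theorem one_tmul_eq_zero_iff (h : Surjective (algebraMap A B)) (x : RingHom.ker (algebraMap A B)) :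
    ((1 : B) ⊗ₜ[A] x = 0) ↔ (x : A) ∈ (RingHom.ker (algebraMap A B)) ^ 2 := by
  rw [← Ideal.toCotangent_eq_zero]
  constructor
  · intro hx
    obtain ⟨T, hT⟩ := exists_tensorToCotangent h
    rw [← hT, hx, map_zero]
  · intro h0
    have hx : x ∈ (RingHom.ker (algebraMap A B)) •
        (⊤ : Submodule A (RingHom.ker (algebraMap A B))) :=
      (Submodule.Quotient.mk_eq_zero _).1 h0
    refine Submodule.smul_induction_on hx (fun a ha y _ => ?_) (fun y z hy hz => ?_)
    · rw [← smul_tmul, Algebra.smul_def, mul_one, RingHom.mem_ker.1 ha, zero_tmul]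
    · rw [tmul_add, hy, hz, add_zero]

end

section
variable (R A B : Type u) [CommRing R] [CommRing A] [CommRing B] [Algebra R A] [Algebra A B]
  [Algebra R B] [IsScalarTower R A B]

/-- For `A` formally smooth over `R` and `R → B` surjective: `B ⊗[R] J → B ⊗[A] I` is injective
(`J/J² → I/I²` is split injective). -/
theorem conormalMap_injective_of_formallySmooth (hRB : Surjective (algebraMap R B))
    [Algebra.FormallySmooth R A] : Injective (conormalMap R A B) := by
  have hAB : Surjective (algebraMap A B) := surjective_of_surjective_base hRB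
  -- the lift `A → R/J²`
  have hsurj : Surjective (Algebra.ofId R B).kerSquareLift := by
    intro b
    obtain ⟨r, rfl⟩ := hRB b
    exact ⟨Ideal.Quotient.mk _ r, rfl⟩
  have hnil : IsNilpotent (RingHom.ker ((Algebra.ofId R B).kerSquareLift :
      R ⧸ (RingHom.ker (Algebra.ofId R B).toRingHom) ^ 2 →+* B)) := by
    refine ⟨2, ?_⟩
    have := (Algebra.ofId R B).ker_kerSquareLift
    rw [show RingHom.ker ((Algebra.ofId R B).kerSquareLift :
      R ⧸ (RingHom.ker (Algebra.ofId R B).toRingHom) ^ 2 →+* B) =
      RingHom.ker (Algebra.ofId R B).kerSquareLift.toRingHom from rfl, this,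
      Ideal.cotangentIdeal_square]
    rfl
  let lam := Algebra.FormallySmooth.liftOfSurjective (IsScalarTower.toAlgHom R A B)
    (Algebra.ofId R B).kerSquareLift hsurj hnil
  have hlam : ∀ a, (Algebra.ofId R B).kerSquareLift (lam a) = algebraMap A B a := fun a =>
    Algebra.FormallySmooth.liftOfSurjective_apply _ _ hsurj hnil a
  have hlamI : ∀ x ∈ RingHom.ker (algebraMap A B),
      lam x ∈ (RingHom.ker (Algebra.ofId R B).toRingHom).cotangentIdeal := by
    intro x hx
    rw [← (Algebra.ofId R B).ker_kerSquareLift, RingHom.mem_ker]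
    change (Algebra.ofId R B).kerSquareLift (lam x) = 0
    rw [hlam, RingHom.mem_ker.1 hx]
  have hlamI2 : ∀ x ∈ (RingHom.ker (algebraMap A B)) ^ 2, lam x = 0 := by
    intro x hx
    have h1 : lam x ∈ ((RingHom.ker (Algebra.ofId R B).toRingHom).cotangentIdeal) ^ 2 := by
      have h2 : (RingHom.ker (algebraMap A B)) ^ 2 ≤
          (((RingHom.ker (Algebra.ofId R B).toRingHom).cotangentIdeal) ^ 2).comap lam.toRingHom := by
        refine (Ideal.pow_right_mono (fun y hy => ?_) 2).trans (Ideal.le_comap_pow _ 2)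
        exact hlamI y hy
      exact h2 hx
    rw [Ideal.cotangentIdeal_square] at h1
    exact h1
  rw [injective_iff_map_eq_zero]
  intro t ht
  obtain ⟨r, rfl⟩ := exists_one_tmul_eq hRB t
  rw [conormalMap_tmul, one_tmul_eq_zero_iff hAB] at ht
  have h3 := hlamI2 _ ht
  change lam (algebraMap R A (r : R)) = 0 at h3
  rw [AlgHom.commutes] at h3
  rw [one_tmul_eq_zero_iff hRB]
  exact Ideal.Quotient.eq_zero_iff_mem.1 h3

end

end Groth.Agent.H44
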