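import Groth.Agent.H44.ConormalAlg5
import Mathlib.RingTheory.OrzechProperty
import Mathlib.RingTheory.Finiteness.Cardinality

/-!
# Bases of conormal modules and an Orzech-type bijectivity criterion (helper44)

`kerGenMap_single`, `conormalBasisEquiv`, `bijective_of_span_of_equiv_fun`.
-/

set_option autoImplicit false
universe u
open TensorProduct Function

namespace Groth.Agent.H44

section
variable {A B : Type u} [CommRing A] [CommRing B] [Algebra A B]

theorem kerGenMap_single {c : ℕ} (fA : Fin c → A)
    (hI : RingHom.ker (algebraMap A B) = Ideal.span (Set.range fA)) (k : Fin c) :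
    kerGenMap fA hI (Pi.single k 1) = (1 : B) ⊗ₜ[A] kerGen fA hI k := by
  rw [kerGenMap, Fintype.linearCombination_apply, Finset.sum_eq_single k]
  · rw [Pi.single_eq_same, one_smul]
  · intro b _ hb
    rw [Pi.single_eq_of_ne hb, zero_smul]
  · intro h
    exact absurd (Finset.mem_univ k) h

/-- `B ⊗[A] I` is free with basis the classes of an `H_1`-regular family of generators. -/
noncomputable def conormalBasisEquiv (h : Surjective (algebraMap A B)) {c : ℕ} (fA : Fin c → A)
    (hf : CAlgX.IsH1Regular fA)
    (hI : RingHom.ker (algebraMap A B) = Ideal.span (Set.range fA)) :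
    (Fin c → B) ≃ₗ[B] B ⊗[A] (RingHom.ker (algebraMap A B)) :=
  LinearEquiv.ofBijective (kerGenMap fA hI)
    ⟨kerGenMap_injective h fA hf hI, kerGenMap_surjective h fA hI⟩

theorem span_range_one_tmul_kerGen (h : Surjective (algebraMap A B)) {c : ℕ} (fA : Fin c → A)
    (hI : RingHom.ker (algebraMap A B) = Ideal.span (Set.range fA)) :
    Submodule.span B (Set.range fun k => (1 : B) ⊗ₜ[A] kerGen fA hI k) = ⊤ := by
  have h1 : LinearMap.range (kerGenMap fA hI) = ⊤ :=
    LinearMap.range_eq_top.2 (kerGenMap_surjective h fA hI)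
  rw [kerGenMap, Fintype.range_linearCombination] at h1
  exact h1

end

section Orzech
variable {B : Type*} [CommRing B] {M N : Type*} [AddCommGroup M] [Module B M] [AddCommGroup N]
  [Module B N]

/-- A linear map from a module generated by `n` elements onto a free module of rank `n` is
bijective. -/
theorem bijective_of_span_of_equiv_fun {n : ℕ} (φ : M →ₗ[B] N) (γ : Fin n → M)
    (hγ : Submodule.span B (Set.range γ) = ⊤) (e : N ≃ₗ[B] (Fin n → B))
    (hφγ : Submodule.span B (Set.range (φ ∘ γ)) = ⊤) : Function.Bijective φ := by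
  have hP : Surjective (Fintype.linearCombination B γ) := by
    rw [← LinearMap.range_eq_top, Fintype.range_linearCombination, hγ]
  have hcomp : φ ∘ₗ Fintype.linearCombination B γ = Fintype.linearCombination B (φ ∘ γ) := by
    apply LinearMap.ext
    intro b
    rw [LinearMap.comp_apply, Fintype.linearCombination_apply, Fintype.linearCombination_apply,
      map_sum]
    refine Finset.sum_congr rfl fun k _ => ?_
    rw [_root_.map_smul]
    rfl
  have hφP : Surjective (φ ∘ₗ Fintype.linearCombination B γ) := by
    rw [hcomp, ← LinearMap.range_eq_top, Fintype.range_linearCombination, hφγ]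
  have hψ : Surjective (e.toLinearMap ∘ₗ (φ ∘ₗ Fintype.linearCombination B γ)) := by
    rw [LinearMap.coe_comp]
    exact e.surjective.comp hφP
  have hinj := OrzechProperty.injective_of_surjective_endomorphism _ hψ
  constructor
  · intro m₁ m₂ hm
    obtain ⟨b₁, rfl⟩ := hP m₁
    obtain ⟨b₂, rfl⟩ := hP m₂
    have : (e.toLinearMap ∘ₗ (φ ∘ₗ Fintype.linearCombination B γ)) b₁ =
        (e.toLinearMap ∘ₗ (φ ∘ₗ Fintype.linearCombination B γ)) b₂ := by
      rw [LinearMap.comp_apply, LinearMap.comp_apply, LinearMap.comp_apply, LinearMap.comp_apply, hm]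
    rw [hinj this]
  · intro x
    obtain ⟨b, hb⟩ := hφP x
    exact ⟨Fintype.linearCombination B γ b, hb⟩

end Orzech
end Groth.Agent.H44
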