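import Groth.Agent.H44.CotangentExact
import Groth.Agent.H44.ConormalAlg2
import Groth.Agent.H44.OmegaRestrict
import Groth.Prelude.Def_Omega4
import Mathlib.AlgebraicGeometry.Morphisms.Immersion

/-!
# Charts for the conormal sheaf of a quasi-compact immersion (helper44)

* `ImmChart j f`, `exists_immChart`, `isBasis_immChart`: affine charts `U ⊆ Y` on which the immersion
  `j : X ⟶ Y` is a closed immersion (`j⁻¹U` affine, `Γ(Y,U) → Γ(X,j⁻¹U)` surjective).
* `exists_pullback_kaehler_equiv`, `pullback_kaehler_induction`, `diffCompat_chart_description`: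
  sections of `h^*Ω` over affine charts, with the pulled back differentials tracked.
* `idealSectEquiv`, `idealKerEquiv`, `conormalEquiv`, `conormal_induction`: sections of the ideal module
  and of the conormal sheaf over affine charts.
-/

set_option autoImplicit false
universe u
open CategoryTheory Limits Opposite AlgebraicGeometry TopologicalSpace TensorProduct Scheme.Modules

namespace Groth.Agent.H44

section ImmChart
variable {X Y S : Scheme.{u}} (j : X ⟶ Y) [IsImmersion j] (f : Y ⟶ S)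

theorem isAffineOpen_preimage_of_le_coborderRange {U : Y.Opens} (hU : IsAffineOpen U)
    (hUc : U ≤ j.coborderRange) : IsAffineOpen (j ⁻¹ᵁ U) := by
  have h1 : IsAffineOpen (j.coborderRange.ι ⁻¹ᵁ U) :=
    hU.preimage_of_isOpenImmersion _ (by rwa [Scheme.Opens.opensRange_ι])
  have h2 := h1.preimage j.liftCoborder
  rw [← Scheme.Hom.comp_preimage, j.liftCoborder_ι] at h2
  exact h2

theorem app_surjective_of_le_coborderRange {U : Y.Opens} (hU : IsAffineOpen U)
    (hUc : U ≤ j.coborderRange) : Function.Surjective (j.app U) := by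
  have h1 : IsAffineOpen (j.coborderRange.ι ⁻¹ᵁ U) :=
    hU.preimage_of_isOpenImmersion _ (by rwa [Scheme.Opens.opensRange_ι])
  have h2 := j.liftCoborder.app_surjective _ h1
  have himg : j.coborderRange.ι ''ᵁ (j.coborderRange.ι ⁻¹ᵁ U) = U := by
    rw [Scheme.Hom.image_preimage_eq_opensRange_inf, Scheme.Opens.opensRange_ι]
    exact inf_eq_right.mpr hUc
  have h3 : Function.Surjective (j.app (j.coborderRange.ι ''ᵁ (j.coborderRange.ι ⁻¹ᵁ U))) := by
    intro y
    obtain ⟨x, hx⟩ := h2 (X.presheaf.map (eqToHom (j.liftCoborder_preimage _)).op y)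
    refine ⟨x, ?_⟩
    have hinj : Function.Injective (X.presheaf.map (eqToHom (j.liftCoborder_preimage
        (j.coborderRange.ι ⁻¹ᵁ U))).op) :=
      ((ConcreteCategory.isIso_iff_bijective _).1 inferInstance).1
    apply hinj
    rw [← hx]
    exact congr($(liftCoborder_app j (j.coborderRange.ι ⁻¹ᵁ U)) x).symm
  rw [himg] at h3
  exact h3

/-- Charts for an immersion `j : X ⟶ Y` over `f : Y ⟶ S`: affine opens `U ⊆ Y`, `V ⊆ S` with `U → V` and
`j⁻¹U → U` a closed immersion. -/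
structure ImmChart where
  U : Y.Opens
  V : S.Opens
  hU : IsAffineOpen U
  hV : IsAffineOpen V
  e : U ≤ f ⁻¹ᵁ V
  hc : U ≤ j.coborderRange

variable {j f}

theorem ImmChart.hU' (t : ImmChart j f) : IsAffineOpen (j ⁻¹ᵁ t.U) :=
  isAffineOpen_preimage_of_le_coborderRange j t.hU t.hc

theorem ImmChart.surj (t : ImmChart j f) : Function.Surjective (j.app t.U) :=
  app_surjective_of_le_coborderRange j t.hU t.hc

theorem ImmChart.e' (t : ImmChart j f) : j ⁻¹ᵁ t.U ≤ (j ≫ f) ⁻¹ᵁ t.V :=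
  j.preimage_mono t.e

variable (j f)

theorem exists_immChart (x : X) (W : X.Opens) (hx : x ∈ W) :
    ∃ t : ImmChart j f, x ∈ j ⁻¹ᵁ t.U ∧ j ⁻¹ᵁ t.U ≤ W := by
  obtain ⟨O, hO, hOW⟩ := j.isEmbedding.isInducing.isOpen_iff.1 W.2
  obtain ⟨V, hV, hxV, -⟩ := Opens.isBasis_iff_nbhd.mp S.isBasis_affineOpens
    (show f.base (j.base x) ∈ (⊤ : S.Opens) from trivial)
  have hxO : j.base x ∈ (⟨O, hO⟩ : Y.Opens) := by
    change x ∈ j.base ⁻¹' O
    rw [hOW]
    exact hx
  have hxc : j.base x ∈ j.coborderRange := subset_coborder ⟨x, rfl⟩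
  obtain ⟨U, hU, hxU, hUle⟩ := Opens.isBasis_iff_nbhd.mp Y.isBasis_affineOpens
    (show j.base x ∈ (⟨O, hO⟩ : Y.Opens) ⊓ j.coborderRange ⊓ f ⁻¹ᵁ V from ⟨⟨hxO, hxc⟩, hxV⟩)
  refine ⟨⟨U, V, hU, hV, hUle.trans inf_le_right, hUle.trans (inf_le_left.trans inf_le_right)⟩,
    hxU, ?_⟩
  intro y hy
  have : j.base y ∈ O := (hUle hy).1.1
  have h2 : y ∈ W.carrier := hOW ▸ this
  exact h2

theorem isBasis_immChart :
    Opens.IsBasis (Set.range (fun t : ImmChart j f => j ⁻¹ᵁ t.U)) := by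
  rw [Opens.isBasis_iff_nbhd]
  intro W x hx
  obtain ⟨t, hxt, htW⟩ := exists_immChart j f x W hx
  exact ⟨_, ⟨t, rfl⟩, hxt, htW⟩

end ImmChart

section PullbackKaehler
variable {X S X' : Scheme.{u}} {f : X ⟶ S} (h : X' ⟶ X)
  {Ω : X.Modules} (d : OmegaSh.Der f Ω) (hd : OmegaSh.IsUniversal d)
  {U : X.Opens} {U' : X'.Opens} (hU : IsAffineOpen U) (hU' : IsAffineOpen U') (le : U' ≤ h ⁻¹ᵁ U)
  {V : S.Opens} (hV : IsAffineOpen V) (e : U ≤ f ⁻¹ᵁ V)

include hd hU hU' hV in
/-- Sections of `h^*Ω` over an affine chart, with the pulled back differentials tracked. -/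
theorem exists_pullback_kaehler_equiv :
    letI := (f.appLE V U e).hom.toAlgebra
    letI := (h.appLE U U' le).hom.toAlgebra
    ∃ E : Γ((Scheme.Modules.pullback h).obj Ω, U') ≃ₗ[Γ(X', U')]
          Γ(X', U') ⊗[Γ(X, U)] Ω[Γ(X, U)⁄Γ(S, V)],
      ∀ s, E (pullSectLE h Ω U U' le (d.app U s)) =
        (1 : Γ(X', U')) ⊗ₜ[Γ(X, U)] KaehlerDifferential.D Γ(S, V) Γ(X, U) s := by
  letI := (f.appLE V U e).hom.toAlgebra
  letI := (h.appLE U U' le).hom.toAlgebra
  haveI := isQuasicoherent_of_isUniversal d hd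
  obtain ⟨Φ, hΦ⟩ := exists_kaehler_equiv_of_isUniversal d hU hV e hd
  let E₀ := pullbackSectionsEquiv h Ω hU' hU le
  refine ⟨E₀ ≪≫ₗ LinearEquiv.baseChange Γ(X, U) Γ(X', U') _ _ Φ, fun s => ?_⟩
  rw [LinearEquiv.trans_apply, pullbackSectionsEquiv_pullSectLE]
  change (LinearEquiv.baseChange Γ(X, U) Γ(X', U') _ _ Φ) (1 ⊗ₜ d.app U s) = _
  rw [LinearEquiv.baseChange_tmul, hΦ]

include hd hU hU' hV e in
/-- Induction principle: sections of `h^*Ω` over an affine chart are generated by the pulled back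
differentials. -/
theorem pullback_kaehler_induction
    (P : Γ((Scheme.Modules.pullback h).obj Ω, U') → Prop) (h0 : P 0)
    (hadd : ∀ x y, P x → P y → P (x + y)) (hsmul : ∀ (a : Γ(X', U')) x, P x → P (a • x))
    (hgen : ∀ s, P (pullSectLE h Ω U U' le (d.app U s))) : ∀ x, P x := by
  letI := (f.appLE V U e).hom.toAlgebra
  letI := (h.appLE U U' le).hom.toAlgebra
  obtain ⟨E, hE⟩ := exists_pullback_kaehler_equiv h d hd hU hU' le hV e
  have key : ∀ t : Γ(X', U') ⊗[Γ(X, U)] Ω[Γ(X, U)⁄Γ(S, V)], P (E.symm t) := by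
    intro t
    induction t using TensorProduct.induction_on with
    | zero => rw [map_zero]; exact h0
    | add x y hx hy => rw [map_add]; exact hadd _ _ hx hy
    | tmul a' ω =>
      have hω : ω ∈ Submodule.span Γ(X, U)
          (Set.range (KaehlerDifferential.D Γ(S, V) Γ(X, U))) := by
        rw [KaehlerDifferential.span_range_derivation]; trivial
      induction hω using Submodule.span_induction generalizing a' with
      | mem ω hω =>
        obtain ⟨s, rfl⟩ := hω
        have h1 : (a' ⊗ₜ[Γ(X, U)] KaehlerDifferential.D Γ(S, V) Γ(X, U) s :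
            Γ(X', U') ⊗[Γ(X, U)] Ω[Γ(X, U)⁄Γ(S, V)]) =
            a' • ((1 : Γ(X', U')) ⊗ₜ[Γ(X, U)] KaehlerDifferential.D Γ(S, V) Γ(X, U) s) := by
          rw [TensorProduct.smul_tmul', smul_eq_mul, mul_one]
        rw [h1, _root_.map_smul, ← hE, E.symm_apply_apply]
        exact hsmul _ _ (hgen s)
      | zero => rw [TensorProduct.tmul_zero, map_zero]; exact h0
      | add x y _ _ hx hy =>
        rw [TensorProduct.tmul_add, map_add]
        exact hadd _ _ (hx a') (hy a')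
      | smul r x _ hx =>
        rw [← TensorProduct.smul_tmul]
        exact hx _
  intro x
  rw [← E.symm_apply_apply x]
  exact key _

end PullbackKaehler

section DiffCompatDescr
variable {X S X' S' : Scheme.{u}} {f : X ⟶ S} {f' : X' ⟶ S'} (h : X' ⟶ X)
  {Ω : X.Modules} (d : OmegaSh.Der f Ω) (hd : OmegaSh.IsUniversal d)
  {Ω' : X'.Modules} (d' : OmegaSh.Der f' Ω')
  (c : (Scheme.Modules.pullback h).obj Ω ⟶ Ω') (hc : OmegaSh.IsDiffCompat h d d' c)
  {U : X.Opens} {U' : X'.Opens} (hU : IsAffineOpen U) (hU' : IsAffineOpen U') (le : U' ≤ h ⁻¹ᵁ U)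
  {V : S.Opens} {V' : S'.Opens} (hV : IsAffineOpen V) (e : U ≤ f ⁻¹ᵁ V) (e' : U' ≤ f' ⁻¹ᵁ V')

include hd hc hU hU' hV in
/-- Chart description of a `IsDiffCompat` map, for *any* chart equivalences tracking the differentials. -/
theorem diffCompat_chart_description :
    letI := (f.appLE V U e).hom.toAlgebra
    letI := (f'.appLE V' U' e').hom.toAlgebra
    letI := (h.appLE U U' le).hom.toAlgebra
    ∀ (E : Γ((Scheme.Modules.pullback h).obj Ω, U') ≃ₗ[Γ(X', U')]
          Γ(X', U') ⊗[Γ(X, U)] Ω[Γ(X, U)⁄Γ(S, V)])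
      (_ : ∀ s, E (pullSectLE h Ω U U' le (d.app U s)) =
        (1 : Γ(X', U')) ⊗ₜ[Γ(X, U)] KaehlerDifferential.D Γ(S, V) Γ(X, U) s)
      (Φ' : Γ(Ω', U') ≃ₗ[Γ(X', U')] Ω[Γ(X', U')⁄Γ(S', V')])
      (_ : ∀ s, Φ' (d'.app U' s) = KaehlerDifferential.D Γ(S', V') Γ(X', U') s)
      (μ : Γ(X', U') ⊗[Γ(X, U)] Ω[Γ(X, U)⁄Γ(S, V)] →ₗ[Γ(X', U')] Ω[Γ(X', U')⁄Γ(S', V')])
      (_ : ∀ s, μ ((1 : Γ(X', U')) ⊗ₜ[Γ(X, U)] KaehlerDifferential.D Γ(S, V) Γ(X, U) s) =
          KaehlerDifferential.D Γ(S', V') Γ(X', U') (h.appLE U U' le s))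
      (x : Γ((Scheme.Modules.pullback h).obj Ω, U')), Φ' (c.app U' x) = μ (E x) := by
  letI := (f.appLE V U e).hom.toAlgebra
  letI := (f'.appLE V' U' e').hom.toAlgebra
  letI := (h.appLE U U' le).hom.toAlgebra
  intro E hE Φ' hΦ' μ hμ
  refine pullback_kaehler_induction h d hd hU hU' le hV e _ ?_ ?_ ?_ ?_
  · rw [map_zero, map_zero, map_zero, map_zero]
  · intro x y hx hy
    rw [map_add, map_add, map_add, map_add, hx, hy]
  · intro a x hx
    rw [Scheme.Modules.Hom.app_smul, _root_.map_smul, _root_.map_smul, _root_.map_smul, hx]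
  · intro s
    rw [diffCompat_pullSectLE h d d' c hc le, hΦ', hE, hμ]

end DiffCompatDescr

section ConormalSections
variable {X Y : Scheme.{u}} (j : X ⟶ Y) [QuasiCompact j] {U : Y.Opens} (hU : IsAffineOpen U)
  {U' : X.Opens} (le : U' ≤ j ⁻¹ᵁ U) (ge : j ⁻¹ᵁ U ≤ U')

include ge in
theorem ker_appLE_eq : RingHom.ker (j.appLE U U' le).hom = j.ker.ideal ⟨U, hU⟩ := by
  obtain rfl : U' = j ⁻¹ᵁ U := le_antisymm le ge
  rw [Scheme.Hom.ker_apply, Scheme.Hom.appLE_eq_app]

end ConormalSections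

section IdealSections
variable {P : Scheme.{u}} (K : P.IdealSheafData) {W : P.Opens} (hW : IsAffineOpen W)

/-- Sections of the ideal module over an affine open are the ideal. -/
noncomputable def idealSectEquiv : Γ(ClSub.idealMod K, W) ≃ₗ[Γ(P, W)] K.ideal ⟨W, hW⟩ :=
  LinearEquiv.ofBijective
    { toFun := fun σ => ⟨OmegaSh.idealSect K W σ, idealModι_app_mem_ideal K hW σ⟩
      map_add' := fun σ τ => by
        ext
        exact map_add (OmegaSh.idealSect K W) σ τ
      map_smul' := fun r σ => by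
        ext
        change OmegaSh.idealSect K W (r • σ) = r * OmegaSh.idealSect K W σ
        rw [OmegaSh.idealSect_apply, OmegaSh.idealSect_apply, Scheme.Modules.Hom.app_smul]
        rfl }
    ⟨fun σ τ hστ => OmegaSh.idealModι_app_injective W K (congrArg Subtype.val hστ), fun y => by
      have h0 := (toSubscheme_app_eq_zero_iff K hW y.1).2 y.2
      refine ⟨OmegaSh.kerLift (ClSub.toSubscheme K) W (OmegaSh.strSect P W y.1) h0, ?_⟩
      ext
      change OmegaSh.fnSect P W ((kernel.ι (ClSub.toSubscheme K)).app W _) = y.1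
      rw [OmegaSh.ι_kerLift]
      rfl⟩

theorem idealSectEquiv_coe (σ : Γ(ClSub.idealMod K, W)) :
    (idealSectEquiv K hW σ : Γ(P, W)) = OmegaSh.idealSect K W σ := rfl

end IdealSections

section ConormalEquiv
variable {X Y : Scheme.{u}} (j : X ⟶ Y) [QuasiCompact j] {U : Y.Opens} (hU : IsAffineOpen U)
  {U' : X.Opens} (hU' : IsAffineOpen U') (le : U' ≤ j ⁻¹ᵁ U) (ge : j ⁻¹ᵁ U ≤ U')

/-- Sections of the ideal module of `j.ker` over an affine `U`, as the kernel of `Γ(Y,U) → Γ(X,j⁻¹U)`. -/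
noncomputable def idealKerEquiv :
    letI := (j.appLE U U' le).hom.toAlgebra
    Γ(ClSub.idealMod j.ker, U) ≃ₗ[Γ(Y, U)] RingHom.ker (algebraMap Γ(Y, U) Γ(X, U')) :=
  letI := (j.appLE U U' le).hom.toAlgebra
  idealSectEquiv j.ker hU ≪≫ₗ LinearEquiv.ofEq _ _ (ker_appLE_eq j hU le ge).symm

theorem idealKerEquiv_coe (σ : Γ(ClSub.idealMod j.ker, U)) :
    letI := (j.appLE U U' le).hom.toAlgebra
    (idealKerEquiv j hU le ge σ : Γ(Y, U)) = OmegaSh.idealSect j.ker U σ := rfl

/-- Sections of the conormal sheaf over an affine chart. -/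
noncomputable def conormalEquiv :
    letI := (j.appLE U U' le).hom.toAlgebra
    Γ(Omega.conormal j, U') ≃ₗ[Γ(X, U')]
      Γ(X, U') ⊗[Γ(Y, U)] RingHom.ker (algebraMap Γ(Y, U) Γ(X, U')) :=
  letI := (j.appLE U U' le).hom.toAlgebra
  pullbackSectionsEquiv j (ClSub.idealMod j.ker) hU' hU le ≪≫ₗ
    LinearEquiv.baseChange Γ(Y, U) Γ(X, U') _ _ (idealKerEquiv j hU le ge)

theorem conormalEquiv_pullSectLE (σ : Γ(ClSub.idealMod j.ker, U)) :
    letI := (j.appLE U U' le).hom.toAlgebra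
    conormalEquiv j hU hU' le ge (pullSectLE j (ClSub.idealMod j.ker) U U' le σ) =
      (1 : Γ(X, U')) ⊗ₜ[Γ(Y, U)] idealKerEquiv j hU le ge σ := by
  letI := (j.appLE U U' le).hom.toAlgebra
  have h := pullbackSectionsEquiv_pullSectLE j (ClSub.idealMod j.ker) hU' hU le σ
  refine (congrArg (LinearEquiv.baseChange Γ(Y, U) Γ(X, U') _ _ (idealKerEquiv j hU le ge)) h).trans ?_
  rw [LinearEquiv.baseChange_tmul]

include hU hU' ge in
/-- Induction principle: sections of the conormal sheaf over an affine chart are generated by the classes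
of sections of the ideal. -/
theorem conormal_induction (P : Γ(Omega.conormal j, U') → Prop) (h0 : P 0)
    (hadd : ∀ x y, P x → P y → P (x + y)) (hsmul : ∀ (a : Γ(X, U')) x, P x → P (a • x))
    (hgen : ∀ σ, P (pullSectLE j (ClSub.idealMod j.ker) U U' le σ)) : ∀ x, P x := by
  letI := (j.appLE U U' le).hom.toAlgebra
  have key : ∀ t : Γ(X, U') ⊗[Γ(Y, U)] RingHom.ker (algebraMap Γ(Y, U) Γ(X, U')),
      P ((conormalEquiv j hU hU' le ge).symm t) := by
    intro t
    induction t using TensorProduct.induction_on with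
    | zero => rw [map_zero]; exact h0
    | add x y hx hy => rw [map_add]; exact hadd _ _ hx hy
    | tmul a ι =>
      obtain ⟨σ, rfl⟩ := (idealKerEquiv j hU le ge).surjective ι
      have h1 : (a ⊗ₜ[Γ(Y, U)] idealKerEquiv j hU le ge σ :
          Γ(X, U') ⊗[Γ(Y, U)] RingHom.ker (algebraMap Γ(Y, U) Γ(X, U'))) =
          a • ((1 : Γ(X, U')) ⊗ₜ[Γ(Y, U)] idealKerEquiv j hU le ge σ) := by
        rw [TensorProduct.smul_tmul', smul_eq_mul, mul_one]
      rw [h1, _root_.map_smul, ← conormalEquiv_pullSectLE j hU hU' le ge, LinearEquiv.symm_apply_apply]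
      exact hsmul _ _ (hgen σ)
  intro x
  rw [← (conormalEquiv j hU hU' le ge).symm_apply_apply x]
  exact key _

end ConormalEquiv
end Groth.Agent.H44
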