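import Groth.Agent.H44.ConormalMapExists
import Groth.Agent.H44.OmegaUniversal

/-!
# Existence of the canonical map `C_{Z/X} ⟶ i^*Ω'` induced by a derivation (helper44)

`conormalDiffAdj i d : 𝓘 ⟶ i_* i^* Ω'` (on sections `s ↦ i^*(d s)`), `exists_isConormalDiff`,
`existsUnique_isConormalDiff`.
-/

set_option autoImplicit false
universe u
open CategoryTheory Limits Opposite AlgebraicGeometry TopologicalSpace Scheme.Modules

namespace Groth.Agent.H44

section ConormalDiff
variable {Z X Y : Scheme.{u}} (i : Z ⟶ X) {f : X ⟶ Y} {Ω' : X.Modules} (d : OmegaSh.Der f Ω')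

/-- `s ↦ i^*(d s)` on sections of the ideal of `i`. -/
noncomputable def conormalDiffPull (U : X.Opens) (s : Γ(ClSub.idealMod i.ker, U)) :
    Γ((Scheme.Modules.pullback i).obj Ω', i ⁻¹ᵁ U) :=
  OmegaSh.pullSect i Ω' U (d.app U (OmegaSh.idealSect i.ker U s))

theorem conormalDiffPull_add (U : X.Opens) (a b : Γ(ClSub.idealMod i.ker, U)) :
    conormalDiffPull i d U (a + b) = conormalDiffPull i d U a + conormalDiffPull i d U b := by
  unfold conormalDiffPull
  rw [map_add, map_add, map_add]

theorem conormalDiffPull_map {U V : X.Opens} (h : V ≤ U) (a : Γ(ClSub.idealMod i.ker, U)) :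
    conormalDiffPull i d V ((ClSub.idealMod i.ker).presheaf.map (homOfLE h).op a) =
      ((Scheme.Modules.pullback i).obj Ω').presheaf.map (homOfLE (i.preimage_mono h)).op
        (conormalDiffPull i d U a) := by
  unfold conormalDiffPull
  rw [idealSect_map, Der_app_map, OmegaSh.pullSect_map]

theorem conormalDiffPull_smul (U : X.Opens) (r : Γ(X, U)) (a : Γ(ClSub.idealMod i.ker, U)) :
    conormalDiffPull i d U (r • a) = i.app U r • conormalDiffPull i d U a := by
  unfold conormalDiffPull
  rw [idealSect_smul, Der_app_mul, map_add, OmegaSh.pullSect_smul, OmegaSh.pullSect_smul,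
    app_idealSect_eq_zero, zero_smul, add_zero]

/-- The morphism `𝓘 ⟶ i_* i^* Ω'`, `s ↦ i^*(d s)`. -/
noncomputable def conormalDiffAdj :
    ClSub.idealMod i.ker ⟶
      (Scheme.Modules.pushforward i).obj ((Scheme.Modules.pullback i).obj Ω') :=
  ⟨PresheafOfModules.homMk
    { app := fun U => AddCommGrpCat.ofHom (AddMonoidHom.mk'
        (fun s : Γ(ClSub.idealMod i.ker, U.unop) =>
          (conormalDiffPull i d U.unop s :
            Γ((Scheme.Modules.pullback i).obj Ω', i ⁻¹ᵁ U.unop)))
        (conormalDiffPull_add i d U.unop))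
      naturality := fun U V g => by
        ext s
        exact conormalDiffPull_map i d (leOfHom g.unop) s }
    (fun U r s => conormalDiffPull_smul i d U.unop r s)⟩

theorem conormalDiffAdj_app (U : X.Opens) (s : Γ(ClSub.idealMod i.ker, U)) :
    (conormalDiffAdj i d).app U s = conormalDiffPull i d U s := rfl

theorem isConormalDiff_iff (φ : Omega.conormal i ⟶ (Scheme.Modules.pullback i).obj Ω') :
    OmegaSh.IsConormalDiff i d φ ↔
      (Scheme.Modules.pullbackPushforwardAdjunction i).homEquiv (ClSub.idealMod i.ker) _ φ =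
        conormalDiffAdj i d := by
  constructor
  · intro h
    ext U s
    have := h U s
    rw [homEquiv_app, conormalDiffAdj_app]
    exact this
  · intro h U s
    have h0 := congr(($h).app U s)
    rw [homEquiv_app, conormalDiffAdj_app] at h0
    exact h0

/-- Existence and uniqueness of the canonical map `C_{Z/X} ⟶ i^*Ω'` induced by a derivation. -/
theorem existsUnique_isConormalDiff :
    ∃! φ : Omega.conormal i ⟶ (Scheme.Modules.pullback i).obj Ω', OmegaSh.IsConormalDiff i d φ := by
  refine ⟨((Scheme.Modules.pullbackPushforwardAdjunction i).homEquiv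
    (ClSub.idealMod i.ker) _).symm (conormalDiffAdj i d), ?_, ?_⟩
  · exact (isConormalDiff_iff i d _).2 (Equiv.apply_symm_apply _ _)
  · intro φ hφ
    have h := (isConormalDiff_iff i d φ).1 hφ
    rw [← h]
    exact (Equiv.symm_apply_apply _ _).symm

theorem exists_isConormalDiff :
    ∃ φ : Omega.conormal i ⟶ (Scheme.Modules.pullback i).obj Ω', OmegaSh.IsConormalDiff i d φ :=
  (existsUnique_isConormalDiff i d).exists

end ConormalDiff

end Groth.Agent.H44
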