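import Groth.Agent.H44.ConormalSquare
import Groth.Agent.H44.ConormalH1
import Groth.Agent.H44.ConormalAlg7
import Groth.Agent.H44.ConormalSplit
import Groth.Agent.H12.AffHomCrit
import Groth.Agent.H94.KoszulH1

/-!
# The conormal sheaf of an intersection of Koszul-regular closed subschemes (helper44)
-/

set_option autoImplicit false
universe u
open CategoryTheory Limits Opposite AlgebraicGeometry TopologicalSpace TensorProduct Scheme.Modules

namespace Groth.Agent.H44

section SumApp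
variable {X : Scheme.{u}} {M N : X.Modules}

theorem sum_app_apply {ι : Type*} (s : Finset ι) (φ : ι → (M ⟶ N)) (W : X.Opens) (x : Γ(M, W)) :
    (∑ l ∈ s, φ l).app W x = ∑ l ∈ s, (φ l).app W x := by
  classical
  induction s using Finset.induction_on with
  | empty =>
    rw [Finset.sum_empty, Finset.sum_empty, Scheme.Modules.Hom.zero_app]
    rfl
  | insert a s ha ih =>
    rw [Finset.sum_insert ha, Finset.sum_insert ha, Scheme.Modules.Hom.add_app, ← ih]
    rfl

end SumApp

section SpanHelpers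

/-- `1 ⊗ x_a` span `B ⊗[A] I` when the `x_a` generate `I` and `A → B` is surjective. -/
theorem span_range_one_tmul_of_span {A B : Type u} [CommRing A] [CommRing B] [Algebra A B]
    (h : Function.Surjective (algebraMap A B)) {ι : Type*}
    (x : ι → RingHom.ker (algebraMap A B))
    (hx : Ideal.span (Set.range fun a => (x a : A)) = RingHom.ker (algebraMap A B)) :
    Submodule.span B (Set.range fun a => (1 : B) ⊗ₜ[A] x a) = ⊤ := by
  have key : ∀ y ∈ Ideal.span (Set.range fun a => (x a : A)),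
      ∀ hy : y ∈ RingHom.ker (algebraMap A B), (1 : B) ⊗ₜ[A] (⟨y, hy⟩ : RingHom.ker (algebraMap A B)) ∈
        Submodule.span B (Set.range fun a => (1 : B) ⊗ₜ[A] x a) := by
    intro y hy
    induction hy using Submodule.span_induction with
    | mem y hy =>
      obtain ⟨a, rfl⟩ := hy
      intro _
      exact Submodule.subset_span ⟨a, rfl⟩
    | zero =>
      intro _
      have : (⟨0, ‹_›⟩ : RingHom.ker (algebraMap A B)) = 0 := rfl
      rw [this, tmul_zero]
      exact Submodule.zero_mem _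
    | add y₁ y₂ h₁ h₂ ih₁ ih₂ =>
      intro hy
      have h₁' : y₁ ∈ RingHom.ker (algebraMap A B) := by rw [← hx]; exact h₁
      have h₂' : y₂ ∈ RingHom.ker (algebraMap A B) := by rw [← hx]; exact h₂
      have : (⟨y₁ + y₂, hy⟩ : RingHom.ker (algebraMap A B)) = ⟨y₁, h₁'⟩ + ⟨y₂, h₂'⟩ := rfl
      rw [this, tmul_add]
      exact Submodule.add_mem _ (ih₁ h₁') (ih₂ h₂')
    | smul r y h₁ ih =>
      intro hy
      have h₁' : y ∈ RingHom.ker (algebraMap A B) := by rw [← hx]; exact h₁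
      have : (⟨r • y, hy⟩ : RingHom.ker (algebraMap A B)) = r • ⟨y, h₁'⟩ := rfl
      rw [this, TensorProduct.tmul_smul, ← algebraMap_smul B r]
      exact Submodule.smul_mem _ _ (ih h₁')
  rw [eq_top_iff]
  intro t _
  obtain ⟨y, rfl⟩ := exists_one_tmul_eq h t
  exact key y.1 (by rw [hx]; exact y.2) y.2

end SpanHelpers

section ConormalSpan
variable {X Y : Scheme.{u}} (j : X ⟶ Y) [QuasiCompact j] {U : Y.Opens} (hU : IsAffineOpen U)
  {U' : X.Opens} (hU' : IsAffineOpen U') (le : U' ≤ j ⁻¹ᵁ U) (ge : j ⁻¹ᵁ U ≤ U')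

set_option maxRecDepth 4000 in
include hU hU' ge in
/-- The conormal sections over a chart are spanned by the classes of a generating family of the
ideal. -/
theorem span_conormal_of_span_ideal (hsurj : Function.Surjective (j.appLE U U' le)) {ι : Type*}
    (σ : ι → Γ(ClSub.idealMod j.ker, U))
    (hσ : Ideal.span (Set.range fun a => OmegaSh.idealSect j.ker U (σ a)) =
      RingHom.ker (j.appLE U U' le).hom) :
    Submodule.span Γ(X, U') (Set.range fun a =>
      (pullSectLE j (ClSub.idealMod j.ker) U U' le (σ a) : Γ(Omega.conormal j, U'))) = ⊤ := by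
  letI := (j.appLE U U' le).hom.toAlgebra
  have hs : Function.Surjective (algebraMap Γ(Y, U) Γ(X, U')) := hsurj
  have h1 := span_range_one_tmul_of_span hs (fun a => idealKerEquiv j hU le ge (σ a)) hσ
  rw [eq_top_iff]
  intro x _
  have hx : conormalEquiv j hU hU' le ge x ∈ Submodule.span Γ(X, U')
      (Set.range fun a => (1 : Γ(X, U')) ⊗ₜ[Γ(Y, U)] idealKerEquiv j hU le ge (σ a)) := by
    rw [h1]; trivial
  have h2 : ∀ a, conormalEquiv j hU hU' le ge
      (pullSectLE j (ClSub.idealMod j.ker) U U' le (σ a)) =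
      (1 : Γ(X, U')) ⊗ₜ[Γ(Y, U)] idealKerEquiv j hU le ge (σ a) :=
    fun a => conormalEquiv_pullSectLE j hU hU' le ge (σ a)
  have h3 : ∀ t ∈ Submodule.span Γ(X, U')
      (Set.range fun a => (1 : Γ(X, U')) ⊗ₜ[Γ(Y, U)] idealKerEquiv j hU le ge (σ a)),
      (conormalEquiv j hU hU' le ge).symm t ∈ Submodule.span Γ(X, U') (Set.range fun a =>
        (pullSectLE j (ClSub.idealMod j.ker) U U' le (σ a) : Γ(Omega.conormal j, U'))) := by
    intro t ht
    induction ht using Submodule.span_induction with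
    | mem t ht =>
      obtain ⟨a, rfl⟩ := ht
      beta_reduce
      rw [← h2 a, LinearEquiv.symm_apply_apply]
      exact Submodule.subset_span ⟨a, rfl⟩
    | zero => rw [map_zero]; exact Submodule.zero_mem _
    | add t₁ t₂ _ _ h₁ h₂ => rw [map_add]; exact Submodule.add_mem _ h₁ h₂
    | smul r t _ h₁ => rw [_root_.map_smul]; exact Submodule.smul_mem _ _ h₁
  have h5 := h3 _ hx
  have h6 : (conormalEquiv j hU hU' le ge).symm (conormalEquiv j hU hU' le ge x) = x :=
    LinearEquiv.symm_apply_apply _ x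
  rw [h6] at h5
  exact h5

end ConormalSpan

section PullbackSpan
variable {X' X : Scheme.{u}} (h : X' ⟶ X) (M : X.Modules) [M.IsQuasicoherent]
  {U : X.Opens} {U' : X'.Opens} (hU : IsAffineOpen U) (hU' : IsAffineOpen U') (le : U' ≤ h ⁻¹ᵁ U)

include hU hU' in
theorem span_pullSectLE_of_span {ι : Type*} (m : ι → Γ(M, U))
    (hm : Submodule.span Γ(X, U) (Set.range m) = ⊤) :
    Submodule.span Γ(X', U') (Set.range fun a => pullSectLE h M U U' le (m a)) = ⊤ := by
  rw [eq_top_iff]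
  intro x _
  refine pullback_sections_induction h M hU hU' le (Set.range m) hm
    (fun x => x ∈ Submodule.span Γ(X', U') (Set.range fun a => pullSectLE h M U U' le (m a)))
    ?_ ?_ ?_ ?_ x
  · exact Submodule.zero_mem _
  · exact fun x y hx hy => Submodule.add_mem _ hx hy
  · exact fun a x hx => Submodule.smul_mem _ a hx
  · rintro _ ⟨a, rfl⟩
    exact Submodule.subset_span ⟨a, rfl⟩

end PullbackSpan

section SigmaSpan
variable {Y : Scheme.{u}} {n : ℕ} (J : Fin n → Y.Modules) (W : Y.Opens)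

open Groth.Agent.H12.AffHomCrit in
/-- Sections of a finite coproduct are spanned by the images of spanning families of the summands. -/
theorem span_sigma_sections {ι : Fin n → Type*} (m : ∀ l, ι l → Γ(J l, W))
    (hm : ∀ l, Submodule.span Γ(Y, W) (Set.range (m l)) = ⊤) :
    Submodule.span Γ(Y, W) (Set.range fun a : Σ l, ι l =>
      (Sigma.ι J a.1).app W (m a.1 a.2)) = ⊤ := by
  rw [eq_top_iff]
  intro x _
  have h1 : x = ∑ l : Fin n, (Sigma.ι J l).app W ((sproj J l).app W x) := by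
    have h0 := congrArg (fun φ : (∐ J) ⟶ (∐ J) => φ.app W x) (sum_sproj_ι J)
    simp only [sum_app_apply] at h0
    exact h0.symm
  rw [h1]
  refine Submodule.sum_mem _ fun l _ => ?_
  have h2 : (sproj J l).app W x ∈ Submodule.span Γ(Y, W) (Set.range (m l)) := by
    rw [hm l]; trivial
  have h3 : Submodule.map (appLin (Sigma.ι J l) W) (Submodule.span Γ(Y, W) (Set.range (m l))) ≤
      Submodule.span Γ(Y, W) (Set.range fun a : Σ l, ι l =>
        (Sigma.ι J a.1).app W (m a.1 a.2)) := by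
    rw [Submodule.map_span, Submodule.span_le]
    rintro _ ⟨_, ⟨b, rfl⟩, rfl⟩
    exact Submodule.subset_span ⟨⟨l, b⟩, rfl⟩
  exact h3 (Submodule.mem_map_of_mem h2)

end SigmaSpan

section CodimChart
variable {Z X : Scheme.{u}} (j : Z ⟶ X)

/-- Around each point, a Koszul-regular immersion of codimension `c` has an affine chart below which
the kernel is generated by an `H_1`-regular family of length `c` on every affine open. -/
theorem exists_h1_chart_of_codim {c : ℕ}
    (hj : RegImm.IsRegularImmersionOfCodim RegImm.Kind.koszul c j) (z : Z) :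
    ∃ U₀ : X.Opens, IsAffineOpen U₀ ∧ j.base z ∈ U₀ ∧
      ∀ U : X.Opens, IsAffineOpen U → U ≤ U₀ → ∃ fA : Fin c → Γ(X, U),
        CAlgX.IsH1Regular fA ∧ RingHom.ker (j.app U).hom = Ideal.span (Set.range fA) := by
  obtain ⟨U₀, hzU₀, hcl, rs, hlen, hrs, hker⟩ := hj.2 z
  refine ⟨U₀.1, U₀.2, hzU₀, fun U hU hle => ?_⟩
  haveI := hcl
  have hrs1 : CAlgX.IsH1Regular rs.get :=
    Groth.Agent.H94.KoszulH1.isH1Regular_of_isKoszulRegularSeq rs hrs
  have hflat := Groth.Agent.H94.H1QuasiFlat.isH1Regular_map_of_flat _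
    (Groth.Agent.H39.ImmCompChart.flat_res hle U₀.2 hU) rs.get hrs1
  refine ⟨fun k => (X.presheaf.map (homOfLE hle).op).hom (rs.get (Fin.cast hlen.symm k)),
    Groth.Agent.H39.RelRegAlg.isH1Regular_congr hlen.symm _ _ (fun _ => rfl) hflat, ?_⟩
  rw [Groth.Agent.H39.ImmCompChart.ker_app_of_le j hle U₀.2 hU, hker,
    ← Groth.Agent.H39.RelRegAlg.span_range_get, Ideal.map_span, ← Set.range_comp]
  congr 1
  ext t
  constructor
  · rintro ⟨k, rfl⟩
    exact ⟨Fin.cast hlen k, by simp⟩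
  · rintro ⟨k, rfl⟩
    exact ⟨Fin.cast hlen.symm k, rfl⟩

end CodimChart

section Main
variable {X Y : Scheme.{u}} {r : ℕ} {Xs : Fin r → Scheme.{u}} (j : ∀ l, Xs l ⟶ X)
  [∀ l, IsClosedImmersion (j l)] (d : Fin r → ℕ) (i : Y ⟶ X) [IsClosedImmersion i]
  (g : ∀ l, Y ⟶ Xs l) (hg : ∀ l, g l ≫ j l = i)
  (ψ : ∀ l, (Scheme.Modules.pullback (g l)).obj (Omega.conormal (j l)) ⟶ Omega.conormal i)
  (hψ : ∀ l, OmegaSh.IsConormalMap i (j l) (𝟙 X) (g l) (ψ l))

theorem coborderRange_eq_top_of_isClosedImmersion {A B : Scheme.{u}} (f : A ⟶ B)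
    [IsClosedImmersion f] : f.coborderRange = ⊤ := by
  apply Opens.ext
  exact IsClosed.coborder_eq f.isClosedEmbedding.isClosed_range

/-- The chart of the square `(i, j l, 𝟙 X, g l)` attached to an affine open of `X`. -/
def interChart (l : Fin r) (V : X.Opens) (hV : IsAffineOpen V) : SqChart i (j l) (𝟙 X) where
  V' := V
  V := V
  hV' := hV
  hV := hV
  le := le_of_eq rfl
  hc' := by rw [coborderRange_eq_top_of_isClosedImmersion]; exact le_top
  hc := by rw [coborderRange_eq_top_of_isClosedImmersion]; exact le_top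

include hψ in
/-- Over a good affine chart the sum of the canonical maps is bijective on sections. -/
theorem sigma_chart_bijective (V : X.Opens) (hV : IsAffineOpen V)
    (fY : Fin (∑ l, d l) → Γ(X, V)) (hfY : CAlgX.IsH1Regular fY)
    (hkY : RingHom.ker (i.app V).hom = Ideal.span (Set.range fY))
    (f : ∀ l, Fin (d l) → Γ(X, V))
    (hk : ∀ l, RingHom.ker ((j l).app V).hom = Ideal.span (Set.range (f l)))
    (hY : i.ker.ideal ⟨V, hV⟩ = ⨆ l, (j l).ker.ideal ⟨V, hV⟩) :
    Function.Bijective ((Sigma.desc ψ).app (i ⁻¹ᵁ V)) := by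
  have hW : IsAffineOpen (i ⁻¹ᵁ V) := hV.preimage i
  have hWl : ∀ l, IsAffineOpen ((j l) ⁻¹ᵁ V) := fun l => hV.preimage (j l)
  -- sections of the ideals with prescribed functions
  have hmem : ∀ l k, f l k ∈ (j l).ker.ideal ⟨V, hV⟩ := by
    intro l k
    rw [Scheme.Hom.ker_apply, hk l]
    exact Ideal.subset_span ⟨k, rfl⟩
  choose σ hσ using fun l k => (idealSectEquiv (j l).ker hV).surjective ⟨f l k, hmem l k⟩
  have hσ' : ∀ l k, OmegaSh.idealSect (j l).ker V (σ l k) = f l k :=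
    fun l k => congrArg Subtype.val (hσ l k)
  -- the charts
  have hsq : ∀ l, g l ≫ j l = i ≫ 𝟙 X := fun l => (hψ l).1
  let t : ∀ l, SqChart i (j l) (𝟙 X) := fun l => interChart j i l V hV
  have hsurj_j : ∀ l, Function.Surjective ((j l).appLE V ((j l) ⁻¹ᵁ V) le_rfl) := by
    intro l
    change Function.Surjective ((j l).appLE V ((j l) ⁻¹ᵁ V) le_rfl).hom
    rw [Scheme.Hom.appLE_eq_app]
    exact app_surjective_of_le_coborderRange (j l) hV (t l).hc'
  have hsurj_i : Function.Surjective (i.appLE V (i ⁻¹ᵁ V) le_rfl) := by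
    change Function.Surjective (i.appLE V (i ⁻¹ᵁ V) le_rfl).hom
    rw [Scheme.Hom.appLE_eq_app]
    exact app_surjective_of_le_coborderRange i hV
      (by rw [coborderRange_eq_top_of_isClosedImmersion]; exact le_top)
  have hker_j : ∀ l, Ideal.span (Set.range fun k => OmegaSh.idealSect (j l).ker V (σ l k)) =
      RingHom.ker ((j l).appLE V ((j l) ⁻¹ᵁ V) le_rfl).hom := by
    intro l
    rw [Scheme.Hom.appLE_eq_app, hk l]
    congr 2
    funext k
    exact hσ' l k
  -- the generators of the summands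
  let gen : ∀ l, Fin (d l) → Γ((Scheme.Modules.pullback (g l)).obj (Omega.conormal (j l)), i ⁻¹ᵁ V) :=
    fun l k => pullSectLE (g l) (Omega.conormal (j l)) ((j l) ⁻¹ᵁ V) (i ⁻¹ᵁ V) ((t l).leW (hsq l))
      (pullSectLE (j l) (ClSub.idealMod (j l).ker) V ((j l) ⁻¹ᵁ V) le_rfl (σ l k))
  have hgen : ∀ l, Submodule.span Γ(Y, i ⁻¹ᵁ V) (Set.range (gen l)) = ⊤ := by
    intro l
    haveI : (Omega.conormal (j l)).IsQuasicoherent := isQuasicoherent_conormal (j l)
    exact span_pullSectLE_of_span (g l) (Omega.conormal (j l)) (hWl l) hW ((t l).leW (hsq l)) _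
      (span_conormal_of_span_ideal (j l) hV (hWl l) le_rfl le_rfl (hsurj_j l) (σ l) (hker_j l))
  -- the generators of the coproduct
  have hγ := span_sigma_sections
    (fun l => (Scheme.Modules.pullback (g l)).obj (Omega.conormal (j l))) (i ⁻¹ᵁ V) gen hgen
  -- the images of the generators
  let σY : (Σ l, Fin (d l)) → Γ(ClSub.idealMod i.ker, V) := fun a =>
    (ClSub.idealMod i.ker).presheaf.map (homOfLE (t a.1).le).op
      (idealPull i (j a.1) (𝟙 X) (g a.1) (hsq a.1) V (σ a.1 a.2))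
  have hσY : ∀ a, OmegaSh.idealSect i.ker V (σY a) = f a.1 a.2 := by
    intro a
    have e1 := idealSect_map i.ker (t a.1).le
      (idealPull i (j a.1) (𝟙 X) (g a.1) (hsq a.1) V (σ a.1 a.2))
    have e2 := idealSect_idealPull i (j a.1) (𝟙 X) (g a.1) (hsq a.1) V (σ a.1 a.2)
    have e3 : X.presheaf.map (homOfLE (t a.1).le).op
        ((𝟙 X : X ⟶ X).app V (OmegaSh.idealSect (j a.1).ker V (σ a.1 a.2))) = f a.1 a.2 := by
      rw [hσ']
      exact id_appLE_self V (t a.1).le (f a.1 a.2)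
    exact (e1.trans (congrArg _ e2)).trans e3
  have hφγ : ∀ a : Σ l, Fin (d l), (Sigma.desc ψ).app (i ⁻¹ᵁ V)
      ((Sigma.ι (fun l => (Scheme.Modules.pullback (g l)).obj (Omega.conormal (j l))) a.1).app
        (i ⁻¹ᵁ V) (gen a.1 a.2)) =
      pullSectLE i (ClSub.idealMod i.ker) V (i ⁻¹ᵁ V) le_rfl (σY a) := by
    intro a
    have h1 := congrArg (fun φ => Scheme.Modules.Hom.app φ (i ⁻¹ᵁ V) (gen a.1 a.2))
      (Sigma.ι_desc ψ a.1)
    exact h1.trans (sqMap_pullSectLE (ψ a.1) (hψ a.1) (t a.1) (σ a.1 a.2))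
  have hker_i : Ideal.span (Set.range fun a => OmegaSh.idealSect i.ker V (σY a)) =
      RingHom.ker (i.appLE V (i ⁻¹ᵁ V) le_rfl).hom := by
    have h1 : (fun a => OmegaSh.idealSect i.ker V (σY a)) =
        fun a : Σ l, Fin (d l) => f a.1 a.2 := funext hσY
    have h2 : i.ker.ideal ⟨V, hV⟩ = RingHom.ker (i.app V).hom := Scheme.Hom.ker_apply i ⟨V, hV⟩
    rw [h1, Set.range_sigma_eq_iUnion_range, Ideal.span_iUnion, Scheme.Hom.appLE_eq_app, ← h2, hY]
    congr 1
    funext l
    have h3 : (j l).ker.ideal ⟨V, hV⟩ = RingHom.ker ((j l).app V).hom :=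
      Scheme.Hom.ker_apply (j l) ⟨V, hV⟩
    rw [h3, hk l]
  have hspanY := span_conormal_of_span_ideal i hV hW le_rfl le_rfl hsurj_i σY hker_i
  -- the target is free of rank `∑ d l`
  letI algAB : Algebra Γ(X, V) Γ(Y, i ⁻¹ᵁ V) := (i.appLE V (i ⁻¹ᵁ V) le_rfl).hom.toAlgebra
  have hAB : Function.Surjective (algebraMap Γ(X, V) Γ(Y, i ⁻¹ᵁ V)) := hsurj_i
  have hI : RingHom.ker (algebraMap Γ(X, V) Γ(Y, i ⁻¹ᵁ V)) = Ideal.span (Set.range fY) := by
    change RingHom.ker (i.appLE V (i ⁻¹ᵁ V) le_rfl).hom = _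
    rw [Scheme.Hom.appLE_eq_app]
    exact hkY
  let e : Γ(Omega.conormal i, i ⁻¹ᵁ V) ≃ₗ[Γ(Y, i ⁻¹ᵁ V)] (Fin (∑ l, d l) → Γ(Y, i ⁻¹ᵁ V)) :=
    conormalEquiv i hV hW le_rfl le_rfl ≪≫ₗ (conormalBasisEquiv hAB fY hfY hI).symm
  -- Orzech
  let e' : Fin (∑ l, d l) ≃ Σ l, Fin (d l) := finSigmaFinEquiv.symm
  have key := bijective_of_span_of_equiv_fun
    (appLin (Sigma.desc ψ) (i ⁻¹ᵁ V))
    (fun a' : Fin (∑ l, d l) =>
      (Sigma.ι (fun l => (Scheme.Modules.pullback (g l)).obj (Omega.conormal (j l))) (e' a').1).app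
        (i ⁻¹ᵁ V) (gen (e' a').1 (e' a').2))
    (by
      rw [← hγ]
      congr 1
      exact (e'.surjective.range_comp (fun a : Σ l, Fin (d l) =>
        (Sigma.ι (fun l => (Scheme.Modules.pullback (g l)).obj (Omega.conormal (j l))) a.1).app
          (i ⁻¹ᵁ V) (gen a.1 a.2))))
    e
    (by
      refine (congrArg (Submodule.span Γ(Y, i ⁻¹ᵁ V)) ?_).trans hspanY
      have h2 : (fun a : Σ l, Fin (d l) => (Sigma.desc ψ).app (i ⁻¹ᵁ V)
            ((Sigma.ι (fun l => (Scheme.Modules.pullback (g l)).obj (Omega.conormal (j l))) a.1).app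
              (i ⁻¹ᵁ V) (gen a.1 a.2))) =
          (fun a : Σ l, Fin (d l) =>
            pullSectLE i (ClSub.idealMod i.ker) V (i ⁻¹ᵁ V) le_rfl (σY a)) := funext hφγ
      rw [← h2]
      exact (e'.surjective.range_comp (fun a : Σ l, Fin (d l) => (Sigma.desc ψ).app (i ⁻¹ᵁ V)
            ((Sigma.ι (fun l => (Scheme.Modules.pullback (g l)).obj (Omega.conormal (j l))) a.1).app
              (i ⁻¹ᵁ V) (gen a.1 a.2)))))
  exact key

/-- Good affine charts for the intersection. -/
structure InterChart where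
  V : X.Opens
  hV : IsAffineOpen V
  fY : Fin (∑ l, d l) → Γ(X, V)
  hfY : CAlgX.IsH1Regular fY
  hkY : RingHom.ker (i.app V).hom = Ideal.span (Set.range fY)
  f : ∀ l, Fin (d l) → Γ(X, V)
  hk : ∀ l, RingHom.ker ((j l).app V).hom = Ideal.span (Set.range (f l))

omit [∀ l, IsClosedImmersion (j l)] in
include hg in
theorem exists_interChart
    (hj : ∀ l, RegImm.IsRegularImmersionOfCodim RegImm.Kind.koszul (d l) (j l))
    (hi : RegImm.IsRegularImmersionOfCodim RegImm.Kind.koszul (∑ l, d l) i)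
    (y : Y) (O : Y.Opens) (hy : y ∈ O) :
    ∃ t : InterChart j d i, y ∈ i ⁻¹ᵁ t.V ∧ i ⁻¹ᵁ t.V ≤ O := by
  obtain ⟨U₀, -, hyU₀, H₀⟩ := exists_h1_chart_of_codim i hi y
  choose U _ hyU H using fun l => exists_h1_chart_of_codim (j l) (hj l) ((g l).base y)
  have hyU' : ∀ l, i.base y ∈ U l := by
    intro l
    have h1 := hyU l
    have h2 : (j l).base ((g l).base y) = i.base y := by
      rw [← hg l]
      rfl
    rw [h2] at h1
    exact h1
  obtain ⟨O₁, hO₁, hOO⟩ := i.isEmbedding.isInducing.isOpen_iff.1 O.2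
  have hyO₁ : i.base y ∈ (⟨O₁, hO₁⟩ : X.Opens) := by
    change y ∈ i.base ⁻¹' O₁
    rw [hOO]
    exact hy
  have hyQ : i.base y ∈ ((⟨O₁, hO₁⟩ : X.Opens) ⊓ U₀) ⊓ ⨅ l, U l := by
    refine ⟨⟨hyO₁, hyU₀⟩, ?_⟩
    rw [SetLike.mem_coe, ← SetLike.mem_coe, Opens.coe_iInf]
    exact Set.mem_iInter.2 hyU'
  obtain ⟨V, hV, hyV, hVQ⟩ := Opens.isBasis_iff_nbhd.mp X.isBasis_affineOpens hyQ
  obtain ⟨fY, hfY, hkY⟩ := H₀ V hV (hVQ.trans (inf_le_left.trans inf_le_right))
  choose f hf hk using fun l => H l V hV (hVQ.trans (inf_le_right.trans (iInf_le _ l)))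
  refine ⟨⟨V, hV, fY, hfY, hkY, f, hk⟩, hyV, ?_⟩
  intro z hz
  have h1 : i.base z ∈ O₁ := (hVQ hz).1.1
  have h2 : z ∈ i.base ⁻¹' O₁ := h1
  rw [hOO] at h2
  exact h2

include hg hψ in
/-- **The conormal sheaf of a complete intersection of Koszul-regular closed subschemes is the direct
sum of the pulled back conormal sheaves.** -/
theorem isIso_sigma_desc_conormal
    (hj : ∀ l, RegImm.IsRegularImmersionOfCodim RegImm.Kind.koszul (d l) (j l))
    (hi : RegImm.IsRegularImmersionOfCodim RegImm.Kind.koszul (∑ l, d l) i)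
    (hY : ∀ U : X.affineOpens, i.ker.ideal U = ⨆ l, (j l).ker.ideal U) :
    IsIso (Sigma.desc ψ) := by
  haveI : (Omega.conormal i).IsQuasicoherent := isQuasicoherent_conormal i
  haveI : ∀ l, ((Scheme.Modules.pullback (g l)).obj (Omega.conormal (j l))).IsQuasicoherent :=
    fun l => by
      haveI : (Omega.conormal (j l)).IsQuasicoherent := isQuasicoherent_conormal (j l)
      infer_instance
  have hchart : ∀ t : InterChart j d i, Function.Bijective ((Sigma.desc ψ).app (i ⁻¹ᵁ t.V)) :=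
    fun t => sigma_chart_bijective j d i g ψ hψ t.V t.hV t.fY t.hfY t.hkY t.f t.hk (hY ⟨t.V, t.hV⟩)
  have hcov : ∀ y : Y, ∃ t : InterChart j d i, y ∈ i ⁻¹ᵁ t.V := fun y => by
    obtain ⟨t, hyt, -⟩ := exists_interChart j d i g hg hj hi y ⊤ trivial
    exact ⟨t, hyt⟩
  have hbasis : Opens.IsBasis (Set.range (fun t : InterChart j d i => i ⁻¹ᵁ t.V)) := by
    rw [Opens.isBasis_iff_nbhd]
    intro O y hy
    obtain ⟨t, hyt, htO⟩ := exists_interChart j d i g hg hj hi y O hy
    exact ⟨_, ⟨t, rfl⟩, hyt, htO⟩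
  haveI : Epi (Sigma.desc ψ) := epi_of_surjective_on_cover (Sigma.desc ψ)
    (fun t : InterChart j d i => i ⁻¹ᵁ t.V) hcov (fun t => t.hV.preimage i)
    (fun t => (hchart t).2)
  haveI : Mono (Sigma.desc ψ) := mono_of_injective_on_basis (Sigma.desc ψ)
    (fun t : InterChart j d i => i ⁻¹ᵁ t.V) hbasis (fun t => (hchart t).1)
  exact isIso_of_mono_of_epi _

end Main
end Groth.Agent.H44
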