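import Groth.Agent.H44.OmegaUniversal

/-!
# Pushing derivations forward along a commutative square (helper44)

* `pushDer h b hsq D' : Der f (h_* G)` for `D' : Der f' G` and a square `f' ≫ b = h ≫ f`.
* `existsUnique_isDiffCompat` : the canonical map `h^* Ω ⟶ Ω'` of a square exists uniquely.
-/

set_option autoImplicit false
universe u
open CategoryTheory Opposite AlgebraicGeometry TopologicalSpace Scheme.Modules

namespace Groth.Agent.H44

section
variable {X S X' S' : Scheme.{u}} {f : X ⟶ S} {f' : X' ⟶ S'} (h : X' ⟶ X) (b : S' ⟶ S)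
  (hsq : f' ≫ b = h ≫ f) {G : X'.Modules} (D' : OmegaSh.Der f' G)

theorem app_comp_apply {A B C : Scheme.{u}} (p : A ⟶ B) (q : B ⟶ C) (V : C.Opens) (c : Γ(C, V)) :
    (p ≫ q).app V c = p.app (q ⁻¹ᵁ V) (q.app V c) := rfl

include hsq in
theorem pushDer_aux (V : S.Opens) (c : Γ(S, V)) :
    D'.app (h ⁻¹ᵁ (f ⁻¹ᵁ V)) (h.app (f ⁻¹ᵁ V) (f.app V c)) = 0 := by
  change D'.app ((h ≫ f) ⁻¹ᵁ V) ((h ≫ f).app V c) = 0
  have e1 := Scheme.Hom.congr_app hsq.symm V
  have hle : (h ≫ f) ⁻¹ᵁ V ≤ (f' ≫ b) ⁻¹ᵁ V := by rw [hsq]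
  have e2 : (h ≫ f).app V c =
      X'.presheaf.map (homOfLE hle).op ((f' ≫ b).app V c) := congr($e1 c)
  rw [e2, Der_app_map]
  have e3 : D'.app ((f' ≫ b) ⁻¹ᵁ V) ((f' ≫ b).app V c) = 0 := Der_app_app D' (b ⁻¹ᵁ V) (b.app V c)
  rw [e3, map_zero]

/-- The pushforward of a derivation along a commutative square. -/
noncomputable def pushDer : OmegaSh.Der f ((Scheme.Modules.pushforward h).obj G) where
  d {U} := AddMonoidHom.mk'
    (fun s : Γ(X, U.unop) => (D'.app (h ⁻¹ᵁ U.unop) (h.app U.unop s) : Γ(G, h ⁻¹ᵁ U.unop)))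
    (fun a b => by rw [map_add, map_add]; rfl)
  d_mul {U} a b := by
    change D'.app (h ⁻¹ᵁ U.unop) (h.app U.unop (a * b)) = _
    rw [map_mul, Der_app_mul]
    rfl
  d_map {U W} i s := by
    change D'.app (h ⁻¹ᵁ W.unop) (h.app W.unop (X.presheaf.map i s)) = _
    have e1 : h.app W.unop (X.presheaf.map i s) =
        X'.presheaf.map (homOfLE (show h ⁻¹ᵁ W.unop ≤ h ⁻¹ᵁ U.unop from
          fun x hx => i.unop.le hx)).op (h.app U.unop s) :=
      congr($(h.naturality i) s)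
    rw [e1, Der_app_map]
    rfl
  d_app {V} c := pushDer_aux h b hsq D' V.unop c

theorem pushDer_app (U : X.Opens) (s : Γ(X, U)) :
    (pushDer h b hsq D').app U s = D'.app (h ⁻¹ᵁ U) (h.app U s) := rfl

end

section
variable {X S X' S' : Scheme.{u}} {f : X ⟶ S} {f' : X' ⟶ S'} (h : X' ⟶ X) (b : S' ⟶ S)
  (hsq : f' ≫ b = h ≫ f) {Ω : X.Modules} (d : OmegaSh.Der f Ω) {Ω' : X'.Modules}
  (d' : OmegaSh.Der f' Ω')

theorem homEquiv_app (c : (Scheme.Modules.pullback h).obj Ω ⟶ Ω') (U : X.Opens) (m : Γ(Ω, U)) :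
    ((Scheme.Modules.pullbackPushforwardAdjunction h).homEquiv Ω Ω' c).app U m =
      c.app (h ⁻¹ᵁ U) (OmegaSh.pullSect h Ω U m) := by
  rw [Adjunction.homEquiv_unit]
  rfl

theorem isDiffCompat_iff (c : (Scheme.Modules.pullback h).obj Ω ⟶ Ω') :
    OmegaSh.IsDiffCompat h d d' c ↔
      d.postcomp ((Scheme.Modules.pullbackPushforwardAdjunction h).homEquiv Ω Ω' c).val =
        pushDer h b hsq d' := by
  constructor
  · intro hc
    apply Der_ext
    intro U s
    rw [postcomp_app, pushDer_app, homEquiv_app]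
    exact hc U s
  · intro hh U s
    have := congrArg (fun D => OmegaSh.Der.app D U s) hh
    simp only [postcomp_app, pushDer_app, homEquiv_app] at this
    exact this

include hsq in
/-- **The canonical map `h^* Ω ⟶ Ω'` of a commutative square exists uniquely.** -/
theorem existsUnique_isDiffCompat (hd : OmegaSh.IsUniversal d) :
    ∃! c : (Scheme.Modules.pullback h).obj Ω ⟶ Ω', OmegaSh.IsDiffCompat h d d' c := by
  obtain ⟨α, hα, huniq⟩ := hd _ (pushDer h b hsq d')
  refine ⟨((Scheme.Modules.pullbackPushforwardAdjunction h).homEquiv Ω Ω').symm α, ?_, ?_⟩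
  · change OmegaSh.IsDiffCompat h d d' _
    rw [isDiffCompat_iff h b hsq, Equiv.apply_symm_apply]
    exact hα
  · intro c hc
    change OmegaSh.IsDiffCompat h d d' c at hc
    rw [isDiffCompat_iff h b hsq] at hc
    rw [← huniq _ hc, Equiv.symm_apply_apply]

end
end Groth.Agent.H44
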