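import Groth.Agent.H44.ConormalTriple
import Groth.Agent.H44.DerPush

/-!
# Existence and uniqueness of the canonical map of conormal sheaves of a commutative square (helper44)

`idealSect_injective/_smul/_map`, `app_idealSect_eq_zero`, `idealPull`, `conormalPull`, `conormalAdj`
(the morphism `I' ⟶ i'_* gZ_* C_{Z/X}`), `conormalTranspose`, `isConormalMap_iff`,
`existsUnique_isConormalMap`.
-/

set_option autoImplicit false
universe u
open CategoryTheory Limits Opposite AlgebraicGeometry TopologicalSpace Scheme.Modules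

namespace Groth.Agent.H44

section IdealSectBasics
variable {P : Scheme.{u}} (K : P.IdealSheafData)

theorem idealSect_injective (W : P.Opens) : Function.Injective (OmegaSh.idealSect K W) := by
  intro a b h
  exact OmegaSh.idealModι_app_injective W K h

theorem idealSect_smul (W : P.Opens) (r : Γ(P, W)) (σ : Γ(ClSub.idealMod K, W)) :
    OmegaSh.idealSect K W (r • σ) = r * OmegaSh.idealSect K W σ := by
  rw [OmegaSh.idealSect_apply, OmegaSh.idealSect_apply, Scheme.Modules.Hom.app_smul]
  rfl

theorem idealSect_map {W W' : P.Opens} (h : W' ≤ W) (σ : Γ(ClSub.idealMod K, W)) :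
    OmegaSh.idealSect K W' ((ClSub.idealMod K).presheaf.map (homOfLE h).op σ) =
      P.presheaf.map (homOfLE h).op (OmegaSh.idealSect K W σ) := by
  rw [OmegaSh.idealSect_apply, OmegaSh.idealSect_apply, OmegaSh.idealModι_app_map]
  rfl

end IdealSectBasics

section IdealZero
variable {Z' X' : Scheme.{u}} (i' : Z' ⟶ X')

/-- Sections of the ideal module of `i'.ker` (over any open) are killed by `i'♯`. -/
theorem app_idealSect_eq_zero (U' : X'.Opens) (s' : Γ(ClSub.idealMod i'.ker, U')) :
    i'.app U' (OmegaSh.idealSect i'.ker U' s') = 0 := by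
  have h1 : (ClSub.toSubscheme i'.ker).app U' ((ClSub.idealModι i'.ker).app U' s') = 0 := by
    have h0 : ClSub.idealModι i'.ker ≫ ClSub.toSubscheme i'.ker = 0 := kernel.condition _
    have := congr(($h0).app U' s')
    exact this
  have h2 : i'.ker.subschemeι.app U' (OmegaSh.idealSect i'.ker U' s') = 0 := h1
  have h3 := Scheme.Hom.congr_app i'.toImage_imageι.symm U'
  rw [h3, CommRingCat.comp_apply]
  change Z'.presheaf.map _ (i'.toImage.app (i'.imageι ⁻¹ᵁ U') (i'.ker.subschemeι.app U' _)) = 0
  rw [h2, map_zero, map_zero]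

end IdealZero

section ConormalSectBasics
variable {Z X : Scheme.{u}} (i : Z ⟶ X)

theorem conormalSect_map {U V : X.Opens} (e : V ≤ U) (m : Γ(ClSub.idealMod i.ker, U)) :
    OmegaSh.conormalSect i V ((ClSub.idealMod i.ker).presheaf.map (homOfLE e).op m) =
      (Omega.conormal i).presheaf.map (homOfLE (i.preimage_mono e)).op
        (OmegaSh.conormalSect i U m) :=
  OmegaSh.pullSect_map i _ e m

theorem conormalSect_smul (U : X.Opens) (r : Γ(X, U)) (m : Γ(ClSub.idealMod i.ker, U)) :
    OmegaSh.conormalSect i U (r • m) = i.app U r • OmegaSh.conormalSect i U m :=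
  OmegaSh.pullSect_smul i _ U r m

end ConormalSectBasics

section IdealPull
variable {Z X Z' X' : Scheme.{u}} (i : Z ⟶ X) (i' : Z' ⟶ X') [QuasiCompact i]
  (g : X ⟶ X') (gZ : Z ⟶ Z') (hsq : gZ ≫ i' = i ≫ g)

omit [QuasiCompact i] in
include hsq in
theorem app_app_idealSect_eq_zero (U' : X'.Opens) (s' : Γ(ClSub.idealMod i'.ker, U')) :
    i.app (g ⁻¹ᵁ U') (g.app U' (OmegaSh.idealSect i'.ker U' s')) = 0 := by
  change (i ≫ g).app U' (OmegaSh.idealSect i'.ker U' s') = 0
  have h3 := Scheme.Hom.congr_app hsq.symm U'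
  rw [h3, CommRingCat.comp_apply]
  change Z.presheaf.map _ (gZ.app (i' ⁻¹ᵁ U') (i'.app U' _)) = 0
  rw [app_idealSect_eq_zero, map_zero, map_zero]

/-- Pull a section of the ideal of `i'` back to a section of the ideal of `i` (over any open). -/
noncomputable def idealPull (U' : X'.Opens) (s' : Γ(ClSub.idealMod i'.ker, U')) :
    Γ(ClSub.idealMod i.ker, g ⁻¹ᵁ U') :=
  (exists_idealSect_eq_of_app_eq_zero i (g ⁻¹ᵁ U') _
    (app_app_idealSect_eq_zero i i' g gZ hsq U' s')).choose

theorem idealSect_idealPull (U' : X'.Opens) (s' : Γ(ClSub.idealMod i'.ker, U')) :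
    OmegaSh.idealSect i.ker (g ⁻¹ᵁ U') (idealPull i i' g gZ hsq U' s') =
      g.app U' (OmegaSh.idealSect i'.ker U' s') :=
  (exists_idealSect_eq_of_app_eq_zero i (g ⁻¹ᵁ U') _
    (app_app_idealSect_eq_zero i i' g gZ hsq U' s')).choose_spec

theorem eq_idealPull (U' : X'.Opens) (s' : Γ(ClSub.idealMod i'.ker, U'))
    (s : Γ(ClSub.idealMod i.ker, g ⁻¹ᵁ U'))
    (hs : OmegaSh.idealSect i.ker (g ⁻¹ᵁ U') s = g.app U' (OmegaSh.idealSect i'.ker U' s')) :
    s = idealPull i i' g gZ hsq U' s' :=
  idealSect_injective _ _ (hs.trans (idealSect_idealPull i i' g gZ hsq U' s').symm)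

theorem idealPull_add (U' : X'.Opens) (a b : Γ(ClSub.idealMod i'.ker, U')) :
    idealPull i i' g gZ hsq U' (a + b) =
      idealPull i i' g gZ hsq U' a + idealPull i i' g gZ hsq U' b := by
  refine (eq_idealPull i i' g gZ hsq U' (a + b) _ ?_).symm
  rw [map_add, map_add, map_add, idealSect_idealPull, idealSect_idealPull]

theorem idealPull_smul (U' : X'.Opens) (r : Γ(X', U')) (a : Γ(ClSub.idealMod i'.ker, U')) :
    idealPull i i' g gZ hsq U' (r • a) = g.app U' r • idealPull i i' g gZ hsq U' a := by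
  refine (eq_idealPull i i' g gZ hsq U' (r • a) _ ?_).symm
  rw [idealSect_smul, idealSect_smul, map_mul, idealSect_idealPull]

theorem idealPull_map {U' V' : X'.Opens} (h : V' ≤ U') (a : Γ(ClSub.idealMod i'.ker, U')) :
    idealPull i i' g gZ hsq V' ((ClSub.idealMod i'.ker).presheaf.map (homOfLE h).op a) =
      (ClSub.idealMod i.ker).presheaf.map (homOfLE (g.preimage_mono h)).op
        (idealPull i i' g gZ hsq U' a) := by
  refine (eq_idealPull i i' g gZ hsq V' _ _ ?_).symm
  rw [idealSect_map, idealSect_map, idealSect_idealPull]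
  exact (congr($(g.naturality (homOfLE h).op) (OmegaSh.idealSect i'.ker U' a))).symm

omit [QuasiCompact i] in
include hsq in
theorem preimage_preimage_eq (U' : X'.Opens) : gZ ⁻¹ᵁ (i' ⁻¹ᵁ U') = i ⁻¹ᵁ (g ⁻¹ᵁ U') := by
  change (gZ ≫ i') ⁻¹ᵁ U' = (i ≫ g) ⁻¹ᵁ U'
  rw [hsq]

/-- The class in `C_{Z/X}`, over `gZ⁻¹ i'⁻¹ U'`, of the pullback of a section of the ideal of `i'`. -/
noncomputable def conormalPull (U' : X'.Opens) (s' : Γ(ClSub.idealMod i'.ker, U')) :
    Γ(Omega.conormal i, gZ ⁻¹ᵁ (i' ⁻¹ᵁ U')) :=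
  (Omega.conormal i).presheaf.map (homOfLE (preimage_preimage_eq i i' g gZ hsq U').le).op
    (OmegaSh.conormalSect i (g ⁻¹ᵁ U') (idealPull i i' g gZ hsq U' s'))

theorem conormalPull_add (U' : X'.Opens) (a b : Γ(ClSub.idealMod i'.ker, U')) :
    conormalPull i i' g gZ hsq U' (a + b) =
      conormalPull i i' g gZ hsq U' a + conormalPull i i' g gZ hsq U' b := by
  unfold conormalPull
  rw [idealPull_add, map_add, map_add]

theorem conormalPull_map {U' V' : X'.Opens} (h : V' ≤ U') (a : Γ(ClSub.idealMod i'.ker, U')) :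
    conormalPull i i' g gZ hsq V' ((ClSub.idealMod i'.ker).presheaf.map (homOfLE h).op a) =
      (Omega.conormal i).presheaf.map
        (homOfLE (gZ.preimage_mono (i'.preimage_mono h))).op (conormalPull i i' g gZ hsq U' a) := by
  unfold conormalPull
  rw [idealPull_map, conormalSect_map, resM_comp, resM_comp]

theorem conormalPull_smul (U' : X'.Opens) (r : Γ(X', U')) (a : Γ(ClSub.idealMod i'.ker, U')) :
    conormalPull i i' g gZ hsq U' (r • a) =
      gZ.app (i' ⁻¹ᵁ U') (i'.app U' r) • conormalPull i i' g gZ hsq U' a := by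
  unfold conormalPull
  rw [idealPull_smul, conormalSect_smul, Scheme.Modules.map_smul]
  congr 1
  have h3 := Scheme.Hom.congr_app hsq U'
  have h4 := congr($h3 r)
  rw [CommRingCat.comp_apply] at h4
  exact h4.symm

/-- The morphism `I' ⟶ i'_* gZ_* C_{Z/X}` adjoint to the canonical map of conormal sheaves. -/
noncomputable def conormalAdj :
    ClSub.idealMod i'.ker ⟶
      (Scheme.Modules.pushforward i').obj ((Scheme.Modules.pushforward gZ).obj (Omega.conormal i)) :=
  ⟨PresheafOfModules.homMk
    { app := fun U' => AddCommGrpCat.ofHom (AddMonoidHom.mk'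
        (fun s' : Γ(ClSub.idealMod i'.ker, U'.unop) =>
          (conormalPull i i' g gZ hsq U'.unop s' :
            Γ(Omega.conormal i, gZ ⁻¹ᵁ (i' ⁻¹ᵁ U'.unop))))
        (conormalPull_add i i' g gZ hsq U'.unop))
      naturality := fun U' V' f => by
        ext s'
        exact conormalPull_map i i' g gZ hsq (leOfHom f.unop) s' }
    (fun U' r s' => conormalPull_smul i i' g gZ hsq U'.unop r s')⟩

theorem conormalAdj_app (U' : X'.Opens) (s' : Γ(ClSub.idealMod i'.ker, U')) :
    (conormalAdj i i' g gZ hsq).app U' s' = conormalPull i i' g gZ hsq U' s' := rfl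

/-- The double adjoint of a map `gZ^* C_{Z'/X'} ⟶ C_{Z/X}`. -/
noncomputable def conormalTranspose
    (φ : (Scheme.Modules.pullback gZ).obj (Omega.conormal i') ⟶ Omega.conormal i) :
    ClSub.idealMod i'.ker ⟶
      (Scheme.Modules.pushforward i').obj ((Scheme.Modules.pushforward gZ).obj (Omega.conormal i)) :=
  (Scheme.Modules.pullbackPushforwardAdjunction i').homEquiv (ClSub.idealMod i'.ker) _
    ((Scheme.Modules.pullbackPushforwardAdjunction gZ).homEquiv (Omega.conormal i') _ φ)

omit [QuasiCompact i] in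
theorem conormalTranspose_app
    (φ : (Scheme.Modules.pullback gZ).obj (Omega.conormal i') ⟶ Omega.conormal i)
    (U' : X'.Opens) (s' : Γ(ClSub.idealMod i'.ker, U')) :
    (conormalTranspose i i' gZ φ).app U' s' =
      φ.app (gZ ⁻¹ᵁ (i' ⁻¹ᵁ U'))
        (OmegaSh.pullSect gZ (Omega.conormal i') (i' ⁻¹ᵁ U') (OmegaSh.conormalSect i' U' s')) := by
  unfold conormalTranspose
  rw [homEquiv_app]
  exact homEquiv_app gZ φ (i' ⁻¹ᵁ U') _

omit [QuasiCompact i] in
theorem conormalTranspose_injective :
    Function.Injective (conormalTranspose i i' gZ) := by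
  intro φ φ' h
  unfold conormalTranspose at h
  exact (Equiv.injective _) ((Equiv.injective _) h)

omit [QuasiCompact i] in
theorem conormalTranspose_surjective :
    Function.Surjective (conormalTranspose i i' gZ) := by
  intro ψ
  refine ⟨((Scheme.Modules.pullbackPushforwardAdjunction gZ).homEquiv (Omega.conormal i') _).symm
    (((Scheme.Modules.pullbackPushforwardAdjunction i').homEquiv (ClSub.idealMod i'.ker) _).symm ψ),
    ?_⟩
  unfold conormalTranspose
  rw [Equiv.apply_symm_apply, Equiv.apply_symm_apply]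

theorem isConormalMap_iff
    (φ : (Scheme.Modules.pullback gZ).obj (Omega.conormal i') ⟶ Omega.conormal i) :
    OmegaSh.IsConormalMap i i' g gZ φ ↔ conormalTranspose i i' gZ φ = conormalAdj i i' g gZ hsq := by
  constructor
  · intro hφ
    refine Scheme.Modules.hom_ext _ _ fun U' => ?_
    ext s'
    rw [conormalTranspose_app, conormalAdj_app]
    have h := hφ.2 U' s' (idealPull i i' g gZ hsq U' s') (idealSect_idealPull i i' g gZ hsq U' s')
      (gZ ⁻¹ᵁ (i' ⁻¹ᵁ U')) le_rfl (preimage_preimage_eq i i' g gZ hsq U').le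
    rw [resM_refl] at h
    exact h
  · intro h
    refine ⟨hsq, fun U' s' s hs V h₁ h₂ => ?_⟩
    have h0 := congr(($h).app U' s')
    rw [conormalTranspose_app, conormalAdj_app] at h0
    rw [h0, eq_idealPull i i' g gZ hsq U' s' s hs]
    unfold conormalPull
    rw [resM_comp]

include hsq in
/-- **The canonical map of conormal sheaves of a commutative square exists uniquely.** -/
theorem existsUnique_isConormalMap :
    ∃! φ : (Scheme.Modules.pullback gZ).obj (Omega.conormal i') ⟶ Omega.conormal i,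
      OmegaSh.IsConormalMap i i' g gZ φ := by
  obtain ⟨φ, hφ⟩ := conormalTranspose_surjective i i' gZ (conormalAdj i i' g gZ hsq)
  refine ⟨φ, (isConormalMap_iff i i' g gZ hsq φ).2 hφ, fun φ' hφ' => ?_⟩
  exact conormalTranspose_injective i i' gZ
    (((isConormalMap_iff i i' g gZ hsq φ').1 hφ').trans hφ.symm)

end IdealPull
end Groth.Agent.H44
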