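import Groth.Agent.H44.ConormalChart

/-!
# The conormal sequence of a quasi-compact immersion (helper44)

`conormalDiff_chart_description`, `conormalDiff_app_injective`, `conormal_seq_chart`,
`conormal_comp_eq_zero`, `conormal_seq_exact`.
-/

set_option autoImplicit false
universe u
open CategoryTheory Limits Opposite AlgebraicGeometry TopologicalSpace TensorProduct Scheme.Modules

namespace Groth.Agent.H44

section ConormalDiff
variable {X Y S : Scheme.{u}} (j : X ⟶ Y) [QuasiCompact j] {f : Y ⟶ S}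
  {Ω : Y.Modules} (d : OmegaSh.Der f Ω)
  (φ : Omega.conormal j ⟶ (Scheme.Modules.pullback j).obj Ω) (hφ : OmegaSh.IsConormalDiff j d φ)
  {U : Y.Opens} (hU : IsAffineOpen U)
  {U' : X.Opens} (hU' : IsAffineOpen U') (le : U' ≤ j ⁻¹ᵁ U) (ge : j ⁻¹ᵁ U ≤ U')
  {V : S.Opens} (e : U ≤ f ⁻¹ᵁ V)

include hφ in
omit [QuasiCompact j] in
theorem conormalDiff_pullSectLE (σ : Γ(ClSub.idealMod j.ker, U)) :
    φ.app U' (pullSectLE j (ClSub.idealMod j.ker) U U' le σ) =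
      pullSectLE j Ω U U' le (d.app U (OmegaSh.idealSect j.ker U σ)) := by
  unfold pullSectLE
  have h1 := hom_app_resLE φ le (OmegaSh.conormalSect j U σ)
  rw [hφ U σ] at h1
  exact h1

include hφ in
/-- Chart description of the canonical map `C_{X/Y} ⟶ j^*Ω_{Y/S}`: it is `b ⊗ x ↦ b ⊗ D x`. -/
theorem conormalDiff_chart_description :
    letI := (f.appLE V U e).hom.toAlgebra
    letI := (j.appLE U U' le).hom.toAlgebra
    ∀ (E : Γ((Scheme.Modules.pullback j).obj Ω, U') ≃ₗ[Γ(X, U')]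
          Γ(X, U') ⊗[Γ(Y, U)] Ω[Γ(Y, U)⁄Γ(S, V)])
      (_ : ∀ s, E (pullSectLE j Ω U U' le (d.app U s)) =
        (1 : Γ(X, U')) ⊗ₜ[Γ(Y, U)] KaehlerDifferential.D Γ(S, V) Γ(Y, U) s)
      (x : Γ(Omega.conormal j, U')),
      E (φ.app U' x) = conormalToTensor Γ(S, V) Γ(Y, U) Γ(X, U') (conormalEquiv j hU hU' le ge x) := by
  letI := (f.appLE V U e).hom.toAlgebra
  letI := (j.appLE U U' le).hom.toAlgebra
  intro E hE
  refine conormal_induction j hU hU' le ge _ ?_ ?_ ?_ ?_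
  · rw [map_zero, map_zero, map_zero, map_zero]
  · intro x y hx hy
    rw [map_add, map_add, map_add, map_add, hx, hy]
  · intro a x hx
    rw [Scheme.Modules.Hom.app_smul, _root_.map_smul, _root_.map_smul, _root_.map_smul, hx]
  · intro σ
    rw [conormalDiff_pullSectLE j d φ hφ le, hE, conormalEquiv_pullSectLE, conormalToTensor_tmul]
    rfl

end ConormalDiff

section ConormalSeq
variable {X Y S : Scheme.{u}} {j : X ⟶ Y} [IsImmersion j] [QuasiCompact j] {f : Y ⟶ S}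
  {ΩY : Y.Modules} (dY : OmegaSh.Der f ΩY) (hY : OmegaSh.IsUniversal dY)
  (φ : Omega.conormal j ⟶ (Scheme.Modules.pullback j).obj ΩY) (hφ : OmegaSh.IsConormalDiff j dY φ)

include hY hφ in
/-- Injectivity of `C_{X/Y} ⟶ j^*Ω_{Y/S}` on a chart follows from the algebraic injectivity. -/
theorem conormalDiff_app_injective (t : ImmChart j f)
    (hinj : letI := (f.appLE t.V t.U t.e).hom.toAlgebra
      letI := (j.appLE t.U (j ⁻¹ᵁ t.U) le_rfl).hom.toAlgebra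
      Function.Injective (conormalToTensor Γ(S, t.V) Γ(Y, t.U) Γ(X, j ⁻¹ᵁ t.U))) :
    Function.Injective (φ.app (j ⁻¹ᵁ t.U)) := by
  letI := (f.appLE t.V t.U t.e).hom.toAlgebra
  letI := (j.appLE t.U (j ⁻¹ᵁ t.U) le_rfl).hom.toAlgebra
  obtain ⟨E, hE⟩ := exists_pullback_kaehler_equiv j dY hY t.hU t.hU' le_rfl t.hV t.e
  have h1 := conormalDiff_chart_description j dY φ hφ t.hU t.hU' le_rfl le_rfl t.e E hE
  intro x y hxy
  have h2 : conormalToTensor Γ(S, t.V) Γ(Y, t.U) Γ(X, j ⁻¹ᵁ t.U)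
      (conormalEquiv j t.hU t.hU' le_rfl le_rfl x) =
      conormalToTensor Γ(S, t.V) Γ(Y, t.U) Γ(X, j ⁻¹ᵁ t.U)
      (conormalEquiv j t.hU t.hU' le_rfl le_rfl y) := by
    rw [← h1, ← h1, hxy]
  exact (conormalEquiv j t.hU t.hU' le_rfl le_rfl).injective (hinj h2)

variable {ΩX : X.Modules} (dX : OmegaSh.Der (j ≫ f) ΩX) (hX : OmegaSh.IsUniversal dX)
  (c : (Scheme.Modules.pullback j).obj ΩY ⟶ ΩX) (hc : OmegaSh.IsDiffCompat j dY dX c)

include hY hφ hX hc in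
/-- Chart-level exactness of `C_{X/Y} ⟶ j^*Ω_{Y/S} ⟶ Ω_{X/S} ⟶ 0`. -/
theorem conormal_seq_chart (t : ImmChart j f) :
    Function.Surjective (c.app (j ⁻¹ᵁ t.U)) ∧
    (∀ x, c.app (j ⁻¹ᵁ t.U) (φ.app (j ⁻¹ᵁ t.U) x) = 0) ∧
    (∀ y, c.app (j ⁻¹ᵁ t.U) y = 0 → ∃ x, φ.app (j ⁻¹ᵁ t.U) x = y) := by
  letI algAB : Algebra Γ(S, t.V) Γ(Y, t.U) := (f.appLE t.V t.U t.e).hom.toAlgebra
  letI algAC : Algebra Γ(S, t.V) Γ(X, j ⁻¹ᵁ t.U) :=
    ((j ≫ f).appLE t.V (j ⁻¹ᵁ t.U) t.e').hom.toAlgebra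
  letI algBC : Algebra Γ(Y, t.U) Γ(X, j ⁻¹ᵁ t.U) := (j.appLE t.U (j ⁻¹ᵁ t.U) le_rfl).hom.toAlgebra
  haveI : IsScalarTower Γ(S, t.V) Γ(Y, t.U) Γ(X, j ⁻¹ᵁ t.U) := IsScalarTower.of_algebraMap_eq' (by
    change ((j ≫ f).appLE t.V (j ⁻¹ᵁ t.U) t.e').hom =
      (j.appLE t.U (j ⁻¹ᵁ t.U) le_rfl).hom.comp (f.appLE t.V t.U t.e).hom
    rw [← CommRingCat.hom_comp, Scheme.Hom.appLE_comp_appLE])
  have hsurj : Function.Surjective (algebraMap Γ(Y, t.U) Γ(X, j ⁻¹ᵁ t.U)) := by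
    change Function.Surjective (j.appLE t.U (j ⁻¹ᵁ t.U) le_rfl).hom
    rw [Scheme.Hom.appLE_eq_app]
    exact t.surj
  obtain ⟨E, hE⟩ := exists_pullback_kaehler_equiv j dY hY t.hU t.hU' le_rfl t.hV t.e
  have h1 := conormalDiff_chart_description j dY φ hφ t.hU t.hU' le_rfl le_rfl t.e E hE
  obtain ⟨Φ', hΦ'⟩ := exists_kaehler_equiv_of_isUniversal dX t.hU' t.hV t.e' hX
  have h2 := diffCompat_chart_description j dY hY dX c hc t.hU t.hU' le_rfl t.hV t.e t.e' E hE Φ' hΦ'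
    (KaehlerDifferential.mapBaseChange Γ(S, t.V) Γ(Y, t.U) Γ(X, j ⁻¹ᵁ t.U)) (fun s => by
      rw [KaehlerDifferential.mapBaseChange_tmul, KaehlerDifferential.map_D, one_smul]
      rfl)
  have hex := exact_conormalToTensor_mapBaseChange Γ(S, t.V) Γ(Y, t.U) Γ(X, j ⁻¹ᵁ t.U) hsurj
  refine ⟨fun z => ?_, fun x => ?_, fun y hy => ?_⟩
  · obtain ⟨ω, hω⟩ := KaehlerDifferential.mapBaseChange_surjective Γ(S, t.V) Γ(Y, t.U)
      Γ(X, j ⁻¹ᵁ t.U) hsurj (Φ' z)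
    refine ⟨E.symm ω, ?_⟩
    apply Φ'.injective
    rw [h2, E.apply_symm_apply, hω]
  · apply Φ'.injective
    rw [h2, h1, map_zero]
    exact hex.apply_apply_eq_zero _
  · have h3 : KaehlerDifferential.mapBaseChange Γ(S, t.V) Γ(Y, t.U) Γ(X, j ⁻¹ᵁ t.U) (E y) = 0 := by
      rw [← h2, hy, map_zero]
    obtain ⟨v, hv⟩ := (hex (E y)).1 h3
    refine ⟨(conormalEquiv j t.hU t.hU' le_rfl le_rfl).symm v, ?_⟩
    apply E.injective
    rw [h1, LinearEquiv.apply_symm_apply, hv]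

include hY hφ hX hc in
theorem conormal_comp_eq_zero : φ ≫ c = 0 := by
  refine hom_eq_zero_of_isBasis _ _ (isBasis_immChart j f) ?_
  rintro _ ⟨t, rfl⟩ x
  exact (conormal_seq_chart dY hY φ hφ dX hX c hc t).2.1 x

instance isQuasicoherent_conormal {X Y : Scheme.{u}} (j : X ⟶ Y) :
    (Omega.conormal j).IsQuasicoherent :=
  inferInstanceAs ((Scheme.Modules.pullback j).obj (ClSub.idealMod j.ker)).IsQuasicoherent

include hY hφ hX hc in
/-- **The conormal sequence `C_{X/Y} ⟶ j^*Ω_{Y/S} ⟶ Ω_{X/S} ⟶ 0` of a quasi-compact immersion is exact.** -/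
theorem conormal_seq_exact :
    Epi c ∧ ∃ w : φ ≫ c = 0, (ShortComplex.mk φ c w).Exact := by
  haveI := isQuasicoherent_of_isUniversal dY hY
  haveI := isQuasicoherent_of_isUniversal dX hX
  have hcov : ∀ x : X, ∃ t : ImmChart j f, x ∈ j ⁻¹ᵁ t.U := fun x => by
    obtain ⟨t, hxt, -⟩ := exists_immChart j f x ⊤ trivial
    exact ⟨t, hxt⟩
  refine ⟨epi_of_surjective_on_cover c (fun t : ImmChart j f => j ⁻¹ᵁ t.U) hcov (fun t => t.hU')
    (fun t => (conormal_seq_chart dY hY φ hφ dX hX c hc t).1),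
    conormal_comp_eq_zero dY hY φ hφ dX hX c hc, ?_⟩
  exact exact_of_exact_on_cover φ c _ (fun t : ImmChart j f => j ⁻¹ᵁ t.U) hcov (fun t => t.hU')
    (fun t => (conormal_seq_chart dY hY φ hφ dX hX c hc t).2.2)

end ConormalSeq
end Groth.Agent.H44
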