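import Groth.Agent.H44.ConormalTriple
import Groth.Agent.H44.ConormalAlg3
import Groth.Agent.H44.FormallySmoothOmega
import Mathlib.AlgebraicGeometry.Morphisms.Smooth

/-!
# `0 ⟶ C_{Z/Y} ⟶ C_{Z/X} ⟶ i^*Ω_{X/Y} ⟶ 0` is short exact for `X/Y` smooth (helper44)
-/

set_option autoImplicit false
universe u
open CategoryTheory Limits Opposite AlgebraicGeometry TopologicalSpace TensorProduct Scheme.Modules

namespace Groth.Agent.H44

section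
variable {Z X Y : Scheme.{u}} {i : Z ⟶ X} {p : X ⟶ Y} [IsImmersion i] [IsImmersion (i ≫ p)]
  [QuasiCompact i] [QuasiCompact (i ≫ p)]
  (ψ : (Scheme.Modules.pullback (𝟙 Z)).obj (Omega.conormal (i ≫ p)) ⟶ Omega.conormal i)
  (hψ : OmegaSh.IsConormalMap i (i ≫ p) p (𝟙 Z) ψ)

include hψ in
/-- Injectivity of the canonical map of conormal sheaves on a double chart, from the algebraic
injectivity. -/
theorem conormalMap_app_injective (t : DoubleChart i p)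
    (hinj : letI : Algebra Γ(Y, t.V) Γ(X, t.U) := (p.appLE t.V t.U t.e).hom.toAlgebra
      letI : Algebra Γ(Y, t.V) Γ(Z, i ⁻¹ᵁ t.U) :=
        ((i ≫ p).appLE t.V (i ⁻¹ᵁ t.U) t.leW).hom.toAlgebra
      letI : Algebra Γ(X, t.U) Γ(Z, i ⁻¹ᵁ t.U) := (i.appLE t.U (i ⁻¹ᵁ t.U) le_rfl).hom.toAlgebra
      ∀ [IsScalarTower Γ(Y, t.V) Γ(X, t.U) Γ(Z, i ⁻¹ᵁ t.U)],
        Function.Injective (conormalMap Γ(Y, t.V) Γ(X, t.U) Γ(Z, i ⁻¹ᵁ t.U))) :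
    Function.Injective (ψ.app (i ⁻¹ᵁ t.U)) := by
  letI algRA : Algebra Γ(Y, t.V) Γ(X, t.U) := (p.appLE t.V t.U t.e).hom.toAlgebra
  letI algRB : Algebra Γ(Y, t.V) Γ(Z, i ⁻¹ᵁ t.U) :=
    ((i ≫ p).appLE t.V (i ⁻¹ᵁ t.U) t.leW).hom.toAlgebra
  letI algAB : Algebra Γ(X, t.U) Γ(Z, i ⁻¹ᵁ t.U) := (i.appLE t.U (i ⁻¹ᵁ t.U) le_rfl).hom.toAlgebra
  haveI : IsScalarTower Γ(Y, t.V) Γ(X, t.U) Γ(Z, i ⁻¹ᵁ t.U) := IsScalarTower.of_algebraMap_eq' (by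
    change ((i ≫ p).appLE t.V (i ⁻¹ᵁ t.U) t.leW).hom =
      (i.appLE t.U (i ⁻¹ᵁ t.U) le_rfl).hom.comp (p.appLE t.V t.U t.e).hom
    rw [← CommRingCat.hom_comp, Scheme.Hom.appLE_comp_appLE])
  have h2 := conormalMap_chart_description ψ hψ t
  intro y₁ y₂ h
  obtain ⟨y₁', rfl⟩ := pullId_surjective _ _ y₁
  obtain ⟨y₂', rfl⟩ := pullId_surjective _ _ y₂
  have h3 := congrArg (conormalEquiv i t.hU t.hW le_rfl le_rfl) h
  rw [h2, h2] at h3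
  have h4 := (conormalEquiv (i ≫ p) t.hV t.hW t.leW t.ge).injective (hinj h3)
  rw [h4]

variable {Ω : X.Modules} (d : OmegaSh.Der p Ω) (hd : OmegaSh.IsUniversal d)
  (φ : Omega.conormal i ⟶ (Scheme.Modules.pullback i).obj Ω) (hφ : OmegaSh.IsConormalDiff i d φ)

include hψ hd hφ in
/-- **For `p : X ⟶ Y` smooth, `0 ⟶ C_{Z/Y} ⟶ C_{Z/X} ⟶ i^*Ω_{X/Y} ⟶ 0` is short exact.** -/
theorem triple_seq_shortExact_of_smooth [Smooth p] :
    ∃ w : ψ ≫ φ = 0, (ShortComplex.mk ψ φ w).ShortExact := by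
  obtain ⟨w, hex, hepi⟩ := triple_seq_exact ψ hψ d hd φ hφ
  have hmono : Mono ψ := by
    refine mono_of_injective_on_basis ψ (fun t : DoubleChart i p => i ⁻¹ᵁ t.U)
      (isBasis_doubleChart i p) fun t => ?_
    refine conormalMap_app_injective ψ hψ t ?_
    letI algRA : Algebra Γ(Y, t.V) Γ(X, t.U) := (p.appLE t.V t.U t.e).hom.toAlgebra
    letI algRB : Algebra Γ(Y, t.V) Γ(Z, i ⁻¹ᵁ t.U) :=
      ((i ≫ p).appLE t.V (i ⁻¹ᵁ t.U) t.leW).hom.toAlgebra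
    letI algAB : Algebra Γ(X, t.U) Γ(Z, i ⁻¹ᵁ t.U) :=
      (i.appLE t.U (i ⁻¹ᵁ t.U) le_rfl).hom.toAlgebra
    intro _
    haveI : Algebra.FormallySmooth Γ(Y, t.V) Γ(X, t.U) := by
      have h1 : (p.appLE t.V t.U t.e).hom.Smooth := Smooth.smooth_appLE p t.hV t.hU t.e
      have h2 : Algebra.Smooth Γ(Y, t.V) Γ(X, t.U) := h1
      exact h2.formallySmooth
    exact conormalMap_injective_of_formallySmooth _ _ _ t.surjRB
  exact ⟨w, { exact := hex, mono_f := hmono, epi_g := hepi }⟩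

end
end Groth.Agent.H44
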