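import Groth.Agent.H44.ConormalSeq

/-!
# The sequence `C_{Z/Y} ⟶ C_{Z/X} ⟶ i^*Ω_{X/Y} ⟶ 0` (helper44)

`exists_idealSect_eq_of_app_eq_zero` (sections of the ideal module over non-affine opens),
`exists_affine_le_coborderRange`, `DoubleChart`, `conormalMap_chart_description`, `triple_seq_chart`,
`triple_seq_exact`.
-/

set_option autoImplicit false
universe u
open CategoryTheory Limits Opposite AlgebraicGeometry TopologicalSpace TensorProduct Scheme.Modules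

namespace Groth.Agent.H44

section IdealNonAffine
variable {Z X : Scheme.{u}} (i : Z ⟶ X) [QuasiCompact i]

/-- For quasi-compact `i`, a function on any open `O` killed by `i♯` is a section of the ideal module of
`i.ker` over `O`. -/
theorem exists_idealSect_eq_of_app_eq_zero (O : X.Opens) (t : Γ(X, O)) (ht : i.app O t = 0) :
    ∃ σ : Γ(ClSub.idealMod i.ker, O), OmegaSh.idealSect i.ker O σ = t := by
  have h0 : (ClSub.toSubscheme i.ker).app O (OmegaSh.strSect X O t) = 0 := by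
    refine modules_section_ext _ _ _ fun x hx => ?_
    obtain ⟨U, hU, hxU, hUO⟩ := Opens.isBasis_iff_nbhd.mp X.isBasis_affineOpens hx
    refine ⟨U, hUO, hxU, ?_⟩
    rw [← hom_app_presheaf_map, map_zero, ← OmegaSh.strSect_map,
      toSubscheme_app_eq_zero_iff i.ker hU, Scheme.Hom.ker_apply, RingHom.mem_ker]
    have h1 := congr($(i.naturality (homOfLE hUO).op) t)
    rw [CommRingCat.comp_apply, CommRingCat.comp_apply, ht, map_zero] at h1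
    exact h1
  refine ⟨OmegaSh.kerLift (ClSub.toSubscheme i.ker) O (OmegaSh.strSect X O t) h0, ?_⟩
  rw [OmegaSh.idealSect_apply]
  change OmegaSh.fnSect X O ((kernel.ι (ClSub.toSubscheme i.ker)).app O _) = t
  rw [OmegaSh.ι_kerLift]
  rfl

end IdealNonAffine

section FlexChart
variable {X Y : Scheme.{u}} (j : X ⟶ Y) [IsImmersion j]

theorem exists_affine_le_coborderRange (x : X) (O : Y.Opens) (hxO : j.base x ∈ O) (W : X.Opens)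
    (hxW : x ∈ W) :
    ∃ U : Y.Opens, IsAffineOpen U ∧ j.base x ∈ U ∧ U ≤ O ∧ U ≤ j.coborderRange ∧ j ⁻¹ᵁ U ≤ W := by
  obtain ⟨O', hO', hOW⟩ := j.isEmbedding.isInducing.isOpen_iff.1 W.2
  have hxO' : j.base x ∈ (⟨O', hO'⟩ : Y.Opens) := by
    change x ∈ j.base ⁻¹' O'
    rw [hOW]
    exact hxW
  have hxc : j.base x ∈ j.coborderRange := subset_coborder ⟨x, rfl⟩
  obtain ⟨U, hU, hxU, hUle⟩ := Opens.isBasis_iff_nbhd.mp Y.isBasis_affineOpens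
    (show j.base x ∈ (⟨O', hO'⟩ : Y.Opens) ⊓ j.coborderRange ⊓ O from ⟨⟨hxO', hxc⟩, hxO⟩)
  refine ⟨U, hU, hxU, hUle.trans inf_le_right, hUle.trans (inf_le_left.trans inf_le_right), ?_⟩
  intro y hy
  have : j.base y ∈ O' := (hUle hy).1.1
  have h2 : y ∈ W.carrier := hOW ▸ this
  exact h2

end FlexChart

section DoubleChart
variable {Z X Y : Scheme.{u}} (i : Z ⟶ X) (p : X ⟶ Y) [IsImmersion i] [IsImmersion (i ≫ p)]

/-- Charts for `Z →i X →p Y` with `i` and `i ≫ p` immersions: affine opens `U ⊆ X`, `V ⊆ Y` with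
`U → V`, closed-immersion charts for `i` and `i ≫ p`, and `i⁻¹U = (i ≫ p)⁻¹V`. -/
structure DoubleChart where
  U : X.Opens
  V : Y.Opens
  hU : IsAffineOpen U
  hV : IsAffineOpen V
  e : U ≤ p ⁻¹ᵁ V
  hcU : U ≤ i.coborderRange
  hcV : V ≤ (i ≫ p).coborderRange
  ge : (i ≫ p) ⁻¹ᵁ V ≤ i ⁻¹ᵁ U

variable {i p}

theorem DoubleChart.hW (t : DoubleChart i p) : IsAffineOpen (i ⁻¹ᵁ t.U) :=
  isAffineOpen_preimage_of_le_coborderRange i t.hU t.hcU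

theorem DoubleChart.leW (t : DoubleChart i p) : i ⁻¹ᵁ t.U ≤ (i ≫ p) ⁻¹ᵁ t.V :=
  i.preimage_mono t.e

variable (i p)

theorem exists_doubleChart (z : Z) (W : Z.Opens) (hz : z ∈ W) :
    ∃ t : DoubleChart i p, z ∈ i ⁻¹ᵁ t.U ∧ i ⁻¹ᵁ t.U ≤ W := by
  obtain ⟨V₀, hV₀, hzV₀, -, hcV₀, -⟩ :=
    exists_affine_le_coborderRange (i ≫ p) z ⊤ trivial ⊤ trivial
  obtain ⟨U₀, hU₀, hzU₀, hU₀V₀, hcU₀, hU₀W⟩ :=
    exists_affine_le_coborderRange i z (p ⁻¹ᵁ V₀) hzV₀ W hz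
  obtain ⟨O, hO, hOU⟩ := (i ≫ p).isEmbedding.isInducing.isOpen_iff.1 (i ⁻¹ᵁ U₀).2
  have hzO : (i ≫ p).base z ∈ (⟨O, hO⟩ : Y.Opens) := by
    change z ∈ (i ≫ p).base ⁻¹' O
    rw [hOU]
    exact hzU₀
  obtain ⟨b, hbO, hzb⟩ := hV₀.exists_basicOpen_le (V := (⟨O, hO⟩ : Y.Opens))
    ⟨(i ≫ p).base z, hzO⟩ hzV₀
  have hUeq := Scheme.basicOpen_appLE p U₀ V₀ hU₀V₀ b
  refine ⟨⟨X.basicOpen (p.appLE V₀ U₀ hU₀V₀ b), Y.basicOpen b, hU₀.basicOpen _, hV₀.basicOpen b,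
    ?_, ?_, (Y.basicOpen_le b).trans hcV₀, ?_⟩, ?_, ?_⟩
  · rw [hUeq]; exact inf_le_right
  · rw [hUeq]; exact inf_le_left.trans hcU₀
  · rw [hUeq]
    intro y hy
    refine ⟨?_, hy⟩
    have h1 : (i ≫ p).base y ∈ O := hbO hy
    have h2 : y ∈ (i ⁻¹ᵁ U₀).carrier := hOU ▸ h1
    exact h2
  · change i.base z ∈ X.basicOpen (p.appLE V₀ U₀ hU₀V₀ b)
    rw [hUeq]
    exact ⟨hzU₀, hzb⟩
  · change i ⁻¹ᵁ X.basicOpen (p.appLE V₀ U₀ hU₀V₀ b) ≤ W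
    rw [hUeq]
    exact (i.preimage_mono inf_le_left).trans hU₀W

theorem isBasis_doubleChart :
    Opens.IsBasis (Set.range (fun t : DoubleChart i p => i ⁻¹ᵁ t.U)) := by
  rw [Opens.isBasis_iff_nbhd]
  intro W x hx
  obtain ⟨t, hxt, htW⟩ := exists_doubleChart i p x W hx
  exact ⟨_, ⟨t, rfl⟩, hxt, htW⟩

end DoubleChart

section TripleSeq
variable {Z X Y : Scheme.{u}} {i : Z ⟶ X} {p : X ⟶ Y} [IsImmersion i] [IsImmersion (i ≫ p)]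
  [QuasiCompact i] [QuasiCompact (i ≫ p)]
  (ψ : (Scheme.Modules.pullback (𝟙 Z)).obj (Omega.conormal (i ≫ p)) ⟶ Omega.conormal i)
  (hψ : OmegaSh.IsConormalMap i (i ≫ p) p (𝟙 Z) ψ)

omit [QuasiCompact i] [QuasiCompact (i ≫ p)] in
theorem DoubleChart.surjRB (t : DoubleChart i p) :
    Function.Surjective ((i ≫ p).appLE t.V (i ⁻¹ᵁ t.U) t.leW) := by
  intro y
  obtain ⟨r, hr⟩ := app_surjective_of_le_coborderRange (i ≫ p) t.hV t.hcV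
    (Z.presheaf.map (homOfLE t.ge).op y)
  refine ⟨r, ?_⟩
  change Z.presheaf.map (homOfLE t.leW).op ((i ≫ p).app t.V r) = y
  rw [hr, ← CommRingCat.comp_apply, ← Functor.map_comp]
  exact congr($(Z.presheaf.map_id _) y)

include hψ in
/-- The canonical map of conormal sheaves on generators, over a double chart. -/
theorem conormalMap_pullSectLE (t : DoubleChart i p)
    (σ' : Γ(ClSub.idealMod (i ≫ p).ker, t.V)) :
    ∃ σ : Γ(ClSub.idealMod i.ker, t.U),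
      OmegaSh.idealSect i.ker t.U σ =
        p.appLE t.V t.U t.e (OmegaSh.idealSect (i ≫ p).ker t.V σ') ∧
      ψ.app (i ⁻¹ᵁ t.U) (((pullbackId Z).inv.app (Omega.conormal (i ≫ p))).app (i ⁻¹ᵁ t.U)
        (pullSectLE (i ≫ p) (ClSub.idealMod (i ≫ p).ker) t.V (i ⁻¹ᵁ t.U) t.leW σ')) =
      pullSectLE i (ClSub.idealMod i.ker) t.U (i ⁻¹ᵁ t.U) le_rfl σ := by
  -- a section of the ideal of `i` over the (non-affine) open `p⁻¹V`
  have hker : i.app (p ⁻¹ᵁ t.V) (p.app t.V (OmegaSh.idealSect (i ≫ p).ker t.V σ')) = 0 := by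
    have h1 : OmegaSh.idealSect (i ≫ p).ker t.V σ' ∈ (i ≫ p).ker.ideal ⟨t.V, t.hV⟩ :=
      idealModι_app_mem_ideal (i ≫ p).ker t.hV σ'
    rw [Scheme.Hom.ker_apply, RingHom.mem_ker] at h1
    rw [← CommRingCat.comp_apply, ← Scheme.Hom.comp_app]
    exact h1
  obtain ⟨τ, hτ⟩ := exists_idealSect_eq_of_app_eq_zero i (p ⁻¹ᵁ t.V) _ hker
  have key := hψ.2 t.V σ' τ hτ (i ⁻¹ᵁ t.U) t.leW t.leW
  refine ⟨(ClSub.idealMod i.ker).presheaf.map (homOfLE t.e).op τ, ?_, ?_⟩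
  · rw [OmegaSh.idealSect_apply, OmegaSh.idealModι_app_map]
    have h3 : OmegaSh.fnSect X (p ⁻¹ᵁ t.V) ((ClSub.idealModι i.ker).app (p ⁻¹ᵁ t.V) τ) =
        p.app t.V (OmegaSh.idealSect (i ≫ p).ker t.V σ') := hτ
    change X.presheaf.map (homOfLE t.e).op
      (OmegaSh.fnSect X (p ⁻¹ᵁ t.V) ((ClSub.idealModι i.ker).app (p ⁻¹ᵁ t.V) τ)) = _
    rw [h3]
    rfl
  · rw [pullSectLE_of_res]
    rw [← hom_app_resLE] at key
    refine Eq.trans ?_ key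
    refine (congrArg (ψ.app (i ⁻¹ᵁ t.U)) (pullbackId_inv_app_apply _ _ _)).trans ?_
    congr 1
    rw [← pullSectLE_self, pullSectLE]
    exact pullSectLE_of_res (𝟙 Z) (Omega.conormal (i ≫ p)) t.leW (i ⁻¹ᵁ t.U) le_rfl _

include hψ in
theorem conormalMap_chart_generator (t : DoubleChart i p)
    (σ' : Γ(ClSub.idealMod (i ≫ p).ker, t.V)) :
    letI _algRA : Algebra Γ(Y, t.V) Γ(X, t.U) := (p.appLE t.V t.U t.e).hom.toAlgebra
    letI _algRB : Algebra Γ(Y, t.V) Γ(Z, i ⁻¹ᵁ t.U) :=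
      ((i ≫ p).appLE t.V (i ⁻¹ᵁ t.U) t.leW).hom.toAlgebra
    letI _algAB : Algebra Γ(X, t.U) Γ(Z, i ⁻¹ᵁ t.U) :=
      (i.appLE t.U (i ⁻¹ᵁ t.U) le_rfl).hom.toAlgebra
    ∀ [IsScalarTower Γ(Y, t.V) Γ(X, t.U) Γ(Z, i ⁻¹ᵁ t.U)],
    conormalEquiv i t.hU t.hW le_rfl le_rfl
      (ψ.app (i ⁻¹ᵁ t.U) (((pullbackId Z).inv.app (Omega.conormal (i ≫ p))).app (i ⁻¹ᵁ t.U)
        (pullSectLE (i ≫ p) (ClSub.idealMod (i ≫ p).ker) t.V (i ⁻¹ᵁ t.U) t.leW σ'))) =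
      conormalMap Γ(Y, t.V) Γ(X, t.U) Γ(Z, i ⁻¹ᵁ t.U)
        (conormalEquiv (i ≫ p) t.hV t.hW t.leW t.ge
          (pullSectLE (i ≫ p) (ClSub.idealMod (i ≫ p).ker) t.V (i ⁻¹ᵁ t.U) t.leW σ')) := by
  letI algRA : Algebra Γ(Y, t.V) Γ(X, t.U) := (p.appLE t.V t.U t.e).hom.toAlgebra
  letI algRB : Algebra Γ(Y, t.V) Γ(Z, i ⁻¹ᵁ t.U) :=
    ((i ≫ p).appLE t.V (i ⁻¹ᵁ t.U) t.leW).hom.toAlgebra
  letI algAB : Algebra Γ(X, t.U) Γ(Z, i ⁻¹ᵁ t.U) := (i.appLE t.U (i ⁻¹ᵁ t.U) le_rfl).hom.toAlgebra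
  intro _
  obtain ⟨σ, hσ', hk⟩ := conormalMap_pullSectLE ψ hψ t σ'
  rw [hk, conormalEquiv_pullSectLE, conormalEquiv_pullSectLE, conormalMap_tmul]
  congr 1
  exact Subtype.ext hσ'

omit [IsImmersion i] [IsImmersion (i ≫ p)] [QuasiCompact i] [QuasiCompact (i ≫ p)] in
theorem app_pullId_smul {M N : Z.Modules} (ψ : (Scheme.Modules.pullback (𝟙 Z)).obj M ⟶ N)
    (W : Z.Opens) (a : Γ(Z, W)) (x : Γ(M, W)) :
    ψ.app W (((pullbackId Z).inv.app M).app W (a • x)) =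
      a • ψ.app W (((pullbackId Z).inv.app M).app W x) := by
  rw [Scheme.Modules.Hom.app_smul, Scheme.Modules.Hom.app_smul]

include hψ in
/-- Chart description of the canonical map of conormal sheaves: it is `b ⊗ r ↦ b ⊗ r`. -/
theorem conormalMap_chart_description (t : DoubleChart i p) :
    letI _algRA : Algebra Γ(Y, t.V) Γ(X, t.U) := (p.appLE t.V t.U t.e).hom.toAlgebra
    letI _algRB : Algebra Γ(Y, t.V) Γ(Z, i ⁻¹ᵁ t.U) :=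
      ((i ≫ p).appLE t.V (i ⁻¹ᵁ t.U) t.leW).hom.toAlgebra
    letI _algAB : Algebra Γ(X, t.U) Γ(Z, i ⁻¹ᵁ t.U) :=
      (i.appLE t.U (i ⁻¹ᵁ t.U) le_rfl).hom.toAlgebra
    ∀ [IsScalarTower Γ(Y, t.V) Γ(X, t.U) Γ(Z, i ⁻¹ᵁ t.U)]
      (y' : Γ(Omega.conormal (i ≫ p), i ⁻¹ᵁ t.U)),
    conormalEquiv i t.hU t.hW le_rfl le_rfl
      (ψ.app (i ⁻¹ᵁ t.U) (((pullbackId Z).inv.app (Omega.conormal (i ≫ p))).app (i ⁻¹ᵁ t.U) y')) =
      conormalMap Γ(Y, t.V) Γ(X, t.U) Γ(Z, i ⁻¹ᵁ t.U)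
        (conormalEquiv (i ≫ p) t.hV t.hW t.leW t.ge y') := by
  letI algRA : Algebra Γ(Y, t.V) Γ(X, t.U) := (p.appLE t.V t.U t.e).hom.toAlgebra
  letI algRB : Algebra Γ(Y, t.V) Γ(Z, i ⁻¹ᵁ t.U) :=
    ((i ≫ p).appLE t.V (i ⁻¹ᵁ t.U) t.leW).hom.toAlgebra
  letI algAB : Algebra Γ(X, t.U) Γ(Z, i ⁻¹ᵁ t.U) := (i.appLE t.U (i ⁻¹ᵁ t.U) le_rfl).hom.toAlgebra
  intro _
  refine conormal_induction (i ≫ p) t.hV t.hW t.leW t.ge _ ?_ ?_ ?_ ?_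
  · rw [map_zero, map_zero, map_zero, map_zero, map_zero]
  · intro x y hx hy
    rw [map_add, map_add, map_add, map_add, map_add, hx, hy]
  · intro a x hx
    rw [app_pullId_smul, _root_.map_smul, _root_.map_smul, _root_.map_smul, hx]
  · intro σ'
    exact conormalMap_chart_generator ψ hψ t σ'

variable {Ω : X.Modules} (d : OmegaSh.Der p Ω) (hd : OmegaSh.IsUniversal d)
  (φ : Omega.conormal i ⟶ (Scheme.Modules.pullback i).obj Ω) (hφ : OmegaSh.IsConormalDiff i d φ)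

theorem pullId_surjective (M : Z.Modules) (W : Z.Opens)
    (y : Γ((Scheme.Modules.pullback (𝟙 Z)).obj M, W)) :
    ∃ y' : Γ(M, W), ((pullbackId Z).inv.app M).app W y' = y := by
  refine ⟨((pullbackId Z).hom.app M).app W y, ?_⟩
  rw [← ConcreteCategory.comp_apply, ← Scheme.Modules.Hom.comp_app, Iso.hom_inv_id_app]
  rfl

include hψ hd hφ in
/-- Chart-level exactness of `C_{Z/Y} ⟶ C_{Z/X} ⟶ i^*Ω_{X/Y} ⟶ 0`. -/
theorem triple_seq_chart (t : DoubleChart i p) :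
    Function.Surjective (φ.app (i ⁻¹ᵁ t.U)) ∧
    (∀ y, φ.app (i ⁻¹ᵁ t.U) (ψ.app (i ⁻¹ᵁ t.U) y) = 0) ∧
    (∀ x, φ.app (i ⁻¹ᵁ t.U) x = 0 → ∃ y, ψ.app (i ⁻¹ᵁ t.U) y = x) := by
  letI algRA : Algebra Γ(Y, t.V) Γ(X, t.U) := (p.appLE t.V t.U t.e).hom.toAlgebra
  letI algRB : Algebra Γ(Y, t.V) Γ(Z, i ⁻¹ᵁ t.U) :=
    ((i ≫ p).appLE t.V (i ⁻¹ᵁ t.U) t.leW).hom.toAlgebra
  letI algAB : Algebra Γ(X, t.U) Γ(Z, i ⁻¹ᵁ t.U) := (i.appLE t.U (i ⁻¹ᵁ t.U) le_rfl).hom.toAlgebra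
  haveI : IsScalarTower Γ(Y, t.V) Γ(X, t.U) Γ(Z, i ⁻¹ᵁ t.U) := IsScalarTower.of_algebraMap_eq' (by
    change ((i ≫ p).appLE t.V (i ⁻¹ᵁ t.U) t.leW).hom =
      (i.appLE t.U (i ⁻¹ᵁ t.U) le_rfl).hom.comp (p.appLE t.V t.U t.e).hom
    rw [← CommRingCat.hom_comp, Scheme.Hom.appLE_comp_appLE])
  have hsurj : Function.Surjective (algebraMap Γ(Y, t.V) Γ(Z, i ⁻¹ᵁ t.U)) := t.surjRB
  obtain ⟨E, hE⟩ := exists_pullback_kaehler_equiv i d hd t.hU t.hW le_rfl t.hV t.e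
  have h1 := conormalDiff_chart_description i d φ hφ t.hU t.hW le_rfl le_rfl t.e E hE
  set ENi := conormalEquiv i t.hU t.hW le_rfl le_rfl with hENi
  set ENj := conormalEquiv (i ≫ p) t.hV t.hW t.leW t.ge with hENj
  have h2 := conormalMap_chart_description ψ hψ t
  have hex := exact_conormalMap_conormalToTensor (R := Γ(Y, t.V)) (A := Γ(X, t.U))
    (B := Γ(Z, i ⁻¹ᵁ t.U)) hsurj
  refine ⟨fun z => ?_, fun y => ?_, fun x hx => ?_⟩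
  · obtain ⟨v, hv⟩ := conormalToTensor_surjective Γ(Y, t.V) Γ(X, t.U) Γ(Z, i ⁻¹ᵁ t.U) hsurj (E z)
    refine ⟨ENi.symm v, ?_⟩
    apply E.injective
    rw [h1, LinearEquiv.apply_symm_apply, hv]
  · obtain ⟨y', rfl⟩ := pullId_surjective _ _ y
    apply E.injective
    rw [h1, h2, map_zero]
    exact hex.apply_apply_eq_zero _
  · have h3 : conormalToTensor Γ(Y, t.V) Γ(X, t.U) Γ(Z, i ⁻¹ᵁ t.U) (ENi x) = 0 := by
      rw [← h1, hx, map_zero]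
    obtain ⟨v, hv⟩ := (hex (ENi x)).1 h3
    refine ⟨((pullbackId Z).inv.app (Omega.conormal (i ≫ p))).app (i ⁻¹ᵁ t.U) (ENj.symm v), ?_⟩
    apply ENi.injective
    rw [h2, LinearEquiv.apply_symm_apply, hv]

include hψ hd hφ in
theorem triple_comp_eq_zero : ψ ≫ φ = 0 := by
  refine hom_eq_zero_of_isBasis _ _ (isBasis_doubleChart i p) ?_
  rintro _ ⟨t, rfl⟩ x
  exact (triple_seq_chart ψ hψ d hd φ hφ t).2.1 x

include hψ hd hφ in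
/-- **`C_{Z/Y} ⟶ C_{Z/X} ⟶ i^*Ω_{X/Y} ⟶ 0` is exact** for quasi-compact immersions `i`, `i ≫ p`. -/
theorem triple_seq_exact :
    ∃ w : ψ ≫ φ = 0, (ShortComplex.mk ψ φ w).Exact ∧ Epi φ := by
  haveI := isQuasicoherent_of_isUniversal d hd
  have hcov : ∀ z : Z, ∃ t : DoubleChart i p, z ∈ i ⁻¹ᵁ t.U := fun z => by
    obtain ⟨t, hzt, -⟩ := exists_doubleChart i p z ⊤ trivial
    exact ⟨t, hzt⟩
  refine ⟨triple_comp_eq_zero ψ hψ d hd φ hφ, ?_, ?_⟩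
  · exact exact_of_exact_on_cover ψ φ _ (fun t : DoubleChart i p => i ⁻¹ᵁ t.U) hcov (fun t => t.hW)
      (fun t => (triple_seq_chart ψ hψ d hd φ hφ t).2.2)
  · exact epi_of_surjective_on_cover φ (fun t : DoubleChart i p => i ⁻¹ᵁ t.U) hcov (fun t => t.hW)
      (fun t => (triple_seq_chart ψ hψ d hd φ hφ t).1)

end TripleSeq
end Groth.Agent.H44
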