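import Mathlib
import Groth.Agent.H44.ConormalInter
import Groth.Agent.H44.ConormalTriple

/-!
# The conormal sheaf of an immersion vanishes at `y` iff the immersion is open near `y` (helper44)

`subsingleton_conormal_sections_of_injective`, `subsingleton_stalk_conormal_of_isOpenImmersion`,
`exists_idempotent_ker_of_subsingleton_tensor` (`A → B` surjective with f.g. kernel `I` and
`B ⊗ I = 0` ⇒ `I` generated by an idempotent), `isOpenImmersion_morphismRestrict_of_idempotent`,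
`exists_nhd_forall_res_eq_zero`, `exists_isOpenImmersion_of_subsingleton_stalk`.
-/

set_option autoImplicit false
universe u
open CategoryTheory Limits Opposite AlgebraicGeometry TopologicalSpace TensorProduct Scheme.Modules

namespace Groth.Agent.H44

section Forward
variable {Y X : Scheme.{u}} (j : Y ⟶ X) [IsImmersion j] [QuasiCompact j]

theorem subsingleton_conormal_sections_of_injective {V : X.Opens} (hV : IsAffineOpen V)
    (hVc : V ≤ j.coborderRange) (hinj : Function.Injective (j.app V).hom) :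
    Subsingleton Γ(Omega.conormal j, j ⁻¹ᵁ V) := by
  have hW := isAffineOpen_preimage_of_le_coborderRange j hV hVc
  letI alg := (j.appLE V (j ⁻¹ᵁ V) le_rfl).hom.toAlgebra
  have hker : RingHom.ker (algebraMap Γ(X, V) Γ(Y, j ⁻¹ᵁ V)) = ⊥ := by
    rw [RingHom.ker_eq_bot_iff_eq_zero]
    intro a ha
    have h1 : (j.app V).hom a = 0 := by
      have : algebraMap Γ(X, V) Γ(Y, j ⁻¹ᵁ V) a = (j.appLE V (j ⁻¹ᵁ V) le_rfl).hom a := rfl
      rw [this, Scheme.Hom.appLE_eq_app] at ha
      exact ha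
    exact hinj (h1.trans (map_zero _).symm)
  have e := conormalEquiv j hV hW le_rfl le_rfl
  haveI : Subsingleton ↥(RingHom.ker (algebraMap Γ(X, V) Γ(Y, j ⁻¹ᵁ V))) := by
    rw [hker]; infer_instance
  exact e.toEquiv.subsingleton

theorem app_injective_of_isOpenImmersion (U : Y.Opens) [IsOpenImmersion (U.ι ≫ j)] (V : X.Opens)
    (hVO : V ≤ (U.ι ≫ j).opensRange) : Function.Injective (j.app V).hom := by
  haveI := (U.ι ≫ j).isIso_app V hVO
  have h1 : (U.ι ≫ j).app V = j.app V ≫ U.ι.app (j ⁻¹ᵁ V) := Scheme.Hom.comp_app _ _ _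
  have h2 : Function.Injective ((U.ι ≫ j).app V).hom :=
    ((ConcreteCategory.isIso_iff_bijective _).1 inferInstance).1
  rw [h1] at h2
  exact Function.Injective.of_comp h2

theorem subsingleton_stalk_conormal_of_isOpenImmersion (U : Y.Opens) [IsOpenImmersion (U.ι ≫ j)]
    (y : Y) (hy : y ∈ U) : Subsingleton ((Omega.conormal j).presheaf.stalk y) := by
  refine subsingleton_of_forall_eq 0 fun t => ?_
  obtain ⟨W, hyW, s, rfl⟩ := TopCat.Presheaf.exists_germ_eq (Omega.conormal j).presheaf t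
  have hyO : j.base y ∈ (U.ι ≫ j).opensRange := ⟨⟨y, hy⟩, rfl⟩
  obtain ⟨V, hV, hyV, hVO, hVc, hVW⟩ := exists_affine_le_coborderRange j y _ hyO W hyW
  haveI := subsingleton_conormal_sections_of_injective j hV hVc
    (app_injective_of_isOpenImmersion j U V hVO)
  have h1 := TopCat.Presheaf.germ_res_apply (Omega.conormal j).presheaf (homOfLE hVW) y hyV s
  rw [← h1, Subsingleton.elim ((Omega.conormal j).presheaf.map (homOfLE hVW).op s) 0, map_zero]

end Forward



theorem exists_idempotent_ker_of_subsingleton_tensor {A B : Type u} [CommRing A] [CommRing B]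
    [Algebra A B] (hs : Function.Surjective (algebraMap A B))
    (hfg : (RingHom.ker (algebraMap A B)).FG)
    (h : Subsingleton (B ⊗[A] RingHom.ker (algebraMap A B))) :
    ∃ e : A, IsIdempotentElem e ∧ RingHom.ker (algebraMap A B) = Ideal.span {e} := by
  set I := RingHom.ker (algebraMap A B) with hI
  have hs' : Function.Surjective (Algebra.ofId A B) := hs
  let e₁ : (A ⧸ RingHom.ker (Algebra.ofId A B)) ≃ₐ[A] B :=
    Ideal.quotientKerAlgEquivOfSurjective hs'
  have hk : RingHom.ker (Algebra.ofId A B) = I := rfl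
  let e₂ : ((A ⧸ I) ⊗[A] I) ≃ₗ[A] B ⊗[A] I :=
    TensorProduct.congr (hk ▸ e₁.toLinearEquiv) (LinearEquiv.refl A I)
  haveI : Subsingleton ((A ⧸ I) ⊗[A] I) := e₂.toEquiv.subsingleton
  haveI : Subsingleton I.Cotangent :=
    (TensorProduct.quotTensorEquivQuotSMul (↥I) I).symm.toEquiv.subsingleton
  exact (Ideal.isIdempotentElem_iff_of_fg I hfg).1 (Ideal.cotangent_subsingleton_iff I |>.1 inferInstance)



theorem isOpenImmersion_morphismRestrict_of_idempotent {Y X : Scheme.{u}} (j : Y ⟶ X)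
    {V : X.Opens} (hV : IsAffineOpen V) (hW : IsAffineOpen (j ⁻¹ᵁ V))
    (hs : Function.Surjective (j.app V).hom)
    (he : ∃ e, IsIdempotentElem e ∧ RingHom.ker (j.app V).hom = Ideal.span {e}) :
    IsOpenImmersion (j ∣_ V) := by
  haveI : IsAffine V.toScheme := hV
  haveI : IsAffine (j ⁻¹ᵁ V).toScheme := hW
  rw [MorphismProperty.arrow_mk_iso_iff @IsOpenImmersion (arrowIsoSpecΓOfIsAffine (j ∣_ V))]
  have key : ∀ V₁ : X.Opens, V₁ = V → Function.Surjective (j.app V₁).hom ∧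
      ∃ e, IsIdempotentElem e ∧ RingHom.ker (j.app V₁).hom = Ideal.span {e} := by
    rintro _ rfl; exact ⟨hs, he⟩
  obtain ⟨hs₁, e, he₁, hke⟩ := key (V.ι ''ᵁ ⊤) (by simp)
  have happ := morphismRestrict_appTop j V
  have hiso : Function.Bijective
      (Y.presheaf.map (eqToHom (image_morphismRestrict_preimage j V ⊤)).op).hom :=
    (ConcreteCategory.isIso_iff_bijective _).1 inferInstance
  have hs₂ : Function.Surjective (j ∣_ V).appTop.hom := by
    rw [happ]
    exact hiso.2.comp hs₁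
  rw [isOpenImmersion_SpecMap_iff_of_surjective _ hs₂]
  refine ⟨e, he₁, ?_⟩
  have h3 : RingHom.ker (j ∣_ V).appTop.hom =
      RingHom.ker (j.app (V.ι ''ᵁ ⊤) ≫
        Y.presheaf.map (eqToHom (image_morphismRestrict_preimage j V ⊤)).op).hom :=
    congrArg (fun φ => RingHom.ker (CommRingCat.Hom.hom φ)) happ
  exact (h3.trans (RingHom.ker_comp_of_injective _ hiso.1)).trans hke


section Backward
variable {Y X : Scheme.{u}} (j : Y ⟶ X) [IsImmersion j] [QuasiCompact j]

/-- finitely many sections with vanishing germs at `y` vanish on a common neighbourhood. -/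
theorem exists_nhd_forall_res_eq_zero {k : ℕ} (F : TopCat.Presheaf AddCommGrpCat.{u} Y)
    (U : Y.Opens) (y : Y) (hy : y ∈ U) (s : Fin k → F.obj (op U))
    (h : ∀ a, F.germ U y hy (s a) = 0) :
    ∃ (W : Y.Opens) (hW : W ≤ U), y ∈ W ∧ ∀ a, F.map (homOfLE hW).op (s a) = 0 := by
  induction k with
  | zero => exact ⟨U, le_rfl, hy, fun a => a.elim0⟩
  | succ k ih =>
    obtain ⟨W₁, hW₁, hyW₁, h1⟩ := ih (fun a => s a.castSucc) (fun a => h _)
    have h0 : F.germ U y hy (s (Fin.last k)) = F.germ U y hy 0 := by rw [h, map_zero]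
    obtain ⟨W₂, hyW₂, i₁, i₂, h2⟩ := TopCat.Presheaf.germ_eq F y hy hy _ _ h0
    rw [map_zero] at h2
    refine ⟨W₁ ⊓ W₂, inf_le_left.trans hW₁, ⟨hyW₁, hyW₂⟩, fun a => ?_⟩
    refine Fin.lastCases ?_ (fun a => ?_) a
    · have : (homOfLE (inf_le_left.trans hW₁ : W₁ ⊓ W₂ ≤ U)).op =
          i₁.op ≫ (homOfLE (inf_le_right : W₁ ⊓ W₂ ≤ W₂)).op := rfl
      rw [this, F.map_comp, ConcreteCategory.comp_apply, h2, map_zero]
    · have : (homOfLE (inf_le_left.trans hW₁ : W₁ ⊓ W₂ ≤ U)).op =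
          (homOfLE hW₁).op ≫ (homOfLE (inf_le_left : W₁ ⊓ W₂ ≤ W₁)).op := rfl
      rw [this, F.map_comp, ConcreteCategory.comp_apply, h1, map_zero]


/-- A quasi-compact immersion locally of finite presentation whose conormal sheaf has zero stalk at
`y` is an open immersion near `y`. -/
theorem exists_isOpenImmersion_of_subsingleton_stalk [LocallyOfFinitePresentation j] (y : Y)
    (h : Subsingleton ((Omega.conormal j).presheaf.stalk y)) :
    ∃ U : Y.Opens, y ∈ U ∧ IsOpenImmersion (U.ι ≫ j) := by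
  obtain ⟨V₀, hV₀, hyV₀, -, hV₀c, -⟩ := exists_affine_le_coborderRange j y ⊤ trivial ⊤ trivial
  have hW₀ := isAffineOpen_preimage_of_le_coborderRange j hV₀ hV₀c
  -- the ideal over `V₀` is finitely generated
  have hfg : ∀ {V : X.Opens} (hV : IsAffineOpen V) (hVc : V ≤ j.coborderRange),
      (RingHom.ker (j.appLE V (j ⁻¹ᵁ V) le_rfl).hom).FG := by
    intro V hV hVc
    have hW := isAffineOpen_preimage_of_le_coborderRange j hV hVc
    have hfp : (j.appLE V (j ⁻¹ᵁ V) le_rfl).hom.FinitePresentation :=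
      HasRingHomProperty.appLE (P := @LocallyOfFinitePresentation) j inferInstance ⟨V, hV⟩
        ⟨_, hW⟩ le_rfl
    have hsurj : Function.Surjective (j.appLE V (j ⁻¹ᵁ V) le_rfl).hom := by
      rw [Scheme.Hom.appLE_eq_app]
      exact app_surjective_of_le_coborderRange j hV hVc
    letI := (j.appLE V (j ⁻¹ᵁ V) le_rfl).hom.toAlgebra
    haveI : Algebra.FinitePresentation Γ(X, V) Γ(Y, j ⁻¹ᵁ V) := hfp
    exact Algebra.FinitePresentation.ker_fG_of_surjective (Algebra.ofId Γ(X, V) Γ(Y, j ⁻¹ᵁ V)) hsurj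
  set M := ClSub.idealMod j.ker with hM
  haveI : Module.Finite Γ(X, V₀) Γ(M, V₀) := by
    have h1 : (j.ker.ideal ⟨V₀, hV₀⟩).FG := by
      rw [← ker_appLE_eq j hV₀ le_rfl le_rfl]; exact hfg hV₀ hV₀c
    haveI : Module.Finite Γ(X, V₀) ↥(j.ker.ideal ⟨V₀, hV₀⟩) := Module.Finite.iff_fg.2 h1
    exact Module.Finite.equiv (idealSectEquiv j.ker hV₀).symm
  obtain ⟨k, m, hm⟩ := Module.Finite.exists_fin (R := Γ(X, V₀)) (M := Γ(M, V₀))
  -- the classes of the generators vanish near `y`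
  obtain ⟨W', hW'le, hyW', hres⟩ := exists_nhd_forall_res_eq_zero (Omega.conormal j).presheaf
    (j ⁻¹ᵁ V₀) y hyV₀ (fun a => pullSectLE j M V₀ (j ⁻¹ᵁ V₀) le_rfl (m a))
    (fun a => Subsingleton.elim _ _)
  obtain ⟨V, hV, hyV, hVV₀, hVc, hVW⟩ := exists_affine_le_coborderRange j y V₀ hyV₀ W' hyW'
  have hW := isAffineOpen_preimage_of_le_coborderRange j hV hVc
  have le : j ⁻¹ᵁ V ≤ j ⁻¹ᵁ V₀ := j.preimage_mono hVV₀
  have hspan := span_pullSectLE_of_span j M hV₀ hW le m hm
  have hzero : ∀ a, pullSectLE j M V₀ (j ⁻¹ᵁ V) le (m a) = 0 := by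
    intro a
    rw [← pullSectLE_res j M V₀ (j ⁻¹ᵁ V₀) (j ⁻¹ᵁ V) le_rfl le (m a)]
    have h1 := hres a
    have : (homOfLE le).op = (homOfLE hW'le).op ≫ (homOfLE hVW).op := rfl
    rw [this, Functor.map_comp, ConcreteCategory.comp_apply]
    exact (congrArg _ h1).trans (map_zero _)
  have hsub' : Subsingleton Γ((Scheme.Modules.pullback j).obj M, j ⁻¹ᵁ V) := by
    have h2 : (Set.range fun a => pullSectLE j M V₀ (j ⁻¹ᵁ V) le (m a)) ⊆ {0} := by
      rintro _ ⟨a, rfl⟩
      exact hzero a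
    have h3 : (⊤ : Submodule Γ(Y, j ⁻¹ᵁ V) Γ((Scheme.Modules.pullback j).obj M, j ⁻¹ᵁ V)) = ⊥ := by
      refine hspan.symm.trans ?_
      rw [eq_bot_iff]
      exact (Submodule.span_mono h2).trans (by rw [Submodule.span_singleton_eq_bot.2 rfl])
    exact (Submodule.subsingleton_iff _).1 (subsingleton_of_bot_eq_top h3.symm)
  haveI hsub : Subsingleton Γ(Omega.conormal j, j ⁻¹ᵁ V) := hsub'
  -- the algebra
  letI alg := (j.appLE V (j ⁻¹ᵁ V) le_rfl).hom.toAlgebra
  have hsurj : Function.Surjective (algebraMap Γ(X, V) Γ(Y, j ⁻¹ᵁ V)) := by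
    change Function.Surjective (j.appLE V (j ⁻¹ᵁ V) le_rfl).hom
    rw [Scheme.Hom.appLE_eq_app]
    exact app_surjective_of_le_coborderRange j hV hVc
  haveI : Subsingleton (Γ(Y, j ⁻¹ᵁ V) ⊗[Γ(X, V)] RingHom.ker (algebraMap Γ(X, V) Γ(Y, j ⁻¹ᵁ V))) :=
    (conormalEquiv j hV hW le_rfl le_rfl).symm.toEquiv.subsingleton
  obtain ⟨e, he, hke⟩ := exists_idempotent_ker_of_subsingleton_tensor hsurj (hfg hV hVc)
    inferInstance
  have happ : (j.appLE V (j ⁻¹ᵁ V) le_rfl) = j.app V := Scheme.Hom.appLE_eq_app ..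
  have hopen : IsOpenImmersion (j ∣_ V) := by
    refine isOpenImmersion_morphismRestrict_of_idempotent j hV hW ?_ ⟨e, he, ?_⟩
    · rw [← happ]; exact hsurj
    · rw [← happ]; exact hke
  refine ⟨j ⁻¹ᵁ V, hyV, ?_⟩
  rw [← morphismRestrict_ι]
  infer_instance

end Backward

end Groth.Agent.H44
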