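import Groth.Agent.H44.DiffCompatChart
import Groth.Agent.H44.QCohEpi
import Mathlib.AlgebraicGeometry.Morphisms.FormallyUnramified

/-!
# `f` formally unramified iff `f^*Ω_{Y/S} ⟶ Ω_{X/S}` is an epimorphism (helper44)
-/

set_option autoImplicit false
universe u
open CategoryTheory Limits Opposite AlgebraicGeometry TopologicalSpace TensorProduct Scheme.Modules

namespace Groth.Agent.H44

theorem stableUnderCompositionWithLocalizationAwaySource_formallyUnramified :
    RingHom.StableUnderCompositionWithLocalizationAwaySource RingHom.FormallyUnramified := by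
  intro R S T _ _ _ _ r _ f hf
  have h1 : (algebraMap R S).FormallyUnramified := by
    rw [RingHom.formallyUnramified_algebraMap]
    exact Algebra.FormallyUnramified.of_isLocalization (Submonoid.powers r)
  exact RingHom.FormallyUnramified.comp h1 hf

section
variable {X Y S : Scheme.{u}} (f : X ⟶ Y) (g : Y ⟶ S)

/-- Charts for a composable pair: affine opens `U' ⊆ X`, `U ⊆ Y`, `V ⊆ S` with `U' → U → V`. -/
structure TripleChart where
  U' : X.Opens
  U : Y.Opens
  V : S.Opens
  hU' : IsAffineOpen U'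
  hU : IsAffineOpen U
  hV : IsAffineOpen V
  le : U' ≤ f ⁻¹ᵁ U
  e : U ≤ g ⁻¹ᵁ V

theorem exists_tripleChart (x : X) (W : X.Opens) (hx : x ∈ W) :
    ∃ t : TripleChart f g, x ∈ t.U' ∧ t.U' ≤ W := by
  obtain ⟨V, hV, hxV, -⟩ := Opens.isBasis_iff_nbhd.mp S.isBasis_affineOpens
    (show g.base (f.base x) ∈ (⊤ : S.Opens) from trivial)
  obtain ⟨U, hU, hxU, hUV⟩ := Opens.isBasis_iff_nbhd.mp Y.isBasis_affineOpens
    (show f.base x ∈ g ⁻¹ᵁ V from hxV)
  obtain ⟨U', hU', hxU', hU'W⟩ := Opens.isBasis_iff_nbhd.mp X.isBasis_affineOpens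
    (show x ∈ W ⊓ f ⁻¹ᵁ U from ⟨hx, hxU⟩)
  exact ⟨⟨U', U, V, hU', hU, hV, hU'W.trans inf_le_right, hUV⟩, hxU', hU'W.trans inf_le_left⟩

theorem TripleChart.le' (t : TripleChart f g) : t.U' ≤ (f ≫ g) ⁻¹ᵁ t.V :=
  t.le.trans (f.preimage_mono t.e)

/-- Pure algebra: `B ⊗[A] Ω[A/R] → Ω[B/R]` is surjective iff `Ω[B/A] = 0`. -/
theorem mapBaseChange_surjective_iff (R A B : Type u) [CommRing R] [CommRing A] [CommRing B]
    [Algebra R A] [Algebra A B] [Algebra R B] [IsScalarTower R A B] :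
    Function.Surjective (KaehlerDifferential.mapBaseChange R A B) ↔ Subsingleton Ω[B⁄A] := by
  constructor
  · intro hs
    refine ⟨fun x y => ?_⟩
    have h0 : ∀ z : Ω[B⁄A], z = 0 := by
      intro z
      obtain ⟨w, rfl⟩ := KaehlerDifferential.map_surjective R A B z
      obtain ⟨v, rfl⟩ := hs w
      exact (KaehlerDifferential.exact_mapBaseChange_map R A B _).2 ⟨v, rfl⟩
    rw [h0 x, h0 y]
  · intro hsub w
    exact (KaehlerDifferential.exact_mapBaseChange_map R A B w).1 (Subsingleton.elim _ _)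

variable {f g} {ΩY : Y.Modules} (dY : OmegaSh.Der g ΩY) (hY : OmegaSh.IsUniversal dY)
  {ΩX : X.Modules} (dX : OmegaSh.Der (f ≫ g) ΩX) (hX : OmegaSh.IsUniversal dX)
  (c : (Scheme.Modules.pullback f).obj ΩY ⟶ ΩX) (hc : OmegaSh.IsDiffCompat f dY dX c)

include hY hX hc in
theorem app_surjective_iff_formallyUnramified (t : TripleChart f g) :
    Function.Surjective (c.app t.U') ↔ (f.appLE t.U t.U' t.le).hom.FormallyUnramified := by
  letI algRA : Algebra Γ(S, t.V) Γ(Y, t.U) := (g.appLE t.V t.U t.e).hom.toAlgebra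
  letI algRA' : Algebra Γ(S, t.V) Γ(X, t.U') := ((f ≫ g).appLE t.V t.U' (t.le' f g)).hom.toAlgebra
  letI algAA' : Algebra Γ(Y, t.U) Γ(X, t.U') := (f.appLE t.U t.U' t.le).hom.toAlgebra
  haveI : IsScalarTower Γ(S, t.V) Γ(Y, t.U) Γ(X, t.U') := IsScalarTower.of_algebraMap_eq' (by
    change ((f ≫ g).appLE t.V t.U' (t.le' f g)).hom =
      (f.appLE t.U t.U' t.le).hom.comp (g.appLE t.V t.U t.e).hom
    rw [← CommRingCat.hom_comp, Scheme.Hom.appLE_comp_appLE])
  obtain ⟨E, Φ', -, hμ⟩ := exists_chart_description f dY dX c hc t.hU t.hU' t.le hY hX t.hV t.hV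
    t.e (t.le' f g)
  have hμ' := hμ (KaehlerDifferential.mapBaseChange Γ(S, t.V) Γ(Y, t.U) Γ(X, t.U')) (fun a' s => by
    rw [KaehlerDifferential.mapBaseChange_tmul, KaehlerDifferential.map_D]
    rfl)
  rw [RingHom.FormallyUnramified, Algebra.formallyUnramified_iff,
    ← mapBaseChange_surjective_iff Γ(S, t.V) Γ(Y, t.U) Γ(X, t.U')]
  constructor
  · intro hs w
    obtain ⟨y, hy⟩ := hs (Φ'.symm w)
    refine ⟨E y, ?_⟩
    rw [← hμ', hy, Φ'.apply_symm_apply]
  · intro hs y
    obtain ⟨v, hv⟩ := hs (Φ' y)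
    refine ⟨E.symm v, ?_⟩
    apply Φ'.injective
    rw [hμ', E.apply_symm_apply, hv]

include hY hX hc in
/-- **`f` is formally unramified iff `f^*Ω_{Y/S} ⟶ Ω_{X/S}` is an epimorphism.** -/
theorem formallyUnramified_iff_epi_diffCompat : FormallyUnramified f ↔ Epi c := by
  haveI := isQuasicoherent_of_isUniversal dY hY
  haveI := isQuasicoherent_of_isUniversal dX hX
  constructor
  · intro hf
    refine epi_of_surjective_on_cover c (fun t : TripleChart f g => t.U') (fun x => ?_)
      (fun t => t.hU') (fun t => ?_)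
    · obtain ⟨t, hxt, -⟩ := exists_tripleChart f g x ⊤ trivial
      exact ⟨t, hxt⟩
    · rw [app_surjective_iff_formallyUnramified dY hY dX hX c hc t]
      exact hf.formallyUnramified_appLE t.hU t.hU' t.le
  · intro hepi
    rw [HasRingHomProperty.iff_exists_appLE (P := @FormallyUnramified)
      stableUnderCompositionWithLocalizationAwaySource_formallyUnramified]
    intro x
    obtain ⟨t, hxt, -⟩ := exists_tripleChart f g x ⊤ trivial
    refine ⟨⟨t.U, t.hU⟩, ⟨t.U', t.hU'⟩, hxt, t.le, ?_⟩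
    rw [← app_surjective_iff_formallyUnramified dY hY dX hX c hc t]
    exact app_surjective_of_epi c t.hU'

end
end Groth.Agent.H44
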