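import Groth.Agent.H44.UniversalFinite
import Groth.Agent.H44.PullUnit

/-!
# The canonical map `h^*Ω ⟶ Ω'` on affine charts (helper44)
-/

set_option autoImplicit false
universe u
open CategoryTheory Limits Opposite AlgebraicGeometry TopologicalSpace TensorProduct Scheme.Modules

namespace Groth.Agent.H44

section
variable {X S X' S' : Scheme.{u}} {f : X ⟶ S} {f' : X' ⟶ S'} (h : X' ⟶ X)
  {Ω : X.Modules} (d : OmegaSh.Der f Ω) {Ω' : X'.Modules} (d' : OmegaSh.Der f' Ω')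
  (c : (Scheme.Modules.pullback h).obj Ω ⟶ Ω') (hc : OmegaSh.IsDiffCompat h d d' c)
  {U : X.Opens} {U' : X'.Opens} (hU : IsAffineOpen U) (hU' : IsAffineOpen U') (le : U' ≤ h ⁻¹ᵁ U)

include hc in
theorem diffCompat_pullSectLE (s : Γ(X, U)) :
    c.app U' (pullSectLE h Ω U U' le (d.app U s)) = d'.app U' (h.appLE U U' le s) := by
  unfold pullSectLE
  rw [hom_app_resLE, hc U s, ← Der_app_map]
  rfl

include hc in
theorem diffCompat_chart [Ω.IsQuasicoherent] (a' : Γ(X', U')) (s : Γ(X, U)) :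
    letI := (h.appLE U U' le).hom.toAlgebra
    c.app U' ((pullbackSectionsEquiv h Ω hU' hU le).symm (a' ⊗ₜ[Γ(X, U)] d.app U s)) =
      a' • d'.app U' (h.appLE U U' le s) := by
  letI := (h.appLE U U' le).hom.toAlgebra
  have h1 : (a' ⊗ₜ[Γ(X, U)] d.app U s : Γ(X', U') ⊗[Γ(X, U)] Γ(Ω, U)) =
      a' • ((1 : Γ(X', U')) ⊗ₜ[Γ(X, U)] d.app U s) := by
    rw [TensorProduct.smul_tmul', smul_eq_mul, mul_one]
  have h2 : (pullbackSectionsEquiv h Ω hU' hU le).symm ((1 : Γ(X', U')) ⊗ₜ[Γ(X, U)] d.app U s) =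
      pullSectLE h Ω U U' le (d.app U s) := by
    rw [LinearEquiv.symm_apply_eq]
    exact (pullbackSectionsEquiv_pullSectLE h Ω hU' hU le (d.app U s)).symm
  rw [h1, _root_.map_smul, h2, Scheme.Modules.Hom.app_smul, diffCompat_pullSectLE h d d' c hc le]

set_option maxRecDepth 4000 in
include hc hU hU' in
/-- **Chart description of the canonical map `h^*Ω ⟶ Ω'`** for universal receptacles: on affine charts it
is the algebraic map `A' ⊗[A] Ω[A/R] → Ω[A'/R']`, `a' ⊗ D s ↦ a' • D (φ s)`. -/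
theorem exists_chart_description (hd : OmegaSh.IsUniversal d) (hd' : OmegaSh.IsUniversal d')
    {V : S.Opens} {V' : S'.Opens} (hV : IsAffineOpen V) (hV' : IsAffineOpen V')
    (e : U ≤ f ⁻¹ᵁ V) (e' : U' ≤ f' ⁻¹ᵁ V') :
    letI := (f.appLE V U e).hom.toAlgebra
    letI := (f'.appLE V' U' e').hom.toAlgebra
    letI := (h.appLE U U' le).hom.toAlgebra
    ∃ (E : Γ((Scheme.Modules.pullback h).obj Ω, U') ≃ₗ[Γ(X', U')]
          Γ(X', U') ⊗[Γ(X, U)] Ω[Γ(X, U)⁄Γ(S, V)])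
      (Φ' : Γ(Ω', U') ≃ₗ[Γ(X', U')] Ω[Γ(X', U')⁄Γ(S', V')]),
      (∀ s, Φ' (d'.app U' s) = KaehlerDifferential.D Γ(S', V') Γ(X', U') s) ∧
      ∀ (μ : Γ(X', U') ⊗[Γ(X, U)] Ω[Γ(X, U)⁄Γ(S, V)] →ₗ[Γ(X', U')] Ω[Γ(X', U')⁄Γ(S', V')]),
        (∀ a' s, μ (a' ⊗ₜ[Γ(X, U)] KaehlerDifferential.D Γ(S, V) Γ(X, U) s) =
          a' • KaehlerDifferential.D Γ(S', V') Γ(X', U') (h.appLE U U' le s)) →
        ∀ x, Φ' (c.app U' x) = μ (E x) := by
  letI := (f.appLE V U e).hom.toAlgebra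
  letI := (f'.appLE V' U' e').hom.toAlgebra
  letI := (h.appLE U U' le).hom.toAlgebra
  haveI := isQuasicoherent_of_isUniversal d hd
  obtain ⟨Φ, hΦ⟩ := exists_kaehler_equiv_of_isUniversal d hU hV e hd
  obtain ⟨Φ', hΦ'⟩ := exists_kaehler_equiv_of_isUniversal d' hU' hV' e' hd'
  let E₀ := pullbackSectionsEquiv h Ω hU' hU le
  let E := E₀ ≪≫ₗ LinearEquiv.baseChange Γ(X, U) Γ(X', U') _ _ Φ
  refine ⟨E, Φ', hΦ', fun μ hμ => ?_⟩
  have key : ∀ t : Γ(X', U') ⊗[Γ(X, U)] Ω[Γ(X, U)⁄Γ(S, V)],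
      Φ' (c.app U' (E.symm t)) = μ t := by
    intro t
    induction t using TensorProduct.induction_on with
    | zero => simp
    | add x y hx hy => rw [map_add, map_add, map_add, hx, hy, map_add]
    | tmul a' ω =>
      have hω : ω ∈ Submodule.span Γ(X, U)
          (Set.range (KaehlerDifferential.D Γ(S, V) Γ(X, U))) := by
        rw [KaehlerDifferential.span_range_derivation]; trivial
      induction hω using Submodule.span_induction generalizing a' with
      | mem ω hω =>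
        obtain ⟨s, rfl⟩ := hω
        have h1 : E.symm (a' ⊗ₜ[Γ(X, U)] KaehlerDifferential.D Γ(S, V) Γ(X, U) s) =
            E₀.symm (a' ⊗ₜ[Γ(X, U)] d.app U s) := by
          change E₀.symm ((LinearEquiv.baseChange Γ(X, U) Γ(X', U') _ _ Φ).symm _) = _
          rw [LinearEquiv.baseChange_symm_tmul, ← hΦ, Φ.symm_apply_apply]
        rw [h1, diffCompat_chart h d d' c hc hU hU' le, _root_.map_smul, hΦ', hμ]
      | zero => simp
      | add x y _ _ hx hy =>
        rw [TensorProduct.tmul_add, map_add, map_add, map_add, hx, hy, map_add]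
      | smul r x _ hx =>
        rw [← TensorProduct.smul_tmul]
        exact hx _
  intro x
  rw [← key (E x), E.symm_apply_apply]

end
end Groth.Agent.H44
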