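import Groth.Agent.H44.ConormalSplit
import Groth.Agent.H44.ConormalDiffExists
import Groth.Agent.H44.DiffCompatChart

/-!
# Functoriality of the restricted cotangent sequence in the ambient scheme (helper44)

For `i : D ⟶ C`, `g : C ⟶ C'` over `T`, the restricted cotangent sequences
`C_{D/C'} → (i≫g)^*Ω_{C'} → Ω_D` and `C_{D/C} → i^*Ω_C → Ω_D` are related by a morphism of complexes whose
left component is the canonical map of conormal sheaves and whose right component is the identity.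
-/

set_option autoImplicit false
universe u
open CategoryTheory Limits Opposite AlgebraicGeometry TopologicalSpace Scheme.Modules

namespace Groth.Agent.H44

section
variable {D C C' T : Scheme.{u}} (i : D ⟶ C) (g : C ⟶ C') (pC' : C' ⟶ T)
  {Ω₂ : D.Modules} (d₂ : OmegaSh.Der (i ≫ g ≫ pC') Ω₂)
  {Ω₁ : C.Modules} (d₁ : OmegaSh.Der (g ≫ pC') Ω₁)
  {Ω₁' : C'.Modules} (d₁' : OmegaSh.Der pC' Ω₁') (hd₁' : OmegaSh.IsUniversal d₁')
  (γ : (Scheme.Modules.pullback g).obj Ω₁' ⟶ Ω₁) (hγ : OmegaSh.IsDiffCompat g d₁' d₁ γ)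

/-- the restriction to `D` of the differential of `g`. -/
noncomputable def restrictDiff : (Scheme.Modules.pullback (i ≫ g)).obj Ω₁' ⟶
    (Scheme.Modules.pullback i).obj Ω₁ :=
  (pullbackComp i g).inv.app Ω₁' ≫ (Scheme.Modules.pullback i).map γ

theorem restrictDiff_app (U' : C'.Opens) (m' : Γ(Ω₁', U')) :
    (restrictDiff i g γ).app ((i ≫ g) ⁻¹ᵁ U') (OmegaSh.pullSect (i ≫ g) Ω₁' U' m') =
      pullSectLE i Ω₁ (g ⁻¹ᵁ U') ((i ≫ g) ⁻¹ᵁ U') le_rfl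
        (γ.app (g ⁻¹ᵁ U') (OmegaSh.pullSect g Ω₁' U' m')) := by
  have e1 := pullbackComp_inv_app i g Ω₁' U' (g ⁻¹ᵁ U') ((i ≫ g) ⁻¹ᵁ U') le_rfl le_rfl m'
  have e2 := pullSectLE_naturality i γ (g ⁻¹ᵁ U') ((i ≫ g) ⁻¹ᵁ U') le_rfl
    (pullSectLE g Ω₁' U' (g ⁻¹ᵁ U') le_rfl m')
  rw [pullSectLE_self] at e1 e2
  rw [pullSectLE_self] at e1
  unfold restrictDiff
  rw [Scheme.Modules.Hom.comp_app]
  change ((Scheme.Modules.pullback i).map γ).app _ (((pullbackComp i g).inv.app Ω₁').app _ _) = _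
  rw [e1, e2]

end

section HomExt
variable {Z X : Scheme.{u}} (j : Z ⟶ X) {M : X.Modules} {N : Z.Modules}

/-- Morphisms out of a pullback are determined by their values on pulled-back sections. -/
theorem pullback_hom_ext (ψ₁ ψ₂ : (Scheme.Modules.pullback j).obj M ⟶ N)
    (h : ∀ (U : X.Opens) (m : Γ(M, U)),
      ψ₁.app (j ⁻¹ᵁ U) (OmegaSh.pullSect j M U m) = ψ₂.app (j ⁻¹ᵁ U) (OmegaSh.pullSect j M U m)) :
    ψ₁ = ψ₂ := by
  apply ((Scheme.Modules.pullbackPushforwardAdjunction j).homEquiv M N).injective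
  refine Scheme.Modules.hom_ext _ _ fun U => ?_
  ext m
  rw [homEquiv_app, homEquiv_app]
  exact h U m

end HomExt

section
variable {D C C' T : Scheme.{u}} (i : D ⟶ C) [QuasiCompact i] (g : C ⟶ C') (pC' : C' ⟶ T)
  {Ω₂ : D.Modules} (d₂ : OmegaSh.Der (i ≫ g ≫ pC') Ω₂)
  {Ω₁ : C.Modules} (d₁ : OmegaSh.Der (g ≫ pC') Ω₁)
  {Ω₁' : C'.Modules} (d₁' : OmegaSh.Der pC' Ω₁') (hd₁' : OmegaSh.IsUniversal d₁')
  (γ : (Scheme.Modules.pullback g).obj Ω₁' ⟶ Ω₁) (hγ : OmegaSh.IsDiffCompat g d₁' d₁ γ)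
  (c : (Scheme.Modules.pullback i).obj Ω₁ ⟶ Ω₂) (hc : OmegaSh.IsDiffCompat i d₁ d₂ c)
  (c' : (Scheme.Modules.pullback (i ≫ g)).obj Ω₁' ⟶ Ω₂) (hc' : OmegaSh.IsDiffCompat (i ≫ g) d₁' d₂ c')
  (φ : Omega.conormal i ⟶ (Scheme.Modules.pullback i).obj Ω₁) (hφ : OmegaSh.IsConormalDiff i d₁ φ)
  (φ' : Omega.conormal (i ≫ g) ⟶ (Scheme.Modules.pullback (i ≫ g)).obj Ω₁')
  (hφ' : OmegaSh.IsConormalDiff (i ≫ g) d₁' φ')
  (α : (Scheme.Modules.pullback (𝟙 D)).obj (Omega.conormal (i ≫ g)) ⟶ Omega.conormal i)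
  (hα : OmegaSh.IsConormalMap i (i ≫ g) g (𝟙 D) α)

omit [QuasiCompact i] in
include hd₁' hγ hc hc' in
theorem restrictDiff_comp : restrictDiff i g γ ≫ c = c' := by
  obtain ⟨c₀, -, huniq⟩ := existsUnique_isDiffCompat (i ≫ g) (𝟙 T)
    (show (i ≫ g ≫ pC') ≫ 𝟙 T = (i ≫ g) ≫ pC' by rw [Category.comp_id, Category.assoc]) d₁' d₂ hd₁'
  have h1 : OmegaSh.IsDiffCompat (i ≫ g) d₁' d₂ (restrictDiff i g γ ≫ c) := by
    intro U' s
    rw [Scheme.Modules.Hom.comp_app]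
    change c.app _ ((restrictDiff i g γ).app _ _) = _
    rw [restrictDiff_app, hγ U' s]
    refine (diffCompat_pullSectLE i d₁ d₂ c hc le_rfl (g.app U' s)).trans ?_
    have h3 : i.appLE (g ⁻¹ᵁ U') (i ⁻¹ᵁ g ⁻¹ᵁ U') le_rfl (g.app U' s) = (i ≫ g).app U' s := by
      have h4 : (i ≫ g).app U' = g.app U' ≫ i.app (g ⁻¹ᵁ U') := Scheme.Hom.comp_app i g U'
      rw [h4, Scheme.Hom.appLE_eq_app]
      rfl
    rw [h3]
    rfl
  exact (huniq _ h1).trans (huniq c' hc').symm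

include hγ hφ hφ' hα in
theorem conormal_comp_restrictDiff :
    ((pullbackId D).inv.app (Omega.conormal (i ≫ g)) ≫ α) ≫ φ = φ' ≫ restrictDiff i g γ := by
  have hsq : 𝟙 D ≫ (i ≫ g) = i ≫ g := Category.id_comp _
  refine pullback_hom_ext (i ≫ g) (M := ClSub.idealMod (i ≫ g).ker) _ _ fun U' s' => ?_
  -- right hand side
  have hR : (φ' ≫ restrictDiff i g γ).app ((i ≫ g) ⁻¹ᵁ U')
      (OmegaSh.pullSect (i ≫ g) (ClSub.idealMod (i ≫ g).ker) U' s') =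
      OmegaSh.pullSect i Ω₁ (g ⁻¹ᵁ U')
        (d₁.app (g ⁻¹ᵁ U') (g.app U' (OmegaSh.idealSect (i ≫ g).ker U' s'))) := by
    rw [Scheme.Modules.Hom.comp_app]
    change (restrictDiff i g γ).app _ (φ'.app _ (OmegaSh.conormalSect (i ≫ g) U' s')) = _
    rw [hφ' U' s', restrictDiff_app, hγ U' _]
    exact pullSectLE_self i Ω₁ (g ⁻¹ᵁ U') _
  -- left hand side
  have hL : (((pullbackId D).inv.app (Omega.conormal (i ≫ g)) ≫ α) ≫ φ).app ((i ≫ g) ⁻¹ᵁ U')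
      (OmegaSh.pullSect (i ≫ g) (ClSub.idealMod (i ≫ g).ker) U' s') =
      OmegaSh.pullSect i Ω₁ (g ⁻¹ᵁ U')
        (d₁.app (g ⁻¹ᵁ U') (g.app U' (OmegaSh.idealSect (i ≫ g).ker U' s'))) := by
    rw [Scheme.Modules.Hom.comp_app, Scheme.Modules.Hom.comp_app]
    change φ.app _ (α.app _ (((pullbackId D).inv.app (Omega.conormal (i ≫ g))).app _
      (OmegaSh.conormalSect (i ≫ g) U' s'))) = _
    rw [pullbackId_inv_app_apply]
    have h1 := hα.2 U' s' (idealPull i (i ≫ g) g (𝟙 D) hsq U' s')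
      (idealSect_idealPull i (i ≫ g) g (𝟙 D) hsq U' s') ((i ≫ g) ⁻¹ᵁ U') le_rfl le_rfl
    have h2 : α.app ((i ≫ g) ⁻¹ᵁ U')
        (OmegaSh.pullSect (𝟙 D) (Omega.conormal (i ≫ g)) ((i ≫ g) ⁻¹ᵁ U')
          (OmegaSh.conormalSect (i ≫ g) U' s')) =
        OmegaSh.conormalSect i (g ⁻¹ᵁ U') (idealPull i (i ≫ g) g (𝟙 D) hsq U' s') :=
      ((resM_refl (M := Omega.conormal i) _).symm.trans h1).trans (resM_refl (M := Omega.conormal i) _)
    rw [h2]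
    have h3 := hφ (g ⁻¹ᵁ U') (idealPull i (i ≫ g) g (𝟙 D) hsq U' s')
    rw [idealSect_idealPull] at h3
    exact h3
  exact hL.trans hR.symm

end

end Groth.Agent.H44
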