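import Groth.Prelude.Def_Algz

/-!
# Basic lemmas on `Algz.codimPt`, `Algz.DSystem`, `Algz.deltaZ`
-/

set_option autoImplicit false
universe u
open TopologicalSpace

namespace Groth.Agent.H44

open Algz

variable {Y : Type u} [TopologicalSpace Y]

lemma deltaZ_le_delta {Z : Set Y} {y : Y} {k : ℕ} (S : DSystem Z y k) :
    deltaZ Z y ≤ S.delta :=
  iInf_le_of_le k (iInf_le _ S)

lemma codimPt_self (v : Y) (h : v ⤳ v) : codimPt v v h = 0 := by
  unfold codimPt
  rw [Order.height_eq_zero]
  intro b _
  exact b.2

lemma specialization_lt_iff [T0Space Y] {v w : Y} :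
    Specialization.toEquiv v < Specialization.toEquiv w ↔ w ⤳ v ∧ w ≠ v := by
  rw [lt_iff_le_and_ne]
  simp only [Specialization.toEquiv_le_toEquiv, ne_eq, Specialization.toEquiv_inj]
  constructor
  · rintro ⟨h1, h2⟩
    exact ⟨h1, fun h => h2 h.symm⟩
  · rintro ⟨h1, h2⟩
    exact ⟨h1, fun h => h2 h.symm⟩

lemma one_le_codimPt [T0Space Y] (w v : Y) (h : w ⤳ v) (hne : w ≠ v) : 1 ≤ codimPt w v h := by
  unfold codimPt
  rw [Order.one_le_iff_pos, Order.height_pos]
  intro hmin
  have hle : (⟨Specialization.toEquiv v, Set.mem_Ici.mpr le_rfl⟩ : Set.Ici (Specialization.toEquiv v)) ≤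
      ⟨Specialization.toEquiv w, Specialization.toEquiv_le_toEquiv.mpr h⟩ :=
    Specialization.toEquiv_le_toEquiv.mpr h
  have := hmin hle
  have h2 : v ⤳ w := Specialization.toEquiv_le_toEquiv.mp this
  exact hne (h2.antisymm h).symm.eq

lemma codimPt_eq_one [T0Space Y] (w v : Y) (h : w ⤳ v) (hne : w ≠ v)
    (himm : ∀ z : Y, w ⤳ z → z ⤳ v → z = w ∨ z = v) : codimPt w v h = 1 := by
  apply le_antisymm _ (one_le_codimPt w v h hne)
  unfold codimPt
  have : ((1 : ℕ) : ℕ∞) = 1 := rfl
  rw [← this, Order.height_le_coe_iff]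
  rintro ⟨z, hz⟩ hlt
  induction z with | _ z => ?_
  have hzv : z ⤳ v := Specialization.toEquiv_le_toEquiv.mp hz
  have hlt' : Specialization.toEquiv z < Specialization.toEquiv w := hlt
  rw [specialization_lt_iff] at hlt'
  rcases himm z hlt'.1 hzv with rfl | rfl
  · exact absurd rfl hlt'.2
  · have : Order.height (⟨Specialization.toEquiv z, hz⟩ : Set.Ici (Specialization.toEquiv z)) = 0 := by
      rw [Order.height_eq_zero]
      intro b _
      exact b.2
    rw [this]
    exact zero_lt_one

lemma codimPt_congr {w w' v v' : Y} (hw : w = w') (hv : v = v') (h : w ⤳ v) (h' : w' ⤳ v') :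
    codimPt w v h = codimPt w' v' h' := by
  subst hw hv
  rfl

section OpenEmb

variable {Y' : Type u} [TopologicalSpace Y'] {f : Y' → Y}

/-- An open embedding induces an order isomorphism on generizations of a point. -/
noncomputable def iciOrderIso (hf : Topology.IsOpenEmbedding f) (v : Y') :
    Set.Ici (Specialization.toEquiv v) ≃o Set.Ici (Specialization.toEquiv (f v)) where
  toFun x := ⟨Specialization.toEquiv (f (Specialization.ofEquiv x.1)), by
    have hx : Specialization.toEquiv v ≤ x.1 := x.2
    rw [Set.mem_Ici, Specialization.toEquiv_le_toEquiv]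
    exact (hf.isInducing.specializes_iff).mpr (Specialization.toEquiv_le_toEquiv.mp hx)⟩
  invFun z := ⟨Specialization.toEquiv
      (Classical.choose (show ∃ x : Y', f x = Specialization.ofEquiv z.1 from by
        have hz : Specialization.toEquiv (f v) ≤ z.1 := z.2
        have hs : Specialization.ofEquiv z.1 ⤳ f v := Specialization.toEquiv_le_toEquiv.mp hz
        exact hs.mem_open hf.isOpen_range ⟨v, rfl⟩)), by
    have hz : Specialization.toEquiv (f v) ≤ z.1 := z.2
    have hs : Specialization.ofEquiv z.1 ⤳ f v := Specialization.toEquiv_le_toEquiv.mp hz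
    have hx := Classical.choose_spec (show ∃ x : Y', f x = Specialization.ofEquiv z.1 from
      hs.mem_open hf.isOpen_range ⟨v, rfl⟩)
    rw [Set.mem_Ici, Specialization.toEquiv_le_toEquiv]
    rw [← hx] at hs
    exact (hf.isInducing.specializes_iff).mp hs⟩
  left_inv x := by
    apply Subtype.ext
    have hx := Classical.choose_spec (show ∃ x' : Y', f x' = f (Specialization.ofEquiv x.1) from ⟨_, rfl⟩)
    exact congrArg Specialization.toEquiv (hf.injective hx)
  right_inv z := by
    apply Subtype.ext
    have hz : Specialization.toEquiv (f v) ≤ z.1 := z.2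
    have hs : Specialization.ofEquiv z.1 ⤳ f v := Specialization.toEquiv_le_toEquiv.mp hz
    have hx := Classical.choose_spec (show ∃ x : Y', f x = Specialization.ofEquiv z.1 from
      hs.mem_open hf.isOpen_range ⟨v, rfl⟩)
    exact congrArg Specialization.toEquiv hx
  map_rel_iff' := by
    intro a b
    change Specialization.toEquiv (f (Specialization.ofEquiv a.1)) ≤
      Specialization.toEquiv (f (Specialization.ofEquiv b.1)) ↔ a.1 ≤ b.1
    rw [Specialization.toEquiv_le_toEquiv, hf.isInducing.specializes_iff]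
    rfl

lemma codimPt_map (hf : Topology.IsOpenEmbedding f) (w v : Y') (h : w ⤳ v) (h' : f w ⤳ f v) :
    codimPt (f w) (f v) h' = codimPt w v h := by
  unfold codimPt
  exact Order.height_orderIso (iciOrderIso hf v)
    ⟨Specialization.toEquiv w, Specialization.toEquiv_le_toEquiv.mpr h⟩

/-- push a system forward along an open embedding -/
def DSystem.mapOpen (hf : Topology.IsOpenEmbedding f) {Z : Set Y} {y : Y'} {k : ℕ}
    (S : DSystem (f ⁻¹' Z) y k) : DSystem Z (f y) k where
  v i := f (S.v i)
  w i := f (S.w i)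
  spec i := hf.isInducing.specializes_iff.mpr (S.spec i)
  spec_succ i := hf.isInducing.specializes_iff.mpr (S.spec_succ i)
  start_mem := S.start_mem
  last_eq := congrArg f S.last_eq

lemma DSystem.mapOpen_delta (hf : Topology.IsOpenEmbedding f) {Z : Set Y} {y : Y'} {k : ℕ}
    (S : DSystem (f ⁻¹' Z) y k) : (DSystem.mapOpen hf S).delta = S.delta := by
  have hc : ∀ i, (DSystem.mapOpen hf S).c i = S.c i := fun i => codimPt_map hf _ _ _ _
  have hb : ∀ i, (DSystem.mapOpen hf S).b i = S.b i := fun i => codimPt_map hf _ _ _ _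
  unfold DSystem.delta
  simp only [hc, hb]

lemma deltaZ_map_le (hf : Topology.IsOpenEmbedding f) (Z : Set Y) (y : Y') :
    deltaZ Z (f y) ≤ deltaZ (f ⁻¹' Z) y := by
  unfold deltaZ
  refine le_iInf fun k => le_iInf fun S => ?_
  rw [← DSystem.mapOpen_delta hf S]
  exact iInf_le_of_le k (iInf_le _ (DSystem.mapOpen hf S))

end OpenEmb

end Groth.Agent.H44
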