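import Groth.Agent.H44.DeltaZSpec
import Mathlib.Topology.NoetherianSpace

/-!
# `deltaZ` and dimension functions
-/

set_option autoImplicit false
universe u
open TopologicalSpace

namespace Groth.Agent.H44

open Algz

variable {Y : Type u} [TopologicalSpace Y]

/-- the abstract dimension function property -/
def DimFun (δ : Y → ℤ) : Prop :=
  ∀ x y : Y, x ⤳ y → x ≠ y →
    δ y < δ x ∧ ((∀ z : Y, x ⤳ z → z ⤳ y → z = x ∨ z = y) → δ x = δ y + 1)

lemma DimFun.mono {δ : Y → ℤ} (hδ : DimFun δ) {x y : Y} (h : x ⤳ y) : δ y ≤ δ x := by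
  by_cases hxy : x = y
  · rw [hxy]
  · exact (hδ x y h hxy).1.le

/-- strict specialization is well-founded on a Noetherian T0 space -/
lemma wf_strictSpec [T0Space Y] [NoetherianSpace Y] :
    WellFounded (fun x' x : Y => x ⤳ x' ∧ x ≠ x') := by
  have hwf : WellFounded (fun a b : Closeds Y => a < b) := wellFounded_lt
  refine Subrelation.wf ?_ (InvImage.wf (fun x : Y => (⟨closure {x}, isClosed_closure⟩ : Closeds Y)) hwf)
  intro x' x ⟨h, hne⟩
  change (⟨closure {x'}, isClosed_closure⟩ : Closeds Y) < ⟨closure {x}, isClosed_closure⟩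
  rw [lt_iff_le_and_ne]
  constructor
  · change closure {x'} ⊆ closure {x}
    exact (specializes_iff_closure_subset.mp h)
  · intro heq
    have h1 : closure {x'} = closure {x} := congrArg (fun c : Closeds Y => (c : Set Y)) heq
    have h2 : x' ⤳ x := by
      rw [specializes_iff_closure_subset, h1]
    exact hne (h.antisymm h2).eq

/-- existence of an immediate generization of `v` below `w`. -/
lemma exists_immediate [T0Space Y] [NoetherianSpace Y] (w v : Y) (h : w ⤳ v) (hne : w ≠ v) :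
    ∃ x : Y, w ⤳ x ∧ x ⤳ v ∧ x ≠ v ∧ ∀ z : Y, x ⤳ z → z ⤳ v → z = x ∨ z = v := by
  let T : Set Y := {x | w ⤳ x ∧ x ⤳ v ∧ x ≠ v}
  have hT : T.Nonempty := ⟨w, specializes_rfl, h, hne⟩
  obtain ⟨x, hxT, hmin⟩ := wf_strictSpec.has_min T hT
  refine ⟨x, hxT.1, hxT.2.1, hxT.2.2, ?_⟩
  intro z hxz hzv
  by_cases hzv' : z = v
  · exact Or.inr hzv'
  · left
    by_contra hzx
    exact hmin z ⟨hxT.1.trans hxz, hzv, hzv'⟩ ⟨hxz, fun e => hzx e.symm⟩

lemma series_length_le {δ : Y → ℤ} (hδ : DimFun δ) [T0Space Y] (p : LTSeries (Specialization Y)) :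
    ∀ i : Fin (p.length + 1), δ (Specialization.ofEquiv p.head) + (i : ℕ) ≤
      δ (Specialization.ofEquiv (p i)) := by
  intro ⟨i, hi⟩
  induction i with
  | zero => simp [RelSeries.head]
  | succ i ih =>
    have hi' : i < p.length := by omega
    have h1 := ih (by omega)
    have hstep := p.step ⟨i, hi'⟩
    have hlt : p (Fin.castSucc ⟨i, hi'⟩) < p (Fin.succ ⟨i, hi'⟩) := hstep
    have hlt' : Specialization.toEquiv (Specialization.ofEquiv (p (Fin.castSucc ⟨i, hi'⟩))) <
        Specialization.toEquiv (Specialization.ofEquiv (p (Fin.succ ⟨i, hi'⟩))) := hlt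
    rw [specialization_lt_iff] at hlt'
    have h2 := (hδ _ _ hlt'.1 hlt'.2).1
    have e1 : (Fin.castSucc ⟨i, hi'⟩ : Fin (p.length + 1)) = ⟨i, by omega⟩ := rfl
    have e2 : (Fin.succ ⟨i, hi'⟩ : Fin (p.length + 1)) = ⟨i + 1, hi⟩ := rfl
    rw [e1, e2] at h2
    push_cast
    push_cast at h1
    omega

lemma codimPt_le_of_dimFun {δ : Y → ℤ} (hδ : DimFun δ) [T0Space Y] (w v : Y) (h : w ⤳ v) :
    codimPt w v h ≤ ((δ w - δ v).toNat : ℕ∞) := by
  unfold codimPt
  rw [Order.height_le_iff]
  intro p hp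
  let incl : Set.Ici (Specialization.toEquiv v) → Specialization Y := Subtype.val
  have hincl : StrictMono incl := fun a b hab => hab
  let q : LTSeries (Specialization Y) := p.map incl hincl
  have hq := series_length_le hδ q (Fin.last _)
  have hhead : Specialization.toEquiv v ≤ q.head := by
    rw [LTSeries.head_map]; exact p.head.2
  have hlast : q (Fin.last _) ≤ Specialization.toEquiv w := by
    change q.last ≤ _
    rw [LTSeries.last_map]; exact hp
  have h1 : δ v ≤ δ (Specialization.ofEquiv q.head) :=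
    hδ.mono (Specialization.toEquiv_le_toEquiv.mp
      (show Specialization.toEquiv v ≤ Specialization.toEquiv (Specialization.ofEquiv q.head) from hhead))
  have h2 : δ (Specialization.ofEquiv (q (Fin.last _))) ≤ δ w :=
    hδ.mono (Specialization.toEquiv_le_toEquiv.mp
      (show Specialization.toEquiv (Specialization.ofEquiv (q (Fin.last _))) ≤ Specialization.toEquiv w from hlast))
  have hlen : q.length = p.length := rfl
  have : (p.length : ℤ) ≤ δ w - δ v := by
    simp only [Fin.val_last] at hq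
    have hlen' : (q.length : ℤ) = p.length := by rw [hlen]
    omega
  have h3 : p.length ≤ (δ w - δ v).toNat := by omega
  exact_mod_cast h3

lemma exists_series_of_dimFun {δ : Y → ℤ} (hδ : DimFun δ) [T0Space Y] [NoetherianSpace Y] (w : Y) :
    ∀ (n : ℕ) (v : Y) (h : w ⤳ v), (δ w - δ v).toNat = n →
      ∃ p : LTSeries (Set.Ici (Specialization.toEquiv v)),
        p.last = ⟨Specialization.toEquiv w, Specialization.toEquiv_le_toEquiv.mpr h⟩ ∧
          p.length = n := by
  intro n
  induction n using Nat.strong_induction_on with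
  | _ n ih =>
    intro v h hn
    by_cases hwv : w = v
    · subst hwv
      refine ⟨RelSeries.singleton _ ⟨Specialization.toEquiv w, Set.mem_Ici.mpr le_rfl⟩, rfl, ?_⟩
      rw [← hn]
      simp
    · obtain ⟨x, hwx, hxv, hxne, himm⟩ := exists_immediate w v h hwv
      have hδx : δ x = δ v + 1 := (hδ x v hxv hxne).2 himm
      have hδw : δ x ≤ δ w := hδ.mono hwx
      have hn' : (δ w - δ x).toNat < n := by omega
      obtain ⟨p', hp'last, hp'len⟩ := ih _ hn' x hwx rfl
      let incl : Set.Ici (Specialization.toEquiv x) → Set.Ici (Specialization.toEquiv v) :=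
        fun a => ⟨a.1, le_trans (Specialization.toEquiv_le_toEquiv.mpr hxv) a.2⟩
      have hincl : StrictMono incl := fun a b hab => hab
      let q' : LTSeries (Set.Ici (Specialization.toEquiv v)) := p'.map incl hincl
      have hrel : (⟨Specialization.toEquiv v, Set.mem_Ici.mpr le_rfl⟩ :
          Set.Ici (Specialization.toEquiv v)) < q'.head := by
        rw [LTSeries.head_map]
        have h1 : Specialization.toEquiv v < Specialization.toEquiv x :=
          specialization_lt_iff.mpr ⟨hxv, hxne⟩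
        have h2 : Specialization.toEquiv x ≤ p'.head.1 := p'.head.2
        exact (lt_of_lt_of_le h1 h2 : Specialization.toEquiv v < p'.head.1)
      refine ⟨q'.cons _ hrel, ?_, ?_⟩
      · rw [RelSeries.last_cons, LTSeries.last_map, hp'last]
      · rw [RelSeries.cons_length]
        change p'.length + 1 = n
        rw [hp'len]
        omega

lemma le_codimPt_of_dimFun {δ : Y → ℤ} (hδ : DimFun δ) [T0Space Y] [NoetherianSpace Y]
    (w v : Y) (h : w ⤳ v) : ((δ w - δ v).toNat : ℕ∞) ≤ codimPt w v h := by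
  obtain ⟨p, hplast, hplen⟩ := exists_series_of_dimFun hδ w _ v h rfl
  unfold codimPt
  rw [← hplen, ← hplast]
  exact Order.length_le_height_last

lemma codimPt_eq_of_dimFun {δ : Y → ℤ} (hδ : DimFun δ) [T0Space Y] [NoetherianSpace Y]
    (w v : Y) (h : w ⤳ v) : codimPt w v h = ((δ w - δ v).toNat : ℕ∞) :=
  le_antisymm (codimPt_le_of_dimFun hδ w v h) (le_codimPt_of_dimFun hδ w v h)

/-- the key inequality: the value of a system bounds the drop of a dimension function. -/
lemma dimFun_le_delta {δ : Y → ℤ} (hδ : DimFun δ) [T0Space Y] [NoetherianSpace Y]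
    {Z : Set Y} {y : Y} {k : ℕ} (S : DSystem Z y k) (n : ℕ) (hS : S.delta ≤ n) :
    δ y ≤ n + δ (S.v 0) := by
  classical
  have hc : ∀ j, S.c j = (((δ (S.w j) - δ (S.v j)).toNat : ℕ) : ℕ∞) :=
    fun j => codimPt_eq_of_dimFun hδ _ _ _
  have hb : ∀ j, S.b j = (((δ (S.w j.castSucc) - δ (S.v j.succ)).toNat : ℕ) : ℕ∞) :=
    fun j => codimPt_eq_of_dimFun hδ _ _ _
  have hT0 : (∑ j ∈ Finset.univ.filter (fun j : Fin (k + 1) => (0 : Fin (k + 1)) ≤ j), S.c j) -
      ∑ j ∈ Finset.univ.filter (fun j : Fin k => (0 : Fin (k + 1)).val ≤ j.val), S.b j ≤ n := by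
    refine le_trans ?_ hS
    unfold DSystem.delta
    refine le_trans ?_ (le_add_left le_rfl)
    exact Finset.le_sup (f := fun i : Fin (k + 1) =>
      (∑ j ∈ Finset.univ.filter (fun j : Fin (k + 1) => i ≤ j), S.c j) -
        ∑ j ∈ Finset.univ.filter (fun j : Fin k => i.val ≤ j.val), S.b j) (Finset.mem_univ 0)
  have e1 : Finset.univ.filter (fun j : Fin (k + 1) => (0 : Fin (k + 1)) ≤ j) = Finset.univ := by
    ext j; simp
  have e2 : Finset.univ.filter (fun j : Fin k => (0 : Fin (k + 1)).val ≤ j.val) = Finset.univ := by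
    ext j; simp
  rw [e1, e2] at hT0
  simp only [hc, hb] at hT0
  rw [← Nat.cast_sum, ← Nat.cast_sum, ← ENat.natCast_sub] at hT0
  have hT1 : (∑ j : Fin (k + 1), (δ (S.w j) - δ (S.v j)).toNat) -
      (∑ j : Fin k, (δ (S.w j.castSucc) - δ (S.v j.succ)).toNat) ≤ n := by exact_mod_cast hT0
  have hC : ((∑ j : Fin (k + 1), (δ (S.w j) - δ (S.v j)).toNat : ℕ) : ℤ) =
      ∑ j : Fin (k + 1), (δ (S.w j) - δ (S.v j)) := by
    push_cast
    apply Finset.sum_congr rfl
    intro j _
    exact Int.toNat_of_nonneg (sub_nonneg.mpr (hδ.mono (S.spec j)))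
  have hB : ((∑ j : Fin k, (δ (S.w j.castSucc) - δ (S.v j.succ)).toNat : ℕ) : ℤ) =
      ∑ j : Fin k, (δ (S.w j.castSucc) - δ (S.v j.succ)) := by
    push_cast
    apply Finset.sum_congr rfl
    intro j _
    exact Int.toNat_of_nonneg (sub_nonneg.mpr (hδ.mono (S.spec_succ j)))
  have htel : (∑ j : Fin (k + 1), (δ (S.w j) - δ (S.v j))) -
      ∑ j : Fin k, (δ (S.w j.castSucc) - δ (S.v j.succ)) = δ (S.w (Fin.last k)) - δ (S.v 0) := by
    rw [Finset.sum_sub_distrib, Finset.sum_sub_distrib,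
      Fin.sum_univ_castSucc (f := fun j => δ (S.w j)), Fin.sum_univ_succ (f := fun j => δ (S.v j))]
    ring
  rw [S.last_eq] at htel
  omega

theorem dimFun_le_deltaZ {δ : Y → ℤ} (hδ : DimFun δ) [T0Space Y] [NoetherianSpace Y]
    (Z : Set Y) (y : Y) (n : ℕ) (hn : deltaZ Z y = n) : ∃ z ∈ Z, δ y ≤ n + δ z := by
  have hlt : deltaZ Z y < ((n + 1 : ℕ) : ℕ∞) := by
    rw [hn]; exact_mod_cast Nat.lt_succ_self n
  unfold deltaZ at hlt
  rw [iInf_lt_iff] at hlt
  obtain ⟨k, hk⟩ := hlt
  rw [iInf_lt_iff] at hk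
  obtain ⟨S, hS⟩ := hk
  have hS' : S.delta ≤ n := by
    have : S.delta < (n : ℕ∞) + 1 := by exact_mod_cast hS
    exact Order.le_of_lt_add_one this
  exact ⟨S.v 0, S.start_mem, dimFun_le_delta hδ S n hS'⟩

end Groth.Agent.H44
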