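import Mathlib.Order.KrullDimension
import Mathlib.Order.RelSeries
import Mathlib.Order.Cover

/-!
# Saturated chains of maximal length in orders with a top element
-/

set_option autoImplicit false

namespace Groth.Agent.H44

variable {α : Type*} [PartialOrder α]

/-- a saturated chain from `p` to the top `m` with `coheight p + 1` members. -/
lemma exists_sat_chain (m : α) (hm : ∀ p : α, p ≤ m) :
    ∀ (N : ℕ) (p : α), Order.coheight p = N →
      ∃ (l : List α) (hne : l ≠ []), l.head hne = p ∧ l.getLast hne = m ∧
        l.IsChain (· ⋖ ·) ∧ l.length = N + 1 := by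
  intro N
  induction N with
  | zero =>
    intro p hp
    have hmax : IsMax p := by
      rw [← Order.coheight_eq_zero]; exact_mod_cast hp
    have hpm : p = m := le_antisymm (hm p) (hmax (hm p))
    exact ⟨[p], by simp, rfl, by simpa using hpm, by simp, rfl⟩
  | succ N ih =>
    intro p hp
    have hp' : Order.coheight p = (N : ℕ∞) + 1 := by exact_mod_cast hp
    rw [Order.coheight_eq_coe_add_one_iff] at hp'
    obtain ⟨-, ⟨y, hy, hyN⟩, hall⟩ := hp'
    obtain ⟨l, hne, hhead, hlast, hchain, hlen⟩ := ih y hyN
    have hcov : p ⋖ y := by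
      refine ⟨hy, ?_⟩
      intro z hpz hzy
      have h1 : Order.coheight z ≤ N := hall z hpz
      have h2 : Order.coheight y + 1 ≤ Order.coheight z := Order.coheight_add_one_le hzy
      rw [hyN] at h2
      have : (N : ℕ∞) + 1 ≤ N := le_trans h2 h1
      exact absurd this (by exact_mod_cast Nat.not_succ_le_self N)
    refine ⟨p :: l, by simp, rfl, ?_, ?_, by simp [hlen]⟩
    · rw [List.getLast_cons hne]; exact hlast
    · apply List.IsChain.cons_of_ne_nil hne hchain
      rw [hhead]; exact hcov

/-- turn a saturated list chain into an `LTSeries`. -/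
lemma exists_ltSeries_of_list (l : List α) (hne : l ≠ []) (hchain : l.IsChain (· ⋖ ·)) :
    ∃ s : LTSeries α, s.head = l.head hne ∧ s.last = l.getLast hne ∧ s.length + 1 = l.length ∧
      ∀ i : Fin s.length, s (Fin.castSucc i) ⋖ s (Fin.succ i) := by
  have hlt : l.IsChain (· < ·) := hchain.imp (fun _ _ h => h.lt)
  let s : LTSeries α := RelSeries.fromListIsChain l hne hlt
  refine ⟨s, RelSeries.head_fromListIsChain l hne hlt, ?_, ?_, ?_⟩
  · have h1 := RelSeries.getLast_toList s
    have h2 : s.toList = l := RelSeries.toList_fromListIsChain l hne hlt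
    rw [← h1]
    simp only [h2]
  · change l.length - 1 + 1 = l.length
    have : 0 < l.length := List.length_pos_iff.mpr hne
    omega
  · intro i
    exact List.isChain_iff_getElem.mp hchain i _

end Groth.Agent.H44
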