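import Groth.Agent.H44.DeltaZDim
import Groth.Agent.H44.SatChain
import Groth.Prelude.Def_Found
import Mathlib.RingTheory.Ideal.KrullsHeightTheorem
import Mathlib.RingTheory.KrullDimension.NonZeroDivisors

/-!
# `deltaZ` for the closed point of a catenary Noetherian local ring
-/

set_option autoImplicit false
universe u
open TopologicalSpace

namespace Groth.Agent.H44

open Algz

variable {A : Type u} [CommRing A] [IsNoetherianRing A] [IsLocalRing A]

lemma coheight_covBy (hA : CAlg.IsCatenary A) (p q : PrimeSpectrum A) (hpq : p ⋖ q) :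
    Order.coheight p = Order.coheight q + 1 := by
  have hm : ∀ x : PrimeSpectrum A, x ≤ IsLocalRing.closedPoint A := fun x => le_top
  obtain ⟨N, hN⟩ := ENat.ne_top_iff_exists.mp (Order.coheight_lt_top p).ne
  obtain ⟨M, hM⟩ := ENat.ne_top_iff_exists.mp (Order.coheight_lt_top q).ne
  obtain ⟨l₁, hne₁, hhead₁, hlast₁, hchain₁, hlen₁⟩ :=
    exists_sat_chain (IsLocalRing.closedPoint A) hm N p hN.symm
  obtain ⟨l₂, hne₂, hhead₂, hlast₂, hchain₂, hlen₂⟩ :=
    exists_sat_chain (IsLocalRing.closedPoint A) hm M q hM.symm
  have hchain₂' : (p :: l₂).IsChain (· ⋖ ·) := by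
    apply List.IsChain.cons_of_ne_nil hne₂ hchain₂
    rw [hhead₂]; exact hpq
  obtain ⟨s, hs_head, hs_last, hs_len, hs_sat⟩ := exists_ltSeries_of_list l₁ hne₁ hchain₁
  obtain ⟨t, ht_head, ht_last, ht_len, ht_sat⟩ :=
    exists_ltSeries_of_list (p :: l₂) (by simp) hchain₂'
  have hlast : s.last = t.last := by
    rw [hs_last, ht_last, hlast₁, List.getLast_cons hne₂, hlast₂]
  have hhead : s.head = t.head := by
    rw [hs_head, ht_head, hhead₁]; rfl
  have hlen := hA.2 s t hhead hlast hs_sat ht_sat
  have h1 : N = M + 1 := by
    simp only [List.length_cons] at ht_len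
    omega
  rw [← hN, ← hM, h1]
  push_cast
  rfl

/-- the dimension function `p ↦ dim A/p` on the spectrum of a catenary Noetherian local ring. -/
noncomputable def coheightFun (p : PrimeSpectrum A) : ℤ := ((Order.coheight p).toNat : ℤ)

lemma coheightFun_dimFun (hA : CAlg.IsCatenary A) :
    DimFun (Y := PrimeSpectrum A) (coheightFun (A := A)) := by
  intro x y hxy hne
  have hle : x ≤ y := (PrimeSpectrum.le_iff_specializes x y).mpr hxy
  have hlt : x < y := lt_of_le_of_ne hle hne
  constructor
  · have h1 : Order.coheight y < Order.coheight x :=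
      Order.coheight_strictAnti hlt (Order.coheight_lt_top y)
    unfold coheightFun
    have hx := (Order.coheight_lt_top x).ne
    have hy := (Order.coheight_lt_top y).ne
    have : (Order.coheight y).toNat < (Order.coheight x).toNat := by
      rw [← ENat.natCast_toNat hx, ← ENat.natCast_toNat hy] at h1
      exact_mod_cast h1
    exact_mod_cast this
  · intro himm
    have hcov : x ⋖ y := by
      refine ⟨hlt, ?_⟩
      intro z hxz hzy
      rcases himm z ((PrimeSpectrum.le_iff_specializes x z).mp hxz.le)
        ((PrimeSpectrum.le_iff_specializes z y).mp hzy.le) with rfl | rfl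
      · exact lt_irrefl _ hxz
      · exact lt_irrefl _ hzy
    have h1 := coheight_covBy hA x y hcov
    unfold coheightFun
    rw [h1]
    have hy := (Order.coheight_lt_top y).ne
    rw [← ENat.natCast_toNat hy]
    norm_cast

lemma coheightFun_closedPoint : coheightFun (IsLocalRing.closedPoint A) = 0 := by
  unfold coheightFun
  have : Order.coheight (IsLocalRing.closedPoint A) = 0 := by
    rw [Order.coheight_eq_zero]
    intro b _
    exact le_top
  rw [this]
  rfl

lemma ringKrullDim_quotient_eq_coheight (y : PrimeSpectrum A) :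
    ringKrullDim (A ⧸ y.asIdeal) = ((Order.coheight y : ℕ∞) : WithBot ℕ∞) := by
  rw [ringKrullDim_quotient, Order.coheight_eq_krullDim_Ici]
  have : PrimeSpectrum.zeroLocus (y.asIdeal : Set A) = Set.Ici y := by
    ext p
    simp only [PrimeSpectrum.mem_zeroLocus, SetLike.coe_subset_coe, Set.mem_Ici]
    exact PrimeSpectrum.asIdeal_le_asIdeal y p
  rw [this]

theorem deltaZ_closedPoint (hA : CAlg.IsCatenary A) (y : PrimeSpectrum A) :
    deltaZ ({IsLocalRing.closedPoint A} : Set (PrimeSpectrum A)) y = Order.coheight y := by
  have hδ := coheightFun_dimFun hA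
  have hy := (Order.coheight_lt_top y).ne
  apply le_antisymm
  · let S : DSystem ({IsLocalRing.closedPoint A} : Set (PrimeSpectrum A)) y 0 :=
      { v := fun _ => IsLocalRing.closedPoint A
        w := fun _ => y
        spec := fun _ => IsLocalRing.specializes_closedPoint y
        spec_succ := fun i => i.elim0
        start_mem := rfl
        last_eq := rfl }
    refine le_trans (deltaZ_le_delta S) ?_
    have hc : S.c 0 = Order.coheight y := by
      unfold DSystem.c
      rw [codimPt_eq_of_dimFun hδ, coheightFun_closedPoint, sub_zero]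
      unfold coheightFun
      rw [Int.toNat_natCast, ENat.natCast_toNat hy]
    unfold DSystem.delta
    simp [hc]
  · by_cases htop : deltaZ ({IsLocalRing.closedPoint A} : Set (PrimeSpectrum A)) y = ⊤
    · rw [htop]; exact le_top
    · obtain ⟨n, hn⟩ := ENat.ne_top_iff_exists.mp htop
      obtain ⟨z, hz, hle⟩ := dimFun_le_deltaZ hδ _ y n hn.symm
      rw [Set.mem_singleton_iff] at hz
      rw [hz, coheightFun_closedPoint, add_zero] at hle
      unfold coheightFun at hle
      rw [← hn, ← ENat.natCast_toNat hy]
      exact_mod_cast hle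

end Groth.Agent.H44
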