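import Groth.Agent.H44.DeltaZ

/-!
# `deltaZ` is non-increasing under specialization
-/

set_option autoImplicit false
universe u
open TopologicalSpace

namespace Groth.Agent.H44

open Algz

variable {Y : Type u} [TopologicalSpace Y]

lemma codimPt_anti_right (w v v' : Y) (h : w ⤳ v) (hv : v ⤳ v') (h' : w ⤳ v') :
    codimPt w v h ≤ codimPt w v' h' := by
  unfold codimPt
  let g : Set.Ici (Specialization.toEquiv v) → Set.Ici (Specialization.toEquiv v') :=
    fun x => ⟨x.1, le_trans (Specialization.toEquiv_le_toEquiv.mpr hv) x.2⟩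
  have hg : StrictMono g := fun a b hab => hab
  exact Order.height_le_height_apply_of_strictMono g hg _

lemma eq_of_codimPt_eq_zero [T0Space Y] (w v : Y) (h : w ⤳ v) (h0 : codimPt w v h = 0) : w = v := by
  by_contra hne
  have := one_le_codimPt w v h hne
  rw [h0] at this
  exact absurd this (by simp)

lemma delta_le_delta {Z Z' : Set Y} {y y' : Y} {k : ℕ} (S : DSystem Z y k)
    (S' : DSystem Z' y' k) (hc : ∀ i, S'.c i ≤ S.c i) (hb : ∀ i, S.b i ≤ S'.b i) :
    S'.delta ≤ S.delta := by
  unfold DSystem.delta
  gcongr with i _ j _ j _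
  · exact hc j
  · exact hb j

lemma sumc_eq {Z : Set Y} {y : Y} {k : ℕ} (S : DSystem Z y k) (i : Fin (k + 1)) :
    (∑ j ∈ Finset.univ.filter (fun j : Fin (k + 1) => i ≤ j), S.c j) =
      ∑ j : Fin (k + 1), if i ≤ j then S.c j else 0 := Finset.sum_filter _ _

lemma sumb_eq {Z : Set Y} {y : Y} {k : ℕ} (S : DSystem Z y k) (i : Fin (k + 1)) :
    (∑ j ∈ Finset.univ.filter (fun j : Fin k => i.val ≤ j.val), S.b j) =
      ∑ j : Fin k, if i.val ≤ j.val then S.b j else 0 := Finset.sum_filter _ _

section CaseI

variable {Z : Set Y} {y : Y} {k : ℕ}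

/-- Case I: `V_k = W_k`; replace both by the closure of `y'`. -/
noncomputable def replaceLast (S : DSystem Z y k) (hZ : IsClosed Z) (y' : Y) (h : y ⤳ y')
    (hvw : S.v (Fin.last k) = S.w (Fin.last k)) : DSystem Z y' k where
  v := Function.update S.v (Fin.last k) y'
  w := Function.update S.w (Fin.last k) y'
  spec i := by
    by_cases hi : i = Fin.last k
    · subst hi
      rw [Function.update_self, Function.update_self]
    · rw [Function.update_of_ne hi, Function.update_of_ne hi]
      exact S.spec i
  spec_succ i := by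
    rw [Function.update_of_ne (Fin.castSucc_lt_last i).ne]
    by_cases hi : i.succ = Fin.last k
    · rw [hi, Function.update_self]
      have h1 := S.spec_succ i
      rw [hi, hvw, S.last_eq] at h1
      exact h1.trans h
    · rw [Function.update_of_ne hi]
      exact S.spec_succ i
  start_mem := by
    by_cases h0 : (0 : Fin (k + 1)) = Fin.last k
    · rw [h0, Function.update_self]
      have h1 := S.start_mem
      rw [h0, hvw, S.last_eq] at h1
      exact h.mem_closed hZ h1
    · rw [Function.update_of_ne h0]
      exact S.start_mem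
  last_eq := Function.update_self _ _ _

lemma replaceLast_delta_le (S : DSystem Z y k) (hZ : IsClosed Z) (y' : Y) (h : y ⤳ y')
    (hvw : S.v (Fin.last k) = S.w (Fin.last k)) :
    (replaceLast S hZ y' h hvw).delta ≤ S.delta := by
  apply delta_le_delta
  · intro i
    by_cases hi : i = Fin.last k
    · subst hi
      have : (replaceLast S hZ y' h hvw).c (Fin.last k) = 0 := by
        have hw : (replaceLast S hZ y' h hvw).w (Fin.last k) = y' := Function.update_self _ _ _
        have hv : (replaceLast S hZ y' h hvw).v (Fin.last k) = y' := Function.update_self _ _ _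
        unfold DSystem.c
        rw [codimPt_congr hw hv _ (specializes_rfl : y' ⤳ y')]
        exact codimPt_self _ _
      rw [this]
      exact zero_le
    · apply le_of_eq
      have hw : (replaceLast S hZ y' h hvw).w i = S.w i := Function.update_of_ne hi _ _
      have hv : (replaceLast S hZ y' h hvw).v i = S.v i := Function.update_of_ne hi _ _
      unfold DSystem.c
      exact codimPt_congr hw hv _ _
  · intro i
    unfold DSystem.b
    have hw : (replaceLast S hZ y' h hvw).w i.castSucc = S.w i.castSucc :=
      Function.update_of_ne (Fin.castSucc_lt_last i).ne _ _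
    by_cases hi : i.succ = Fin.last k
    · have hv : (replaceLast S hZ y' h hvw).v i.succ = y' := by
        change Function.update S.v (Fin.last k) y' i.succ = y'
        rw [hi, Function.update_self]
      have h1 : S.v i.succ ⤳ y' := by
        rw [hi, hvw, S.last_eq]; exact h
      rw [codimPt_congr hw hv _ ((S.spec_succ i).trans h1)]
      exact codimPt_anti_right _ _ _ _ h1 _
    · have hv : (replaceLast S hZ y' h hvw).v i.succ = S.v i.succ :=
        Function.update_of_ne hi _ _
      exact le_of_eq (codimPt_congr hw hv _ _).symm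

end CaseI

section CaseII

variable {Z : Set Y} {y : Y} {k : ℕ}

/-- Case II: append `V_{k+1} = W_{k+1} =` closure of `y'`. -/
noncomputable def extendSys (S : DSystem Z y k) (y' : Y) (h : y ⤳ y') : DSystem Z y' (k + 1) where
  v := Fin.snoc (α := fun _ => Y) S.v y'
  w := Fin.snoc (α := fun _ => Y) S.w y'
  spec i := by
    induction i using Fin.lastCases with
    | last => rw [Fin.snoc_last, Fin.snoc_last]
    | cast i => rw [Fin.snoc_castSucc, Fin.snoc_castSucc]; exact S.spec i
  spec_succ i := by
    rw [Fin.snoc_castSucc]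
    induction i using Fin.lastCases with
    | last =>
      rw [Fin.succ_last, Fin.snoc_last, S.last_eq]
      exact h
    | cast i =>
      rw [← Fin.castSucc_succ, Fin.snoc_castSucc]
      exact S.spec_succ i
  start_mem := by
    rw [← Fin.castSucc_zero, Fin.snoc_castSucc]
    exact S.start_mem
  last_eq := Fin.snoc_last _ _

lemma extendSys_c_castSucc (S : DSystem Z y k) (y' : Y) (h : y ⤳ y') (i : Fin (k + 1)) :
    (extendSys S y' h).c i.castSucc = S.c i := by
  have hw : (extendSys S y' h).w i.castSucc = S.w i :=
    Fin.snoc_castSucc (α := fun _ => Y) y' S.w i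
  have hv : (extendSys S y' h).v i.castSucc = S.v i :=
    Fin.snoc_castSucc (α := fun _ => Y) y' S.v i
  unfold DSystem.c
  exact codimPt_congr hw hv _ _

lemma extendSys_c_last (S : DSystem Z y k) (y' : Y) (h : y ⤳ y') :
    (extendSys S y' h).c (Fin.last (k + 1)) = 0 := by
  have hw : (extendSys S y' h).w (Fin.last (k + 1)) = y' :=
    Fin.snoc_last (α := fun _ => Y) y' S.w
  have hv : (extendSys S y' h).v (Fin.last (k + 1)) = y' :=
    Fin.snoc_last (α := fun _ => Y) y' S.v
  unfold DSystem.c
  rw [codimPt_congr hw hv _ (specializes_rfl : y' ⤳ y')]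
  exact codimPt_self _ _

lemma extendSys_b_castSucc (S : DSystem Z y k) (y' : Y) (h : y ⤳ y') (i : Fin k) :
    (extendSys S y' h).b i.castSucc = S.b i := by
  have hw : (extendSys S y' h).w i.castSucc.castSucc = S.w i.castSucc :=
    Fin.snoc_castSucc (α := fun _ => Y) y' S.w i.castSucc
  have hv : (extendSys S y' h).v i.castSucc.succ = S.v i.succ := by
    change Fin.snoc (α := fun _ => Y) S.v y' i.castSucc.succ = S.v i.succ
    rw [← Fin.castSucc_succ, Fin.snoc_castSucc]
  unfold DSystem.b
  exact codimPt_congr hw hv _ _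

lemma extendSys_b_last [T0Space Y] (S : DSystem Z y k) (y' : Y) (h : y ⤳ y') (hne : y ≠ y') :
    1 ≤ (extendSys S y' h).b (Fin.last k) := by
  have hw : (extendSys S y' h).w (Fin.last k).castSucc = y := by
    change Fin.snoc (α := fun _ => Y) S.w y' (Fin.last k).castSucc = y
    rw [Fin.snoc_castSucc, S.last_eq]
  have hv : (extendSys S y' h).v (Fin.last k).succ = y' := by
    change Fin.snoc (α := fun _ => Y) S.v y' (Fin.last k).succ = y'
    rw [Fin.succ_last, Fin.snoc_last]
  unfold DSystem.b
  rw [codimPt_congr hw hv _ h]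
  exact one_le_codimPt _ _ _ hne

lemma extendSys_delta_le [T0Space Y] (S : DSystem Z y k) (y' : Y) (h : y ⤳ y') (hne : y ≠ y')
    (hck : S.c (Fin.last k) ≠ 0) : (extendSys S y' h).delta ≤ S.delta := by
  classical
  set M := Finset.univ.sup fun i : Fin (k + 1) =>
      (∑ j ∈ Finset.univ.filter (fun j : Fin (k + 1) => i ≤ j), S.c j) -
        ∑ j ∈ Finset.univ.filter (fun j : Fin k => i.val ≤ j.val), S.b j with hM
  have hM1 : 1 ≤ M := by
    have h1 : (∑ j ∈ Finset.univ.filter (fun j : Fin (k + 1) => Fin.last k ≤ j), S.c j) -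
        ∑ j ∈ Finset.univ.filter (fun j : Fin k => (Fin.last k).val ≤ j.val), S.b j ≤ M :=
      Finset.le_sup (f := fun i : Fin (k + 1) =>
        (∑ j ∈ Finset.univ.filter (fun j : Fin (k + 1) => i ≤ j), S.c j) -
          ∑ j ∈ Finset.univ.filter (fun j : Fin k => i.val ≤ j.val), S.b j) (Finset.mem_univ _)
    refine le_trans ?_ h1
    have e1 : Finset.univ.filter (fun j : Fin (k + 1) => Fin.last k ≤ j) = {Fin.last k} := by
      ext j
      simp only [Finset.mem_filter, Finset.mem_univ, true_and, Finset.mem_singleton]
      exact ⟨fun hj => le_antisymm (Fin.le_last j) hj, fun hj => hj ▸ le_rfl⟩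
    have e2 : Finset.univ.filter (fun j : Fin k => (Fin.last k).val ≤ j.val) = ∅ := by
      ext j
      simp only [Finset.mem_filter, Finset.mem_univ, true_and, Finset.notMem_empty, iff_false,
        not_le, Fin.val_last]
      exact j.2
    rw [e1, e2, Finset.sum_singleton, Finset.sum_empty, tsub_zero]
    exact Order.one_le_iff_pos.mpr (pos_iff_ne_zero.mpr hck)
  have hsup : (Finset.univ.sup fun i : Fin (k + 1 + 1) =>
      (∑ j ∈ Finset.univ.filter (fun j : Fin (k + 1 + 1) => i ≤ j), (extendSys S y' h).c j) -
        ∑ j ∈ Finset.univ.filter (fun j : Fin (k + 1) => i.val ≤ j.val), (extendSys S y' h).b j)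
      ≤ M - 1 := by
    apply Finset.sup_le
    intro i _
    rw [sumc_eq, sumb_eq]
    induction i using Fin.lastCases with
    | last =>
      have : (∑ j : Fin (k + 1 + 1), if Fin.last (k + 1) ≤ j then (extendSys S y' h).c j else 0) = 0 := by
        apply Finset.sum_eq_zero
        intro j _
        split_ifs with hj
        · have : j = Fin.last (k + 1) := le_antisymm (Fin.le_last j) hj
          rw [this, extendSys_c_last]
        · rfl
      rw [this, zero_tsub]
      exact zero_le
    | cast i =>
      rw [Fin.sum_univ_castSucc (n := k + 1)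
        (f := fun j => if i.castSucc ≤ j then (extendSys S y' h).c j else 0),
        Fin.sum_univ_castSucc (n := k)
        (f := fun j => if (i.castSucc : Fin (k + 1 + 1)).val ≤ j.val then (extendSys S y' h).b j else 0)]
      have hA : (∑ j : Fin (k + 1), if i.castSucc ≤ j.castSucc then
          (extendSys S y' h).c j.castSucc else 0) = ∑ j : Fin (k + 1), if i ≤ j then S.c j else 0 := by
        apply Finset.sum_congr rfl
        intro j _
        rw [extendSys_c_castSucc]
        simp only [Fin.castSucc_le_castSucc_iff]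
      have hA' : (if i.castSucc ≤ Fin.last (k + 1) then
          (extendSys S y' h).c (Fin.last (k + 1)) else 0) = 0 := by
        rw [extendSys_c_last]; simp
      have hB : (∑ j : Fin k, if (i.castSucc : Fin (k + 1 + 1)).val ≤ (j.castSucc : Fin (k + 1)).val then
          (extendSys S y' h).b j.castSucc else 0) = ∑ j : Fin k, if i.val ≤ j.val then S.b j else 0 := by
        apply Finset.sum_congr rfl
        intro j _
        rw [extendSys_b_castSucc]
        rfl
      have hB' : (if (i.castSucc : Fin (k + 1 + 1)).val ≤ (Fin.last k).val then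
          (extendSys S y' h).b (Fin.last k) else 0) = (extendSys S y' h).b (Fin.last k) := by
        rw [if_pos]
        exact Nat.lt_succ_iff.mp i.2
      rw [hA, hA', hB, hB', add_zero, ← sumc_eq, ← sumb_eq, ← tsub_tsub]
      refine le_trans (tsub_le_tsub_left (extendSys_b_last S y' h hne) _) ?_
      apply tsub_le_tsub_right
      exact Finset.le_sup (f := fun i : Fin (k + 1) =>
        (∑ j ∈ Finset.univ.filter (fun j : Fin (k + 1) => i ≤ j), S.c j) -
          ∑ j ∈ Finset.univ.filter (fun j : Fin k => i.val ≤ j.val), S.b j) (Finset.mem_univ i)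
  unfold DSystem.delta
  rw [← hM]
  calc ((k + 1 : ℕ) : ℕ∞) + _ ≤ ((k + 1 : ℕ) : ℕ∞) + (M - 1) := by gcongr
    _ = (k : ℕ∞) + (1 + (M - 1)) := by push_cast; rw [add_assoc]
    _ = (k : ℕ∞) + M := by rw [add_tsub_cancel_of_le hM1]

end CaseII

theorem deltaZ_le_of_specializes [T0Space Y] (Z : Set Y) (hZ : IsClosed Z) (y y' : Y) (h : y ⤳ y') :
    deltaZ Z y' ≤ deltaZ Z y := by
  by_cases hne : y = y'
  · rw [hne]
  unfold deltaZ
  refine le_iInf fun k => le_iInf fun S => ?_
  by_cases hck : S.c (Fin.last k) = 0
  · have hvw : S.v (Fin.last k) = S.w (Fin.last k) :=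
      (eq_of_codimPt_eq_zero _ _ (S.spec _) hck).symm
    exact le_trans (iInf_le_of_le k (iInf_le _ (replaceLast S hZ y' h hvw)))
      (replaceLast_delta_le S hZ y' h hvw)
  · exact le_trans (iInf_le_of_le (k + 1) (iInf_le _ (extendSys S y' h)))
      (extendSys_delta_le S y' h hne hck)

end Groth.Agent.H44
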