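import Groth.Agent.H44.DeltaZ
import Mathlib.RingTheory.KrullDimension.NonZeroDivisors
import Mathlib.AlgebraicGeometry.Stalk

/-!
# `deltaZ` is bounded by the dimension of the local ring of the closure at a point of `Z`
-/

set_option autoImplicit false
universe u
open TopologicalSpace

namespace Groth.Agent.H44

open Algz

variable {Y : Type u} [TopologicalSpace Y]

lemma ringKrullDim_quotient_eq_coheight' {S : Type*} [CommRing S] (y : PrimeSpectrum S) :
    ringKrullDim (S ⧸ y.asIdeal) = ((Order.coheight y : ℕ∞) : WithBot ℕ∞) := by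
  rw [ringKrullDim_quotient, Order.coheight_eq_krullDim_Ici]
  have : PrimeSpectrum.zeroLocus (y.asIdeal : Set S) = Set.Ici y := by
    ext p
    simp only [PrimeSpectrum.mem_zeroLocus, SetLike.coe_subset_coe, Set.mem_Ici]
    exact PrimeSpectrum.asIdeal_le_asIdeal y p
  rw [this]

lemma codimPt_le_coheight {S : Type*} [CommRing S] (f : PrimeSpectrum S → Y)
    (hf : Topology.IsEmbedding f) (z : Y) (hrange : Set.range f = {x | x ⤳ z})
    (P : PrimeSpectrum S) (h : f P ⤳ z) : codimPt (f P) z h ≤ Order.coheight P := by
  classical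
  have hex : ∀ x : Set.Ici (Specialization.toEquiv z), ∃ Q : PrimeSpectrum S,
      f Q = Specialization.ofEquiv x.1 := by
    intro x
    have hx : Specialization.toEquiv z ≤ x.1 := x.2
    have hs : Specialization.ofEquiv x.1 ⤳ z := Specialization.toEquiv_le_toEquiv.mp hx
    have : Specialization.ofEquiv x.1 ∈ Set.range f := by rw [hrange]; exact hs
    exact this
  let φ : Set.Ici (Specialization.toEquiv z) → (PrimeSpectrum S)ᵒᵈ :=
    fun x => OrderDual.toDual (Classical.choose (hex x))
  have hφ : ∀ x, f (OrderDual.ofDual (φ x)) = Specialization.ofEquiv x.1 :=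
    fun x => Classical.choose_spec (hex x)
  have hmono : StrictMono φ := by
    intro a b hab
    have hab' : a.1 < b.1 := hab
    have hle : a.1 ≤ b.1 := hab'.le
    have hspec : Specialization.ofEquiv b.1 ⤳ Specialization.ofEquiv a.1 :=
      Specialization.ofEquiv_specializes_ofEquiv.mpr hle
    rw [← hφ a, ← hφ b, hf.isInducing.specializes_iff] at hspec
    have hle' : OrderDual.ofDual (φ b) ≤ OrderDual.ofDual (φ a) :=
      (PrimeSpectrum.le_iff_specializes _ _).mpr hspec
    have hne : OrderDual.ofDual (φ b) ≠ OrderDual.ofDual (φ a) := by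
      intro heq
      have : Specialization.ofEquiv b.1 = Specialization.ofEquiv a.1 := by
        rw [← hφ a, ← hφ b, heq]
      have h2 : b.1 = a.1 := this
      exact absurd h2 hab'.ne'
    have hlt : OrderDual.ofDual (φ b) < OrderDual.ofDual (φ a) := lt_of_le_of_ne hle' hne
    exact hlt
  unfold codimPt
  refine le_trans (Order.height_le_height_apply_of_strictMono φ hmono _) ?_
  have hP : φ ⟨Specialization.toEquiv (f P), Specialization.toEquiv_le_toEquiv.mpr h⟩ =
      OrderDual.toDual P := by
    have := hφ ⟨Specialization.toEquiv (f P), Specialization.toEquiv_le_toEquiv.mpr h⟩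
    exact congrArg OrderDual.toDual (hf.injective this)
  rw [hP]
  exact le_of_eq rfl

end Groth.Agent.H44
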