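import Mathlib.RingTheory.Adjoin.Basic
import Mathlib.RingTheory.Ideal.Operations
import Mathlib.RingTheory.Ideal.Quotient.Operations
import Mathlib.RingTheory.Noetherian.Basic
import Mathlib.RingTheory.FiniteType
import Mathlib.RingTheory.Adjoin.Polynomial.Basic

set_option autoImplicit false
universe u

namespace Groth.Agent.H44

variable {A B : Type*} [CommRing A] [CommRing B] [Algebra A B]

/-- If a subalgebra `S` surjects onto `B ⧸ K` and contains generators of `K`, then it is dense for
the `K`-adic topology. -/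
theorem dense_of_surjective_mod (K : Ideal B) (S : Subalgebra A B)
    (ha : ∀ y : B, ∃ s ∈ S, y - s ∈ K) (G : Set B) (hGS : G ⊆ S) (hK : K = Ideal.span G) :
    ∀ (N : ℕ) (y : B), ∃ s ∈ S, y - s ∈ K ^ N := by
  -- step (c): elements of `K` are approximated mod `K^2` by elements of `S ∩ K`
  have hc : ∀ k ∈ K, ∃ s ∈ S, s ∈ K ∧ k - s ∈ K ^ 2 := by
    intro k hk
    rw [hK] at hk
    induction hk using Submodule.span_induction with
    | mem g hg =>
      exact ⟨g, hGS hg, hK ▸ Ideal.subset_span hg, by rw [sub_self]; exact zero_mem _⟩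
    | zero => exact ⟨0, zero_mem _, zero_mem _, by rw [sub_self]; exact zero_mem _⟩
    | add x y _ _ hx hy =>
      obtain ⟨s, hs, hsK, hxs⟩ := hx
      obtain ⟨t, ht, htK, hyt⟩ := hy
      refine ⟨s + t, add_mem hs ht, add_mem hsK htK, ?_⟩
      have : x + y - (s + t) = (x - s) + (y - t) := by ring
      rw [this]
      exact add_mem hxs hyt
    | smul c x hx ih =>
      obtain ⟨s, hs, hsK, hxs⟩ := ih
      obtain ⟨sc, hsc, hcsc⟩ := ha c
      refine ⟨sc * s, mul_mem hsc hs, Ideal.mul_mem_left _ _ hsK, ?_⟩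
      have hxK : x ∈ K := hK ▸ hx
      have : c • x - sc * s = (c - sc) * x + sc * (x - s) := by rw [smul_eq_mul]; ring
      rw [this, pow_two]
      exact add_mem (Ideal.mul_mem_mul hcsc hxK) (pow_two K ▸ Ideal.mul_mem_left _ _ hxs)
  -- step Q
  have hQ : ∀ (N : ℕ), ∀ z ∈ K ^ N, ∃ s ∈ S, z - s ∈ K ^ (N + 1) := by
    intro N
    induction N with
    | zero =>
      intro z _
      obtain ⟨s, hs, hzs⟩ := ha z
      exact ⟨s, hs, by rwa [zero_add, pow_one]⟩
    | succ N ih =>
      intro z hz
      rw [pow_succ'] at hz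
      induction hz using Submodule.mul_induction_on' with
      | mem_mul_mem k hk w hw =>
        obtain ⟨sk, hsk, hskK, hksk⟩ := hc k hk
        obtain ⟨sw, hsw, hwsw⟩ := ih w hw
        refine ⟨sk * sw, mul_mem hsk hsw, ?_⟩
        have : k * w - sk * sw = (k - sk) * w + sk * (w - sw) := by ring
        rw [this]
        have h1 : (k - sk) * w ∈ K ^ (N + 1 + 1) := by
          have : K ^ (N + 1 + 1) = K ^ 2 * K ^ N := by rw [← pow_add]; congr 1; ring
          rw [this]
          exact Ideal.mul_mem_mul hksk hw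
        have h2 : sk * (w - sw) ∈ K ^ (N + 1 + 1) := by
          rw [pow_succ' K (N + 1)]
          exact Ideal.mul_mem_mul hskK hwsw
        exact add_mem h1 h2
      | add x _ y _ hx hy =>
        obtain ⟨s, hs, hxs⟩ := hx
        obtain ⟨t, ht, hyt⟩ := hy
        refine ⟨s + t, add_mem hs ht, ?_⟩
        have : x + y - (s + t) = (x - s) + (y - t) := by ring
        rw [this]
        exact add_mem hxs hyt
  intro N
  induction N with
  | zero =>
    intro y
    exact ⟨0, zero_mem _, by rw [pow_zero, Ideal.one_eq_top]; trivial⟩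
  | succ N ih =>
    intro y
    obtain ⟨s, hs, hys⟩ := ih y
    obtain ⟨s', hs', h'⟩ := hQ N _ hys
    refine ⟨s + s', add_mem hs hs', ?_⟩
    have : y - (s + s') = y - s - s' := by ring
    rw [this]
    exact h'

end Groth.Agent.H44
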