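import Groth.Agent.H44.AffineHom
import Groth.Agent.H44.UniversalFinite

/-!
# Derivations on affine schemes are derivations of global sections (helper44)
-/

set_option autoImplicit false
universe u
open CategoryTheory Limits AlgebraicGeometry Scheme.Modules TopologicalSpace Opposite

namespace Groth.Agent.H44

section
variable {X S : Scheme.{u}} [IsAffine X] [IsAffine S] (f : X ⟶ S) (F : X.Modules)

theorem der_app_top_injective :
    Function.Injective (fun D : OmegaSh.Der f F => D.app ⊤) := by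
  intro D₁ D₂ h
  have hd := isUniversal_dOmega f
  haveI := isQuasicoherent_of_isUniversal (OmegaSh.dOmega f) hd
  have e : (⊤ : X.Opens) ≤ f ⁻¹ᵁ ⊤ := le_rfl
  obtain ⟨Φ, hΦ⟩ := exists_kaehler_equiv_of_isUniversal (OmegaSh.dOmega f) (isAffineOpen_top X)
    (isAffineOpen_top S) e hd
  letI := (f.appLE ⊤ ⊤ e).hom.toAlgebra
  obtain ⟨α₁, hα₁, -⟩ := hd F D₁
  obtain ⟨α₂, hα₂, -⟩ := hd F D₂
  have hα₁' : (OmegaSh.dOmega f).postcomp α₁.val = D₁ := hα₁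
  have hα₂' : (OmegaSh.dOmega f).postcomp α₂.val = D₂ := hα₂
  have hgen : ∀ s : Γ(X, ⊤), α₁.app ⊤ ((OmegaSh.dOmega f).app ⊤ s) =
      α₂.app ⊤ ((OmegaSh.dOmega f).app ⊤ s) := by
    intro s
    rw [← postcomp_app, ← postcomp_app, hα₁', hα₂']
    exact congrArg (fun k => k s) h
  have key : ∀ ω : Ω[Γ(X, ⊤)⁄Γ(S, ⊤)], α₁.app ⊤ (Φ.symm ω) = α₂.app ⊤ (Φ.symm ω) := by
    intro ω
    have hω : ω ∈ Submodule.span Γ(X, ⊤) (Set.range (KaehlerDifferential.D Γ(S, ⊤) Γ(X, ⊤))) := by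
      rw [KaehlerDifferential.span_range_derivation]; trivial
    induction hω using Submodule.span_induction with
    | mem ω hω =>
      obtain ⟨s, rfl⟩ := hω
      rw [← hΦ, Φ.symm_apply_apply]
      exact hgen s
    | zero => rw [map_zero, map_zero, map_zero]
    | add x y _ _ hx hy => rw [map_add, map_add, map_add, hx, hy]
    | smul r x _ hx =>
      rw [_root_.map_smul, Scheme.Modules.Hom.app_smul, Scheme.Modules.Hom.app_smul, hx]
  have hα : α₁ = α₂ := by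
    apply hom_ext_of_app_top
    intro m
    have := key (Φ m)
    rwa [Φ.symm_apply_apply] at this
  rw [← hα₁', ← hα₂', hα]

omit [IsAffine X] [IsAffine S] in
theorem der_app_top_props (D : OmegaSh.Der f F) :
    (∀ a b : Γ(X, ⊤), D.app ⊤ (a * b) = a • D.app ⊤ b + b • D.app ⊤ a) ∧
      ∀ c : Γ(S, ⊤), D.app ⊤ (f.appTop c) = 0 :=
  ⟨fun a b => Der_app_mul D ⊤ a b, fun c => Der_app_app D ⊤ c⟩

theorem exists_der_of_derivation (δ : Γ(X, ⊤) →+ Γ(F, ⊤))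
    (h1 : ∀ a b : Γ(X, ⊤), δ (a * b) = a • δ b + b • δ a) (h2 : ∀ c : Γ(S, ⊤), δ (f.appTop c) = 0) :
    ∃ D : OmegaSh.Der f F, D.app ⊤ = δ := by
  have hd := isUniversal_dOmega f
  haveI := isQuasicoherent_of_isUniversal (OmegaSh.dOmega f) hd
  have e : (⊤ : X.Opens) ≤ f ⁻¹ᵁ ⊤ := le_rfl
  obtain ⟨Φ, hΦ⟩ := exists_kaehler_equiv_of_isUniversal (OmegaSh.dOmega f) (isAffineOpen_top X)
    (isAffineOpen_top S) e hd
  letI alg : Algebra Γ(S, ⊤) Γ(X, ⊤) := (f.appLE ⊤ ⊤ e).hom.toAlgebra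
  have halg : ∀ c : Γ(S, ⊤), algebraMap Γ(S, ⊤) Γ(X, ⊤) c = f.appTop c := by
    intro c
    change f.appLE ⊤ ⊤ e c = f.appTop c
    have : f.appLE ⊤ ⊤ e = f.appTop := by
      simp [Scheme.Hom.appLE, Scheme.Hom.appTop]
    rw [this]
  letI modA : Module Γ(S, ⊤) Γ(F, ⊤) := Module.compHom Γ(F, ⊤) (algebraMap Γ(S, ⊤) Γ(X, ⊤))
  haveI tower : IsScalarTower Γ(S, ⊤) Γ(X, ⊤) Γ(F, ⊤) :=
    ⟨fun a b n => by
      change (algebraMap Γ(S, ⊤) Γ(X, ⊤) a * b) • n = algebraMap Γ(S, ⊤) Γ(X, ⊤) a • (b • n)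
      rw [mul_smul]⟩
  have h0 : ∀ c : Γ(S, ⊤), δ (algebraMap Γ(S, ⊤) Γ(X, ⊤) c) = 0 := fun c => by rw [halg]; exact h2 c
  let δ' : Derivation Γ(S, ⊤) Γ(X, ⊤) Γ(F, ⊤) :=
    { toFun := δ
      map_add' := map_add δ
      map_smul' := fun a b => by
        change δ (algebraMap Γ(S, ⊤) Γ(X, ⊤) a * b) = algebraMap Γ(S, ⊤) Γ(X, ⊤) a • δ b
        rw [h1, h0, smul_zero, add_zero]
      map_one_eq_zero' := by
        change δ 1 = 0
        have := h0 1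
        rwa [map_one] at this
      leibniz' := fun a b => h1 a b }
  let l : Γ(Omega.sheaf f, ⊤) →ₗ[Γ(X, ⊤)] Γ(F, ⊤) := δ'.liftKaehlerDifferential ∘ₗ Φ.toLinearMap
  obtain ⟨α, hα⟩ := exists_hom_of_linearMap (Omega.sheaf f) F l
  refine ⟨(OmegaSh.dOmega f).postcomp α.val, ?_⟩
  ext s
  rw [postcomp_app, hα]
  change δ'.liftKaehlerDifferential (Φ ((OmegaSh.dOmega f).app ⊤ s)) = δ s
  rw [hΦ, Derivation.liftKaehlerDifferential_comp_D]
  rfl

end
end Groth.Agent.H44
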