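import Groth.Agent.H44.DerPush

/-!
# Restriction of a universal derivation to an open subscheme is universal (helper44)
-/

set_option autoImplicit false
universe u
open CategoryTheory Opposite AlgebraicGeometry TopologicalSpace Scheme.Modules

namespace Groth.Agent.H44

section
variable {X Y U : Scheme.{u}} {f : X ⟶ Y} (j : U ⟶ X) [IsOpenImmersion j]
  {Ω' : X.Modules} (d : OmegaSh.Der f Ω')

theorem appIso_inv_map {W W' : U.Opens} (e : W' ≤ W) (s : Γ(U, W)) :
    (j.appIso W').inv (U.presheaf.map (homOfLE e).op s) =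
      X.presheaf.map (homOfLE (j.image_mono e)).op ((j.appIso W).inv s) :=
  congr($(j.appIso_inv_naturality (homOfLE e).op) s)

theorem appIso_inv_app_apply (W : X.Opens) (t : Γ(X, W)) :
    (j.appIso (j ⁻¹ᵁ W)).inv (j.app W t) =
      X.presheaf.map (homOfLE (j.image_preimage_le W)).op t :=
  congr($(j.app_appIso_inv W) t)

/-- The restriction of a derivation to an open subscheme. -/
noncomputable def restrictDer : OmegaSh.Der (j ≫ f) (Ω'.restrict j) where
  d {W} := AddMonoidHom.mk'
    (fun s : Γ(U, W.unop) => (d.app (j ''ᵁ W.unop) ((j.appIso W.unop).inv s) : Γ(Ω', j ''ᵁ W.unop)))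
    (fun a b => by rw [map_add, map_add]; rfl)
  d_mul {W} a b := by
    change d.app (j ''ᵁ W.unop) ((j.appIso W.unop).inv (a * b)) = _
    rw [map_mul, Der_app_mul]
    rfl
  d_map {W W'} i s := by
    change d.app (j ''ᵁ W'.unop) ((j.appIso W'.unop).inv (U.presheaf.map i s)) = _
    have e1 := appIso_inv_map j i.unop.le s
    change (j.appIso W'.unop).inv (U.presheaf.map i s) = _ at e1
    rw [e1, Der_app_map]
    rfl
  d_app {V} c := by
    change d.app (j ''ᵁ ((j ≫ f) ⁻¹ᵁ V.unop))
      ((j.appIso ((j ≫ f) ⁻¹ᵁ V.unop)).inv ((j ≫ f).app V.unop c)) = 0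
    have e1 : (j.appIso ((j ≫ f) ⁻¹ᵁ V.unop)).inv ((j ≫ f).app V.unop c) =
        X.presheaf.map (homOfLE (j.image_preimage_le (f ⁻¹ᵁ V.unop))).op (f.app V.unop c) :=
      appIso_inv_app_apply j (f ⁻¹ᵁ V.unop) (f.app V.unop c)
    rw [e1]
    have e2 := Der_app_map d (j.image_preimage_le (f ⁻¹ᵁ V.unop)) (f.app V.unop c)
    rw [Der_app_app, map_zero] at e2
    exact e2

theorem restrictDer_app (W : U.Opens) (s : Γ(U, W)) :
    (restrictDer j d).app W s = (d.app (j ''ᵁ W) ((j.appIso W).inv s) : Γ(Ω', j ''ᵁ W)) := rfl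

theorem restrictAdj_homEquiv_app {G : U.Modules} (β : Ω'.restrict j ⟶ G) (W : X.Opens)
    (m : Γ(Ω', W)) :
    ((restrictAdjunction j).homEquiv Ω' G β).app W m =
      β.app (j ⁻¹ᵁ W) (Ω'.presheaf.map (homOfLE (j.image_preimage_le W)).op m) := by
  rw [Adjunction.homEquiv_unit]
  rfl

theorem appIso_hom_inv_apply (W : U.Opens) (s : Γ(U, W)) :
    U.presheaf.map (homOfLE (j.preimage_image_eq W).ge).op (j.app (j ''ᵁ W) ((j.appIso W).inv s)) = s := by
  have h1 : (j.appIso W).hom ((j.appIso W).inv s) = s := by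
    rw [← ConcreteCategory.comp_apply, Iso.inv_hom_id]
    rfl
  rw [Scheme.Hom.appIso_hom'] at h1
  exact h1

theorem restrictDer_postcomp_iff {G : U.Modules} (D : OmegaSh.Der (j ≫ f) G)
    (β : Ω'.restrict j ⟶ G) :
    (restrictDer j d).postcomp β.val = D ↔
      d.postcomp ((restrictAdjunction j).homEquiv Ω' G β).val =
        pushDer j (𝟙 Y) (Category.comp_id _) D := by
  constructor
  · intro hβ
    apply Der_ext
    intro W s
    rw [postcomp_app, pushDer_app, restrictAdj_homEquiv_app, ← Der_app_map, ← appIso_inv_app_apply,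
      ← hβ, postcomp_app, restrictDer_app]
  · intro hβ
    apply Der_ext
    intro W' s'
    have h1 := congrArg (fun D => OmegaSh.Der.app D (j ''ᵁ W') ((j.appIso W').inv s')) hβ
    simp only [postcomp_app, pushDer_app, restrictAdj_homEquiv_app] at h1
    have e : W' ≤ j ⁻¹ᵁ j ''ᵁ W' := (j.preimage_image_eq W').ge
    let m : Γ(Ω', j ''ᵁ W') := d.app (j ''ᵁ W') ((j.appIso W').inv s')
    let x : Γ(Ω'.restrict j, j ⁻¹ᵁ j ''ᵁ W') :=
      Ω'.presheaf.map (homOfLE (j.image_preimage_le (j ''ᵁ W'))).op m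
    have hx : (Ω'.restrict j).presheaf.map (homOfLE e).op x = (m : Γ(Ω'.restrict j, W')) := by
      change Ω'.presheaf.map _ (Ω'.presheaf.map _ m) = m
      rw [← ConcreteCategory.comp_apply, ← Functor.map_comp]
      exact congr($(Ω'.presheaf.map_id _) m)
    have h3 := hom_app_presheaf_map β e x
    rw [hx] at h3
    have h4 := Der_app_map D e (j.app (j ''ᵁ W') ((j.appIso W').inv s'))
    rw [appIso_hom_inv_apply] at h4
    rw [postcomp_app, restrictDer_app, h4]
    exact h3.trans (congrArg _ h1)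

/-- **The restriction of a universal derivation to an open subscheme is universal.** -/
theorem isUniversal_restrictDer (hd : OmegaSh.IsUniversal d) :
    OmegaSh.IsUniversal (restrictDer j d) := by
  intro G D
  obtain ⟨α, hα, huniq⟩ := hd _ (pushDer j (𝟙 Y) (Category.comp_id _) D)
  refine ⟨((restrictAdjunction j).homEquiv Ω' G).symm α, ?_, ?_⟩
  · change (restrictDer j d).postcomp _ = D
    rw [restrictDer_postcomp_iff, Equiv.apply_symm_apply]
    exact hα
  · intro β hβ
    change (restrictDer j d).postcomp _ = D at hβ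
    rw [restrictDer_postcomp_iff] at hβ
    rw [← huniq _ hβ, Equiv.symm_apply_apply]

end
end Groth.Agent.H44
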