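import Groth.Agent.H44.DerAffine
import Mathlib.RingTheory.Derivation.Basic

/-!
# Derivations `O_{Spec S} → M^~` over `Spec R` are `R`-derivations `S → M` (helper44)
-/

set_option autoImplicit false
universe u
open CategoryTheory Limits AlgebraicGeometry Scheme.Modules TopologicalSpace Opposite

namespace Groth.Agent.H44

section
variable {R S : CommRingCat.{u}} (φ : R ⟶ S) (M : ModuleCat.{u} S)

/-- the `S`-linear identification `M ≃ Γ(M^~, ⊤)`. -/
noncomputable def isoTopLin : M ≃ₗ[S] Γ(tilde M, ⊤) :=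
  (tilde.isoTop M).toLinearEquiv

theorem isoTopLin_apply (l : M) : isoTopLin M l = (tilde.isoTop M).hom l := rfl

theorem ΓSpecIso_inv_smul (t : S) (x : Γ(tilde M, ⊤)) :
    ((Scheme.ΓSpecIso S).inv t : Γ(Spec S, ⊤)) • x = t • x := by
  rw [Scheme.Modules.smul_Spec_def]
  congr 1

theorem ΓSpecIso_hom_smul (s : Γ(Spec S, ⊤)) (x : Γ(tilde M, ⊤)) :
    ((Scheme.ΓSpecIso S).hom s : S) • x = s • x := by
  rw [← ΓSpecIso_inv_smul]
  congr 1
  exact congrArg (fun k => k.hom s) (Scheme.ΓSpecIso S).hom_inv_id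

theorem appTop_ΓSpecIso_inv (a : R) :
    (Spec.map φ).appTop ((Scheme.ΓSpecIso R).inv a) = (Scheme.ΓSpecIso S).inv (φ a) := by
  have := Scheme.ΓSpecIso_inv_naturality φ
  exact (congrArg (fun k => k.hom a) this).symm

theorem ΓSpecIso_hom_appTop (c : Γ(Spec R, ⊤)) :
    (Scheme.ΓSpecIso S).hom ((Spec.map φ).appTop c) = φ ((Scheme.ΓSpecIso R).hom c) := by
  have := Scheme.ΓSpecIso_naturality φ
  exact congrArg (fun k => k.hom c) this

/-- the global-sections derivation attached to a sheaf derivation into `M^~`. -/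
noncomputable def derSpecFun (D : OmegaSh.Der (Spec.map φ) (tilde M)) : S →+ M :=
  ((isoTopLin M).symm.toLinearMap.toAddMonoidHom.comp (D.app ⊤)).comp
    (Scheme.ΓSpecIso S).inv.hom.toAddMonoidHom

theorem derSpecFun_apply (D : OmegaSh.Der (Spec.map φ) (tilde M)) (t : S) :
    derSpecFun φ M D t = (isoTopLin M).symm (D.app ⊤ ((Scheme.ΓSpecIso S).inv t)) := rfl

theorem derSpecFun_spec (D : OmegaSh.Der (Spec.map φ) (tilde M)) (t : S) :
    D.app ⊤ ((Scheme.ΓSpecIso S).inv t) = (tilde.isoTop M).hom (derSpecFun φ M D t) := by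
  rw [derSpecFun_apply, ← isoTopLin_apply, (isoTopLin M).apply_symm_apply]

theorem derSpecFun_mul (D : OmegaSh.Der (Spec.map φ) (tilde M)) (a b : S) :
    derSpecFun φ M D (a * b) = a • derSpecFun φ M D b + b • derSpecFun φ M D a := by
  rw [derSpecFun_apply, derSpecFun_apply, derSpecFun_apply, map_mul, Der_app_mul, map_add,
    ΓSpecIso_inv_smul, ΓSpecIso_inv_smul, _root_.map_smul, _root_.map_smul]

theorem derSpecFun_map (D : OmegaSh.Der (Spec.map φ) (tilde M)) (r : R) :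
    derSpecFun φ M D (φ r) = 0 := by
  rw [derSpecFun_apply, ← appTop_ΓSpecIso_inv]
  have := Der_app_app D ⊤ ((Scheme.ΓSpecIso R).inv r)
  rw [show D.app ⊤ ((Spec.map φ).appTop ((Scheme.ΓSpecIso R).inv r)) = 0 from this, map_zero]

theorem exists_der_of_derSpec (δ : S →+ M) (h1 : ∀ a b : S, δ (a * b) = a • δ b + b • δ a)
    (h2 : ∀ r : R, δ (φ r) = 0) :
    ∃ D : OmegaSh.Der (Spec.map φ) (tilde M),
      ∀ t : S, D.app ⊤ ((Scheme.ΓSpecIso S).inv t) = (tilde.isoTop M).hom (δ t) := by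
  let e := isoTopLin M
  let δ' : Γ(Spec S, ⊤) →+ Γ(tilde M, ⊤) :=
    (e.toLinearMap.toAddMonoidHom.comp δ).comp (Scheme.ΓSpecIso S).hom.hom.toAddMonoidHom
  have hδ' : ∀ s, δ' s = e (δ ((Scheme.ΓSpecIso S).hom s)) := fun s => rfl
  obtain ⟨D, hD⟩ := exists_der_of_derivation (Spec.map φ) (tilde M) δ'
    (fun a b => by
      rw [hδ', hδ', hδ', map_mul, h1, map_add, _root_.map_smul, _root_.map_smul, ΓSpecIso_hom_smul,
        ΓSpecIso_hom_smul])
    (fun c => by
      rw [hδ', ΓSpecIso_hom_appTop, h2, map_zero])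
  refine ⟨D, fun t => ?_⟩
  rw [hD, hδ']
  have : (Scheme.ΓSpecIso S).hom ((Scheme.ΓSpecIso S).inv t) = t :=
    congrArg (fun k => k.hom t) (Scheme.ΓSpecIso S).inv_hom_id
  rw [this]
  rfl

theorem der_ext_of_ΓSpecIso_inv {D D' : OmegaSh.Der (Spec.map φ) (tilde M)}
    (h : ∀ t : S, D.app ⊤ ((Scheme.ΓSpecIso S).inv t) = D'.app ⊤ ((Scheme.ΓSpecIso S).inv t)) :
    D = D' := by
  apply der_app_top_injective (Spec.map φ) (tilde M)
  change D.app ⊤ = D'.app ⊤
  ext s
  have hs : (Scheme.ΓSpecIso S).inv ((Scheme.ΓSpecIso S).hom s) = s :=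
    congrArg (fun k => k.hom s) (Scheme.ΓSpecIso S).hom_inv_id
  rw [← hs, h]

end
end Groth.Agent.H44
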