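import Groth.Agent.H44.CotangentExact
import Mathlib.AlgebraicGeometry.Morphisms.Etale
import Mathlib.RingTheory.Etale.Kaehler

/-!
# The canonical map of differentials of an étale square is an isomorphism (helper44)
-/

set_option autoImplicit false
universe u
open CategoryTheory Limits Opposite AlgebraicGeometry TopologicalSpace TensorProduct Scheme.Modules

namespace Groth.Agent.H44

/-- Pure algebra: `Ω[B/R] → Ω[B/S]` is bijective when `Ω[S/R] = 0`. -/
theorem kaehler_map_bijective_of_subsingleton (R S B : Type u) [CommRing R] [CommRing S] [CommRing B]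
    [Algebra R S] [Algebra S B] [Algebra R B] [IsScalarTower R S B] [Subsingleton Ω[S⁄R]] :
    Function.Bijective (KaehlerDifferential.map R S B B) := by
  refine ⟨?_, KaehlerDifferential.map_surjective R S B⟩
  rw [injective_iff_map_eq_zero]
  intro x hx
  obtain ⟨v, rfl⟩ := (KaehlerDifferential.exact_mapBaseChange_map R S B x).1 hx
  clear hx
  have : ∀ v : B ⊗[S] Ω[S⁄R], v = 0 := by
    intro v
    induction v using TensorProduct.induction_on with
    | zero => rfl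
    | tmul b ω => rw [Subsingleton.elim ω 0, TensorProduct.tmul_zero]
    | add x y hx hy => rw [hx, hy, add_zero]
  rw [this v, map_zero]

section
variable {X S X' S' : Scheme.{u}} (f : X ⟶ S) (f' : X' ⟶ S') (h : X' ⟶ X) (b : S' ⟶ S)

/-- Charts of a commutative square. -/
structure SquareChart where
  U' : X'.Opens
  V' : S'.Opens
  U : X.Opens
  V : S.Opens
  hU' : IsAffineOpen U'
  hV' : IsAffineOpen V'
  hU : IsAffineOpen U
  hV : IsAffineOpen V
  e' : U' ≤ f' ⁻¹ᵁ V'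
  e : U ≤ f ⁻¹ᵁ V
  le : U' ≤ h ⁻¹ᵁ U
  leV : V' ≤ b ⁻¹ᵁ V

variable {f f' h b} in
theorem exists_squareChart (hsq : f' ≫ b = h ≫ f) (x : X') (W : X'.Opens) (hx : x ∈ W) :
    ∃ t : SquareChart f f' h b, x ∈ t.U' ∧ t.U' ≤ W := by
  obtain ⟨V, hV, hxV, -⟩ := Opens.isBasis_iff_nbhd.mp S.isBasis_affineOpens
    (show f.base (h.base x) ∈ (⊤ : S.Opens) from trivial)
  have hpt : b.base (f'.base x) = f.base (h.base x) := by
    have := congr(($hsq).base x)
    exact this
  obtain ⟨V', hV', hxV', hV'V⟩ := Opens.isBasis_iff_nbhd.mp S'.isBasis_affineOpens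
    (show f'.base x ∈ b ⁻¹ᵁ V from by change b.base (f'.base x) ∈ V; rw [hpt]; exact hxV)
  obtain ⟨U, hU, hxU, hUV⟩ := Opens.isBasis_iff_nbhd.mp X.isBasis_affineOpens
    (show h.base x ∈ f ⁻¹ᵁ V from hxV)
  obtain ⟨U', hU', hxU', hU'W⟩ := Opens.isBasis_iff_nbhd.mp X'.isBasis_affineOpens
    (show x ∈ W ⊓ (h ⁻¹ᵁ U ⊓ f' ⁻¹ᵁ V') from ⟨hx, hxU, hxV'⟩)
  exact ⟨⟨U', V', U, V, hU', hV', hU, hV, hU'W.trans (inf_le_right.trans inf_le_right), hUV,
    hU'W.trans (inf_le_right.trans inf_le_left), hV'V⟩, hxU', hU'W.trans inf_le_left⟩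

theorem appLE_congr_hom {A B : Scheme.{u}} {q q' : A ⟶ B} (hq : q = q') (V : B.Opens) (U : A.Opens)
    (h1 : U ≤ q ⁻¹ᵁ V) (h2 : U ≤ q' ⁻¹ᵁ V) : q.appLE V U h1 = q'.appLE V U h2 := by
  subst hq
  rfl

variable {f f' h b} {Ω : X.Modules} (d : OmegaSh.Der f Ω) (hd : OmegaSh.IsUniversal d)
  {Ω' : X'.Modules} (d' : OmegaSh.Der f' Ω') (hd' : OmegaSh.IsUniversal d')
  (c : (Scheme.Modules.pullback h).obj Ω ⟶ Ω') (hc : OmegaSh.IsDiffCompat h d d' c)

include hd hd' hc in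
theorem app_bijective_of_etale [Etale h] [Etale b] (hsq : f' ≫ b = h ≫ f)
    (t : SquareChart f f' h b) : Function.Bijective (c.app t.U') := by
  letI algRA : Algebra Γ(S, t.V) Γ(X, t.U) := (f.appLE t.V t.U t.e).hom.toAlgebra
  letI algR'A' : Algebra Γ(S', t.V') Γ(X', t.U') := (f'.appLE t.V' t.U' t.e').hom.toAlgebra
  letI algAA' : Algebra Γ(X, t.U) Γ(X', t.U') := (h.appLE t.U t.U' t.le).hom.toAlgebra
  letI algRR' : Algebra Γ(S, t.V) Γ(S', t.V') := (b.appLE t.V t.V' t.leV).hom.toAlgebra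
  letI algRA' : Algebra Γ(S, t.V) Γ(X', t.U') :=
    ((h.appLE t.U t.U' t.le).hom.comp (f.appLE t.V t.U t.e).hom).toAlgebra
  haveI : IsScalarTower Γ(S, t.V) Γ(X, t.U) Γ(X', t.U') := IsScalarTower.of_algebraMap_eq' rfl
  haveI : IsScalarTower Γ(S, t.V) Γ(S', t.V') Γ(X', t.U') := IsScalarTower.of_algebraMap_eq' (by
    change (h.appLE t.U t.U' t.le).hom.comp (f.appLE t.V t.U t.e).hom =
      (f'.appLE t.V' t.U' t.e').hom.comp (b.appLE t.V t.V' t.leV).hom
    rw [← CommRingCat.hom_comp, ← CommRingCat.hom_comp, Scheme.Hom.appLE_comp_appLE,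
      Scheme.Hom.appLE_comp_appLE]
    exact congrArg _ (appLE_congr_hom hsq.symm _ _ _ _))
  haveI : Algebra.FormallyEtale Γ(X, t.U) Γ(X', t.U') :=
    (h.etale_appLE t.hU t.hU' t.le).formallyEtale
  haveI : Algebra.FormallyUnramified Γ(S, t.V) Γ(S', t.V') :=
    have : Algebra.FormallyEtale Γ(S, t.V) Γ(S', t.V') :=
      (b.etale_appLE t.hV t.hV' t.leV).formallyEtale
    inferInstance
  haveI : Subsingleton Ω[Γ(S', t.V')⁄Γ(S, t.V)] := inferInstance
  obtain ⟨E, Φ', -, hμ⟩ := exists_chart_description h d d' c hc t.hU t.hU' t.le hd hd' t.hV t.hV'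
    t.e t.e'
  let μ : Γ(X', t.U') ⊗[Γ(X, t.U)] Ω[Γ(X, t.U)⁄Γ(S, t.V)] →ₗ[Γ(X', t.U')]
      Ω[Γ(X', t.U')⁄Γ(S', t.V')] :=
    (KaehlerDifferential.map Γ(S, t.V) Γ(S', t.V') Γ(X', t.U') Γ(X', t.U')).comp
      (KaehlerDifferential.mapBaseChange Γ(S, t.V) Γ(X, t.U) Γ(X', t.U'))
  have h1 := hμ μ (fun a' s => by
    change KaehlerDifferential.map Γ(S, t.V) Γ(S', t.V') Γ(X', t.U') Γ(X', t.U')
      (KaehlerDifferential.mapBaseChange Γ(S, t.V) Γ(X, t.U) Γ(X', t.U') _) = _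
    rw [KaehlerDifferential.mapBaseChange_tmul, KaehlerDifferential.map_D, _root_.map_smul,
      KaehlerDifferential.map_D]
    rfl)
  have hμbij : Function.Bijective μ := by
    have b1 : Function.Bijective
        (KaehlerDifferential.mapBaseChange Γ(S, t.V) Γ(X, t.U) Γ(X', t.U')) :=
      (KaehlerDifferential.tensorKaehlerEquivOfFormallyEtale Γ(S, t.V) Γ(X, t.U)
        Γ(X', t.U')).bijective
    have b2 := kaehler_map_bijective_of_subsingleton Γ(S, t.V) Γ(S', t.V') Γ(X', t.U')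
    exact b2.comp b1
  have : (c.app t.U' : Γ((Scheme.Modules.pullback h).obj Ω, t.U') → Γ(Ω', t.U')) =
      fun x => Φ'.symm (μ (E x)) := by
    funext x
    rw [← h1, Φ'.symm_apply_apply]
  rw [this]
  exact Φ'.symm.bijective.comp (hμbij.comp E.bijective)

include hd hd' hc in
/-- **For an étale square, the canonical map `h^*Ω ⟶ Ω'` is an isomorphism.** -/
theorem isIso_diffCompat_of_etale [Etale h] [Etale b] (hsq : f' ≫ b = h ≫ f) : IsIso c := by
  haveI := isQuasicoherent_of_isUniversal d hd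
  haveI := isQuasicoherent_of_isUniversal d' hd'
  refine Groth.Agent.H12.QCohIso.isIso_of_bijective_on_cover c
    (fun t : SquareChart f f' h b => t.U') (fun x => ?_) (fun t => t.hU')
    (fun t => app_bijective_of_etale d hd d' hd' c hc hsq t)
  obtain ⟨t, hxt, -⟩ := exists_squareChart hsq x ⊤ trivial
  exact ⟨t, hxt⟩

end
end Groth.Agent.H44
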