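import Groth.Agent.H5.Stalk.PullbackStalkFormula
import Groth.Agent.H18.FTypeConverse

/-!
# Descent of finite type along flat surjective open morphisms (helper44)

For an arbitrary `O_Y`-module `F` and `f : X ⟶ Y` flat, surjective and open as a map of spaces:
if `f^* F` is of finite type then so is `F` (stalkwise argument via faithful flatness of the local
homomorphisms `O_{Y, f x} → O_{X, x}`).
-/

set_option autoImplicit false
universe u
open CategoryTheory CategoryTheory.Limits AlgebraicGeometry TopologicalSpace Opposite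

namespace Groth.Agent.H44.FTDescent

open Groth.Agent.H5.Stalk Groth.Agent.H5.Stalk.Tensor Groth.Agent.H18

variable {X : Scheme.{u}}

/-- germs of a span lie in the span of the germs -/
theorem gm_mem_span (M : X.Modules) (x : X) {W : X.Opens} (hx : x ∈ W) {κ : Type*}
    (v : κ → Γ(M, W)) (t : Γ(M, W)) (ht : t ∈ Submodule.span Γ(X, W) (Set.range v)) :
    gm x M W hx t ∈ Submodule.span (X.presheaf.stalk x) (Set.range fun k => gm x M W hx (v k)) := by
  induction ht using Submodule.span_induction with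
  | mem y hy =>
    obtain ⟨k, rfl⟩ := hy
    exact Submodule.subset_span ⟨k, rfl⟩
  | zero => rw [map_zero]; exact Submodule.zero_mem _
  | add y z _ _ hy hz => rw [map_add]; exact Submodule.add_mem _ hy hz
  | smul a y _ hy => rw [gm_smul]; exact Submodule.smul_mem _ _ hy

theorem gm_mres (M : X.Modules) (x : X) {W W' : X.Opens} (h : W' ≤ W) (hx : x ∈ W')
    (t : Γ(M, W)) : gm x M W' hx (mres M h t) = gm x M W (h hx) t :=
  gm_res x M (homOfLE h) hx t

/-- a section whose germ lies in the span of the germs of a family lies locally in the span of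
the family -/
theorem exists_mres_mem_span (M : X.Modules) (x : X) {W : X.Opens} (hx : x ∈ W) {κ : Type*}
    (v : κ → Γ(M, W)) (t : Γ(M, W))
    (ht : gm x M W hx t ∈
      Submodule.span (X.presheaf.stalk x) (Set.range fun k => gm x M W hx (v k))) :
    ∃ (W' : X.Opens) (hW' : W' ≤ W), x ∈ W' ∧
      mres M hW' t ∈ Submodule.span Γ(X, W') (Set.range fun k => mres M hW' (v k)) := by
  have key : ∀ a ∈ Submodule.span (X.presheaf.stalk x) (Set.range fun k => gm x M W hx (v k)),
      ∃ (W' : X.Opens) (hW' : W' ≤ W) (hx' : x ∈ W') (t' : Γ(M, W')),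
        t' ∈ Submodule.span Γ(X, W') (Set.range fun k => mres M hW' (v k)) ∧
        gm x M W' hx' t' = a := by
    intro a ha
    induction ha using Submodule.span_induction with
    | mem y hy =>
      obtain ⟨k, rfl⟩ := hy
      refine ⟨W, le_rfl, hx, v k, Submodule.subset_span ⟨k, ?_⟩, rfl⟩
      exact mres_self M _ _
    | zero => exact ⟨W, le_rfl, hx, 0, Submodule.zero_mem _, map_zero _⟩
    | add y z _ _ hy hz =>
      obtain ⟨W₁, h₁, hx₁, t₁, ht₁, e₁⟩ := hy
      obtain ⟨W₂, h₂, hx₂, t₂, ht₂, e₂⟩ := hz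
      refine ⟨W₁ ⊓ W₂, inf_le_left.trans h₁, ⟨hx₁, hx₂⟩,
        mres M inf_le_left t₁ + mres M inf_le_right t₂, Submodule.add_mem _ ?_ ?_, ?_⟩
      · have := mres_mem_span M (inf_le_left : W₁ ⊓ W₂ ≤ W₁) _ _ ht₁
        simp only [mres_mres] at this
        exact this
      · have := mres_mem_span M (inf_le_right : W₁ ⊓ W₂ ≤ W₂) _ _ ht₂
        simp only [mres_mres] at this
        exact this
      · rw [map_add, gm_mres, gm_mres, e₁, e₂]
    | smul c y _ hy =>
      obtain ⟨W₁, h₁, hx₁, t₁, ht₁, e₁⟩ := hy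
      obtain ⟨W₀, hx₀, r, rfl⟩ := X.presheaf.exists_germ_eq c
      refine ⟨W₀ ⊓ W₁, inf_le_right.trans h₁, ⟨hx₀, hx₁⟩,
        X.presheaf.map (homOfLE (inf_le_left : W₀ ⊓ W₁ ≤ W₀)).op r • mres M inf_le_right t₁,
        Submodule.smul_mem _ _ ?_, ?_⟩
      · have := mres_mem_span M (inf_le_right : W₀ ⊓ W₁ ≤ W₁) _ _ ht₁
        simp only [mres_mres] at this
        exact this
      · rw [gm_smul, gm_mres, e₁]
        congr 1
        exact TopCat.Presheaf.germ_res_apply X.presheaf (homOfLE inf_le_left) x _ r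
  obtain ⟨W₁, h₁, hx₁, t₁, ht₁, e₁⟩ := key _ ht
  obtain ⟨W₂, hx₂, i₁, i₂, e⟩ := M.presheaf.germ_eq x hx₁ hx t₁ t e₁
  refine ⟨W₂, i₂.le, hx₂, ?_⟩
  have h3 : mres M i₂.le t = mres M i₁.le t₁ := e.symm
  rw [h3]
  have := mres_mem_span M i₁.le _ _ ht₁
  simp only [mres_mres] at this
  exact this

end Groth.Agent.H44.FTDescent
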