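import Groth.Agent.H44.FTDescent
import Groth.Agent.H12.Bridge

/-!
# Descent of finite type along flat surjective open morphisms, II: stalks (helper44)
-/

set_option autoImplicit false
universe u
open CategoryTheory CategoryTheory.Limits AlgebraicGeometry TopologicalSpace Opposite TensorProduct

namespace Groth.Agent.H44.FTDescent

open Groth.Agent.H5.Stalk Groth.Agent.H5.Stalk.Tensor Groth.Agent.H18

section Alg

variable {A B : Type u} [CommRing A] [CommRing B] [Algebra A B] [Module.FaithfullyFlat A B]

/-- faithfully flat descent of a generating family -/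
theorem span_eq_top_of_span_one_tmul (N : Type u) [AddCommGroup N] [Module A N] {κ : Type*}
    (m : κ → N) (h : Submodule.span B (Set.range fun k => (1 : B) ⊗ₜ[A] m k) = ⊤) :
    Submodule.span A (Set.range m) = ⊤ := by
  let φ : (κ →₀ A) →ₗ[A] N := Finsupp.linearCombination A m
  have h1 : Function.Surjective (φ.baseChange B) := by
    rw [← LinearMap.range_eq_top, eq_top_iff, ← h, Submodule.span_le, Set.range_subset_iff]
    intro k
    refine ⟨(1 : B) ⊗ₜ Finsupp.single k 1, ?_⟩
    simp [φ]
  have h2 : Function.Surjective (φ.lTensor B) := h1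
  have h3 := (Module.FaithfullyFlat.lTensor_surjective_iff_surjective A B φ).mp h2
  rw [← Finsupp.range_linearCombination]
  exact LinearMap.range_eq_top.mpr h3

end Alg

section Alg2

variable {A B : Type u} [CommRing A] [CommRing B] [Algebra A B]

theorem span_one_tmul_eq_top (N : Type u) [AddCommGroup N] [Module A N] {κ : Type*}
    (m : κ → N) (h : Submodule.span A (Set.range m) = ⊤) :
    Submodule.span B (Set.range fun k => (1 : B) ⊗ₜ[A] m k) = ⊤ := by
  have key : ∀ n : N, (1 : B) ⊗ₜ[A] n ∈
      Submodule.span B (Set.range fun k => (1 : B) ⊗ₜ[A] m k) := by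
    intro n
    have hn : n ∈ Submodule.span A (Set.range m) := h ▸ Submodule.mem_top
    induction hn using Submodule.span_induction with
    | mem y hy =>
      obtain ⟨k, rfl⟩ := hy
      exact Submodule.subset_span ⟨k, rfl⟩
    | zero => rw [TensorProduct.tmul_zero]; exact Submodule.zero_mem _
    | add y z _ _ hy hz => rw [TensorProduct.tmul_add]; exact Submodule.add_mem _ hy hz
    | smul a y _ hy =>
      have : (1 : B) ⊗ₜ[A] (a • y) = algebraMap A B a • ((1 : B) ⊗ₜ[A] y) := by
        rw [TensorProduct.tmul_smul, algebraMap_smul]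
      rw [this]
      exact Submodule.smul_mem _ _ hy
  have all : ∀ t : B ⊗[A] N, t ∈ Submodule.span B (Set.range fun k => (1 : B) ⊗ₜ[A] m k) := by
    intro t
    induction t using TensorProduct.induction_on with
    | zero => exact Submodule.zero_mem _
    | add a b ha hb => exact Submodule.add_mem _ ha hb
    | tmul b n =>
      have : b ⊗ₜ[A] n = b • ((1 : B) ⊗ₜ[A] n) := by
        rw [TensorProduct.smul_tmul', smul_eq_mul, mul_one]
      rw [this]
      exact Submodule.smul_mem _ _ (key n)
  exact eq_top_iff.mpr fun t _ => all t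

end Alg2

section Stalk

variable {X Y : Scheme.{u}} (f : X ⟶ Y) (x : X) (F : Y.Modules)

/-- the comparison `(f^*F)_x ≃ O_{X,x} ⊗ F_{f x}` as a linear equivalence -/
theorem exists_stalk_equiv :
    letI := (f.stalkMap x).hom.toAlgebra
    ∃ e : ((stalkFunctor x).obj ((Scheme.Modules.pullback f).obj F)) ≃ₗ[X.presheaf.stalk x]
        (X.presheaf.stalk x) ⊗[Y.presheaf.stalk (f x)] ((stalkFunctor (f x)).obj F),
      ∀ (V : Y.Opens) (hy : f x ∈ V) (a : Γ(F, V)),
        e (gm x _ (f ⁻¹ᵁ V) hy (unitSec f F V a)) = 1 ⊗ₜ gm (f x) F V hy a := by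
  letI := (f.stalkMap x).hom.toAlgebra
  let e₁ := ((pullbackStalkIso f x).app F).toLinearEquiv
  let e₂ := Groth.Agent.H12.BC.bridge (A := Y.presheaf.stalk (f x)) (B := X.presheaf.stalk x)
    ((stalkFunctor (f x)).obj F)
  refine ⟨e₁.trans e₂, fun V hy a => ?_⟩
  have h1 : e₁ (gm x _ (f ⁻¹ᵁ V) hy (unitSec f F V a)) = _ := pullbackStalkIso_hom_germ f x F V hy a
  rw [LinearEquiv.trans_apply, h1]
  rfl

theorem faithfullyFlat_stalk [Flat f] :
    letI := (f.stalkMap x).hom.toAlgebra
    Module.FaithfullyFlat (Y.presheaf.stalk (f x)) (X.presheaf.stalk x) := by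
  letI := (f.stalkMap x).hom.toAlgebra
  exact @Module.FaithfullyFlat.of_flat_of_isLocalHom _ _ _ _ _ _ _
    (Flat.stalkMap f x) (f.toLRSHom.prop x)

/-- T1: finiteness of the stalk descends -/
theorem finite_stalk_of_finite_pullback [Flat f]
    (h : Module.Finite (X.presheaf.stalk x)
      ((stalkFunctor x).obj ((Scheme.Modules.pullback f).obj F))) :
    Module.Finite (Y.presheaf.stalk (f x)) ((stalkFunctor (f x)).obj F) := by
  letI := (f.stalkMap x).hom.toAlgebra
  haveI := faithfullyFlat_stalk f x
  obtain ⟨e, -⟩ := exists_stalk_equiv f x F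
  haveI : Module.Finite (X.presheaf.stalk x)
      ((X.presheaf.stalk x) ⊗[Y.presheaf.stalk (f x)] ((stalkFunctor (f x)).obj F)) :=
    Module.Finite.equiv e
  exact Module.Finite.of_finite_tensorProduct_of_faithfullyFlat (X.presheaf.stalk x)

/-- T2: generation of the stalk descends -/
theorem span_gm_eq_top_of_pullback [Flat f] {κ : Type*} (V : Y.Opens) (hy : f x ∈ V)
    (σ : κ → Γ(F, V))
    (h : Submodule.span (X.presheaf.stalk x) (Set.range fun k =>
      gm x ((Scheme.Modules.pullback f).obj F) (f ⁻¹ᵁ V) hy (unitSec f F V (σ k))) = ⊤) :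
    Submodule.span (Y.presheaf.stalk (f x)) (Set.range fun k => gm (f x) F V hy (σ k)) = ⊤ := by
  letI := (f.stalkMap x).hom.toAlgebra
  haveI := faithfullyFlat_stalk f x
  obtain ⟨e, he⟩ := exists_stalk_equiv f x F
  apply span_eq_top_of_span_one_tmul (B := X.presheaf.stalk x)
  have h1 := congrArg (Submodule.map e.toLinearMap) h
  rw [Submodule.map_span, Submodule.map_top, LinearEquiv.range, ← Set.range_comp] at h1
  rw [← h1]
  congr 2
  funext k
  exact (he V hy (σ k)).symm

/-- T3: generators of the stalk pull back to generators -/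
theorem span_gm_unitSec_eq_top {κ : Type*} (V : Y.Opens) (hy : f x ∈ V)
    (σ : κ → Γ(F, V))
    (h : Submodule.span (Y.presheaf.stalk (f x)) (Set.range fun k => gm (f x) F V hy (σ k)) = ⊤) :
    Submodule.span (X.presheaf.stalk x) (Set.range fun k =>
      gm x ((Scheme.Modules.pullback f).obj F) (f ⁻¹ᵁ V) hy (unitSec f F V (σ k))) = ⊤ := by
  letI := (f.stalkMap x).hom.toAlgebra
  obtain ⟨e, he⟩ := exists_stalk_equiv f x F
  have h0 := span_one_tmul_eq_top (B := X.presheaf.stalk x) _ _ h
  have h1 := congrArg (Submodule.map e.symm.toLinearMap) h0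
  rw [Submodule.map_span, Submodule.map_top, LinearEquiv.range, ← Set.range_comp] at h1
  rw [← h1]
  congr 2
  funext k
  change _ = e.symm ((1 : X.presheaf.stalk x) ⊗ₜ[Y.presheaf.stalk (f x)] gm (f x) F V hy (σ k))
  rw [← he V hy (σ k), LinearEquiv.symm_apply_apply]

end Stalk

end Groth.Agent.H44.FTDescent
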