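import Groth.Agent.H44.FTDescent2

/-!
# Descent of finite type along flat surjective open morphisms, III: main theorem (helper44)
-/

set_option autoImplicit false
universe u
open CategoryTheory CategoryTheory.Limits AlgebraicGeometry TopologicalSpace Opposite TensorProduct

namespace Groth.Agent.H44.FTDescent

open Groth.Agent.H5.Stalk Groth.Agent.H5.Stalk.Tensor Groth.Agent.H18

theorem mem_iInf_opens {T : Type*} [TopologicalSpace T] {κ : Type*} [Finite κ] (V : κ → Opens T)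
    (a : T) : a ∈ (⨅ k, V k) ↔ ∀ k, a ∈ V k := by
  rw [← SetLike.mem_coe, Opens.coe_iInf, Set.mem_iInter]
  rfl

section Main

variable {X Y : Scheme.{u}}

/-- the germs of local generators generate the stalks -/
theorem span_gm_eq_top_of_local_generators (M : X.Modules) {U : X.Opens} {κ : Type*}
    (s : κ → Γ(M, U))
    (LG : ∀ (V : X.Opens) (hV : V ≤ U) (t : Γ(M, V)) (x : X), x ∈ V →
      ∃ (W : X.Opens) (hW : W ≤ V), x ∈ W ∧
        mres M hW t ∈ Submodule.span Γ(X, W) (Set.range fun j => mres M (hW.trans hV) (s j)))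
    (x : X) (hx : x ∈ U) :
    Submodule.span (X.presheaf.stalk x) (Set.range fun j => gm x M U hx (s j)) = ⊤ := by
  rw [eq_top_iff]
  intro a _
  obtain ⟨V₁, hx₁, t₁, rfl⟩ := exists_gm_eq x M a
  obtain ⟨W, hW, hxW, hspan⟩ := LG (V₁ ⊓ U) inf_le_right (mres M inf_le_left t₁) x ⟨hx₁, hx⟩
  have h1 := gm_mem_span M x hxW _ _ hspan
  rw [gm_mres, gm_mres] at h1
  have h2 : (fun j => gm x M W hxW (mres M (hW.trans inf_le_right) (s j))) =
      fun j => gm x M U hx (s j) := by
    funext j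
    exact gm_mres M x _ hxW (s j)
  rw [h2] at h1
  exact h1

end Main

end Groth.Agent.H44.FTDescent

namespace Groth.Agent.H44.FTDescent

open Groth.Agent.H5.Stalk Groth.Agent.H5.Stalk.Tensor Groth.Agent.H18

section Main2

variable {X Y : Scheme.{u}} (f : X ⟶ Y) [Flat f] [Surjective f]

theorem exists_local_generators (hf : IsOpenMap f.base) (F : Y.Modules)
    (h : SheafOfModules.IsFiniteType (R := X.ringCatSheaf) ((Scheme.Modules.pullback f).obj F))
    (y : Y) :
    ∃ (V : Y.Opens) (_ : y ∈ V) (n : ℕ) (σ : Fin n → Γ(F, V)),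
      ∀ (V' : Y.Opens) (hV' : V' ≤ V) (t : Γ(F, V')) (y' : Y), y' ∈ V' →
        ∃ (W : Y.Opens) (hW : W ≤ V'), y' ∈ W ∧
          mres F hW t ∈
            Submodule.span Γ(Y, W) (Set.range fun k => mres F (hW.trans hV') (σ k)) := by
  set M := (Scheme.Modules.pullback f).obj F with hM
  obtain ⟨ι, U, hcov, κ, hfin, s, LG⟩ := exists_local_generators_of_isFiniteType M h
  obtain ⟨x, rfl⟩ := ‹Surjective f›.surj y
  obtain ⟨i₀, hxi⟩ := hcov.exists_mem x
  haveI := hfin i₀
  -- Step 1/2: the stalk of `F` at `f x` is finitely generated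
  have hS1 : ∀ x' (hx' : x' ∈ U i₀), Submodule.span (X.presheaf.stalk x')
      (Set.range fun j => gm x' M (U i₀) hx' (s i₀ j)) = ⊤ :=
    fun x' hx' => span_gm_eq_top_of_local_generators M (s i₀) (LG i₀) x' hx'
  have hfinX : Module.Finite (X.presheaf.stalk x) ((stalkFunctor x).obj M) := by
    refine ⟨?_⟩
    rw [← hS1 x hxi]
    exact Submodule.fg_span (Set.finite_range _)
  have hfinY := finite_stalk_of_finite_pullback f x F hfinX
  obtain ⟨n, mm, hmm⟩ := Module.Finite.exists_fin (R := Y.presheaf.stalk (f x))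
    (M := (stalkFunctor (f x)).obj F)
  choose Vk hyk σk hσk using fun k => exists_gm_eq (f x) F (mm k)
  let V₀ : Y.Opens := ⨅ k, Vk k
  have hy₀ : f x ∈ V₀ := (mem_iInf_opens Vk _).mpr hyk
  let σ₀ : Fin n → Γ(F, V₀) := fun k => mres F (iInf_le Vk k) (σk k)
  have hσ₀ : ∀ k, gm (f x) F V₀ hy₀ (σ₀ k) = mm k := fun k =>
    (gm_mres F (f x) _ hy₀ (σk k)).trans (hσk k)
  have hspanY : Submodule.span (Y.presheaf.stalk (f x))
      (Set.range fun k => gm (f x) F V₀ hy₀ (σ₀ k)) = ⊤ := by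
    rw [← hmm]
    congr 2
    funext k
    exact hσ₀ k
  let τ : Fin n → Γ(M, f ⁻¹ᵁ V₀) := fun k => unitSec f F V₀ (σ₀ k)
  have hspanX : Submodule.span (X.presheaf.stalk x)
      (Set.range fun k => gm x M (f ⁻¹ᵁ V₀) hy₀ (τ k)) = ⊤ :=
    span_gm_unitSec_eq_top f x F V₀ hy₀ σ₀ hspanY
  -- Step 4: the `s i₀ j` are locally combinations of the `τ k`
  let W₁ : X.Opens := U i₀ ⊓ f ⁻¹ᵁ V₀
  have hxW₁ : x ∈ W₁ := ⟨hxi, hy₀⟩
  have hS4 : ∀ j : κ i₀, ∃ (W' : X.Opens) (hW' : W' ≤ W₁), x ∈ W' ∧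
      mres M hW' (mres M inf_le_left (s i₀ j)) ∈ Submodule.span Γ(X, W')
        (Set.range fun k => mres M hW' (mres M inf_le_right (τ k))) := by
    intro j
    apply exists_mres_mem_span M x hxW₁
    have h2 : (fun k => gm x M W₁ hxW₁ (mres M inf_le_right (τ k))) =
        fun k => gm x M (f ⁻¹ᵁ V₀) hy₀ (τ k) := by
      funext k
      exact gm_mres M x _ hxW₁ (τ k)
    rw [h2, hspanX]
    exact Submodule.mem_top
  choose Wj hWj hxWj hspanj using hS4
  let U' : X.Opens := W₁ ⊓ ⨅ j, Wj j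
  have hxU' : x ∈ U' := ⟨hxW₁, (mem_iInf_opens Wj _).mpr hxWj⟩
  have hU'V₀ : U' ≤ f ⁻¹ᵁ V₀ := inf_le_left.trans inf_le_right
  have hU'U : U' ≤ U i₀ := inf_le_left.trans inf_le_left
  -- Step 5: the germs of the `τ k` generate at all points of `U'`
  have hS5 : ∀ x' (hx' : x' ∈ U'), Submodule.span (X.presheaf.stalk x')
      (Set.range fun k => gm x' M (f ⁻¹ᵁ V₀) (hU'V₀ hx') (τ k)) = ⊤ := by
    intro x' hx'
    rw [eq_top_iff, ← hS1 x' (hU'U hx'), Submodule.span_le, Set.range_subset_iff]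
    intro j
    have hx'j : x' ∈ Wj j := (mem_iInf_opens Wj _).mp hx'.2 j
    have h1 := gm_mem_span M x' hx'j _ _ (hspanj j)
    rw [gm_mres, gm_mres] at h1
    have h2 : (fun k => gm x' M (Wj j) hx'j (mres M (hWj j) (mres M inf_le_right (τ k)))) =
        fun k => gm x' M (f ⁻¹ᵁ V₀) (hU'V₀ hx') (τ k) := by
      funext k
      rw [gm_mres, gm_mres]
    rw [h2] at h1
    exact h1
  -- Step 6
  let V : Y.Opens := ⟨f '' (U' : Set X), hf _ U'.isOpen⟩
  have hyV : f x ∈ V := ⟨x, hxU', rfl⟩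
  have hVV₀ : V ≤ V₀ := by
    rintro _ ⟨x', hx', rfl⟩
    exact hU'V₀ hx'
  refine ⟨V, hyV, n, fun k => mres F hVV₀ (σ₀ k), ?_⟩
  intro V' hV' t y' hy'
  obtain ⟨x', hx', rfl⟩ := hV' hy'
  have hS6 := span_gm_eq_top_of_pullback f x' F V₀ (hU'V₀ hx') σ₀ (hS5 x' hx')
  have key := exists_mres_mem_span F (f x') hy' (fun k => mres F hV' (mres F hVV₀ (σ₀ k))) t (by
    have h2 : (fun k => gm (f x') F V' hy' (mres F hV' (mres F hVV₀ (σ₀ k)))) =
        fun k => gm (f x') F V₀ (hU'V₀ hx') (σ₀ k) := by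
      funext k
      rw [gm_mres, gm_mres]
    rw [h2, hS6]
    exact Submodule.mem_top)
  obtain ⟨W, hW, hyW, hspan⟩ := key
  refine ⟨W, hW, hyW, ?_⟩
  simp only [mres_mres] at hspan ⊢
  exact hspan

end Main2

end Groth.Agent.H44.FTDescent

namespace Groth.Agent.H44.FTDescent

open Groth.Agent.H5.Stalk Groth.Agent.H5.Stalk.Tensor Groth.Agent.H18

/-- **Descent of finite type** along a flat surjective morphism which is open as a map of spaces,
for arbitrary modules. -/
theorem isFiniteType_of_pullback {X Y : Scheme.{u}} (f : X ⟶ Y) [Flat f] [Surjective f]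
    (hf : IsOpenMap f.base) (F : Y.Modules)
    (h : SheafOfModules.IsFiniteType (R := X.ringCatSheaf) ((Scheme.Modules.pullback f).obj F)) :
    SheafOfModules.IsFiniteType (R := Y.ringCatSheaf) F := by
  choose V hyV n σ hLG using exists_local_generators f hf F h
  have hcov : IsOpenCover V := by
    rw [IsOpenCover, eq_top_iff]
    intro y _
    exact Opens.mem_iSup.mpr ⟨y, hyV y⟩
  refine isFiniteType_of_locally_generated F V hcov (fun y => ULift.{u} (Fin (n y)))
    (fun y k => σ y k.down) ?_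
  intro y V' hV' t y' hy'
  obtain ⟨W, hW, hyW, hspan⟩ := hLG y V' hV' t y' hy'
  refine ⟨W, hW, hyW, ?_⟩
  have h2 : (Set.range fun k : ULift.{u} (Fin (n y)) => mres F (hW.trans hV') (σ y k.down)) =
      Set.range fun k : Fin (n y) => mres F (hW.trans hV') (σ y k) := by
    ext z
    constructor
    · rintro ⟨k, rfl⟩
      exact ⟨k.down, rfl⟩
    · rintro ⟨k, rfl⟩
      exact ⟨⟨k⟩, rfl⟩
  rw [h2]
  exact hspan

end Groth.Agent.H44.FTDescent
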