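import Groth.Agent.H44.PullbackFT
import Mathlib.AlgebraicGeometry.Morphisms.Descent
import Mathlib.AlgebraicGeometry.Morphisms.Flat
import Mathlib.RingTheory.RingHom.FaithfullyFlat
import Mathlib.RingTheory.Finiteness.Descent

/-!
# fpqc charts and descent of finiteness for quasi-coherent modules

* `exists_faithfullyFlat_chart` : for `f` flat, surjective, quasi-compact and `V ⊆ X` affine, an affine
  scheme `W` with `p : W ⟶ X'` flat such that `Γ(X,V) → Γ(W,⊤)` is faithfully flat.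
* `sectionsEquivOfIso` : an iso of modules gives linear equivalences on sections.
* `chartSectionsEquiv` : `Γ(p^*f^*F, W) ≃ Γ(W) ⊗_{Γ(X,V)} Γ(F,V)`.
* `finite_sections_of_pullback_fpqc`, `isFiniteType_of_pullback_fpqc`.
-/

set_option autoImplicit false
universe u
open CategoryTheory AlgebraicGeometry Scheme.Modules TopologicalSpace Opposite TensorProduct

namespace Groth.Agent.H44

variable {X' X : Scheme.{u}}

theorem primeIdealOf_surjective {V : X.Opens} (hV : IsAffineOpen V) (q : PrimeSpectrum Γ(X, V)) :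
    ∃ x : V, hV.primeIdealOf x = q := by
  refine ⟨hV.isoSpec.inv q, ?_⟩
  change hV.isoSpec.hom (hV.isoSpec.inv q) = q
  rw [← Scheme.Hom.comp_apply, Iso.inv_hom_id]
  rfl

/-- A faithfully flat affine chart of a flat, surjective, quasi-compact morphism over an affine open of
the target. -/
theorem exists_faithfullyFlat_chart (f : X' ⟶ X) [Flat f] [Surjective f] [QuasiCompact f]
    {V : X.Opens} (hV : IsAffineOpen V) :
    ∃ (W : Scheme.{u}) (_ : IsAffine W) (p : W ⟶ X') (e : (⊤ : W.Opens) ≤ (p ≫ f) ⁻¹ᵁ V),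
      Flat p ∧ RingHom.FaithfullyFlat ((p ≫ f).appLE V ⊤ e).hom := by
  let U₀ : X'.Opens := f ⁻¹ᵁ V
  have : CompactSpace U₀.toScheme :=
    isCompact_iff_compactSpace.mp (QuasiCompact.isCompact_preimage (f := f) _ V.2 hV.isCompact)
  obtain ⟨W, p₀, hsurj, hflat, hW⟩ := U₀.toScheme.exists_hom_isAffine_of_isZariskiLocalAtSource @Flat
  have : Flat p₀ := hflat
  have e : (⊤ : W.Opens) ≤ ((p₀ ≫ U₀.ι) ≫ f) ⁻¹ᵁ V := by
    intro w _
    change f.base (U₀.ι.base (p₀.base w)) ∈ V
    exact (p₀.base w).2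
  refine ⟨W, hW, p₀ ≫ U₀.ι, e, inferInstance, ?_⟩
  rw [RingHom.FaithfullyFlat.iff_flat_and_comap_surjective]
  constructor
  · exact HasRingHomProperty.appLE (P := @Flat) ((p₀ ≫ U₀.ι) ≫ f) inferInstance ⟨V, hV⟩
      ⟨⊤, isAffineOpen_top W⟩ e
  · intro q
    obtain ⟨⟨v, hv⟩, rfl⟩ := primeIdealOf_surjective hV q
    obtain ⟨x', rfl⟩ := f.surjective v
    obtain ⟨w, hw⟩ := p₀.surjective ⟨x', hv⟩
    refine ⟨(isAffineOpen_top W).primeIdealOf ⟨w, trivial⟩, ?_⟩
    have := IsAffineOpen.comap_primeIdealOf_appLE (f := (p₀ ≫ U₀.ι) ≫ f) (x := w) V hV ⊤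
      (isAffineOpen_top W) e trivial
    refine this.trans ?_
    congr 1
    apply Subtype.ext
    change f.base (U₀.ι.base (p₀.base w)) = f.base x'
    rw [hw]
    rfl


/-- An isomorphism of modules induces linear equivalences on sections. -/
noncomputable def sectionsEquivOfIso {Z : Scheme.{u}} {M N : Z.Modules} (α : M ≅ N) (U : Z.Opens) :
    Γ(M, U) ≃ₗ[Γ(Z, U)] Γ(N, U) where
  toFun := α.hom.app U
  invFun := α.inv.app U
  map_add' := map_add _
  map_smul' r x := Hom.app_smul α.hom r x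
  left_inv x := by
    change (α.hom.app U ≫ α.inv.app U) x = x
    rw [← Hom.comp_app, α.hom_inv_id]
    rfl
  right_inv x := by
    change (α.inv.app U ≫ α.hom.app U) x = x
    rw [← Hom.comp_app, α.inv_hom_id]
    rfl

/-- Sections of the pullback to a chart: `Γ(p^*f^*F, W) ≃ Γ(W) ⊗_{Γ(X,V)} Γ(F,V)`. -/
noncomputable def chartSectionsEquiv (f : X' ⟶ X) (F : X.Modules) [F.IsQuasicoherent]
    {V : X.Opens} (hV : IsAffineOpen V) {W : Scheme.{u}} [IsAffine W] (p : W ⟶ X')
    (e : (⊤ : W.Opens) ≤ (p ≫ f) ⁻¹ᵁ V) :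
    letI := ((p ≫ f).appLE V ⊤ e).hom.toAlgebra
    Γ((pullback p).obj ((pullback f).obj F), (⊤ : W.Opens)) ≃ₗ[Γ(W, ⊤)] Γ(W, ⊤) ⊗[Γ(X, V)] Γ(F, V) :=
  letI := ((p ≫ f).appLE V ⊤ e).hom.toAlgebra
  sectionsEquivOfIso ((pullbackComp p f).app F) ⊤ ≪≫ₗ
    pullbackSectionsEquiv (p ≫ f) F (isAffineOpen_top W) hV e


/-- fpqc descent of finiteness of sections. -/
theorem finite_sections_of_pullback_fpqc (f : X' ⟶ X) [Flat f] [Surjective f] [QuasiCompact f]
    (M : X.Modules) [M.IsQuasicoherent]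
    [SheafOfModules.IsFiniteType (R := X'.ringCatSheaf) ((pullback f).obj M)]
    {V : X.Opens} (hV : IsAffineOpen V) : Module.Finite Γ(X, V) Γ(M, V) := by
  obtain ⟨W, hW, p, e, hp, hff⟩ := exists_faithfullyFlat_chart f hV
  let _ := ((p ≫ f).appLE V ⊤ e).hom.toAlgebra
  have : Module.FaithfullyFlat Γ(X, V) Γ(W, ⊤) := hff
  have : Module.Finite Γ(W, ⊤) Γ((pullback p).obj ((pullback f).obj M), (⊤ : W.Opens)) :=
    finite_sections_of_isFiniteType _ (isAffineOpen_top W)
  have : Module.Finite Γ(W, ⊤) (Γ(W, ⊤) ⊗[Γ(X, V)] Γ(M, V)) :=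
    Module.Finite.equiv (chartSectionsEquiv f M hV p e)
  exact Module.Finite.of_finite_tensorProduct_of_faithfullyFlat Γ(W, ⊤)

/-- fpqc descent of finite type for quasi-coherent modules. -/
theorem isFiniteType_of_pullback_fpqc (f : X' ⟶ X) [Flat f] [Surjective f] [QuasiCompact f]
    (M : X.Modules) [M.IsQuasicoherent]
    [SheafOfModules.IsFiniteType (R := X'.ringCatSheaf) ((pullback f).obj M)] :
    SheafOfModules.IsFiniteType (R := X.ringCatSheaf) M := by
  have hfin : ∀ V : X.affineOpens, Module.Finite Γ(X, V.1) Γ(M, V.1) :=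
    fun V => finite_sections_of_pullback_fpqc f M V.2
  choose n s hs using fun V : X.affineOpens => Module.Finite.exists_fin (R := Γ(X, V.1))
    (M := Γ(M, V.1))
  refine Groth.Agent.H18.isFiniteType_of_isQuasicoherent_of_span_eq_top M
    (fun V : X.affineOpens => V.1) ?_ (fun V => V.2) (fun V => ULift.{u} (Fin (n V)))
    (fun V j => s V j.down) (fun V => ?_)
  · exact (iSup_affineOpens_eq_top X)
  · have : (Set.range fun j : ULift.{u} (Fin (n V)) => s V j.down) = Set.range (s V) := by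
      ext y; constructor
      · rintro ⟨j, rfl⟩; exact ⟨j.down, rfl⟩
      · rintro ⟨j, rfl⟩; exact ⟨⟨j⟩, rfl⟩
    rw [this]; exact hs V

end Groth.Agent.H44
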