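import Groth.Prelude.Def_CxOX
import Groth.Prelude.Def_Coh
import Groth.Agent.H22.QCohLoc
import Groth.Agent.H44.HomOfBasis
import Mathlib.Algebra.Category.ModuleCat.Sheaf.Limits
import Mathlib.Algebra.Homology.ShortComplex.ModuleCat

/-!
# Sections of `Γ_Z(F)` (helper44)

`mem_range_kernel_ι_iff`: sections of a kernel; `mem_range_gammaZι_iff`: sections of `Γ_Z(F)` over `V`
are the sections of `F` over `V` vanishing on `V ∩ U`; `res_eq_zero_iff_forall_basicOpen` and
`mem_range_gammaZι_iff_pow` (quasi-coherent case over an affine open).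
-/

set_option autoImplicit false
universe u
open CategoryTheory CategoryTheory.Limits AlgebraicGeometry TopologicalSpace Opposite

namespace Groth.Agent.H44
namespace GammaZSections

/-- Sections of a kernel in `X.Modules`: the range of `kernel.ι φ` on sections over `V` is the kernel of
`φ` on sections over `V`. -/
theorem mem_range_kernel_ι_iff {X : Scheme.{u}} {F G : X.Modules} (φ : F ⟶ G) (V : X.Opens)
    (s : F.val.obj (op V)) :
    s ∈ Set.range (((kernel.ι φ).val.app (op V)).hom) ↔ (φ.val.app (op V)).hom s = 0 := by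
  let E : X.Modules ⥤ ModuleCat.{u} (X.ringCatSheaf.obj.obj (op V)) :=
    SheafOfModules.evaluation.{u} X.ringCatSheaf (op V)
  have h1 : E.Additive := by
    change (SheafOfModules.forget _ ⋙ PresheafOfModules.evaluation _ (op V)).Additive
    infer_instance
  have h3 : PreservesFiniteLimits E :=
    inferInstanceAs (PreservesFiniteLimits (SheafOfModules.evaluation.{u} X.ringCatSheaf (op V)))
  let S : ShortComplex X.Modules := ShortComplex.kernelSequence φ
  have hS : S.Exact := ShortComplex.kernelSequence_exact φ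
  have hmono : Mono S.f := by
    change Mono (kernel.ι φ)
    infer_instance
  have hex : (S.map E).Exact := hS.map_of_mono_of_preservesKernel _ hmono inferInstance
  have hex' := (ShortComplex.ShortExact.moduleCat_exact_iff_function_exact _).mp hex
  exact (hex' s).symm

variable {U X : Scheme.{u}} (j : U ⟶ X) [IsOpenImmersion j]

/-- Sections of `Γ_Z(F)` over `V`: sections of `F` over `V` whose restriction to `V ∩ j(U)` vanishes. -/
theorem mem_range_gammaZι_iff (F : X.Modules) (V : X.Opens) (s : F.val.obj (op V)) :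
    s ∈ Set.range ((((CxOX.gammaZι j).app F).val.app (op V)).hom) ↔
      F.presheaf.map (homOfLE (j.image_preimage_le V)).op s = 0 :=
  mem_range_kernel_ι_iff ((Scheme.Modules.restrictAdjunction j).unit.app F) V s


theorem res_basicOpen_eq_zero_iff {X : Scheme.{u}} (F : X.Modules) [F.IsQuasicoherent] {V : X.Opens}
    (hV : IsAffineOpen V) (g : Γ(X, V)) (s : Γ(F, V)) :
    F.presheaf.map (homOfLE (X.basicOpen_le g)).op s = 0 ↔ ∃ n : ℕ, g ^ n • s = 0 := by
  constructor
  · exact Groth.Agent.H22.exists_pow_smul_eq_zero_of_isAffineOpen F hV g s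
  · rintro ⟨n, hn⟩
    have h1 := congrArg (F.presheaf.map (homOfLE (X.basicOpen_le g)).op) hn
    rw [Scheme.Modules.map_smul, map_zero, map_pow] at h1
    have hu : IsUnit (X.presheaf.map (homOfLE (X.basicOpen_le g)).op g) :=
      X.toRingedSpace.isUnit_res_basicOpen g
    exact (hu.pow n).smul_left_cancel.mp (h1.trans (smul_zero _).symm)

theorem res_eq_zero_iff_pow {U X : Scheme.{u}} (j : U ⟶ X) [IsOpenImmersion j] (F : X.Modules)
    [F.IsQuasicoherent] (V : X.Opens) (hV : IsAffineOpen V) (I : Ideal Γ(X, V)) (hI : I.FG)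
    (hZ : ∀ x : X, x ∈ V → (x ∉ Set.range j.base ↔ ∀ f ∈ I, x ∉ X.basicOpen f))
    (s : Γ(F, V)) :
    F.presheaf.map (homOfLE (j.image_preimage_le V)).op s = 0 ↔ ∃ n : ℕ, ∀ a ∈ I ^ n, a • s = 0 := by
  have hW : ∀ x : X, x ∈ j ''ᵁ (j ⁻¹ᵁ V) ↔ x ∈ V ∧ x ∈ Set.range j.base := by
    intro x
    rw [Scheme.Hom.image_preimage_eq_opensRange_inf]
    exact ⟨fun h => ⟨h.2, h.1⟩, fun h => ⟨h.2, h.1⟩⟩
  have hle : ∀ f ∈ I, X.basicOpen f ≤ j ''ᵁ (j ⁻¹ᵁ V) := by
    intro f hf x hx
    rw [hW]
    refine ⟨X.basicOpen_le f hx, ?_⟩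
    by_contra hcon
    exact (hZ x (X.basicOpen_le f hx)).mp hcon f hf hx
  have hA : F.presheaf.map (homOfLE (j.image_preimage_le V)).op s = 0 ↔
      ∀ f ∈ I, F.presheaf.map (homOfLE (X.basicOpen_le f)).op s = 0 := by
    constructor
    · intro h f hf
      have : F.presheaf.map (homOfLE (X.basicOpen_le f)).op s =
          F.presheaf.map (homOfLE (hle f hf)).op
            (F.presheaf.map (homOfLE (j.image_preimage_le V)).op s) := by
        rw [← ConcreteCategory.comp_apply, ← Functor.map_comp]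
        rfl
      rw [this, h, map_zero]
    · intro h
      apply modules_section_ext F
      intro x hx
      obtain ⟨hxV, hxj⟩ := (hW x).mp hx
      have h2 : ¬ ∀ f ∈ I, x ∉ X.basicOpen f := fun hc => (hZ x hxV).mpr hc hxj
      have h3 : ∃ f ∈ I, x ∈ X.basicOpen f := by
        by_contra hc
        exact h2 (fun f hf hxf => hc ⟨f, hf, hxf⟩)
      obtain ⟨f, hf, hxf⟩ := h3
      refine ⟨X.basicOpen f, hle f hf, hxf, ?_⟩
      rw [map_zero, ← ConcreteCategory.comp_apply, ← Functor.map_comp]
      exact h f hf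
  rw [hA]
  have hB : (∀ f ∈ I, F.presheaf.map (homOfLE (X.basicOpen_le f)).op s = 0) ↔
      I ≤ (Ideal.torsionOf Γ(X, V) Γ(F, V) s).radical := by
    constructor
    · intro h f hf
      obtain ⟨n, hn⟩ := (res_basicOpen_eq_zero_iff F hV f s).mp (h f hf)
      exact ⟨n, (Ideal.mem_torsionOf_iff _ _).mpr hn⟩
    · intro h f hf
      obtain ⟨n, hn⟩ := h hf
      exact (res_basicOpen_eq_zero_iff F hV f s).mpr ⟨n, (Ideal.mem_torsionOf_iff _ _).mp hn⟩
  rw [hB]
  constructor
  · intro h
    obtain ⟨n, hn⟩ := Ideal.exists_pow_le_of_le_radical_of_fg h hI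
    exact ⟨n, fun a ha => (Ideal.mem_torsionOf_iff _ _).mp (hn ha)⟩
  · rintro ⟨n, hn⟩ f hf
    exact ⟨n, (Ideal.mem_torsionOf_iff _ _).mpr (hn _ (Ideal.pow_mem_pow hf n))⟩

end GammaZSections
end Groth.Agent.H44
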