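import Groth.Agent.H44.FTDescent3
import Mathlib.Algebra.Module.SpanRankOperations

/-!
# Descent of "locally generated by at most `r` sections" (helper44), I

* `exists_fin_span_eq_top` : Nakayama count along a local homomorphism of local rings.
* `exists_sections_of_localGeneratorsData` : the sections underlying a `LocalGeneratorsData`.
* `exists_localGeneratorsData` : a `LocalGeneratorsData` from local generating sections, with
  control on the index types.
* `isOpen_setOf_span_gm_eq_top` : for a module of finite type, the locus where finitely many given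
  sections generate the stalk is open.
-/

set_option autoImplicit false
universe u
open CategoryTheory CategoryTheory.Limits AlgebraicGeometry TopologicalSpace Opposite TensorProduct

namespace Groth.Agent.H44.GenDescent

open Groth.Agent.H44.FTDescent

section Alg

open IsLocalRing

variable {R R' : Type u} [CommRing R] [CommRing R'] [IsLocalRing R] [IsLocalRing R']
  [Algebra R R'] [IsLocalHom (algebraMap R R')]

/-- finrank of the fibre of a module spanned by `n` elements is at most `n` -/
theorem finrank_residueField_tensor_le (P : Type u) [AddCommGroup P] [Module R' P]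
    {κ : Type*} [Finite κ] (v : κ → P) (hv : Submodule.span R' (Set.range v) = ⊤) :
    Module.finrank (ResidueField R') (ResidueField R' ⊗[R'] P) ≤ Nat.card κ := by
  have h1 := span_one_tmul_eq_top (B := ResidueField R') P v hv
  haveI := Fintype.ofFinite κ
  have h2 := finrank_range_le_card (R := ResidueField R')
    (fun k => (1 : ResidueField R') ⊗ₜ[R'] v k)
  rw [Set.finrank, h1, finrank_top] at h2
  rwa [Nat.card_eq_fintype_card]

/-- the fibre dimension is invariant under local base change -/
theorem finrank_residueField_tensor_eq (N : Type u) [AddCommGroup N] [Module R N] :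
    Module.finrank (ResidueField R') (ResidueField R' ⊗[R'] (R' ⊗[R] N)) =
      Module.finrank (ResidueField R) (ResidueField R ⊗[R] N) := by
  let e₁ : ResidueField R' ⊗[R'] (R' ⊗[R] N) ≃ₗ[ResidueField R'] ResidueField R' ⊗[R] N :=
    AlgebraTensorModule.cancelBaseChange R R' (ResidueField R') (ResidueField R') N
  let e₂ : ResidueField R' ⊗[ResidueField R] (ResidueField R ⊗[R] N) ≃ₗ[ResidueField R']
      ResidueField R' ⊗[R] N :=
    AlgebraTensorModule.cancelBaseChange R (ResidueField R) (ResidueField R') (ResidueField R') N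
  rw [e₁.finrank_eq, ← e₂.finrank_eq, Module.finrank_baseChange]

/-- **Nakayama count**: if `R → R'` is a local homomorphism of local rings, `N` is a finite
`R`-module and `R' ⊗ N` is spanned by a family indexed by `κ`, then `N` is spanned by at most
`Nat.card κ` elements. -/
theorem exists_fin_span_eq_top (N : Type u) [AddCommGroup N] [Module R N] [Module.Finite R N]
    {κ : Type*} [Finite κ] (v : κ → R' ⊗[R] N) (hv : Submodule.span R' (Set.range v) = ⊤) :
    ∃ (d : ℕ) (_ : d ≤ Nat.card κ) (m : Fin d → N), Submodule.span R (Set.range m) = ⊤ := by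
  have h1 := finrank_residueField_tensor_le (R' := R') (R' ⊗[R] N) v hv
  rw [finrank_residueField_tensor_eq] at h1
  let b := Module.finBasis (ResidueField R) (ResidueField R ⊗[R] N)
  have hs : Function.Surjective (TensorProduct.mk R (ResidueField R) N 1) :=
    TensorProduct.mk_surjective R N (ResidueField R) Ideal.Quotient.mk_surjective
  choose m hm using fun i => hs (b i)
  exact ⟨_, h1, m, span_eq_top_of_tmul_eq_basis m b hm⟩

end Alg

open Groth.Agent.H5.Stalk Groth.Agent.H5.Stalk.Tensor Groth.Agent.H18

section Sheaf

variable {X : Scheme.{u}}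

/-- the sections underlying a `LocalGeneratorsData` generate locally -/
theorem exists_sections_of_localGeneratorsData (M : X.Modules)
    (D : SheafOfModules.LocalGeneratorsData.{u} (R := X.ringCatSheaf) M) :
    ∃ (U : D.I → X.Opens) (_ : IsOpenCover U) (s : ∀ i, (D.generators i).I → Γ(M, U i)),
      ∀ i (V : X.Opens) (hV : V ≤ U i) (t : Γ(M, V)) (x : X), x ∈ V →
        ∃ (W : X.Opens) (hW : W ≤ V), x ∈ W ∧
          mres M hW t ∈
            Submodule.span Γ(X, W) (Set.range fun j => mres M (hW.trans hV) (s i j)) := by
  have hcov : IsOpenCover D.X := (_root_.Opens.coversTop_iff _ D.X).mp D.coversTop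
  refine ⟨D.X, hcov,
    fun i j => PresheafOfModules.sections.eval ((D.generators i).s j) (op (Over.mk (𝟙 (D.X i)))), ?_⟩
  intro i V hV t x hx
  obtain ⟨S, hS, hS'⟩ := exists_cover_mem_span_of_epi (M.over (D.X i)) (D.generators i).s
    (Over.mk (homOfLE hV)) t
  rw [GrothendieckTopology.mem_over_iff] at hS
  obtain ⟨W, f, hf, hxW⟩ := hS x hx
  rw [Sieve.overEquiv_iff] at hf
  refine ⟨W, leOfHom f, hxW, ?_⟩
  have := hS' _ hf
  have hev : ∀ j, PresheafOfModules.sections.eval ((D.generators i).s j)
      (op (Over.mk (f ≫ (Over.mk (homOfLE hV)).hom))) =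
      mres M ((leOfHom f).trans hV) (PresheafOfModules.sections.eval ((D.generators i).s j)
        (op (Over.mk (𝟙 (D.X i))))) := by
    intro j
    have hp := PresheafOfModules.sections_property ((D.generators i).s j)
      (X := op (Over.mk (𝟙 (D.X i)))) (Y := op (Over.mk (f ≫ (Over.mk (homOfLE hV)).hom)))
      (Over.homMk (homOfLE ((leOfHom f).trans hV)) :
        Over.mk (f ≫ (Over.mk (homOfLE hV)).hom) ⟶ Over.mk (𝟙 (D.X i))).op
    exact hp.symm
  simp only [hev] at this
  exact this

/-- a `LocalGeneratorsData` from local generating sections, with control on the index types -/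
theorem exists_localGeneratorsData (M : X.Modules) {ι : Type u} (U : ι → X.Opens)
    (hU : IsOpenCover U) (σ : ι → Type u) (s : ∀ i, σ i → Γ(M, U i))
    (h : ∀ i (V : X.Opens) (hV : V ≤ U i) (t : Γ(M, V)) (x : X), x ∈ V →
      ∃ (W : X.Opens) (hW : W ≤ V), x ∈ W ∧
        mres M hW t ∈ Submodule.span Γ(X, W) (Set.range fun j => mres M (hW.trans hV) (s i j)))
    (P : Type u → Prop) (hP : ∀ i, P (σ i)) :
    ∃ D : SheafOfModules.LocalGeneratorsData.{u} (R := X.ringCatSheaf) M,
      ∀ k, P (D.generators k).I := by
  have hcov : (Opens.grothendieckTopology X).CoversTop U := (_root_.Opens.coversTop_iff _ U).mpr hU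
  have hepi : ∀ i, Epi ((M.over (U i)).freeHomEquiv.symm
      (fun j => overSection M (U i) (s i j))) := by
    intro i
    refine epi_freeHomEquiv_symm _ _ ?_
    intro V t
    let t' : Γ(M, V.left) := t
    let S : Sieve V :=
      { arrows := fun Y f => mres M (leOfHom f.left) t' ∈ Submodule.span Γ(X, Y.left)
          (Set.range fun j => mres M (leOfHom Y.hom) (s i j))
        downward_closed := by
          intro Y Z f hf g
          have h1 := mres_mem_span M (leOfHom g.left) _ _ hf
          have h2 : mres M (leOfHom (g ≫ f).left) t' =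
              mres M (leOfHom g.left) (mres M (leOfHom f.left) t') := (mres_mres M _ _ t').symm
          have h3 : (fun j => mres M (leOfHom Z.hom) (s i j)) =
              fun j => mres M (leOfHom g.left) (mres M (leOfHom Y.hom) (s i j)) := by
            funext j
            exact (mres_mres M _ _ (s i j)).symm
          change mres M (leOfHom (g ≫ f).left) t' ∈ Submodule.span Γ(X, Z.left)
            (Set.range fun j => mres M (leOfHom Z.hom) (s i j))
          rw [h2, h3]
          exact h1 }
    refine ⟨S, ?_, ?_⟩
    · rw [GrothendieckTopology.mem_over_iff]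
      intro x hx
      obtain ⟨W, hW, hxW, hspan⟩ := h i V.left (leOfHom V.hom) t' x hx
      refine ⟨W, homOfLE hW, ?_, hxW⟩
      rw [Sieve.overEquiv_iff]
      exact hspan
    · intro Y f hf
      exact hf
  let D : SheafOfModules.LocalGeneratorsData.{u} (R := X.ringCatSheaf) M :=
    { I := ι, X := U, coversTop := hcov,
      generators := fun i => { I := σ i, s := fun j => overSection M (U i) (s i j),
                               epi := hepi i } }
  exact ⟨D, fun k => hP k⟩

/-- for a module of finite type, the locus where finitely many given sections generate the stalk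
is open -/
theorem isOpen_setOf_span_gm_eq_top (M : X.Modules)
    (D : SheafOfModules.LocalGeneratorsData.{u} (R := X.ringCatSheaf) M)
    (hD : ∀ i, Finite (D.generators i).I) (U : X.Opens) {κ : Type*} (τ : κ → Γ(M, U)) :
    IsOpen {x : X | ∃ hx : x ∈ U,
      Submodule.span (X.presheaf.stalk x) (Set.range fun k => gm x M U hx (τ k)) = ⊤} := by
  obtain ⟨DX, hcov, s, LG⟩ := exists_sections_of_localGeneratorsData M D
  rw [isOpen_iff_forall_mem_open]
  rintro x ⟨hxU, hspanX⟩
  obtain ⟨i₀, hxi⟩ := hcov.exists_mem x
  haveI := hD i₀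
  have hS1 : ∀ x' (hx' : x' ∈ DX i₀), Submodule.span (X.presheaf.stalk x')
      (Set.range fun j => gm x' M (DX i₀) hx' (s i₀ j)) = ⊤ :=
    fun x' hx' => span_gm_eq_top_of_local_generators M (s i₀) (LG i₀) x' hx'
  let W₁ : X.Opens := DX i₀ ⊓ U
  have hxW₁ : x ∈ W₁ := ⟨hxi, hxU⟩
  have hS4 : ∀ j : (D.generators i₀).I, ∃ (W' : X.Opens) (hW' : W' ≤ W₁), x ∈ W' ∧
      mres M hW' (mres M inf_le_left (s i₀ j)) ∈ Submodule.span Γ(X, W')
        (Set.range fun k => mres M hW' (mres M inf_le_right (τ k))) := by
    intro j
    apply exists_mres_mem_span M x hxW₁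
    have h2 : (fun k => gm x M W₁ hxW₁ (mres M inf_le_right (τ k))) =
        fun k => gm x M U hxU (τ k) := by
      funext k
      exact gm_mres M x _ hxW₁ (τ k)
    rw [h2, hspanX]
    exact Submodule.mem_top
  choose Wj hWj hxWj hspanj using hS4
  let U' : X.Opens := W₁ ⊓ ⨅ j, Wj j
  have hxU' : x ∈ U' := ⟨hxW₁, (mem_iInf_opens Wj _).mpr hxWj⟩
  have hU'U : U' ≤ U := inf_le_left.trans inf_le_right
  have hU'D : U' ≤ DX i₀ := inf_le_left.trans inf_le_left
  refine ⟨(U' : Set X), ?_, U'.isOpen, hxU'⟩
  intro x' hx'
  refine ⟨hU'U hx', ?_⟩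
  rw [eq_top_iff, ← hS1 x' (hU'D hx'), Submodule.span_le, Set.range_subset_iff]
  intro j
  have hx'j : x' ∈ Wj j := (mem_iInf_opens Wj _).mp hx'.2 j
  have h1 := gm_mem_span M x' hx'j _ _ (hspanj j)
  rw [gm_mres, gm_mres] at h1
  have h2 : (fun k => gm x' M (Wj j) hx'j (mres M (hWj j) (mres M inf_le_right (τ k)))) =
      fun k => gm x' M U (hU'U hx') (τ k) := by
    funext k
    rw [gm_mres, gm_mres]
  rw [h2] at h1
  exact h1

end Sheaf

end Groth.Agent.H44.GenDescent
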