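import Groth.Agent.H44.GenDescent
import Groth.Agent.H40.DescOpen

/-!
# Descent of "locally generated by at most `r` sections" along fpqc covering families (helper44), II
-/

set_option autoImplicit false
universe u
open CategoryTheory CategoryTheory.Limits AlgebraicGeometry TopologicalSpace Opposite TensorProduct

namespace Groth.Agent.H44.GenDescent

open Groth.Agent.H44.FTDescent Groth.Agent.H5.Stalk Groth.Agent.H5.Stalk.Tensor Groth.Agent.H18

section Stalk

variable {X Y : Scheme.{u}}

/-- pointwise descent of the number of generators of a stalk along a flat morphism -/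
theorem exists_fin_span_stalk (f : X ⟶ Y) [Flat f] (x : X) (F : Y.Modules)
    {κ : Type*} [Finite κ] (v : κ → (stalkFunctor x).obj ((Scheme.Modules.pullback f).obj F))
    (hv : Submodule.span (X.presheaf.stalk x) (Set.range v) = ⊤) :
    ∃ (d : ℕ) (_ : d ≤ Nat.card κ) (m : Fin d → (stalkFunctor (f x)).obj F),
      Submodule.span (Y.presheaf.stalk (f x)) (Set.range m) = ⊤ := by
  letI := (f.stalkMap x).hom.toAlgebra
  haveI : IsLocalHom (algebraMap (Y.presheaf.stalk (f x)) (X.presheaf.stalk x)) :=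
    f.toLRSHom.prop x
  have hfinX : Module.Finite (X.presheaf.stalk x)
      ((stalkFunctor x).obj ((Scheme.Modules.pullback f).obj F)) := by
    refine ⟨?_⟩
    rw [← hv]
    exact Submodule.fg_span (Set.finite_range _)
  haveI := finite_stalk_of_finite_pullback f x F hfinX
  obtain ⟨e, -⟩ := exists_stalk_equiv f x F
  have h1 := congrArg (Submodule.map e.toLinearMap) hv
  rw [Submodule.map_span, Submodule.map_top, LinearEquiv.range, ← Set.range_comp] at h1
  exact exists_fin_span_eq_top (R := Y.presheaf.stalk (f x)) (R' := X.presheaf.stalk x)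
    ((stalkFunctor (f x)).obj F) (e ∘ v) h1

end Stalk

/-- **Descent of local generation by at most `r` sections along an fpqc covering family**
(for an arbitrary module). -/
theorem exists_localGeneratorsData_of_fpqc {ι : Type u} {X : Scheme.{u}} {Xi : ι → Scheme.{u}}
    (f : ∀ i, Xi i ⟶ X) (hf : Presieve.ofArrows Xi f ∈ Scheme.fpqcPrecoverage X)
    (F : X.Modules) (r : ℕ)
    (h : ∀ i, ∃ σ : SheafOfModules.LocalGeneratorsData.{u} (R := (Xi i).ringCatSheaf)
        ((Scheme.Modules.pullback (f i)).obj F),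
      ∀ k, Finite (σ.generators k).I ∧ Nat.card (σ.generators k).I ≤ r) :
    ∃ σ : SheafOfModules.LocalGeneratorsData.{u} (R := X.ringCatSheaf) F,
      ∀ k, Finite (σ.generators k).I ∧ Nat.card (σ.generators k).I ≤ r := by
  have hdata := (Scheme.ofArrows_mem_precoverage_iff _).mp hf.2
  have hfl : ∀ i, Flat (f i) := hdata.2
  have hsurj : ∀ x : X, ∃ i, x ∈ Set.range (f i) := hdata.1
  choose D hD using h
  have key : ∀ x : X, ∃ (V : X.Opens) (_ : x ∈ V) (d : ℕ) (_ : d ≤ r) (σ : Fin d → Γ(F, V)),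
      ∀ (y : X) (hy : y ∈ V), Submodule.span (X.presheaf.stalk y)
        (Set.range fun k => gm y F V hy (σ k)) = ⊤ := by
    intro x
    obtain ⟨i, x', rfl⟩ := hsurj x
    haveI := hfl i
    obtain ⟨DX, hcov, s, LG⟩ :=
      exists_sections_of_localGeneratorsData ((Scheme.Modules.pullback (f i)).obj F) (D i)
    obtain ⟨k₀, hxk⟩ := hcov.exists_mem x'
    haveI := (hD i k₀).1
    have hS1 := span_gm_eq_top_of_local_generators ((Scheme.Modules.pullback (f i)).obj F)
      (s k₀) (LG k₀) x' hxk
    obtain ⟨d, hd, m, hm⟩ := exists_fin_span_stalk (f i) x' F _ hS1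
    choose Vk hyk σk hσk using fun k => exists_gm_eq (f i x') F (m k)
    let V₀ : X.Opens := ⨅ k, Vk k
    have hy₀ : f i x' ∈ V₀ := (mem_iInf_opens Vk _).mpr hyk
    let σ₀ : Fin d → Γ(F, V₀) := fun k => mres F (iInf_le Vk k) (σk k)
    have hσ₀ : ∀ k, gm (f i x') F V₀ hy₀ (σ₀ k) = m k := fun k =>
      (gm_mres F (f i x') _ hy₀ (σk k)).trans (hσk k)
    have hspanY : Submodule.span (X.presheaf.stalk (f i x'))
        (Set.range fun k => gm (f i x') F V₀ hy₀ (σ₀ k)) = ⊤ := by
      rw [← hm]
      congr 2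
      funext k
      exact hσ₀ k
    let G : Set X := {y | ∃ hy : y ∈ V₀, Submodule.span (X.presheaf.stalk y)
      (Set.range fun k => gm y F V₀ hy (σ₀ k)) = ⊤}
    have hG : IsOpen G := by
      apply Groth.Agent.H40.isOpen_of_fpqc_family f hf
      intro j
      haveI := hfl j
      have hpre : (f j) ⁻¹' G = {y' | ∃ hy' : y' ∈ (f j) ⁻¹ᵁ V₀,
          Submodule.span ((Xi j).presheaf.stalk y') (Set.range fun k =>
            gm y' ((Scheme.Modules.pullback (f j)).obj F) ((f j) ⁻¹ᵁ V₀) hy'
              (unitSec (f j) F V₀ (σ₀ k))) = ⊤} := by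
        ext y'
        constructor
        · rintro ⟨hy, hs⟩
          exact ⟨hy, span_gm_unitSec_eq_top (f j) y' F V₀ hy σ₀ hs⟩
        · rintro ⟨hy, hs⟩
          exact ⟨hy, span_gm_eq_top_of_pullback (f j) y' F V₀ hy σ₀ hs⟩
      rw [hpre]
      exact isOpen_setOf_span_gm_eq_top _ (D j) (fun k => (hD j k).1) _ _
    have hGV : (⟨G, hG⟩ : X.Opens) ≤ V₀ := fun y hy => hy.1
    refine ⟨⟨G, hG⟩, ⟨hy₀, hspanY⟩, d, hd.trans (hD i k₀).2, fun k => mres F hGV (σ₀ k), ?_⟩
    rintro y ⟨hy0, hs⟩
    have h2 : (fun k => gm y F ⟨G, hG⟩ ⟨hy0, hs⟩ (mres F hGV (σ₀ k))) =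
        fun k => gm y F V₀ hy0 (σ₀ k) := by
      funext k
      exact gm_mres F y hGV _ (σ₀ k)
    rw [h2]
    exact hs
  choose V hxV d hd σ hσ using key
  have hcov : IsOpenCover V := by
    rw [IsOpenCover, eq_top_iff]
    intro y _
    exact Opens.mem_iSup.mpr ⟨y, hxV y⟩
  refine exists_localGeneratorsData F V hcov (fun x => ULift.{u} (Fin (d x)))
    (fun x k => σ x k.down) ?_ (fun T => Finite T ∧ Nat.card T ≤ r) (fun x => ⟨inferInstance, ?_⟩)
  · intro x V' hV' t y hy
    have hsp := hσ x y (hV' hy)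
    obtain ⟨W, hW, hyW, hspan⟩ := exists_mres_mem_span F y hy
      (fun k : ULift.{u} (Fin (d x)) => mres F hV' (σ x k.down)) t (by
        have h2 : (Set.range fun k : ULift.{u} (Fin (d x)) =>
            gm y F V' hy (mres F hV' (σ x k.down))) =
            Set.range fun k : Fin (d x) => gm y F (V x) (hV' hy) (σ x k) := by
          ext z
          constructor
          · rintro ⟨k, rfl⟩
            exact ⟨k.down, (gm_mres F y hV' hy _).symm⟩
          · rintro ⟨k, rfl⟩
            exact ⟨⟨k⟩, gm_mres F y hV' hy _⟩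
        rw [h2, hsp]
        exact Submodule.mem_top)
    refine ⟨W, hW, hyW, ?_⟩
    simp only [mres_mres] at hspan
    exact hspan
  · rw [Nat.card_congr Equiv.ulift, Nat.card_fin]
    exact hd x

end Groth.Agent.H44.GenDescent
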