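import Mathlib.RingTheory.Filtration
import Mathlib.RingTheory.Noetherian.Basic

/-!
# Artin–Rees consequence: power-torsion meets a high power trivially
-/

set_option autoImplicit false
universe u v

namespace Groth.Agent.H44

variable {B : Type u} {N : Type v} [CommRing B] [AddCommGroup N] [Module B N]

/-- elements killed by `J ^ m`. -/
def killedBy (J : Ideal B) (m : ℕ) : Submodule B N where
  carrier := {y | ∀ h ∈ J ^ m, h • y = 0}
  add_mem' := by
    intro a b ha hb h hh
    rw [smul_add, ha h hh, hb h hh, add_zero]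
  zero_mem' := by
    intro h _
    exact smul_zero h
  smul_mem' := by
    intro b y hy h hh
    rw [smul_comm, hy h hh, smul_zero]

lemma killedBy_mono (J : Ideal B) : Monotone (killedBy (N := N) J) := by
  intro m m' hmm y hy h hh
  exact hy h (Ideal.pow_le_pow_right hmm hh)

theorem torsion_bound [IsNoetherianRing B] [Module.Finite B N] (J : Ideal B) :
    ∃ k₀ : ℕ, ∀ y ∈ (J ^ k₀ • ⊤ : Submodule B N), (∃ m : ℕ, ∀ h ∈ J ^ m, h • y = 0) → y = 0 := by
  have : IsNoetherian B N := isNoetherian_of_isNoetherianRing_of_finite B N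
  obtain ⟨t, ht⟩ := monotone_stabilizes_iff_noetherian.mpr inferInstance
    ⟨killedBy (N := N) J, killedBy_mono J⟩
  obtain ⟨k, hk⟩ := Ideal.exists_pow_inf_eq_pow_smul J (killedBy (N := N) J t)
  refine ⟨k + t, ?_⟩
  rintro y hy ⟨m, hm⟩
  have hyT : y ∈ killedBy (N := N) J t := by
    have h1 : y ∈ killedBy (N := N) J (max m t) := killedBy_mono J (le_max_left m t) hm
    have h2 := ht (max m t) (le_max_right m t)
    change killedBy (N := N) J t = killedBy (N := N) J (max m t) at h2
    rw [h2]; exact h1
  have hmem : y ∈ (J ^ (k + t) • ⊤ ⊓ killedBy (N := N) J t : Submodule B N) := ⟨hy, hyT⟩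
  rw [hk (k + t) (Nat.le_add_right k t), Nat.add_sub_cancel_left] at hmem
  have hle : (J ^ t • (J ^ k • ⊤ ⊓ killedBy (N := N) J t) : Submodule B N) ≤ ⊥ := by
    rw [Submodule.smul_le]
    intro h hh z hz
    rw [Submodule.mem_bot]
    exact hz.2 h hh
  exact (Submodule.mem_bot B).mp (hle hmem)

end Groth.Agent.H44
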