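import Groth.Agent.H44.GradedPoly
import Groth.Agent.H44.TorsionBound
import Mathlib.RingTheory.Polynomial.Basic
import Mathlib.RingTheory.MvPolynomial.Basic
import Mathlib.LinearAlgebra.TensorProduct.Basis
import Mathlib.LinearAlgebra.Isomorphisms

/-!
# The graded module map `Ψ_n : I^{nc'} N → N[T_1, …, T_r]`
-/

set_option autoImplicit false
universe u

namespace Groth.Agent.H44

open MvPolynomial TensorProduct

section Coeff

variable {A : Type u} [CommRing A] {r : ℕ} (I : Ideal A) (c e : ℕ) (φ : Fin r → (↥(I ^ c) →ₗ[A] A))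

/-- restriction of `φ` to `I ^ (c + e)`. -/
noncomputable def phiRes (j : Fin r) : ↥(I ^ (c + e)) →ₗ[A] A :=
  (φ j).comp (Submodule.inclusion (Ideal.pow_le_pow_right (Nat.le_add_right c e)))

lemma psi_phiRes (j : Fin r) {g : A} (hg : g ∈ I ^ (c + e)) :
    psi I (c + e) (phiRes I c e φ) j g = psi I c φ j g := by
  rw [psi_of_mem I (c + e) _ j hg,
    psi_of_mem I c φ j (Ideal.pow_le_pow_right (Nat.le_add_right c e) hg)]
  rfl

lemma Phi_mem_map_C (n : ℕ) : ∀ (m : ℕ) (g : A), g ∈ I ^ (n * (c + e) + m) →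
    Phi I (c + e) (phiRes I c e φ) n g ∈ Ideal.map (C : A →+* MvPolynomial (Fin r) A) (I ^ (n * e + m)) := by
  induction n with
  | zero =>
    intro m g hg
    rw [Phi_zero]
    rw [Nat.zero_mul, Nat.zero_add] at hg
    rw [Nat.zero_mul, Nat.zero_add]
    exact Ideal.mem_map_of_mem _ hg
  | succ n ih =>
    intro m g hg
    rw [Phi_succ]
    apply Ideal.sum_mem
    intro j _
    apply Ideal.mul_mem_left
    have hg1 : g ∈ I ^ (c + e) := by
      refine Ideal.pow_le_pow_right ?_ hg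
      rw [Nat.succ_mul]; omega
    rw [psi_phiRes I c e φ j hg1]
    have hg2 : g ∈ I ^ ((n * (c + e) + (e + m)) + c) := by
      have : (n + 1) * (c + e) + m = (n * (c + e) + (e + m)) + c := by ring
      rw [← this]; exact hg
    have h3 := psi_mem I c φ j _ hg2
    have h4 := ih (e + m) _ h3
    have : (n + 1) * e + m = n * e + (e + m) := by ring
    rw [this]
    exact h4

end Coeff

section Main

variable {A : Type u} [CommRing A] {r : ℕ} (f : Fin r → A) (I : Ideal A)
  {B : Type u} [CommRing B] [Algebra A B] {N : Type u} [AddCommGroup N] [Module B N]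

/-- the generating set of `I^m N`. -/
def genSet (m : ℕ) : Set N := {y : N | ∃ g ∈ I ^ m, ∃ x : N, y = algebraMap A B g • x}

variable (m : ℕ) (Φn : A → MvPolynomial (Fin r) A)

/-- `p ↦ Σ_g g • p(g)` -/
noncomputable def sigmaMap : (↥(I ^ m) →₀ N) →ₗ[B] N :=
  Finsupp.lsum ℕ (fun g : ↥(I ^ m) => (algebraMap A B g.1) • (LinearMap.id : N →ₗ[B] N))

/-- `p ↦ Σ_g Φ(g) ⊗ p(g)` -/
noncomputable def tauMap : (↥(I ^ m) →₀ N) →ₗ[B] (MvPolynomial (Fin r) B ⊗[B] N) :=
  Finsupp.lsum ℕ (fun g : ↥(I ^ m) =>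
    TensorProduct.mk B (MvPolynomial (Fin r) B) N (MvPolynomial.map (algebraMap A B) (Φn g.1)))

/-- `p ↦ Σ_g coeff_d(Φ(g)) • p(g)` -/
noncomputable def rhoMap (d : Fin r →₀ ℕ) : (↥(I ^ m) →₀ N) →ₗ[B] N :=
  Finsupp.lsum ℕ (fun g : ↥(I ^ m) =>
    (algebraMap A B (MvPolynomial.coeff d (Φn g.1))) • (LinearMap.id : N →ₗ[B] N))

@[simp] lemma sigmaMap_single (g : ↥(I ^ m)) (x : N) :
    sigmaMap (B := B) (N := N) I m (Finsupp.single g x) = algebraMap A B g.1 • x := by
  simp [sigmaMap]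

@[simp] lemma tauMap_single (g : ↥(I ^ m)) (x : N) :
    tauMap (B := B) (N := N) I m Φn (Finsupp.single g x) =
      MvPolynomial.map (algebraMap A B) (Φn g.1) ⊗ₜ[B] x := by
  simp [tauMap]

@[simp] lemma rhoMap_single (d : Fin r →₀ ℕ) (g : ↥(I ^ m)) (x : N) :
    rhoMap (B := B) (N := N) I m Φn d (Finsupp.single g x) =
      algebraMap A B (MvPolynomial.coeff d (Φn g.1)) • x := by
  simp [rhoMap]

lemma sigmaMap_mem (p : ↥(I ^ m) →₀ N) :
    sigmaMap (B := B) (N := N) I m p ∈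
      Submodule.span B {y : N | ∃ g ∈ I ^ m, ∃ x : N, y = algebraMap A B g • x} := by
  induction p using Finsupp.induction_linear with
  | zero => rw [map_zero]; exact Submodule.zero_mem _
  | add p q hp hq => rw [map_add]; exact Submodule.add_mem _ hp hq
  | single g x =>
    rw [sigmaMap_single]
    exact Submodule.subset_span ⟨g.1, g.2, x, rfl⟩

/-- coefficient extraction on the tensor product -/
noncomputable def kappa (d : Fin r →₀ ℕ) : (MvPolynomial (Fin r) B ⊗[B] N) →ₗ[B] N :=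
  (Finsupp.lapply d).comp
    (TensorProduct.equivFinsuppOfBasisLeft (MvPolynomial.basisMonomials (Fin r) B)).toLinearMap

lemma kappa_tmul (d : Fin r →₀ ℕ) (q : MvPolynomial (Fin r) B) (x : N) :
    kappa (B := B) (N := N) d (q ⊗ₜ[B] x) = MvPolynomial.coeff d q • x := by
  unfold kappa
  simp only [LinearMap.comp_apply, LinearEquiv.coe_coe, Finsupp.lapply_apply,
    TensorProduct.equivFinsuppOfBasisLeft_apply_tmul_apply]
  rfl

lemma eq_zero_of_kappa (z : MvPolynomial (Fin r) B ⊗[B] N)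
    (h : ∀ d, kappa (B := B) (N := N) d z = 0) : z = 0 := by
  apply (TensorProduct.equivFinsuppOfBasisLeft (MvPolynomial.basisMonomials (Fin r) B)).injective
  rw [map_zero]
  ext d
  exact h d

lemma kappa_tau (d : Fin r →₀ ℕ) (p : ↥(I ^ m) →₀ N) :
    kappa (B := B) (N := N) d (tauMap (B := B) (N := N) I m Φn p) =
      rhoMap (B := B) (N := N) I m Φn d p := by
  induction p using Finsupp.induction_linear with
  | zero => simp
  | add p q hp hq => rw [map_add, map_add, map_add, hp, hq]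
  | single g x =>
    rw [tauMap_single, rhoMap_single, kappa_tmul, MvPolynomial.coeff_map]

lemma smul_rho (hsm : ∀ (a : A), ∀ g ∈ I ^ m, Φn (a * g) = a • Φn g) (d : Fin r →₀ ℕ)
    (a : A) (ha : a ∈ I ^ m) (p : ↥(I ^ m) →₀ N) :
    algebraMap A B a • rhoMap (B := B) (N := N) I m Φn d p =
      algebraMap A B (MvPolynomial.coeff d (Φn a)) • sigmaMap (B := B) (N := N) I m p := by
  induction p using Finsupp.induction_linear with
  | zero => simp
  | add p q hp hq => rw [map_add, map_add, smul_add, smul_add, hp, hq]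
  | single g x =>
    rw [rhoMap_single, sigmaMap_single, smul_smul, smul_smul, ← map_mul, ← map_mul]
    congr 2
    have h1 : a * MvPolynomial.coeff d (Φn g.1) = MvPolynomial.coeff d (Φn (a * g.1)) := by
      rw [hsm a g.1 g.2, MvPolynomial.coeff_smul, smul_eq_mul]
    have h2 : MvPolynomial.coeff d (Φn a) * g.1 = MvPolynomial.coeff d (Φn (g.1 * a)) := by
      rw [hsm g.1 a ha, MvPolynomial.coeff_smul, smul_eq_mul, mul_comm]
    rw [h1, h2, mul_comm]

lemma rho_killed (hsm : ∀ (a : A), ∀ g ∈ I ^ m, Φn (a * g) = a • Φn g) (d : Fin r →₀ ℕ)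
    (p : ↥(I ^ m) →₀ N) (hp : sigmaMap (B := B) (N := N) I m p = 0) :
    ∀ h ∈ (I.map (algebraMap A B)) ^ m, h • rhoMap (B := B) (N := N) I m Φn d p = 0 := by
  intro h hh
  rw [← Ideal.map_pow] at hh
  refine Submodule.span_induction (p := fun h _ => h • rhoMap (B := B) (N := N) I m Φn d p = 0)
    ?_ ?_ ?_ ?_ hh
  · rintro _ ⟨a, ha, rfl⟩
    rw [smul_rho (B := B) (N := N) I m Φn hsm d a ha p, hp, smul_zero]
  · exact zero_smul _ _
  · intro x y _ _ hx hy
    rw [add_smul, hx, hy, add_zero]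
  · intro b x _ hx
    rw [smul_eq_mul, mul_smul, hx, smul_zero]

lemma rho_mem (k₀ : ℕ) (hcoef : ∀ g ∈ I ^ m, ∀ d, MvPolynomial.coeff d (Φn g) ∈ I ^ k₀)
    (d : Fin r →₀ ℕ) (p : ↥(I ^ m) →₀ N) :
    rhoMap (B := B) (N := N) I m Φn d p ∈
      ((I.map (algebraMap A B)) ^ k₀ • ⊤ : Submodule B N) := by
  induction p using Finsupp.induction_linear with
  | zero => rw [map_zero]; exact Submodule.zero_mem _
  | add p q hp hq => rw [map_add]; exact Submodule.add_mem _ hp hq
  | single g x =>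
    rw [rhoMap_single]
    apply Submodule.smul_mem_smul _ Submodule.mem_top
    rw [← Ideal.map_pow]
    exact Ideal.mem_map_of_mem _ (hcoef g.1 g.2 d)

theorem ker_sigma_le_ker_tau (k₀ : ℕ)
    (hk₀ : ∀ y ∈ ((I.map (algebraMap A B)) ^ k₀ • ⊤ : Submodule B N),
      (∃ m : ℕ, ∀ h ∈ (I.map (algebraMap A B)) ^ m, h • y = 0) → y = 0)
    (hsm : ∀ (a : A), ∀ g ∈ I ^ m, Φn (a * g) = a • Φn g)
    (hcoef : m = 0 ∨ ∀ g ∈ I ^ m, ∀ d, MvPolynomial.coeff d (Φn g) ∈ I ^ k₀)
    (p : ↥(I ^ m) →₀ N) (hp : sigmaMap (B := B) (N := N) I m p = 0) :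
    tauMap (B := B) (N := N) I m Φn p = 0 := by
  apply eq_zero_of_kappa
  intro d
  rw [kappa_tau]
  have hkill := rho_killed (B := B) (N := N) I m Φn hsm d p hp
  rcases hcoef with h0 | hcoef
  · subst h0
    have h1 : (1 : B) ∈ (I.map (algebraMap A B)) ^ 0 := by
      rw [pow_zero, Ideal.one_eq_top]; exact Submodule.mem_top
    have := hkill 1 h1
    rwa [one_smul] at this
  · exact hk₀ _ (rho_mem (B := B) (N := N) I m Φn k₀ hcoef d p) ⟨m, hkill⟩

omit [AddCommGroup N] [Module B N] in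
lemma aeval_map_algebraMap' (q : MvPolynomial (Fin r) A) :
    MvPolynomial.aeval (fun j ↦ algebraMap A B (f j)) (MvPolynomial.map (algebraMap A B) q) =
      algebraMap A B (MvPolynomial.aeval f q) := by
  rw [MvPolynomial.aeval_def, MvPolynomial.eval₂_map, MvPolynomial.map_aeval]
  simp [MvPolynomial.eval₂Hom, MvPolynomial.aeval_def]

theorem exists_psi
    (hker : ∀ p : ↥(I ^ m) →₀ N, sigmaMap (B := B) (N := N) I m p = 0 →
      tauMap (B := B) (N := N) I m Φn p = 0)
    (haev : ∀ g ∈ I ^ m, MvPolynomial.aeval f (Φn g) = g) :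
    ∃ Ψ : ↥(Submodule.span B {y : N | ∃ g ∈ I ^ m, ∃ x : N, y = algebraMap A B g • x}) →ₗ[B]
        (MvPolynomial (Fin r) B ⊗[B] N),
      (∀ (g : A) (hg : g ∈ I ^ m) (x : N),
        Ψ ⟨algebraMap A B g • x, Submodule.subset_span ⟨g, hg, x, rfl⟩⟩ =
          MvPolynomial.map (algebraMap A B) (Φn g) ⊗ₜ[B] x) ∧
      (∀ y : ↥(Submodule.span B {y : N | ∃ g ∈ I ^ m, ∃ x : N, y = algebraMap A B g • x}),
        TensorProduct.lift ((LinearMap.lsmul B N).comp
          (MvPolynomial.aeval (fun j ↦ algebraMap A B (f j))).toLinearMap) (Ψ y) = (y : N)) ∧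
      (∀ Ψ' : ↥(Submodule.span B {y : N | ∃ g ∈ I ^ m, ∃ x : N, y = algebraMap A B g • x}) →ₗ[B]
          (MvPolynomial (Fin r) B ⊗[B] N),
        (∀ (g : A) (hg : g ∈ I ^ m) (x : N),
          Ψ' ⟨algebraMap A B g • x, Submodule.subset_span ⟨g, hg, x, rfl⟩⟩ =
            MvPolynomial.map (algebraMap A B) (Φn g) ⊗ₜ[B] x) → Ψ' = Ψ) := by
  set Sp := Submodule.span B {y : N | ∃ g ∈ I ^ m, ∃ x : N, y = algebraMap A B g • x} with hSp
  let σ' : (↥(I ^ m) →₀ N) →ₗ[B] ↥Sp :=
    (sigmaMap (B := B) (N := N) I m).codRestrict Sp (sigmaMap_mem I m)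
  have hσ'single : ∀ (g : A) (hg : g ∈ I ^ m) (x : N),
      σ' (Finsupp.single ⟨g, hg⟩ x) = ⟨algebraMap A B g • x, Submodule.subset_span ⟨g, hg, x, rfl⟩⟩ := by
    intro g hg x
    apply Subtype.ext
    exact sigmaMap_single I m ⟨g, hg⟩ x
  have hsurj : Function.Surjective σ' := by
    rintro ⟨y, hy⟩
    refine Submodule.span_induction (p := fun y hy => ∃ p, σ' p = ⟨y, hy⟩) ?_ ?_ ?_ ?_ hy
    · rintro _ ⟨g, hg, x, rfl⟩
      exact ⟨Finsupp.single ⟨g, hg⟩ x, hσ'single g hg x⟩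
    · exact ⟨0, by rw [map_zero]; rfl⟩
    · rintro x y hx hy ⟨p, hp⟩ ⟨q, hq⟩
      exact ⟨p + q, by rw [map_add, hp, hq]; rfl⟩
    · rintro b x hx ⟨p, hp⟩
      exact ⟨b • p, by rw [map_smul, hp]; rfl⟩
  have hkerle : LinearMap.ker σ' ≤ LinearMap.ker (tauMap (B := B) (N := N) I m Φn) := by
    intro p hp
    rw [LinearMap.mem_ker] at hp ⊢
    apply hker
    have := congrArg Subtype.val hp
    exact this
  let Ψ : ↥Sp →ₗ[B] (MvPolynomial (Fin r) B ⊗[B] N) :=
    ((LinearMap.ker σ').liftQ (tauMap (B := B) (N := N) I m Φn) hkerle).comp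
      (σ'.quotKerEquivOfSurjective hsurj).symm.toLinearMap
  have hΨ : ∀ p, Ψ (σ' p) = tauMap (B := B) (N := N) I m Φn p := by
    intro p
    change ((LinearMap.ker σ').liftQ (tauMap (B := B) (N := N) I m Φn) hkerle)
      ((σ'.quotKerEquivOfSurjective hsurj).symm (σ' p)) = _
    rw [LinearMap.quotKerEquivOfSurjective_symm_apply, Submodule.liftQ_apply]
  refine ⟨Ψ, ?_, ?_, ?_⟩
  · intro g hg x
    rw [← hσ'single g hg x, hΨ, tauMap_single]
  · intro y
    obtain ⟨p, rfl⟩ := hsurj y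
    rw [hΨ]
    change _ = sigmaMap (B := B) (N := N) I m p
    induction p using Finsupp.induction_linear with
    | zero => simp
    | add p q hp hq => rw [map_add, map_add, map_add, hp, hq]
    | single g x =>
      rw [tauMap_single, sigmaMap_single, TensorProduct.lift.tmul]
      simp only [LinearMap.comp_apply, AlgHom.toLinearMap_apply, LinearMap.lsmul_apply]
      congr 1
      rw [aeval_map_algebraMap' f, haev g.1 g.2]
  · intro Ψ' hΨ'
    apply LinearMap.ext
    intro y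
    obtain ⟨p, rfl⟩ := hsurj y
    rw [hΨ]
    induction p using Finsupp.induction_linear with
    | zero => simp
    | add p q hp hq => rw [map_add, map_add, map_add, hp, hq]
    | single g x =>
      rw [tauMap_single, hσ'single g.1 g.2 x, hΨ' g.1 g.2 x]

end Main

end Groth.Agent.H44
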