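import Mathlib.RingTheory.MvPolynomial.Homogeneous
import Mathlib.RingTheory.Ideal.Operations
import Mathlib.Algebra.BigOperators.Fin

set_option autoImplicit false
universe u

namespace Groth.Agent.H44

open MvPolynomial

variable {A : Type u} [CommRing A] {r : ℕ} (I : Ideal A) (c : ℕ) (φ : Fin r → (↥(I ^ c) →ₗ[A] A))

/-- total extension of `φ j` by zero -/
noncomputable def psi (j : Fin r) (g : A) : A := by
  classical exact if h : g ∈ I ^ c then φ j ⟨g, h⟩ else 0

theorem psi_of_mem (j : Fin r) {g : A} (h : g ∈ I ^ c) : psi I c φ j g = φ j ⟨g, h⟩ := by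
  unfold psi
  exact dif_pos h

theorem psi_add (j : Fin r) {g h : A} (hg : g ∈ I ^ c) (hh : h ∈ I ^ c) :
    psi I c φ j (g + h) = psi I c φ j g + psi I c φ j h := by
  rw [psi_of_mem I c φ j hg, psi_of_mem I c φ j hh, psi_of_mem I c φ j (Ideal.add_mem _ hg hh),
    ← map_add]
  rfl

theorem psi_mul (j : Fin r) (a : A) {g : A} (hg : g ∈ I ^ c) :
    psi I c φ j (a * g) = a * psi I c φ j g := by
  rw [psi_of_mem I c φ j hg, psi_of_mem I c φ j (Ideal.mul_mem_left _ a hg), ← smul_eq_mul a (φ j _),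
    ← map_smul]
  rfl

theorem psi_mem (j : Fin r) (m : ℕ) {g : A} (hg : g ∈ I ^ (m + c)) : psi I c φ j g ∈ I ^ m := by
  have hle : I ^ (m + c) ≤ I ^ c := Ideal.pow_le_pow_right (Nat.le_add_left c m)
  rw [pow_add] at hg
  have key : g ∈ I ^ m * I ^ c ∧ psi I c φ j g ∈ I ^ m := by
    refine Submodule.mul_induction_on hg ?_ ?_
    · intro a ha b hb
      refine ⟨Ideal.mul_mem_mul ha hb, ?_⟩
      rw [psi_mul I c φ j a hb]
      exact Ideal.mul_mem_right _ _ ha
    · intro x y hx hy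
      refine ⟨Ideal.add_mem _ hx.1 hy.1, ?_⟩
      have hx' : x ∈ I ^ c := hle (by rw [pow_add]; exact hx.1)
      have hy' : y ∈ I ^ c := hle (by rw [pow_add]; exact hy.1)
      rw [psi_add I c φ j hx' hy']
      exact Ideal.add_mem _ hx.2 hy.2
  exact key.2

/-- the graded map, defined recursively -/
noncomputable def Phi : ℕ → A → MvPolynomial (Fin r) A
  | 0, g => C g
  | n + 1, g => ∑ j, X j * Phi n (psi I c φ j g)

theorem Phi_zero (g : A) : Phi I c φ 0 g = C g := rfl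

theorem Phi_succ (n : ℕ) (g : A) :
    Phi I c φ (n + 1) g = ∑ j, X j * Phi I c φ n (psi I c φ j g) := rfl

theorem mem_base {n : ℕ} {g : A} (hg : g ∈ I ^ ((n + 1) * c)) : g ∈ I ^ c :=
  Ideal.pow_le_pow_right (Nat.le_mul_of_pos_left c (Nat.succ_pos n)) hg

theorem psi_mem' (j : Fin r) {n : ℕ} {g : A} (hg : g ∈ I ^ ((n + 1) * c)) :
    psi I c φ j g ∈ I ^ (n * c) := by
  rw [Nat.succ_mul] at hg
  exact psi_mem I c φ j (n * c) hg

theorem Phi_add (n : ℕ) : ∀ g ∈ I ^ (n * c), ∀ h ∈ I ^ (n * c),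
    Phi I c φ n (g + h) = Phi I c φ n g + Phi I c φ n h := by
  induction n with
  | zero =>
    intro g _ h _
    simp [Phi_zero]
  | succ n ih =>
    intro g hg h hh
    rw [Phi_succ, Phi_succ, Phi_succ, ← Finset.sum_add_distrib]
    apply Finset.sum_congr rfl
    intro j _
    rw [psi_add I c φ j (mem_base I c hg) (mem_base I c hh),
      ih _ (psi_mem' I c φ j hg) _ (psi_mem' I c φ j hh), mul_add]

theorem Phi_smul (n : ℕ) : ∀ (a : A), ∀ g ∈ I ^ (n * c),
    Phi I c φ n (a * g) = a • Phi I c φ n g := by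
  induction n with
  | zero =>
    intro a g _
    simp [Phi_zero, MvPolynomial.smul_eq_C_mul]
  | succ n ih =>
    intro a g hg
    rw [Phi_succ, Phi_succ, Finset.smul_sum]
    apply Finset.sum_congr rfl
    intro j _
    rw [psi_mul I c φ j a (mem_base I c hg), ih a _ (psi_mem' I c φ j hg), mul_smul_comm]

theorem Phi_homog (n : ℕ) : ∀ g : A, (Phi I c φ n g).IsHomogeneous n := by
  induction n with
  | zero =>
    intro g
    rw [Phi_zero]
    exact isHomogeneous_C _ _
  | succ n ih =>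
    intro g
    rw [Phi_succ]
    apply IsHomogeneous.sum
    intro j _
    rw [add_comm]
    exact (isHomogeneous_X A j).mul (ih _)

theorem Phi_mul (n m : ℕ) : ∀ g ∈ I ^ (n * c), ∀ h ∈ I ^ (m * c),
    Phi I c φ (n + m) (g * h) = Phi I c φ n g * Phi I c φ m h := by
  induction n with
  | zero =>
    intro g _ h hh
    rw [Nat.zero_add, Phi_smul I c φ m g h hh, Phi_zero, MvPolynomial.smul_eq_C_mul]
  | succ n ih =>
    intro g hg h hh
    have e : n + 1 + m = (n + m) + 1 := by omega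
    rw [e, Phi_succ, Phi_succ, Finset.sum_mul]
    apply Finset.sum_congr rfl
    intro j _
    have : psi I c φ j (g * h) = psi I c φ j g * h := by
      rw [mul_comm g h, psi_mul I c φ j h (mem_base I c hg), mul_comm]
    rw [this, ih _ (psi_mem' I c φ j hg) _ hh, mul_assoc]

theorem Phi_one (hφ : True) (g : A) (hg : g ∈ I ^ c) :
    Phi I c φ 1 g = ∑ j, C (φ j ⟨g, hg⟩) * X j := by
  rw [Phi_succ]
  apply Finset.sum_congr rfl
  intro j _
  rw [Phi_zero, psi_of_mem I c φ j hg, mul_comm]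

theorem Phi_aeval (f : Fin r → A) (hφ : ∀ x : ↥(I ^ c), (x : A) = ∑ j, f j * φ j x) (n : ℕ) :
    ∀ g ∈ I ^ (n * c), MvPolynomial.aeval f (Phi I c φ n g) = g := by
  induction n with
  | zero =>
    intro g _
    simp [Phi_zero]
  | succ n ih =>
    intro g hg
    rw [Phi_succ, map_sum]
    have hg' := mem_base I c hg
    have := hφ ⟨g, hg'⟩
    simp only at this
    conv_rhs => rw [this]
    apply Finset.sum_congr rfl
    intro j _
    rw [map_mul, aeval_X, ih _ (psi_mem' I c φ j hg), psi_of_mem I c φ j hg']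

theorem Phi_unique (Ψ : ℕ → A → MvPolynomial (Fin r) A)
    (hadd : ∀ n : ℕ, ∀ g ∈ I ^ (n * c), ∀ h ∈ I ^ (n * c), Ψ n (g + h) = Ψ n g + Ψ n h)
    (hmul : ∀ n m : ℕ, ∀ g ∈ I ^ (n * c), ∀ h ∈ I ^ (m * c), Ψ (n + m) (g * h) = Ψ n g * Ψ m h)
    (h0 : ∀ a : A, Ψ 0 a = C a)
    (h1 : ∀ (g : A) (hg : g ∈ I ^ c), Ψ 1 g = ∑ j, C (φ j ⟨g, hg⟩) * X j) (n : ℕ) :
    ∀ g ∈ I ^ (n * c), Ψ n g = Phi I c φ n g := by
  induction n with
  | zero =>
    intro g _
    rw [h0, Phi_zero]
  | succ n ih =>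
    intro g hg
    have hg2 : g ∈ I ^ (n * c) * I ^ c := by
      rw [← pow_add, ← Nat.succ_mul]; exact hg
    have key : g ∈ I ^ ((n + 1) * c) ∧ Ψ (n + 1) g = Phi I c φ (n + 1) g := by
      refine Submodule.mul_induction_on hg2 ?_ ?_
      · intro a ha b hb
        have hb1 : b ∈ I ^ (1 * c) := by rw [one_mul]; exact hb
        refine ⟨by rw [Nat.succ_mul, pow_add]; exact Ideal.mul_mem_mul ha hb, ?_⟩
        rw [hmul n 1 a ha b hb1, Phi_mul I c φ n 1 a ha b hb1, ih a ha, h1 b hb,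
          Phi_one I c φ trivial b hb]
      · intro x y hx hy
        refine ⟨Ideal.add_mem _ hx.1 hy.1, ?_⟩
        rw [hadd (n + 1) x hx.1 y hy.1, Phi_add I c φ (n + 1) x hx.1 y hy.1, hx.2, hy.2]
    exact key.2

end Groth.Agent.H44
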