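import Mathlib.Algebra.MvPolynomial.Basic
import Mathlib.Data.Nat.Choose.Basic
import Mathlib.Data.Nat.Choose.Sum
import Mathlib.Algebra.BigOperators.Group.Finset.Basic
import Mathlib.Algebra.Ring.GeomSum
import Mathlib.Tactic

set_option autoImplicit false

namespace Groth.Agent.H44

open Finset

variable {R : Type*} [CommRing R]

/-- the double sum over `i, j < N` with `i + j + 1 = m` is the geometric sum. -/
theorem dsum_eq_geom (y z : R) (m N : ℕ) (hm : m ≤ N) :
    (∑ i ∈ range N, ∑ j ∈ range N, if i + j + 1 = m then y ^ i * z ^ j else 0) =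
      ∑ i ∈ range m, y ^ i * z ^ (m - 1 - i) := by
  have h1 : ∀ i ∈ range N, (∑ j ∈ range N, if i + j + 1 = m then y ^ i * z ^ j else 0) =
      if i < m then y ^ i * z ^ (m - 1 - i) else 0 := by
    intro i hi
    split_ifs with him
    · rw [Finset.sum_eq_single (m - 1 - i)]
      · rw [if_pos (by omega)]
      · intro j _ hj
        rw [if_neg (by omega)]
      · intro hj
        exfalso
        apply hj
        rw [mem_range]; omega
    · apply Finset.sum_eq_zero
      intro j _
      rw [if_neg (by omega)]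
  rw [Finset.sum_congr rfl h1, ← Finset.sum_filter]
  congr 1
  ext i
  simp only [mem_filter, mem_range]
  omega

theorem pow_sub_pow_dsum (y z : R) (m N : ℕ) (hm : m ≤ N) :
    y ^ m - z ^ m =
      (y - z) * ∑ i ∈ range N, ∑ j ∈ range N, if i + j + 1 = m then y ^ i * z ^ j else 0 := by
  rw [dsum_eq_geom y z m N hm, mul_comm, (Commute.all y z).geom_sum₂_mul]

/-- general form of the first identity -/
theorem ident1 (y z : R) (n N : ℕ) (hn : n ≤ N) :
    (1 + y) ^ n - (1 + z) ^ n =
      (y - z) * ∑ i ∈ range N, ∑ j ∈ range N,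
        if i + j + 1 ≤ n then (n.choose (i + j + 1) : R) * y ^ i * z ^ j else 0 := by
  have hy : (1 + y) ^ n = ∑ m ∈ range (n + 1), (n.choose m : R) * y ^ m := by
    rw [add_comm, add_pow]
    apply Finset.sum_congr rfl
    intro m _
    rw [one_pow, mul_one, mul_comm]
  have hz : (1 + z) ^ n = ∑ m ∈ range (n + 1), (n.choose m : R) * z ^ m := by
    rw [add_comm, add_pow]
    apply Finset.sum_congr rfl
    intro m _
    rw [one_pow, mul_one, mul_comm]
  rw [hy, hz, ← Finset.sum_sub_distrib]
  have h2 : ∀ m ∈ range (n + 1), (n.choose m : R) * y ^ m - (n.choose m : R) * z ^ m =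
      (y - z) * ∑ i ∈ range N, ∑ j ∈ range N,
        if i + j + 1 = m then (n.choose m : R) * y ^ i * z ^ j else 0 := by
    intro m hm
    rw [mem_range] at hm
    rw [← mul_sub, pow_sub_pow_dsum y z m N (by omega), mul_left_comm, Finset.mul_sum]
    congr 1
    apply Finset.sum_congr rfl
    intro i _
    rw [Finset.mul_sum]
    apply Finset.sum_congr rfl
    intro j _
    split_ifs
    · ring
    · ring
  rw [Finset.sum_congr rfl h2, ← Finset.mul_sum]
  congr 1
  rw [Finset.sum_comm]
  apply Finset.sum_congr rfl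
  intro i _
  rw [Finset.sum_comm]
  apply Finset.sum_congr rfl
  intro j _
  split_ifs with h
  · rw [Finset.sum_eq_single (i + j + 1)]
    · rw [if_pos rfl]
    · intro m _ hm
      rw [if_neg (Ne.symm hm)]
    · intro hmem
      exfalso; apply hmem; rw [mem_range]; omega
  · apply Finset.sum_eq_zero
    intro m hm
    rw [mem_range] at hm
    rw [if_neg (by omega)]

/-- the double sum over `1 ≤ i, j` with `i + j = m + 2`. -/
theorem dsum2_shift (y z : R) (m N : ℕ) (c : R) :
    (∑ i ∈ range (N + 1), ∑ j ∈ range (N + 1),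
        if 1 ≤ i ∧ 1 ≤ j ∧ i + j = m + 2 then c * y ^ i * z ^ j else 0) =
      c * (y * z) * ∑ i ∈ range N, ∑ j ∈ range N, if i + j + 1 = m + 1 then y ^ i * z ^ j else 0 := by
  rw [Finset.sum_range_succ', Finset.mul_sum]
  have h0 : (∑ j ∈ range (N + 1),
      if 1 ≤ 0 ∧ 1 ≤ j ∧ 0 + j = m + 2 then c * y ^ 0 * z ^ j else 0) = 0 := by
    apply Finset.sum_eq_zero
    intro j _
    rw [if_neg (by omega)]
  rw [h0, add_zero]
  apply Finset.sum_congr rfl
  intro i _
  rw [Finset.sum_range_succ', Finset.mul_sum]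
  rw [if_neg (by omega), add_zero]
  apply Finset.sum_congr rfl
  intro j _
  by_cases h : i + j + 1 = m + 1
  · rw [if_pos h, if_pos (by omega)]
    ring
  · rw [if_neg h, if_neg (by omega), mul_zero]

theorem term2 (y z : R) (m N : ℕ) (hm : m ≤ N) (c : R) :
    c * (y ^ m * z - z ^ m * y) =
      (y - z) * ((if m = 0 then -c else 0) + ∑ i ∈ range (N + 1), ∑ j ∈ range (N + 1),
        if 1 ≤ i ∧ 1 ≤ j ∧ i + j = m then c * y ^ i * z ^ j else 0) := by
  rcases m with _ | _ | m
  · have : (∑ i ∈ range (N + 1), ∑ j ∈ range (N + 1),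
        if 1 ≤ i ∧ 1 ≤ j ∧ i + j = 0 then c * y ^ i * z ^ j else 0) = 0 := by
      apply Finset.sum_eq_zero
      intro i _
      apply Finset.sum_eq_zero
      intro j _
      rw [if_neg (by omega)]
    rw [this, if_pos rfl]
    ring
  · have : (∑ i ∈ range (N + 1), ∑ j ∈ range (N + 1),
        if 1 ≤ i ∧ 1 ≤ j ∧ i + j = 0 + 1 then c * y ^ i * z ^ j else 0) = 0 := by
      apply Finset.sum_eq_zero
      intro i _
      apply Finset.sum_eq_zero
      intro j _
      rw [if_neg (by omega)]
    rw [this, if_neg (by omega)]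
    ring
  · rw [if_neg (by omega), zero_add, dsum2_shift y z m N c]
    have := pow_sub_pow_dsum y z (m + 1) N (by omega)
    calc c * (y ^ (m + 1 + 1) * z - z ^ (m + 1 + 1) * y)
        = c * (y * z) * (y ^ (m + 1) - z ^ (m + 1)) := by ring
      _ = _ := by rw [this]; ring

/-- general form of the second identity -/
theorem ident2 (y z : R) (n : ℕ) :
    (1 + y) ^ n * z - (1 + z) ^ n * y =
      (y - z) * (-1 + ∑ i ∈ range (n + 1), ∑ j ∈ range (n + 1),
        if 1 ≤ i ∧ 1 ≤ j ∧ i + j ≤ n then (n.choose (i + j) : R) * y ^ i * z ^ j else 0) := by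
  have hy : (1 + y) ^ n = ∑ m ∈ range (n + 1), (n.choose m : R) * y ^ m := by
    rw [add_comm, add_pow]
    apply Finset.sum_congr rfl
    intro m _
    rw [one_pow, mul_one, mul_comm]
  have hz : (1 + z) ^ n = ∑ m ∈ range (n + 1), (n.choose m : R) * z ^ m := by
    rw [add_comm, add_pow]
    apply Finset.sum_congr rfl
    intro m _
    rw [one_pow, mul_one, mul_comm]
  rw [hy, hz, Finset.sum_mul, Finset.sum_mul, ← Finset.sum_sub_distrib]
  have h2 : ∀ m ∈ range (n + 1), (n.choose m : R) * y ^ m * z - (n.choose m : R) * z ^ m * y =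
      (y - z) * ((if m = 0 then -(n.choose m : R) else 0) +
        ∑ i ∈ range (n + 1), ∑ j ∈ range (n + 1),
        if 1 ≤ i ∧ 1 ≤ j ∧ i + j = m then (n.choose m : R) * y ^ i * z ^ j else 0) := by
    intro m hm
    rw [mem_range] at hm
    rw [← term2 y z m n (by omega)]
    ring
  rw [Finset.sum_congr rfl h2, ← Finset.mul_sum, Finset.sum_add_distrib]
  congr 2
  · rw [Finset.sum_eq_single 0]
    · simp
    · intro m _ hm
      rw [if_neg hm]
    · intro h; exfalso; apply h; simp
  · rw [Finset.sum_comm]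
    apply Finset.sum_congr rfl
    intro i _
    rw [Finset.sum_comm]
    apply Finset.sum_congr rfl
    intro j _
    by_cases h : 1 ≤ i ∧ 1 ≤ j ∧ i + j ≤ n
    · rw [if_pos h, Finset.sum_eq_single (i + j)]
      · rw [if_pos ⟨h.1, h.2.1, rfl⟩]
      · intro m _ hm
        rw [if_neg (by omega)]
      · intro hmem
        exfalso; apply hmem; rw [mem_range]; omega
    · rw [if_neg h]
      apply Finset.sum_eq_zero
      intro m hm
      rw [mem_range] at hm
      rw [if_neg (by omega)]

end Groth.Agent.H44
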