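import Groth.Agent.H6.HomShHom
import Groth.Agent.H6.HomShRefl

/-!
# Sections of the sheaf Hom over an open are morphisms of the restrictions (helper44)

`toHomRestrict g : G|_U ⟶ F|_U` for `g : Γ(RefHull.homSh G F, U)`, and its stalk maps;
`exists_hom_restrict_of_stalkHom`: every `O_{X,x}`-linear map of stalks of coherent modules on a
locally Noetherian scheme is induced by a morphism on an open neighbourhood.
-/

set_option autoImplicit false
set_option linter.style.haveILetI false
universe u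

namespace Groth.Agent.H44
namespace HomShRestrict

open AlgebraicGeometry CategoryTheory Opposite TopologicalSpace
open Groth.Agent.H6.HomSh

variable {X : Scheme.{u}} {F G : X.Modules}

/-- the morphism of restrictions to `U` defined by a section over `U` of the sheaf Hom -/
noncomputable def toHomRestrict {U : X.Opens} (g : Γ(RefHull.homSh F G, U)) :
    (Scheme.Modules.restrictFunctor U.ι).obj F ⟶ (Scheme.Modules.restrictFunctor U.ι).obj G :=
  ⟨PresheafOfModules.homMk
    { app := fun V => AddCommGrpCat.ofHom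
        (toLin ((RefHull.homSh F G).presheaf.map
          (homOfLE (U.ι_image_le V.unop)).op g)).toAddMonoidHom
      naturality := fun {V W} i => by
        ext m
        have h := toLin_res (F := F) (G := G) (U.ι.opensFunctor.map i.unop)
          ((RefHull.homSh F G).presheaf.map (homOfLE (U.ι_image_le V.unop)).op g) m
        exact h }
    (fun V r m => by
      exact (toLin ((RefHull.homSh F G).presheaf.map
        (homOfLE (U.ι_image_le V.unop)).op g)).map_smul ((U.ι.appIso V.unop).inv r) m)⟩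

theorem toHomRestrict_app {U : X.Opens} (g : Γ(RefHull.homSh F G, U)) (V : (U : Scheme.{u}).Opens)
    (m : Γ(F, U.ι ''ᵁ V)) :
    (toHomRestrict g).app V m =
      toLin ((RefHull.homSh F G).presheaf.map (homOfLE (U.ι_image_le V)).op g) m := rfl


theorem mem_image_of_mem {U : X.Opens} (V : (U : Scheme.{u}).Opens) (x : X) (hx : x ∈ U)
    (hxV : (⟨x, hx⟩ : U) ∈ V) : x ∈ U.ι ''ᵁ V := by
  have h : U.ι (⟨x, hx⟩ : U) ∈ U.ι ''ᵁ V := by
    rw [Scheme.Hom.apply_mem_image_iff]
    exact hxV
  exact h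

theorem stalk_toHomRestrict_aux {U : X.Opens} (g : Γ(RefHull.homSh F G, U)) (x : X) (hx : x ∈ U) :
    (TopCat.Presheaf.stalkFunctor _ (⟨x, hx⟩ : U)).map (toHomRestrict g).mapPresheaf ≫
          (Scheme.Modules.restrictStalkNatIso U.ι (⟨x, hx⟩ : U)).hom.app G =
      (Scheme.Modules.restrictStalkNatIso U.ι (⟨x, hx⟩ : U)).hom.app F ≫
        AddCommGrpCat.ofHom (g.1 ⟨x, hx⟩).toAddMonoidHom := by
  refine TopCat.Presheaf.stalk_hom_ext _ (fun V hxV => ?_)
  have hxV' : x ∈ U.ι ''ᵁ V := mem_image_of_mem V x hx hxV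
  have e1 := TopCat.Presheaf.stalkFunctor_map_germ V (⟨x, hx⟩ : U) hxV
    (Scheme.Modules.Hom.mapPresheaf (toHomRestrict g))
  have e2 := Scheme.Modules.germ_restrictStalkNatIso_hom_app U.ι (⟨x, hx⟩ : U) G hxV
  have e3 := Scheme.Modules.germ_restrictStalkNatIso_hom_app U.ι (⟨x, hx⟩ : U) F hxV
  refine (Category.assoc _ _ _).symm.trans ?_
  refine (e1 =≫ _).trans ?_
  refine (Category.assoc _ _ _).trans ?_
  refine (_ ≫= e2).trans ?_
  symm
  refine (Category.assoc _ _ _).symm.trans ?_
  refine (e3 =≫ _).trans ?_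
  symm
  ext m
  exact germ_toLin ((RefHull.homSh F G).presheaf.map (homOfLE (U.ι_image_le V)).op g) m ⟨x, hxV'⟩


theorem stalk_toHomRestrict {U : X.Opens} (g : Γ(RefHull.homSh F G, U)) (x : X) (hx : x ∈ U) :
    (Scheme.Modules.restrictStalkNatIso U.ι (⟨x, hx⟩ : U)).inv.app F ≫
        (TopCat.Presheaf.stalkFunctor _ (⟨x, hx⟩ : U)).map (toHomRestrict g).mapPresheaf ≫
          (Scheme.Modules.restrictStalkNatIso U.ι (⟨x, hx⟩ : U)).hom.app G =
      AddCommGrpCat.ofHom (g.1 ⟨x, hx⟩).toAddMonoidHom := by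
  have h := stalk_toHomRestrict_aux g x hx
  have h2 := congrArg
    (fun k => (Scheme.Modules.restrictStalkNatIso U.ι (⟨x, hx⟩ : U)).inv.app F ≫ k) h
  refine h2.trans ?_
  exact Iso.inv_hom_id_assoc ((Scheme.Modules.restrictStalkNatIso U.ι (⟨x, hx⟩ : U)).app F) _

/-- Every `O_{X,x}`-linear map between the stalks of two coherent modules on a locally Noetherian
scheme is the stalk map of a morphism defined on an open neighbourhood of `x`. -/
theorem exists_hom_restrict_of_stalkHom [IsLocallyNoetherian X] (F G : X.Modules)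
    (hF : Coh.IsCoh F) (hG : Coh.IsCoh G) (x : X)
    (ψ : ↑(G.presheaf.stalk x) →ₗ[X.presheaf.stalk x] ↑(F.presheaf.stalk x)) :
    ∃ (U : X.Opens) (hx : x ∈ U)
      (φ : (Scheme.Modules.restrictFunctor U.ι).obj G ⟶ (Scheme.Modules.restrictFunctor U.ι).obj F),
      (Scheme.Modules.restrictStalkNatIso U.ι (⟨x, hx⟩ : U)).inv.app G ≫
          (TopCat.Presheaf.stalkFunctor _ (⟨x, hx⟩ : U)).map φ.mapPresheaf ≫
            (Scheme.Modules.restrictStalkNatIso U.ι (⟨x, hx⟩ : U)).hom.app F =
        AddCommGrpCat.ofHom ψ.toAddMonoidHom := by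
  haveI : F.IsQuasicoherent := hF.1
  obtain ⟨θ, hθ⟩ := (evalStalk_bijective_of_isCoh G F hG x).2 ψ
  obtain ⟨U, hx, g, rfl⟩ := TopCat.Presheaf.exists_germ_eq (RefHull.homSh G F).presheaf θ
  refine ⟨U, hx, toHomRestrict g, ?_⟩
  rw [RefHull.evalStalk_germ] at hθ
  rw [← hθ]
  exact stalk_toHomRestrict g x hx

end HomShRestrict
end Groth.Agent.H44
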