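import Mathlib.RingTheory.Kaehler.TensorProduct

/-!
# Kähler differentials of a pushout `C = A ⊗[R] B` (helper44)

`(C ⊗[A] Ω[A/R]) × (C ⊗[B] Ω[B/R]) → Ω[C/R]` is bijective.
-/

set_option autoImplicit false
universe u
open TensorProduct KaehlerDifferential

namespace Groth.Agent.H44

section
variable (R A B C : Type u) [CommRing R] [CommRing A] [CommRing B] [CommRing C]
  [Algebra R A] [Algebra R B] [Algebra R C] [Algebra A C] [Algebra B C]
  [IsScalarTower R A C] [IsScalarTower R B C]

theorem map_mapBaseChange_eq_tensorKaehlerEquiv [Algebra.IsPushout R B A C] (t : C ⊗[A] Ω[A⁄R]) :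
    KaehlerDifferential.map R B C C (mapBaseChange R A C t) = tensorKaehlerEquiv R B A C t := by
  induction t using TensorProduct.induction_on with
  | zero => simp
  | add x y hx hy => rw [map_add, map_add, map_add, hx, hy]
  | tmul c ω =>
    have hω : ω ∈ Submodule.span A (Set.range (KaehlerDifferential.D R A)) := by
      rw [KaehlerDifferential.span_range_derivation]; trivial
    induction hω using Submodule.span_induction generalizing c with
    | mem ω hω =>
      obtain ⟨a, rfl⟩ := hω
      rw [mapBaseChange_tmul, tensorKaehlerEquiv_tmul_D, map_smul, KaehlerDifferential.map_D,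
        KaehlerDifferential.map_D]
      rfl
    | zero => simp
    | add x y _ _ hx hy =>
      rw [TensorProduct.tmul_add, map_add, map_add, map_add, hx, hy]
    | smul r x _ hx =>
      rw [← TensorProduct.smul_tmul]
      exact hx _

theorem map_mapBaseChange_eq_zero (t : C ⊗[A] Ω[A⁄R]) :
    KaehlerDifferential.map R A C C (mapBaseChange R A C t) = 0 :=
  (KaehlerDifferential.exact_mapBaseChange_map R A C).apply_apply_eq_zero t

/-- For a pushout `C = A ⊗[R] B`, `Ω[C/R] = (C ⊗[A] Ω[A/R]) ⊕ (C ⊗[B] Ω[B/R])`. -/
theorem kaehler_pushout_bijective [Algebra.IsPushout R A B C] :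
    Function.Bijective (fun x : (C ⊗[A] Ω[A⁄R]) × (C ⊗[B] Ω[B⁄R]) =>
      mapBaseChange R A C x.1 + mapBaseChange R B C x.2) := by
  haveI : Algebra.IsPushout R B A C := Algebra.IsPushout.symm inferInstance
  constructor
  · rintro ⟨x, y⟩ ⟨x', y'⟩ h
    dsimp only at h
    have h1 := congrArg (KaehlerDifferential.map R B C C) h
    rw [map_add, map_add, map_mapBaseChange_eq_zero, map_mapBaseChange_eq_zero, add_zero, add_zero,
      map_mapBaseChange_eq_tensorKaehlerEquiv, map_mapBaseChange_eq_tensorKaehlerEquiv] at h1
    have h2 := congrArg (KaehlerDifferential.map R A C C) h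
    rw [map_add, map_add, map_mapBaseChange_eq_zero, map_mapBaseChange_eq_zero, zero_add, zero_add,
      map_mapBaseChange_eq_tensorKaehlerEquiv, map_mapBaseChange_eq_tensorKaehlerEquiv] at h2
    rw [(tensorKaehlerEquiv R B A C).injective h1, (tensorKaehlerEquiv R A B C).injective h2]
  · intro z
    let x := (tensorKaehlerEquiv R B A C).symm (KaehlerDifferential.map R B C C z)
    have hz : KaehlerDifferential.map R B C C (z - mapBaseChange R A C x) = 0 := by
      rw [map_sub, map_mapBaseChange_eq_tensorKaehlerEquiv, LinearEquiv.apply_symm_apply, sub_self]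
    obtain ⟨y, hy⟩ := (KaehlerDifferential.exact_mapBaseChange_map R B C _).1 hz
    exact ⟨(x, y), by dsimp only; rw [hy]; abel⟩

end
end Groth.Agent.H44
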