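import Groth.Agent.H44.KaehlerTensor
import Mathlib.RingTheory.Kaehler.Basic
import Mathlib.LinearAlgebra.TensorProduct.Tower

/-!
# Kähler differentials from a "diagonal pushout" (helper44)

`B` a ring isomorphic to `A ⊗[R] A` (`c`), with a retraction `B → A` of both inclusions, `G` a `B`-module
embedded in `B` as the kernel of `B → A`: then `A ⊗[B] G ≃ Ω[A/R]`, compatibly with derivations
(`KP.exists_equiv_kaehler`).
-/

set_option autoImplicit false
universe u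
open TensorProduct

namespace Groth.Agent.H44.KP

variable {R A B : Type u} [CommRing R] [CommRing A] [CommRing B] [Algebra R A] [Algebra B A]
  (p₁ p₂ : A →+* B) (c : A ⊗[R] A ≃+* B)
  (hc : ∀ a a' : A, c (a ⊗ₜ[R] a') = p₁ a * p₂ a')
  (hμ₁ : ∀ a, algebraMap B A (p₁ a) = a) (hμ₂ : ∀ a, algebraMap B A (p₂ a) = a)
  {G : Type u} [AddCommGroup G] [Module B G] (ι : G →ₗ[B] B)
  (hι : ∀ g, algebraMap B A (ι g) = 0)

include hc hμ₁ hμ₂ in
theorem algebraMap_c (x : A ⊗[R] A) : algebraMap B A (c x) = mulHom R A x := by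
  induction x using TensorProduct.induction_on with
  | zero => simp
  | tmul a a' =>
    rw [hc, map_mul, hμ₁, hμ₂]
    simp
  | add x y hx hy => rw [map_add, map_add, map_add, hx, hy]

include hc hμ₁ hμ₂ in
theorem mulHom_c_symm (b : B) : mulHom R A (c.symm b) = algebraMap B A b := by
  rw [← algebraMap_c p₁ p₂ c hc hμ₁ hμ₂, RingEquiv.apply_symm_apply]

include hc hμ₁ hμ₂ hι in
theorem c_symm_ι_mem (g : G) : c.symm (ι g) ∈ KaehlerDifferential.ideal R A := by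
  change mulHom R A (c.symm (ι g)) = 0
  rw [mulHom_c_symm p₁ p₂ c hc hμ₁ hμ₂, hι]

/-- The map `G → Ω[A/R]`, `g ↦ [c⁻¹ (ι g)]`. -/
noncomputable def psi' (g : G) : Ω[A⁄R] :=
  KaehlerDifferential.fromIdeal R A ⟨c.symm (ι g), c_symm_ι_mem p₁ p₂ c hc hμ₁ hμ₂ ι hι g⟩

theorem psi'_add (g g' : G) :
    psi' p₁ p₂ c hc hμ₁ hμ₂ ι hι (g + g') =
      psi' p₁ p₂ c hc hμ₁ hμ₂ ι hι g + psi' p₁ p₂ c hc hμ₁ hμ₂ ι hι g' := by
  unfold psi'
  rw [← map_add]
  congr 1
  ext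
  simp

theorem psi'_smul (b : B) (g : G) :
    psi' p₁ p₂ c hc hμ₁ hμ₂ ι hι (b • g) = algebraMap B A b • psi' p₁ p₂ c hc hμ₁ hμ₂ ι hι g := by
  unfold psi'
  rw [← mulHom_c_symm p₁ p₂ c hc hμ₁ hμ₂, mulHom_smul_kaehler, ← map_smul]
  congr 1
  ext
  simp

omit [Algebra B A] in
include hc in
theorem c_one_tmul_sub (s : A) : c ((1 : A) ⊗ₜ[R] s - s ⊗ₜ[R] (1 : A)) = p₂ s - p₁ s := by
  rw [map_sub, hc, hc, map_one, map_one, one_mul, mul_one]

theorem psi'_of_eq (g : G) (s : A) (h : ι g = p₂ s - p₁ s) :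
    psi' p₁ p₂ c hc hμ₁ hμ₂ ι hι g = KaehlerDifferential.D R A s := by
  rw [KaehlerDifferential.D_apply]
  unfold psi'
  change (KaehlerDifferential.ideal R A).toCotangent _ = _
  congr 1
  ext
  change c.symm (ι g) = (1 : A) ⊗ₜ[R] s - s ⊗ₜ[R] (1 : A)
  rw [h, ← c_one_tmul_sub p₁ p₂ c hc, RingEquiv.symm_apply_apply]

include hc hμ₁ hμ₂ in
/-- The kernel of `B → A` is generated by the `p₂ s - p₁ s`. -/
theorem ker_le_span (b : B) (hb : algebraMap B A b = 0) :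
    b ∈ Ideal.span (Set.range fun s : A => p₂ s - p₁ s) := by
  have h1 : c.symm b ∈ KaehlerDifferential.ideal R A := by
    change mulHom R A (c.symm b) = 0
    rw [mulHom_c_symm p₁ p₂ c hc hμ₁ hμ₂, hb]
  rw [← KaehlerDifferential.span_range_eq_ideal] at h1
  have h2 : c (c.symm b) ∈ Ideal.map (c : A ⊗[R] A →+* B)
      (Ideal.span (Set.range fun s : A => (1 : A) ⊗ₜ[R] s - s ⊗ₜ[R] (1 : A))) :=
    Ideal.mem_map_of_mem _ h1
  rw [RingEquiv.apply_symm_apply, Ideal.map_span, ← Set.range_comp] at h2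
  convert h2 using 3
  ext s
  exact (c_one_tmul_sub p₁ p₂ c hc s).symm

section Main
variable {N' : Type u} [AddCommGroup N'] [Module A N'] [Module R N'] [IsScalarTower R A N']
  (E : N' ≃ₗ[A] A ⊗[B] G) (d' : Derivation R A N') (gs : A → G)
  (hgs : ∀ s, ι (gs s) = p₂ s - p₁ s) (hE : ∀ s, E (d' s) = (1 : A) ⊗ₜ[B] gs s)
  (hinj : Function.Injective ι) (hsurj : ∀ b : B, algebraMap B A b = 0 → ∃ g, ι g = b)

include c hc hμ₁ hμ₂ hι hgs hE hinj hsurj in
theorem exists_equiv_kaehler :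
    ∃ Φ : N' ≃ₗ[A] Ω[A⁄R], ∀ s, Φ (d' s) = KaehlerDifferential.D R A s := by
  let ψ'lin : G →ₗ[B] Ω[A⁄R] :=
    { toFun := psi' p₁ p₂ c hc hμ₁ hμ₂ ι hι
      map_add' := psi'_add p₁ p₂ c hc hμ₁ hμ₂ ι hι
      map_smul' := fun b g => by
        rw [psi'_smul p₁ p₂ c hc hμ₁ hμ₂ ι hι b g, algebraMap_smul, RingHom.id_apply] }
  let ψ : A ⊗[B] G →ₗ[A] Ω[A⁄R] := LinearMap.liftBaseChange A ψ'lin
  have hψ : ∀ (a : A) (g : G), ψ (a ⊗ₜ g) = a • psi' p₁ p₂ c hc hμ₁ hμ₂ ι hι g := fun a g =>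
    LinearMap.liftBaseChange_tmul A ψ'lin a g
  let θ : Ω[A⁄R] →ₗ[A] N' := d'.liftKaehlerDifferential
  have hθ : ∀ s, θ (KaehlerDifferential.D R A s) = d' s := fun s =>
    Derivation.liftKaehlerDifferential_comp_D d' s
  let Φ₀ : N' →ₗ[A] Ω[A⁄R] := ψ ∘ₗ E.toLinearMap
  have h1 : ∀ s, Φ₀ (d' s) = KaehlerDifferential.D R A s := fun s => by
    change ψ (E (d' s)) = _
    rw [hE, hψ, one_smul, psi'_of_eq p₁ p₂ c hc hμ₁ hμ₂ ι hι (gs s) s (hgs s)]
  -- key: θ (ψ' g) = E⁻¹ (1 ⊗ g)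
  have key : ∀ b : B, b ∈ Ideal.span (Set.range fun s : A => p₂ s - p₁ s) →
      algebraMap B A b = 0 ∧ ∀ g : G, ι g = b →
        θ (psi' p₁ p₂ c hc hμ₁ hμ₂ ι hι g) = E.symm ((1 : A) ⊗ₜ[B] g) := by
    intro b hb
    induction hb using Submodule.span_induction with
    | mem x hx =>
      obtain ⟨s, rfl⟩ := hx
      refine ⟨by rw [map_sub, hμ₁, hμ₂, sub_self], fun g hg => ?_⟩
      have : g = gs s := hinj (hg.trans (hgs s).symm)
      rw [this, psi'_of_eq p₁ p₂ c hc hμ₁ hμ₂ ι hι (gs s) s (hgs s), hθ, ← hE, E.symm_apply_apply]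
    | zero =>
      refine ⟨map_zero _, fun g hg => ?_⟩
      have : g = 0 := hinj (hg.trans (map_zero ι).symm)
      subst this
      have h0 : psi' p₁ p₂ c hc hμ₁ hμ₂ ι hι (0 : G) = 0 := map_zero ψ'lin
      rw [h0, map_zero, TensorProduct.tmul_zero, map_zero]
    | add x y _ _ hx hy =>
      refine ⟨by rw [map_add, hx.1, hy.1, add_zero], fun g hg => ?_⟩
      obtain ⟨g₁, hg₁⟩ := hsurj x hx.1
      have hg₂ : ι (g - g₁) = y := by rw [map_sub, hg, hg₁, add_sub_cancel_left]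
      have hgg : g = g₁ + (g - g₁) := by abel
      rw [hgg, psi'_add, map_add, hx.2 g₁ hg₁, hy.2 (g - g₁) hg₂, TensorProduct.tmul_add, map_add]
    | smul r x _ hx =>
      refine ⟨by rw [smul_eq_mul, map_mul, hx.1, mul_zero], fun g hg => ?_⟩
      obtain ⟨g₁, hg₁⟩ := hsurj x hx.1
      have : g = r • g₁ := hinj (by rw [hg, map_smul, hg₁])
      rw [this, psi'_smul, map_smul, hx.2 g₁ hg₁, ← map_smul]
      congr 1
      rw [TensorProduct.smul_tmul', ← TensorProduct.smul_tmul, smul_eq_mul, mul_one, Algebra.smul_def, mul_one]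
  have h3 : ∀ n' : N', θ (Φ₀ n') = n' := by
    intro n'
    obtain ⟨t, rfl⟩ := E.symm.surjective n'
    change θ (ψ (E (E.symm t))) = E.symm t
    rw [E.apply_symm_apply]
    induction t using TensorProduct.induction_on with
    | zero => simp
    | tmul a g =>
      obtain ⟨hb0, hb⟩ := key (ι g) (ker_le_span p₁ p₂ c hc hμ₁ hμ₂ (ι g) (hι g))
      rw [hψ, map_smul, hb g rfl, ← map_smul, TensorProduct.smul_tmul', smul_eq_mul, mul_one]
    | add x y hx hy => rw [map_add, map_add, hx, hy, map_add]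
  have h2 : ∀ ω : Ω[A⁄R], Φ₀ (θ ω) = ω := by
    intro ω
    have hspan := KaehlerDifferential.span_range_derivation R A
    have : ω ∈ Submodule.span A (Set.range (KaehlerDifferential.D R A)) := by rw [hspan]; trivial
    induction this using Submodule.span_induction with
    | mem x hx =>
      obtain ⟨s, rfl⟩ := hx
      rw [hθ, h1]
    | zero => simp
    | add x y _ _ hx hy => rw [map_add, map_add, hx, hy]
    | smul a x _ hx => rw [map_smul, map_smul, hx]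
  exact ⟨LinearEquiv.ofLinearMap Φ₀ θ (LinearMap.ext h2) (LinearMap.ext h3), h1⟩

end Main

end Groth.Agent.H44.KP
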