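import Mathlib.RingTheory.Kaehler.Basic
import Mathlib.Algebra.Category.ModuleCat.ChangeOfRings

set_option autoImplicit false
universe u
open TensorProduct CategoryTheory

namespace Groth.Agent.H44

variable (R S : Type u) [CommRing R] [CommRing S] [Algebra R S]

/-- The multiplication map `S ⊗[R] S → S` as a ring hom. -/
noncomputable abbrev mulHom : S ⊗[R] S →+* S :=
  (Algebra.TensorProduct.lmul' R : S ⊗[R] S →ₐ[R] S).toRingHom

theorem ideal_smul_kaehler (e : S ⊗[R] S) (he : e ∈ KaehlerDifferential.ideal R S) (ω : Ω[S⁄R]) :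
    e • ω = 0 := by
  obtain ⟨x, rfl⟩ := KaehlerDifferential.fromIdeal_surjective R S ω
  change e • (KaehlerDifferential.ideal R S).toCotangent x = 0
  rw [← map_smul, Ideal.toCotangent_eq_zero, pow_two]
  exact Ideal.mul_mem_mul he x.2

theorem mulHom_smul_kaehler (e : S ⊗[R] S) (ω : Ω[S⁄R]) :
    (mulHom R S e : S) • ω = e • ω := by
  have h : (mulHom R S e : S) • ω = ((mulHom R S e : S) ⊗ₜ[R] (1 : S)) • ω := by
    rw [← algebraMap_smul (S ⊗[R] S) (mulHom R S e : S) ω]
    rfl
  rw [h, ← sub_eq_zero, ← sub_smul]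
  apply ideal_smul_kaehler
  change Algebra.TensorProduct.lmul' R _ = 0
  rw [map_sub]
  simp


/-- `S` as a module over `S ⊗[R] S` through multiplication. -/
noncomputable abbrev mulMod : ModuleCat.{u} (S ⊗[R] S) :=
  (ModuleCat.restrictScalars (mulHom R S)).obj (ModuleCat.of S S)

/-- The bilinear map `(s, x) ↦ s • [x]`. -/
noncomputable def toKaehlerBilin :
    mulMod R S →ₗ[S ⊗[R] S] (KaehlerDifferential.ideal R S) →ₗ[S ⊗[R] S] Ω[S⁄R] where
  toFun s :=
    { toFun := fun x => (show S from s) • KaehlerDifferential.fromIdeal R S x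
      map_add' := fun x y => by rw [map_add, smul_add]
      map_smul' := fun e x => by
        rw [map_smul, RingHom.id_apply, smul_comm] }
  map_add' s t := by
    ext x
    exact add_smul (show S from s) (show S from t) _
  map_smul' e s := by
    ext x
    change ((mulHom R S e * (show S from s) : S)) • KaehlerDifferential.fromIdeal R S x =
      e • ((show S from s) • KaehlerDifferential.fromIdeal R S x)
    rw [mul_smul, mulHom_smul_kaehler]

/-- The comparison map `S ⊗_E I → Ω[S/R]`. -/
noncomputable def toKaehler :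
    TensorProduct (S ⊗[R] S) (mulMod R S) (KaehlerDifferential.ideal R S) →ₗ[S ⊗[R] S] Ω[S⁄R] :=
  TensorProduct.lift (toKaehlerBilin R S)

theorem toKaehler_tmul (s : mulMod R S) (x : KaehlerDifferential.ideal R S) :
    toKaehler R S (s ⊗ₜ x) = (show S from s) • KaehlerDifferential.fromIdeal R S x := rfl


/-- The map `I → S ⊗_E I`, `x ↦ 1 ⊗ x`. -/
noncomputable def fromIdealTensor :
    (KaehlerDifferential.ideal R S) →ₗ[S ⊗[R] S]
      TensorProduct (S ⊗[R] S) (mulMod R S) (KaehlerDifferential.ideal R S) :=
  TensorProduct.mk (S ⊗[R] S) (mulMod R S) (KaehlerDifferential.ideal R S) (show mulMod R S from (1 : S))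

theorem smul_top_le_ker_fromIdealTensor :
    ((KaehlerDifferential.ideal R S) • (⊤ : Submodule (S ⊗[R] S) (KaehlerDifferential.ideal R S))) ≤
      LinearMap.ker (fromIdealTensor R S) := by
  rw [Submodule.smul_le]
  intro y hy x _
  rw [LinearMap.mem_ker]
  change (show mulMod R S from (1 : S)) ⊗ₜ[S ⊗[R] S] (y • x) = 0
  rw [← TensorProduct.smul_tmul]
  have : y • (show mulMod R S from (1 : S)) = 0 := by
    change (show mulMod R S from (mulHom R S y * 1 : S)) = 0
    have hy' : mulHom R S y = 0 := hy
    rw [hy', zero_mul]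
    rfl
  rw [this, TensorProduct.zero_tmul]

/-- The inverse comparison map `Ω[S/R] → S ⊗_E I`. -/
noncomputable def fromKaehler :
    Ω[S⁄R] →ₗ[S ⊗[R] S] TensorProduct (S ⊗[R] S) (mulMod R S) (KaehlerDifferential.ideal R S) :=
  Submodule.liftQ _ (fromIdealTensor R S) (smul_top_le_ker_fromIdealTensor R S)

theorem fromKaehler_fromIdeal (x : KaehlerDifferential.ideal R S) :
    fromKaehler R S (KaehlerDifferential.fromIdeal R S x) =
      (show mulMod R S from (1 : S)) ⊗ₜ[S ⊗[R] S] x := rfl


set_option backward.isDefEq.respectTransparency false in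
theorem toKaehler_smul (s : S)
    (t : ((ModuleCat.extendScalars (mulHom R S)).obj
      (ModuleCat.of (S ⊗[R] S) (KaehlerDifferential.ideal R S)))) :
    toKaehler R S (s • t) = s • toKaehler R S t := by
  induction t using TensorProduct.induction_on with
  | zero => rw [smul_zero, map_zero, smul_zero]
  | tmul s' x =>
    rw [ModuleCat.ExtendScalars.smul_tmul, toKaehler_tmul, toKaehler_tmul, mul_smul]
  | add a b ha hb => rw [smul_add, map_add, map_add, smul_add, ha, hb]

theorem fromKaehler_toKaehler
    (t : TensorProduct (S ⊗[R] S) (mulMod R S) (KaehlerDifferential.ideal R S)) :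
    fromKaehler R S (toKaehler R S t) = t := by
  induction t using TensorProduct.induction_on with
  | zero => rw [map_zero, map_zero]
  | tmul s x =>
    rw [toKaehler_tmul]
    have h1 : (show S from s) • KaehlerDifferential.fromIdeal R S x =
        ((show S from s) ⊗ₜ[R] (1 : S)) • KaehlerDifferential.fromIdeal R S x := by
      rw [← algebraMap_smul (S ⊗[R] S) (show S from s) (KaehlerDifferential.fromIdeal R S x)]
      rfl
    rw [h1, map_smul, fromKaehler_fromIdeal, TensorProduct.smul_tmul']
    congr 1
    change (show mulMod R S from (mulHom R S ((show S from s) ⊗ₜ[R] (1 : S)) * 1 : S)) = s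
    simp
  | add a b ha hb => rw [map_add, map_add, ha, hb]

theorem toKaehler_fromKaehler (ω : Ω[S⁄R]) : toKaehler R S (fromKaehler R S ω) = ω := by
  obtain ⟨x, rfl⟩ := KaehlerDifferential.fromIdeal_surjective R S ω
  rw [fromKaehler_fromIdeal, toKaehler_tmul]
  exact one_smul S _

/-- `S ⊗_{S ⊗[R] S} ker(S ⊗[R] S → S) ≃ Ω[S/R]`, in the form produced by `ModuleCat.extendScalars`. -/
noncomputable def extendScalarsIdealEquivKaehler :
    ((ModuleCat.extendScalars (mulHom R S)).obj
      (ModuleCat.of (S ⊗[R] S) (KaehlerDifferential.ideal R S))) ≃ₗ[S] Ω[S⁄R] where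
  toFun := toKaehler R S
  invFun := fromKaehler R S
  map_add' := map_add _
  map_smul' := toKaehler_smul R S
  left_inv := fromKaehler_toKaehler R S
  right_inv := toKaehler_fromKaehler R S

end Groth.Agent.H44
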