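import Groth.Prelude.Def_Adeq
import Mathlib.CategoryTheory.Abelian.GrothendieckCategory.EnoughInjectives
import Mathlib.CategoryTheory.Abelian.GrothendieckAxioms.FunctorCategory
import Mathlib.Algebra.Category.ModuleCat.AB
import Mathlib.CategoryTheory.Functor.ReflectsIso.Balanced
import Mathlib.CategoryTheory.Limits.Preserves.Finite
import Mathlib.CategoryTheory.Generator.Basic
import Mathlib.LinearAlgebra.Finsupp.LinearCombination

/-!
# Free module-valued functors and the Grothendieck abelian structure on `Adeq.MVF A`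
-/

set_option autoImplicit false
universe u
open CategoryTheory Limits Opposite

namespace Groth.Agent.H44

variable {A : Type u} [CommRing A]

open Adeq

/-- index type of the free functor at `D`. -/
abbrev FreeIdx (C D : Alg A) : Type (u + 1) := ULift.{u + 1} (C ⟶ D)

/-- transition map of the free functor, as an additive map. -/
noncomputable def freeMapAdd (C : Alg A) {D D' : Alg A} (f : D ⟶ D') :
    (FreeIdx C D →₀ D) →+ (FreeIdx C D' →₀ D') :=
  (Finsupp.mapDomain.addMonoidHom (fun u : FreeIdx C D => (⟨u.down ≫ f⟩ : FreeIdx C D'))).comp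
    (Finsupp.mapRange.addMonoidHom f.hom.toRingHom.toAddMonoidHom)

@[simp] lemma freeMapAdd_single (C : Alg A) {D D' : Alg A} (f : D ⟶ D') (u : FreeIdx C D) (d : D) :
    freeMapAdd C f (Finsupp.single u d) = Finsupp.single (⟨u.down ≫ f⟩ : FreeIdx C D') (f.hom d) := by
  simp [freeMapAdd, Finsupp.mapRange_single, Finsupp.mapDomain_single]

lemma freeMapAdd_smul (C : Alg A) {D D' : Alg A} (f : D ⟶ D') (r : D) (p : FreeIdx C D →₀ D) :
    freeMapAdd C f (r • p) = f.hom r • freeMapAdd C f p := by
  induction p using Finsupp.induction_linear with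
  | zero => simp
  | add p q hp hq => rw [smul_add, map_add, hp, hq, map_add, smul_add]
  | single u d => simp [Finsupp.smul_single]

lemma freeMapAdd_id (C D : Alg A) (p : FreeIdx C D →₀ D) : freeMapAdd C (𝟙 D) p = p := by
  induction p using Finsupp.induction_linear with
  | zero => simp
  | add p q hp hq => rw [map_add, hp, hq]
  | single u d => simp

lemma freeMapAdd_comp (C : Alg A) {D D' D'' : Alg A} (f : D ⟶ D') (g : D' ⟶ D'')
    (p : FreeIdx C D →₀ D) : freeMapAdd C (f ≫ g) p = freeMapAdd C g (freeMapAdd C f p) := by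
  induction p using Finsupp.induction_linear with
  | zero => simp
  | add p q hp hq => rw [map_add, hp, hq, map_add, map_add]
  | single u d => simp

/-- The abelian presheaf underlying the free module-valued functor on `C`. -/
noncomputable def freeAb (C : Alg A) : (Alg A)ᵒᵖᵒᵖ ⥤ Ab.{u + 1} where
  obj X := AddCommGrpCat.of (FreeIdx C X.unop.unop →₀ X.unop.unop)
  map {X Y} f := AddCommGrpCat.ofHom (freeMapAdd C f.unop.unop)
  map_id X := by
    apply AddCommGrpCat.hom_ext
    apply AddMonoidHom.ext
    intro p
    exact freeMapAdd_id C X.unop.unop p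
  map_comp {X Y Z} f g := by
    apply AddCommGrpCat.hom_ext
    apply AddMonoidHom.ext
    intro p
    exact freeMapAdd_comp C f.unop.unop g.unop.unop p

noncomputable instance (C : Alg A) (X : (Alg A)ᵒᵖᵒᵖ) : Module ((ringOf A).obj X) ((freeAb C).obj X) :=
  inferInstanceAs (Module X.unop.unop (FreeIdx C X.unop.unop →₀ X.unop.unop))

/-- The free module-valued functor on (the functor corepresented by) `C`. -/
noncomputable def freeMVF (C : Alg A) : MVF A :=
  PresheafOfModules.ofPresheaf (freeAb C) (by
    intro X Y f r m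
    exact freeMapAdd_smul C f.unop.unop r m)

/-- value of transition -/
noncomputable def freeVal (C : Alg A) (F : MVF A) (x : F.obj (pt C)) (D : Alg A) (u : FreeIdx C D) :
    F.obj (pt D) := F.restrictₛₗ (ptHom u.down) x

noncomputable def freeDescLin (C : Alg A) (F : MVF A) (x : F.obj (pt C)) (D : Alg A) :
    (FreeIdx C D →₀ D) →ₗ[D] F.obj (pt D) :=
  Finsupp.linearCombination D (freeVal C F x D)

@[simp] lemma freeDescLin_single (C : Alg A) (F : MVF A) (x : F.obj (pt C)) (D : Alg A)
    (u : FreeIdx C D) (d : D) :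
    freeDescLin C F x D (Finsupp.single u d) = d • freeVal C F x D u := by
  simp [freeDescLin]

lemma freeVal_nat (C : Alg A) (F : MVF A) (x : F.obj (pt C)) {D D' : Alg A} (f : D ⟶ D')
    (u : FreeIdx C D) :
    F.restrictₛₗ (ptHom f) (freeVal C F x D u) = freeVal C F x D' ⟨u.down ≫ f⟩ := by
  simp only [freeVal]
  exact (PresheafOfModules.map_comp_apply F (ptHom u.down) (ptHom f) x).symm

lemma freeDescLin_nat (C : Alg A) (F : MVF A) (x : F.obj (pt C)) {D D' : Alg A} (f : D ⟶ D')
    (p : FreeIdx C D →₀ D) :
    freeDescLin C F x D' (freeMapAdd C f p) = F.restrictₛₗ (ptHom f) (freeDescLin C F x D p) := by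
  induction p using Finsupp.induction_linear with
  | zero => simp only [map_zero]
  | add p q hp hq => rw [map_add, map_add, hp, hq, map_add, map_add]
  | single u d =>
    rw [freeMapAdd_single, freeDescLin_single, freeDescLin_single, map_smulₛₗ, freeVal_nat]
    rfl

/-- The morphism out of the free functor classified by an element. -/
noncomputable def freeDesc (C : Alg A) (F : MVF A) (x : F.obj (pt C)) : freeMVF C ⟶ F :=
  PresheafOfModules.homMk (M₁ := freeMVF C) (M₂ := F)
    { app X := AddCommGrpCat.ofHom (freeDescLin C F x X.unop.unop).toAddMonoidHom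
      naturality {X Y} f := by
        apply AddCommGrpCat.hom_ext
        apply AddMonoidHom.ext
        intro p
        exact freeDescLin_nat C F x f.unop.unop p }
    (by
      intro X r m
      exact (freeDescLin C F x X.unop.unop).map_smul r m)

/-- the generator -/
noncomputable def freeGen (C : Alg A) : (freeMVF C).obj (pt C) :=
  (Finsupp.single (⟨𝟙 C⟩ : FreeIdx C C) (1 : C) : FreeIdx C C →₀ C)

lemma freeDesc_gen (C : Alg A) (F : MVF A) (x : F.obj (pt C)) :
    (freeDesc C F x).app (pt C) (freeGen C) = x := by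
  change freeDescLin C F x C (Finsupp.single (⟨𝟙 C⟩ : FreeIdx C C) (1 : C)) = x
  rw [freeDescLin_single, one_smul]
  simp only [freeVal]
  change F.map (𝟙 _) x = x
  rw [F.map_id]
  rfl

lemma freeMVF_isSeparating :
    ObjectProperty.IsSeparating (.ofObj (fun C : Alg A => freeMVF C)) := by
  intro F G f g h
  ext X x
  obtain ⟨C, rfl⟩ : ∃ C : Alg A, X = pt C := ⟨X.unop.unop, rfl⟩
  have := h _ ⟨C⟩ (freeDesc C F x)
  have h2 := congrArg (fun φ => (φ.app (pt C)) (freeGen C)) this
  simp only [PresheafOfModules.comp_app] at h2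
  change f.app (pt C) ((freeDesc C F x).app (pt C) (freeGen C)) =
    g.app (pt C) ((freeDesc C F x).app (pt C) (freeGen C)) at h2
  rwa [freeDesc_gen] at h2


noncomputable instance reflectsFiniteLimits_toPresheaf :
    ReflectsFiniteLimits (PresheafOfModules.toPresheaf (Adeq.ringOf A) : Adeq.MVF A ⥤ _) where
  reflects _ _ _ := reflectsLimitsOfShape_of_reflectsIsomorphisms

lemma ab5_MVF : AB5OfSize.{u + 1, u + 1} (Adeq.MVF A) :=
  ⟨fun J _ _ => HasExactColimitsOfShape.domain_of_functor J
    (PresheafOfModules.toPresheaf (Adeq.ringOf A) : Adeq.MVF A ⥤ _)⟩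

lemma hasSeparator_MVF : HasSeparator (Adeq.MVF A) :=
  ⟨⟨_, (freeMVF_isSeparating (A := A)).isSeparator_coproduct⟩⟩

lemma isGrothendieckAbelian_MVF : IsGrothendieckAbelian.{u + 1} (Adeq.MVF A) where
  ab5OfSize := ab5_MVF
  hasSeparator := hasSeparator_MVF

lemma enoughInjectives_MVF : EnoughInjectives (Adeq.MVF A) :=
  haveI := isGrothendieckAbelian_MVF (A := A)
  IsGrothendieckAbelian.enoughInjectives.{u + 1}

end Groth.Agent.H44
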