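import Groth.Agent.H44.MVFFree
import Groth.Prelude.Def_W4stkadequateTF

/-!
# Injective module-valued functors: surjectivity along surjective algebra maps
-/

set_option autoImplicit false
universe u
open CategoryTheory Limits Opposite

namespace Groth.Agent.H44

variable {A : Type u} [CommRing A]

open Adeq

/-- precomposition with `q : C ⟶ C'` on index sets. -/
def precompIdx {C C' : Alg A} (q : C ⟶ C') (D : Alg A) : FreeIdx C' D → FreeIdx C D :=
  fun u => ⟨q ≫ u.down⟩

lemma precompIdx_injective {C C' : Alg A} (q : C ⟶ C') (hq : Function.Surjective q.hom)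
    (D : Alg A) : Function.Injective (precompIdx q D) := by
  intro u v h
  have h' : q ≫ u.down = q ≫ v.down := congrArg ULift.down h
  apply ULift.ext
  apply CommAlgCat.hom_ext
  apply AlgHom.ext
  intro c'
  obtain ⟨c, rfl⟩ := hq c'
  have := congrArg (fun φ => φ.hom c) h'
  simpa using this

/-- The map `freeMVF C' ⟶ freeMVF C` induced by `q : C ⟶ C'`. -/
noncomputable def freePrecomp {C C' : Alg A} (q : C ⟶ C') : freeMVF C' ⟶ freeMVF C :=
  PresheafOfModules.homMk (M₁ := freeMVF C') (M₂ := freeMVF C)
    { app X := AddCommGrpCat.ofHom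
        (Finsupp.lmapDomain X.unop.unop X.unop.unop (precompIdx q X.unop.unop)).toAddMonoidHom
      naturality {X Y} f := by
        apply AddCommGrpCat.hom_ext
        apply AddMonoidHom.ext
        intro p
        change Finsupp.mapDomain (precompIdx q Y.unop.unop) (freeMapAdd C' f.unop.unop p) =
          freeMapAdd C f.unop.unop (Finsupp.mapDomain (precompIdx q X.unop.unop) p)
        induction p using Finsupp.induction_linear with
        | zero => simp
        | add p q hp hq => rw [map_add, Finsupp.mapDomain_add, hp, hq, Finsupp.mapDomain_add, map_add]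
        | single u d =>
          rw [freeMapAdd_single, Finsupp.mapDomain_single, Finsupp.mapDomain_single,
            freeMapAdd_single]
          simp [precompIdx] }
    (by
      intro X r m
      exact (Finsupp.lmapDomain X.unop.unop X.unop.unop (precompIdx q X.unop.unop)).map_smul r m)

lemma freePrecomp_mono {C C' : Alg A} (q : C ⟶ C') (hq : Function.Surjective q.hom) :
    Mono (freePrecomp q) := by
  apply PresheafOfModules.mono_of_injective
  intro X
  exact Finsupp.mapDomain_injective (precompIdx_injective q hq X.unop.unop)

lemma freePrecomp_gen {C C' : Alg A} (q : C ⟶ C') :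
    (freePrecomp q).app (pt C') (freeGen C') = (freeMVF C).map (ptHom q) (freeGen C) := by
  change Finsupp.mapDomain (precompIdx q C') (Finsupp.single (⟨𝟙 C'⟩ : FreeIdx C' C') (1 : C')) =
    freeMapAdd C q (Finsupp.single (⟨𝟙 C⟩ : FreeIdx C C) (1 : C))
  rw [Finsupp.mapDomain_single, freeMapAdd_single]
  simp [precompIdx]

/-- An injective module-valued functor sends surjective algebra maps to surjective maps. -/
theorem injective_map_surjective (I : MVF A) [Injective I] {C C' : Alg A} (q : C ⟶ C')
    (hq : Function.Surjective q.hom) (y : I.obj (pt C')) :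
    ∃ x : I.obj (pt C), I.map (ptHom q) x = y := by
  have := freePrecomp_mono q hq
  let ψ : freeMVF C ⟶ I := Injective.factorThru (freeDesc C' I y) (freePrecomp q)
  have hψ : freePrecomp q ≫ ψ = freeDesc C' I y := Injective.comp_factorThru _ _
  refine ⟨ψ.app (pt C) (freeGen C), ?_⟩
  have h1 : I.map (ptHom q) (ψ.app (pt C) (freeGen C)) =
      ψ.app (pt C') ((freeMVF C).map (ptHom q) (freeGen C)) :=
    (PresheafOfModules.naturality_apply ψ (ptHom q) (freeGen C)).symm
  rw [h1, ← freePrecomp_gen]
  have h2 := congrArg (fun φ => (φ.app (pt C')) (freeGen C')) hψ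
  simp only [PresheafOfModules.comp_app] at h2
  change ψ.app (pt C') ((freePrecomp q).app (pt C') (freeGen C')) =
    (freeDesc C' I y).app (pt C') (freeGen C') at h2
  rw [h2]
  exact freeDesc_gen C' I y

end Groth.Agent.H44
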