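import Mathlib.RingTheory.MvPowerSeries.Inverse
import Mathlib.RingTheory.MvPowerSeries.Derivative
import Mathlib.RingTheory.Nakayama
import Mathlib.RingTheory.LocalRing.MaximalIdeal.Basic

set_option autoImplicit false
universe u

namespace Groth.Agent.H44

open MvPowerSeries Finsupp

section decomp

variable {σ : Type*} [Fintype σ] [LinearOrder σ] {R : Type*} [CommRing R]

/-- the part of `g` consisting of the monomials whose smallest variable is `i`, divided by `X i`. -/
noncomputable def leadPart (g : MvPowerSeries σ R) (i : σ) : MvPowerSeries σ R :=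
  fun d => if (d + single i 1).support.min = (i : WithTop σ) then coeff (d + single i 1) g else 0

omit [Fintype σ] in
theorem coeff_leadPart (g : MvPowerSeries σ R) (i : σ) (d : σ →₀ ℕ) :
    coeff d (leadPart g i) =
      if (d + single i 1).support.min = (i : WithTop σ) then coeff (d + single i 1) g else 0 :=
  rfl

omit [Fintype σ] in
theorem constantCoeff_leadPart (g : MvPowerSeries σ R) (i : σ) :
    constantCoeff (leadPart g i) = coeff (single i 1) g := by
  rw [← coeff_zero_eq_constantCoeff_apply, coeff_leadPart, zero_add,
    Finsupp.support_single_ne_zero i one_ne_zero, Finset.min_singleton, if_pos rfl]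

omit [Fintype σ] in
theorem coeff_X_mul_leadPart (g : MvPowerSeries σ R) (i : σ) (d : σ →₀ ℕ) :
    coeff d (X i * leadPart g i) =
      if d.support.min = (i : WithTop σ) then coeff d g else 0 := by
  rw [X_def, coeff_monomial_mul, one_mul]
  by_cases hle : single i 1 ≤ d
  · rw [if_pos hle, coeff_leadPart, tsub_add_cancel_of_le hle]
  · rw [if_neg hle, if_neg]
    intro hmin
    apply hle
    have hi : i ∈ d.support := Finset.mem_of_min hmin
    rw [Finsupp.mem_support_iff] at hi
    intro j
    by_cases hj : j = i
    · subst hj
      rw [Finsupp.single_eq_same]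
      exact Nat.one_le_iff_ne_zero.mpr hi
    · rw [Finsupp.single_eq_of_ne hj]
      exact Nat.zero_le _

/-- A power series in finitely many variables with zero constant term is a combination of the
variables. -/
theorem eq_sum_X_mul_leadPart (g : MvPowerSeries σ R) (hg : constantCoeff g = 0) :
    g = ∑ i, X i * leadPart g i := by
  classical
  ext d
  rw [map_sum]
  simp only [coeff_X_mul_leadPart]
  by_cases hd : d = 0
  · subst hd
    rw [coeff_zero_eq_constantCoeff_apply, hg]
    symm
    apply Finset.sum_eq_zero
    intro i _
    rw [if_neg]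
    rw [Finsupp.support_zero, Finset.min_empty]
    exact WithTop.top_ne_coe
  · have hne : d.support.Nonempty := Finsupp.support_nonempty_iff.mpr hd
    obtain ⟨i₀, hi₀⟩ := Finset.min_of_nonempty hne
    rw [Finset.sum_eq_single i₀]
    · rw [if_pos hi₀]
    · intro j _ hj
      rw [if_neg]
      rw [hi₀]
      intro h
      exact hj (WithTop.coe_injective h).symm
    · intro h
      exact absurd (Finset.mem_univ _) h

end decomp

section field

variable {σ : Type*} [Fintype σ] [LinearOrder σ] {k : Type*} [Field k]

omit [Fintype σ] [LinearOrder σ] in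
theorem mem_maximalIdeal_iff (g : MvPowerSeries σ k) :
    g ∈ IsLocalRing.maximalIdeal (MvPowerSeries σ k) ↔ constantCoeff g = 0 := by
  rw [IsLocalRing.mem_maximalIdeal, mem_nonunits_iff, MvPowerSeries.isUnit_iff_constantCoeff,
    isUnit_iff_ne_zero, not_not]

theorem maximalIdeal_eq_span_X :
    IsLocalRing.maximalIdeal (MvPowerSeries σ k) = Ideal.span (Set.range (X : σ → _)) := by
  apply le_antisymm
  · intro g hg
    rw [mem_maximalIdeal_iff] at hg
    rw [eq_sum_X_mul_leadPart g hg]
    refine sum_mem fun i _ => ?_
    exact Ideal.mul_mem_right _ _ (Ideal.subset_span ⟨i, rfl⟩)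
  · rw [Ideal.span_le]
    rintro _ ⟨i, rfl⟩
    rw [SetLike.mem_coe, mem_maximalIdeal_iff, constantCoeff_X]

/-- A power series without constant term is congruent to its linear part modulo `m²`. -/
theorem sub_linear_mem_sq (g : MvPowerSeries σ k) (hg : constantCoeff g = 0) :
    g - ∑ i, C (coeff (single i 1) g) * X i ∈
      IsLocalRing.maximalIdeal (MvPowerSeries σ k) * IsLocalRing.maximalIdeal (MvPowerSeries σ k) := by
  have h1 : g - ∑ i, C (coeff (single i 1) g) * X i =
      ∑ i, X i * (leadPart g i - C (coeff (single i 1) g)) := by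
    have h0 := eq_sum_X_mul_leadPart g hg
    have h2 : ∑ i, X i * (leadPart g i - C (coeff (single i 1) g)) =
        (∑ i, X i * leadPart g i) - ∑ i, C (coeff (single i 1) g) * X i := by
      rw [← Finset.sum_sub_distrib]
      apply Finset.sum_congr rfl
      intro i _
      ring
    rw [h2, ← h0]
  rw [h1]
  refine sum_mem fun i _ => ?_
  apply Ideal.mul_mem_mul
  · rw [mem_maximalIdeal_iff, constantCoeff_X]
  · rw [mem_maximalIdeal_iff, map_sub, constantCoeff_leadPart, constantCoeff_C, sub_self]

end field

end Groth.Agent.H44

namespace Groth.Agent.H44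

open MvPowerSeries Finsupp

section order

variable {σ : Type*} [Fintype σ] {k : Type*} [Field k]

/-- order-free version of the decomposition lemma -/
theorem exists_eq_sum_X_mul (g : MvPowerSeries σ k) (hg : constantCoeff g = 0) :
    ∃ h : σ → MvPowerSeries σ k, g = ∑ a, X a * h a ∧
      ∀ a, constantCoeff (h a) = coeff (single a 1) g := by
  classical
  let _ : LinearOrder σ := LinearOrder.lift' (Fintype.equivFin σ) (Fintype.equivFin σ).injective
  exact ⟨leadPart g, eq_sum_X_mul_leadPart g hg, constantCoeff_leadPart g⟩

theorem maximalIdeal_eq_span_X' :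
    IsLocalRing.maximalIdeal (MvPowerSeries σ k) = Ideal.span (Set.range (X : σ → _)) := by
  classical
  let _ : LinearOrder σ := LinearOrder.lift' (Fintype.equivFin σ) (Fintype.equivFin σ).injective
  exact maximalIdeal_eq_span_X

/-- A power series all of whose coefficients in degree `< n` vanish lies in `m ^ n`. -/
theorem mem_pow_of_coeff_eq_zero (n : ℕ) (h : MvPowerSeries σ k)
    (hh : ∀ d : σ →₀ ℕ, d.degree < n → coeff d h = 0) :
    h ∈ IsLocalRing.maximalIdeal (MvPowerSeries σ k) ^ n := by
  classical
  let _ : LinearOrder σ := LinearOrder.lift' (Fintype.equivFin σ) (Fintype.equivFin σ).injective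
  induction n generalizing h with
  | zero => rw [pow_zero, Ideal.one_eq_top]; trivial
  | succ n ih =>
    have h0 : constantCoeff h = 0 := by
      rw [← coeff_zero_eq_constantCoeff_apply]
      exact hh 0 (by rw [map_zero]; exact Nat.succ_pos n)
    rw [eq_sum_X_mul_leadPart h h0, pow_succ']
    refine sum_mem fun i _ => ?_
    apply Ideal.mul_mem_mul
    · rw [mem_maximalIdeal_iff, constantCoeff_X]
    · apply ih
      intro d hd
      rw [coeff_leadPart]
      split_ifs
      · apply hh
        rw [map_add, Finsupp.degree_single]
        omega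
      · rfl

omit [Fintype σ] in
/-- Partial derivatives lower the order by at most one. -/
theorem coeff_pderiv_eq_zero_of_coeff_eq_zero (n : ℕ) (h : MvPowerSeries σ k)
    (hh : ∀ d : σ →₀ ℕ, d.degree < n + 1 → coeff d h = 0) (a : σ) (d : σ →₀ ℕ)
    (hd : d.degree < n) : coeff d (pderiv k a h) = 0 := by
  rw [coeff_pderiv, hh, zero_mul]
  rw [map_add, Finsupp.degree_single]
  omega

end order

end Groth.Agent.H44
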