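import Groth.Agent.H44.OmegaSection
import Groth.Agent.H44.AffineModules
import Mathlib.Algebra.Category.ModuleCat.Sheaf.PullbackFree
import Mathlib.CategoryTheory.Monoidal.Cartesian.Over
import Mathlib.CategoryTheory.Monoidal.Cartesian.Grp

/-!
# `Ω_{G/S} ≅ f^* C_e` for a group scheme (helper44)

`shearIso`, `unitSection` (in any cartesian monoidal category with a group object),
`isPullback_mul_left` (the multiplication square of a group scheme over `S` is cartesian),
`nonempty_omega_iso_pullback_conormal_unit`, `exists_iso_free_of_field`, `pullbackFreeIso'`,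
`exists_omega_iso_free_of_field`.
-/

set_option autoImplicit false
universe u v
open CategoryTheory MonoidalCategory CartesianMonoidalCategory MonObj GrpObj AlgebraicGeometry Limits

namespace Groth.Agent.H44

section Shear
variable {C : Type u} [Category.{v} C] [CartesianMonoidalCategory C] (G : C) [GrpObj G]

/-- The shear isomorphism `(a, b) ↦ (ab, b)`. -/
def shearIso : G ⊗ G ≅ G ⊗ G where
  hom := lift μ[G] (snd G G)
  inv := lift (fst G G * (snd G G)⁻¹) (snd G G)
  hom_inv_id := by
    apply CartesianMonoidalCategory.hom_ext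
    · rw [Category.assoc, lift_fst, MonObj.comp_mul, GrpObj.comp_inv, lift_fst, lift_snd,
        Category.id_comp, MonObj.mul_eq_mul, mul_inv_cancel_right]
    · rw [Category.assoc, lift_snd, lift_snd, Category.id_comp]
  inv_hom_id := by
    apply CartesianMonoidalCategory.hom_ext
    · rw [Category.assoc, lift_fst, Category.id_comp, MonObj.mul_eq_mul, MonObj.comp_mul, lift_fst,
        lift_snd, inv_mul_cancel_right]
    · rw [Category.assoc, lift_snd, lift_snd, Category.id_comp]

/-- The section `g ↦ (e, g)`. -/
def unitSection : G ⟶ G ⊗ G := lift (toUnit G ≫ η[G]) (𝟙 G)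

theorem unitSection_fst : unitSection G ≫ fst G G = toUnit G ≫ η[G] := lift_fst _ _
theorem unitSection_snd : unitSection G ≫ snd G G = 𝟙 G := lift_snd _ _
theorem unitSection_mul : unitSection G ≫ μ[G] = 𝟙 G := by
  unfold unitSection
  rw [← Hom.mul_def, ← Hom.one_def, _root_.one_mul]

end Shear

section FreeField

instance final_opensMap' {X Y : TopCat.{u}} (f : X ⟶ Y) : (TopologicalSpace.Opens.map f).Final := by
  apply Functor.final_of_exists_of_isFiltered
  · intro V
    exact ⟨⊤, ⟨homOfLE (by intro x _; trivial)⟩⟩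
  · intro V U s s'
    exact ⟨U, 𝟙 _, Subsingleton.elim _ _⟩

set_option backward.isDefEq.respectTransparency.types false in
/-- The pullback of a free sheaf of modules is free. -/
noncomputable def pullbackFreeIso' {X Y : Scheme.{u}} (f : X ⟶ Y) (I : Type u) :
    (Scheme.Modules.pullback f).obj (SheafOfModules.free (R := Y.ringCatSheaf) I) ≅
      SheafOfModules.free (R := X.ringCatSheaf) I :=
  SheafOfModules.pullbackObjFreeIso f.toRingCatSheafHom I

/-- A quasi-coherent module on (a scheme isomorphic to) the spectrum of a field is free. -/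
theorem exists_iso_free_of_field {S : Scheme.{u}} (K : Type u) [Field K]
    (a : S ≅ Spec (CommRingCat.of K)) (C : S.Modules) [C.IsQuasicoherent] :
    ∃ I : Type u, Nonempty (C ≅ SheafOfModules.free (R := S.ringCatSheaf) I) := by
  let N : (Spec (CommRingCat.of K)).Modules := (Scheme.Modules.pullback a.inv).obj C
  haveI : N.IsQuasicoherent := inferInstance
  letI : Module K (gammaSpec N : Type u) := inferInstanceAs (Module (CommRingCat.of K) (gammaSpec N))
  haveI : Module.Free K (gammaSpec N : Type u) := Module.Free.of_divisionRing K _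
  let b := Module.Free.chooseBasis K (gammaSpec N : Type u)
  obtain ⟨e⟩ := nonempty_iso_free_of_basis N b
  refine ⟨_, ⟨(Scheme.Modules.pullbackId S).symm.app C ≪≫
    (Scheme.Modules.pullbackCongr a.hom_inv_id.symm).app C ≪≫
    ((Scheme.Modules.pullbackComp a.hom a.inv).symm.app C) ≪≫
    (Scheme.Modules.pullback a.hom).mapIso e ≪≫ pullbackFreeIso' a.hom _⟩⟩

end FreeField

section OverS
variable {S : Scheme.{u}} (G : Over S) [GrpObj G]

theorem isPullback_mul_left :
    IsPullback μ[G].left (pullback.snd G.hom G.hom) G.hom G.hom := by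
  refine IsPullback.of_iso_pullback ⟨?_⟩ ((Over.forget S).mapIso (shearIso G)) ?_ ?_
  · have h := Over.w μ[G]
    rw [h]
    exact pullback.condition
  · exact congrArg CommaMorphism.left (lift_fst μ[G] (snd G G))
  · exact congrArg CommaMorphism.left (lift_snd μ[G] (snd G G))

theorem unit_left_comp_hom : η[G].left ≫ G.hom = 𝟙 S := Over.w η[G]

theorem unitSection_left_fst :
    (unitSection G).left ≫ pullback.fst G.hom G.hom = G.hom ≫ η[G].left :=
  congrArg CommaMorphism.left (unitSection_fst G)

theorem unitSection_left_mul : (unitSection G).left ≫ μ[G].left = 𝟙 G.left :=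
  congrArg CommaMorphism.left (unitSection_mul G)

/-- `Ω_{G/S} ≅ f^* C_e` for a group scheme `G` over `S` with quasi-separated structure map. -/
theorem nonempty_omega_iso_pullback_conormal_unit [QuasiSeparated G.hom] :
    Nonempty (Omega.sheaf G.hom ≅
      (Scheme.Modules.pullback G.hom).obj (Omega.conormal η[G].left)) := by
  obtain ⟨i1⟩ := nonempty_pullback_omega_iso_of_isPullback (IsPullback.of_hasPullback G.hom G.hom)
  obtain ⟨i2⟩ := nonempty_pullback_omega_iso_of_isPullback (isPullback_mul_left G)
  obtain ⟨i3⟩ := nonempty_conormal_iso_pullback_of_section G.hom η[G].left (unit_left_comp_hom G)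
    (OmegaSh.dOmega G.hom) (isUniversal_dOmega G.hom)
  set Ω := Omega.sheaf G.hom
  set ε := (unitSection G).left
  exact ⟨(Scheme.Modules.pullbackId G.left).symm.app Ω ≪≫
    (Scheme.Modules.pullbackCongr (unitSection_left_mul G).symm).app Ω ≪≫
    ((Scheme.Modules.pullbackComp ε μ[G].left).symm.app Ω) ≪≫
    (Scheme.Modules.pullback ε).mapIso (i2 ≪≫ i1.symm) ≪≫
    (Scheme.Modules.pullbackComp ε (pullback.fst G.hom G.hom)).app Ω ≪≫
    (Scheme.Modules.pullbackCongr (unitSection_left_fst G)).app Ω ≪≫
    ((Scheme.Modules.pullbackComp G.hom η[G].left).symm.app Ω) ≪≫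
    (Scheme.Modules.pullback G.hom).mapIso i3.symm⟩

/-- Over (a scheme isomorphic to) the spectrum of a field, `Ω_{G/S}` is free. -/
theorem exists_omega_iso_free_of_field [QuasiSeparated G.hom] (K : Type u) [Field K]
    (a : S ≅ Spec (CommRingCat.of K)) :
    ∃ I : Type u, Nonempty (Omega.sheaf G.hom ≅ ∐ fun _ : I => Coh.structureModule G.left) := by
  obtain ⟨i0⟩ := nonempty_omega_iso_pullback_conormal_unit G
  obtain ⟨I, ⟨i1⟩⟩ := exists_iso_free_of_field K a (Omega.conormal η[G].left)
  exact ⟨I, ⟨i0 ≪≫ (Scheme.Modules.pullback G.hom).mapIso i1 ≪≫ pullbackFreeIso' G.hom I⟩⟩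

end OverS

end Groth.Agent.H44
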