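import Groth.Agent.H44.OmegaSection
import Groth.Agent.H44.ConormalSquare
import Groth.Prelude.Def_Grpd

/-!
# `s^*C_e ⟶ Ω_{R/U}` for a groupoid scheme (helper44)

`GroupoidCalc`: calculus of `T`-points of a `Grpd.GroupoidScheme` (`comp`, `comp_congr`, `precomp`,
`divMap : R ×_{t,U,t} R ⟶ R`, `(α, β) ↦ α⁻¹ ∘ β`, `div_comp`, `comp_div`),
`isPullback_diagonal_divMap` (the diagonal of `t` is the base change of `e` along `divMap`),
`isPullback_fst_divMap` (`divMap` is the base change of `s` along `t`),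
`groupoid_pullback_conormal_e_omega_t`.
-/

set_option autoImplicit false
universe u
open CategoryTheory CategoryTheory.Limits AlgebraicGeometry

namespace Groth.Agent.H44

namespace GroupoidCalc
variable {S : Scheme.{u}} (G : Grpd.GroupoidScheme S)

/-- composition of `T`-points. -/
noncomputable def comp {T : Scheme.{u}} (α β : T ⟶ G.R) (h : α ≫ G.s = β ≫ G.t) : T ⟶ G.R :=
  pullback.lift α β h ≫ G.c

variable {G}

theorem comp_congr {T : Scheme.{u}} {α α' β β' : T ⟶ G.R} (hα : α = α') (hβ : β = β')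
    (h : α ≫ G.s = β ≫ G.t) (h' : α' ≫ G.s = β' ≫ G.t) : comp G α β h = comp G α' β' h' := by
  subst hα hβ; rfl

theorem comp_s {T : Scheme.{u}} (α β : T ⟶ G.R) (h : α ≫ G.s = β ≫ G.t) :
    comp G α β h ≫ G.s = β ≫ G.s := G.comp_s α β h

theorem comp_t {T : Scheme.{u}} (α β : T ⟶ G.R) (h : α ≫ G.s = β ≫ G.t) :
    comp G α β h ≫ G.t = α ≫ G.t := G.comp_t α β h

theorem comp_assoc {T : Scheme.{u}} (α β γ : T ⟶ G.R) (h₁ : α ≫ G.s = β ≫ G.t)
    (h₂ : β ≫ G.s = γ ≫ G.t) :
    comp G (comp G α β h₁) γ ((comp_s α β h₁).trans h₂) =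
      comp G α (comp G β γ h₂) (h₁.trans (comp_t β γ h₂).symm) := G.assoc α β γ h₁ h₂

theorem precomp {T T' : Scheme.{u}} (u : T' ⟶ T) (α β : T ⟶ G.R) (h : α ≫ G.s = β ≫ G.t) :
    u ≫ comp G α β h = comp G (u ≫ α) (u ≫ β)
      (by rw [Category.assoc, Category.assoc, h]) := by
  unfold comp
  rw [← Category.assoc]
  congr 1
  apply pullback.hom_ext
  · rw [Category.assoc, pullback.lift_fst, pullback.lift_fst]
  · rw [Category.assoc, pullback.lift_snd, pullback.lift_snd]

theorem comp_e' {T : Scheme.{u}} (α ε : T ⟶ G.R) (hε : ε = α ≫ G.s ≫ G.e)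
    (h : α ≫ G.s = ε ≫ G.t) : comp G α ε h = α := by
  subst hε; exact G.comp_e α

theorem e_comp' {T : Scheme.{u}} (α ε : T ⟶ G.R) (hε : ε = α ≫ G.t ≫ G.e)
    (h : ε ≫ G.s = α ≫ G.t) : comp G ε α h = α := by
  subst hε; exact G.e_comp α

theorem comp_i' {T : Scheme.{u}} (α ι : T ⟶ G.R) (hι : ι = α ≫ G.i)
    (h : α ≫ G.s = ι ≫ G.t) : comp G α ι h = α ≫ G.t ≫ G.e := by
  subst hι; exact G.comp_i α

theorem i_comp' {T : Scheme.{u}} (α ι : T ⟶ G.R) (hι : ι = α ≫ G.i)
    (h : ι ≫ G.s = α ≫ G.t) : comp G ι α h = α ≫ G.s ≫ G.e := by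
  subst hι; exact G.i_comp α

variable (G)

/-- `(α, β) ↦ α⁻¹ ∘ β` on `R ×_{t,U,t} R`. -/
noncomputable def divMap : pullback G.t G.t ⟶ G.R :=
  comp G (pullback.fst G.t G.t ≫ G.i) (pullback.snd G.t G.t)
    (by rw [Category.assoc, G.i_s, pullback.condition])

theorem divMap_eq {T : Scheme.{u}} (a : T ⟶ pullback G.t G.t) :
    a ≫ divMap G = comp G ((a ≫ pullback.fst G.t G.t) ≫ G.i) (a ≫ pullback.snd G.t G.t)
      (by rw [Category.assoc, Category.assoc, G.i_s, Category.assoc, pullback.condition]) := by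
  unfold divMap
  rw [precomp]
  exact comp_congr (Category.assoc _ _ _).symm rfl _ _

theorem diagonal_divMap : pullback.diagonal G.t ≫ divMap G = G.s ≫ G.e := by
  rw [divMap_eq]
  refine (comp_congr (α' := 𝟙 G.R ≫ G.i) (β' := 𝟙 G.R) (by rw [pullback.diagonal_fst])
    (pullback.diagonal_snd _) _ (by rw [Category.assoc, G.i_s, Category.id_comp])).trans ?_
  exact (G.i_comp (𝟙 G.R)).trans (Category.id_comp _)

/-- If `α⁻¹ ∘ β` is an identity then `α = β`. -/
theorem eq_of_div_eq_e {T : Scheme.{u}} (α β : T ⟶ G.R) (hαβ : α ≫ G.t = β ≫ G.t) (b : T ⟶ G.U)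
    (key : comp G (α ≫ G.i) β (by rw [Category.assoc, G.i_s, hαβ]) = b ≫ G.e) :
    b = α ≫ G.s ∧ β = α := by
  have hb2 : b = α ≫ G.s := by
    have h := congrArg (fun x => x ≫ G.t) key
    simp only [comp_t, Category.assoc, G.i_t, G.e_t, Category.comp_id] at h
    exact h.symm
  refine ⟨hb2, ?_⟩
  have h1 : α ≫ G.s = (α ≫ G.i) ≫ G.t := by rw [Category.assoc, G.i_t]
  have h2 : (α ≫ G.i) ≫ G.s = β ≫ G.t := by rw [Category.assoc, G.i_s, hαβ]
  have e1 : comp G α (α ≫ G.i) h1 = β ≫ G.t ≫ G.e := by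
    rw [comp_i' α (α ≫ G.i) rfl h1, ← Category.assoc, hαβ, Category.assoc]
  calc β = comp G (β ≫ G.t ≫ G.e) β
          (by rw [Category.assoc, Category.assoc, G.e_s, Category.comp_id]) :=
        (e_comp' β _ rfl _).symm
    _ = comp G (comp G α (α ≫ G.i) h1) β ((comp_s α (α ≫ G.i) h1).trans h2) :=
        comp_congr e1.symm rfl _ _
    _ = comp G α (comp G (α ≫ G.i) β h2) (h1.trans (comp_t (α ≫ G.i) β h2).symm) :=
        comp_assoc α (α ≫ G.i) β h1 h2
    _ = comp G α (b ≫ G.e) (by rw [Category.assoc, G.e_t, Category.comp_id, hb2]) :=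
        comp_congr rfl key _ _
    _ = α := comp_e' α _ (by rw [hb2, Category.assoc]) _

/-- The diagonal of `t` is the base change of the identity section `e` along `(α, β) ↦ α⁻¹ ∘ β`. -/
theorem isPullback_diagonal_divMap :
    IsPullback (pullback.diagonal G.t) G.s (divMap G) G.e := by
  refine IsPullback.of_isLimit (PullbackCone.IsLimit.mk (diagonal_divMap G)
    (fun c => c.fst ≫ pullback.fst G.t G.t) ?_ ?_ ?_)
  · intro c
    have key := c.condition
    rw [divMap_eq] at key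
    obtain ⟨-, hβα⟩ := eq_of_div_eq_e G (c.fst ≫ pullback.fst G.t G.t)
      (c.fst ≫ pullback.snd G.t G.t) (by rw [Category.assoc, Category.assoc, pullback.condition])
      c.snd key
    apply pullback.hom_ext
    · rw [Category.assoc, pullback.diagonal_fst, Category.comp_id]
    · rw [Category.assoc, pullback.diagonal_snd, Category.comp_id, hβα]
  · intro c
    have key := c.condition
    rw [divMap_eq] at key
    obtain ⟨hb, -⟩ := eq_of_div_eq_e G (c.fst ≫ pullback.fst G.t G.t)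
      (c.fst ≫ pullback.snd G.t G.t) (by rw [Category.assoc, Category.assoc, pullback.condition])
      c.snd key
    exact hb.symm
  · intro c m hm _
    rw [← hm, Category.assoc, pullback.diagonal_fst, Category.comp_id]

theorem fst_s_eq_divMap_t : pullback.fst G.t G.t ≫ G.s = divMap G ≫ G.t := by
  unfold divMap
  rw [comp_t, Category.assoc, G.i_t]

/-- `α⁻¹ ∘ (α ∘ γ) = γ`. -/
theorem div_comp {T : Scheme.{u}} (α γ : T ⟶ G.R) (h : α ≫ G.s = γ ≫ G.t) :
    comp G (α ≫ G.i) (comp G α γ h) (by rw [Category.assoc, G.i_s, comp_t]) = γ := by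
  have h1 : (α ≫ G.i) ≫ G.s = α ≫ G.t := by rw [Category.assoc, G.i_s]
  have e1 : comp G (α ≫ G.i) α h1 = γ ≫ G.t ≫ G.e := by
    rw [i_comp' α (α ≫ G.i) rfl h1, ← Category.assoc, h, Category.assoc]
  calc comp G (α ≫ G.i) (comp G α γ h) _
      = comp G (comp G (α ≫ G.i) α h1) γ ((comp_s (α ≫ G.i) α h1).trans h) :=
        (comp_assoc (α ≫ G.i) α γ h1 h).symm
    _ = comp G (γ ≫ G.t ≫ G.e) γ
          (by rw [Category.assoc, Category.assoc, G.e_s, Category.comp_id]) :=
        comp_congr e1 rfl _ _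
    _ = γ := e_comp' γ _ rfl _

/-- `α ∘ (α⁻¹ ∘ β) = β`. -/
theorem comp_div {T : Scheme.{u}} (α β : T ⟶ G.R) (h : α ≫ G.t = β ≫ G.t) :
    comp G α (comp G (α ≫ G.i) β (by rw [Category.assoc, G.i_s, h]))
      (by rw [comp_t, Category.assoc, G.i_t]) = β := by
  have h1 : α ≫ G.s = (α ≫ G.i) ≫ G.t := by rw [Category.assoc, G.i_t]
  have h2 : (α ≫ G.i) ≫ G.s = β ≫ G.t := by rw [Category.assoc, G.i_s, h]
  have e1 : comp G α (α ≫ G.i) h1 = β ≫ G.t ≫ G.e := by
    rw [comp_i' α (α ≫ G.i) rfl h1, ← Category.assoc, h, Category.assoc]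
  calc comp G α (comp G (α ≫ G.i) β h2) _
      = comp G (comp G α (α ≫ G.i) h1) β ((comp_s α (α ≫ G.i) h1).trans h2) :=
        (comp_assoc α (α ≫ G.i) β h1 h2).symm
    _ = comp G (β ≫ G.t ≫ G.e) β
          (by rw [Category.assoc, Category.assoc, G.e_s, Category.comp_id]) :=
        comp_congr e1 rfl _ _
    _ = β := e_comp' β _ rfl _

/-- `(α, β) ↦ α⁻¹ ∘ β` is the base change of `s` along `t`. -/
theorem isPullback_fst_divMap :
    IsPullback (pullback.fst G.t G.t) (divMap G) G.s G.t := by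
  refine IsPullback.of_isLimit (PullbackCone.IsLimit.mk (fst_s_eq_divMap_t G)
    (fun c => pullback.lift c.fst (comp G c.fst c.snd c.condition) (comp_t _ _ _).symm) ?_ ?_ ?_)
  · intro c
    exact pullback.lift_fst _ _ _
  · intro c
    rw [divMap_eq]
    refine (comp_congr (by rw [pullback.lift_fst]) (pullback.lift_snd _ _ _) _ ?_).trans
      (div_comp G c.fst c.snd c.condition)
    rw [Category.assoc, G.i_s, comp_t]
  · intro c m hm1 hm2
    have hm2' := hm2
    rw [divMap_eq] at hm2'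
    apply pullback.hom_ext
    · rw [hm1, pullback.lift_fst]
    · rw [pullback.lift_snd]
      have hcond : c.fst ≫ G.t = (m ≫ pullback.snd G.t G.t) ≫ G.t := by
        rw [← hm1, Category.assoc, Category.assoc, pullback.condition]
      have h3 := comp_div G c.fst (m ≫ pullback.snd G.t G.t) hcond
      rw [← h3]
      refine comp_congr rfl ?_ _ _
      rw [← hm2']
      exact comp_congr (by rw [hm1]) rfl _ _

end GroupoidCalc

open GroupoidCalc in
/-- `s^*C_e ⟶ Ω_{R/U}` (with `R` over `U` via `t`) is an epimorphism, and an isomorphism if `s` is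
flat. -/
theorem groupoid_pullback_conormal_e_omega_t {S : Scheme.{u}} (G : Grpd.GroupoidScheme S)
    [QuasiSeparated G.t] :
    (∃ φ : (Scheme.Modules.pullback G.s).obj (Omega.conormal G.e) ⟶ Omega.sheaf G.t, Epi φ) ∧
      (Flat G.s →
        Nonempty ((Scheme.Modules.pullback G.s).obj (Omega.conormal G.e) ≅ Omega.sheaf G.t)) := by
  haveI : IsImmersion G.e := isImmersion_of_section G.s G.e G.e_s
  haveI : QuasiCompact G.e := quasiCompact_of_section G.t G.e G.e_t
  haveI : QuasiCompact (pullback.diagonal G.t) := inferInstance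
  have hsq := isPullback_diagonal_divMap G
  obtain ⟨φ, hφ, -⟩ := existsUnique_isConormalMap (pullback.diagonal G.t) G.e (divMap G) G.s
    hsq.w.symm
  obtain ⟨hepi, hiso⟩ := conormalMap_epi_and_isIso_of_isPullback φ hφ hsq
  refine ⟨⟨φ, hepi⟩, fun hflat => ?_⟩
  haveI : Flat (divMap G) :=
    MorphismProperty.of_isPullback (P := @Flat) (isPullback_fst_divMap G) hflat
  have h := hiso inferInstance
  exact ⟨@asIso _ _ _ _ φ h⟩

end Groth.Agent.H44
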