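import Groth.Agent.H44.BaseChangeOmega
import Groth.Agent.H44.KaehlerProduct
import Groth.Agent.H44.QCohEpi

/-!
# Differentials of a fibre product (helper44)

For `Z = X ×_S Y`, `p^*Ω_{X/S} ⨿ q^*Ω_{Y/S} ⟶ Ω_{Z/S}` is an isomorphism (universal receptacles, no
separation hypotheses).
-/

set_option autoImplicit false
universe u
open CategoryTheory Limits Opposite AlgebraicGeometry TopologicalSpace TensorProduct Scheme.Modules

namespace Groth.Agent.H44

section
variable {X Y S Z : Scheme.{u}} {a : X ⟶ S} {b : Y ⟶ S} {p : Z ⟶ X} {q : Z ⟶ Y} {h : Z ⟶ S}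
  (wp : p ≫ a = h) (wq : q ≫ b = h) (hZ : IsPullback p q a b)
  {ΩX : X.Modules} (dX : OmegaSh.Der a ΩX) (hX : OmegaSh.IsUniversal dX)
  {ΩY : Y.Modules} (dY : OmegaSh.Der b ΩY) (hY : OmegaSh.IsUniversal dY)
  {ΩZ : Z.Modules} (dZ : OmegaSh.Der h ΩZ) (hZu : OmegaSh.IsUniversal dZ)
  (c₁ : (Scheme.Modules.pullback p).obj ΩX ⟶ ΩZ) (hc₁ : OmegaSh.IsDiffCompat p dX dZ c₁)
  (c₂ : (Scheme.Modules.pullback q).obj ΩY ⟶ ΩZ) (hc₂ : OmegaSh.IsDiffCompat q dY dZ c₂)

include wp wq hZ hX hY hZu hc₁ hc₂ in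
theorem app_add_bijective_of_isPullback (t : BCChart a b) :
    Function.Bijective (fun x : Γ((Scheme.Modules.pullback p).obj ΩX, t.U' p q) ×
        Γ((Scheme.Modules.pullback q).obj ΩY, t.U' p q) =>
      c₁.app (t.U' p q) x.1 + c₂.app (t.U' p q) x.2) := by
  have hW : IsAffineOpen (t.U' p q) := t.isAffineOpen_U' hZ
  have le : t.U' p q ≤ p ⁻¹ᵁ t.U := inf_le_left
  have le' : t.U' p q ≤ q ⁻¹ᵁ t.V' := inf_le_right
  have e' : t.U' p q ≤ h ⁻¹ᵁ t.V := by
    intro z hz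
    have h1 : p.base z ∈ a ⁻¹ᵁ t.V := t.e (le hz)
    have h2 : h.base z = a.base (p.base z) := by
      rw [← wp]; rfl
    change h.base z ∈ t.V
    rw [h2]
    exact h1
  letI algRA : Algebra Γ(S, t.V) Γ(X, t.U) := (a.appLE t.V t.U t.e).hom.toAlgebra
  letI algRB : Algebra Γ(S, t.V) Γ(Y, t.V') := (b.appLE t.V t.V' t.leV).hom.toAlgebra
  letI algRC : Algebra Γ(S, t.V) Γ(Z, t.U' p q) := (h.appLE t.V (t.U' p q) e').hom.toAlgebra
  letI algAC : Algebra Γ(X, t.U) Γ(Z, t.U' p q) := (p.appLE t.U (t.U' p q) le).hom.toAlgebra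
  letI algBC : Algebra Γ(Y, t.V') Γ(Z, t.U' p q) := (q.appLE t.V' (t.U' p q) le').hom.toAlgebra
  have hcA : a.appLE t.V t.U t.e ≫ p.appLE t.U (t.U' p q) le = h.appLE t.V (t.U' p q) e' := by
    rw [Scheme.Hom.appLE_comp_appLE]
    exact appLE_congr_hom wp _ _ _ _
  have hcB : b.appLE t.V t.V' t.leV ≫ q.appLE t.V' (t.U' p q) le' = h.appLE t.V (t.U' p q) e' := by
    rw [Scheme.Hom.appLE_comp_appLE]
    exact appLE_congr_hom wq _ _ _ _
  haveI t1 : IsScalarTower Γ(S, t.V) Γ(X, t.U) Γ(Z, t.U' p q) :=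
    .of_algebraMap_eq' congr($(hcA.symm).hom)
  haveI t2 : IsScalarTower Γ(S, t.V) Γ(Y, t.V') Γ(Z, t.U' p q) :=
    .of_algebraMap_eq' congr($(hcB.symm).hom)
  have hpo := (isIso_pushoutSection_iff hZ t.leV t.e rfl).1
    (isIso_pushoutSection_of_isAffineOpen hZ t.leV t.e rfl t.hV t.hV' t.hU)
  haveI p1 : Algebra.IsPushout Γ(S, t.V) Γ(X, t.U) Γ(Y, t.V') Γ(Z, t.U' p q) :=
    CommRingCat.isPushout_iff_isPushout.mp hpo
  obtain ⟨E₁, Φ₁, hΦ₁, hμ₁⟩ := exists_chart_description p dX dZ c₁ hc₁ t.hU hW le hX hZu t.hV t.hV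
    t.e e'
  obtain ⟨E₂, Φ₂, hΦ₂, hμ₂⟩ := exists_chart_description q dY dZ c₂ hc₂ t.hV' hW le' hY hZu t.hV t.hV
    t.leV e'
  have hΦ : ∀ z, Φ₂ z = Φ₁ z := by
    have : Φ₂.toLinearMap ∘ₗ Φ₁.symm.toLinearMap = LinearMap.id := by
      apply Derivation.liftKaehlerDifferential_unique
      ext s
      change Φ₂ (Φ₁.symm (KaehlerDifferential.D _ _ s)) = KaehlerDifferential.D _ _ s
      have h0 : Φ₁.symm (KaehlerDifferential.D Γ(S, t.V) Γ(Z, t.U' p q) s) = dZ.app (t.U' p q) s := by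
        rw [LinearEquiv.symm_apply_eq, hΦ₁]
      rw [h0, hΦ₂]
    intro z
    have h1 := congrArg (fun l => l (Φ₁ z)) this
    simpa using h1
  have h1 := hμ₁ (KaehlerDifferential.mapBaseChange Γ(S, t.V) Γ(X, t.U) Γ(Z, t.U' p q))
    (fun a' s => by
      rw [KaehlerDifferential.mapBaseChange_tmul, KaehlerDifferential.map_D]
      rfl)
  have h2 := hμ₂ (KaehlerDifferential.mapBaseChange Γ(S, t.V) Γ(Y, t.V') Γ(Z, t.U' p q))
    (fun a' s => by
      rw [KaehlerDifferential.mapBaseChange_tmul, KaehlerDifferential.map_D]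
      rfl)
  have key : (fun x : Γ((Scheme.Modules.pullback p).obj ΩX, t.U' p q) ×
        Γ((Scheme.Modules.pullback q).obj ΩY, t.U' p q) =>
      c₁.app (t.U' p q) x.1 + c₂.app (t.U' p q) x.2) = fun x => Φ₁.symm
        ((fun y : (Γ(Z, t.U' p q) ⊗[Γ(X, t.U)] Ω[Γ(X, t.U)⁄Γ(S, t.V)]) ×
            (Γ(Z, t.U' p q) ⊗[Γ(Y, t.V')] Ω[Γ(Y, t.V')⁄Γ(S, t.V)]) =>
          KaehlerDifferential.mapBaseChange Γ(S, t.V) Γ(X, t.U) Γ(Z, t.U' p q) y.1 +
            KaehlerDifferential.mapBaseChange Γ(S, t.V) Γ(Y, t.V') Γ(Z, t.U' p q) y.2)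
          (E₁ x.1, E₂ x.2)) := by
    funext x
    rw [LinearEquiv.eq_symm_apply, map_add, h1, ← hΦ, h2]
  rw [key]
  refine Φ₁.symm.bijective.comp ((kaehler_pushout_bijective Γ(S, t.V) Γ(X, t.U) Γ(Y, t.V')
    Γ(Z, t.U' p q)).comp ?_)
  exact ⟨fun x y hxy => Prod.ext (E₁.injective (congrArg Prod.fst hxy))
    (E₂.injective (congrArg Prod.snd hxy)),
    fun y => ⟨(E₁.symm y.1, E₂.symm y.2), by simp⟩⟩

include wp wq hZ hX hY hZu hc₁ hc₂ in
/-- **Differentials of a fibre product**: `p^*Ω_{X/S} ⨿ q^*Ω_{Y/S} ⟶ Ω_{Z/S}` is an isomorphism. -/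
theorem isIso_coprod_desc_of_isPullback : IsIso (coprod.desc c₁ c₂) := by
  haveI := isQuasicoherent_of_isUniversal dX hX
  haveI := isQuasicoherent_of_isUniversal dY hY
  haveI := isQuasicoherent_of_isUniversal dZ hZu
  haveI hb : ((Scheme.Modules.pullback p).obj ΩX ⊞ (Scheme.Modules.pullback q).obj ΩY).IsQuasicoherent :=
    Groth.Agent.H12.QCohAbelian.isQuasicoherent_biprod _ _
  haveI hcop : ((Scheme.Modules.pullback p).obj ΩX ⨿ (Scheme.Modules.pullback q).obj ΩY).IsQuasicoherent :=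
    Groth.Agent.H12.QCohAbelian.isQuasicoherent_of_iso (biprod.isoCoprod _ _)
  have hbij := app_add_bijective_of_isPullback wp wq hZ dX hX dY hY dZ hZu c₁ hc₁ c₂ hc₂
  have hinl : ∀ (N : Z.Opens) (x : Γ((Scheme.Modules.pullback p).obj ΩX, N)),
      (coprod.desc c₁ c₂).app N ((coprod.inl : _ ⟶ (Scheme.Modules.pullback p).obj ΩX ⨿
        (Scheme.Modules.pullback q).obj ΩY).app N x) = c₁.app N x := by
    intro N x
    have := congrArg (fun φ => Scheme.Modules.Hom.app φ N x) (coprod.inl_desc c₁ c₂)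
    exact this
  have hinr : ∀ (N : Z.Opens) (y : Γ((Scheme.Modules.pullback q).obj ΩY, N)),
      (coprod.desc c₁ c₂).app N ((coprod.inr : _ ⟶ (Scheme.Modules.pullback p).obj ΩX ⨿
        (Scheme.Modules.pullback q).obj ΩY).app N y) = c₂.app N y := by
    intro N y
    have := congrArg (fun φ => Scheme.Modules.Hom.app φ N y) (coprod.inr_desc c₁ c₂)
    exact this
  haveI : Epi (coprod.desc c₁ c₂) := by
    refine epi_of_surjective_on_cover _ (fun t : BCChart a b => t.U' p q)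
      (fun x => exists_bcChart hZ x) (fun t => t.isAffineOpen_U' hZ) ?_
    intro t z
    obtain ⟨⟨x, y⟩, hxy⟩ := (hbij t).2 z
    refine ⟨(coprod.inl : _ ⟶ (Scheme.Modules.pullback p).obj ΩX ⨿
        (Scheme.Modules.pullback q).obj ΩY).app _ x + (coprod.inr : _ ⟶ (Scheme.Modules.pullback p).obj ΩX ⨿
        (Scheme.Modules.pullback q).obj ΩY).app _ y, ?_⟩
    rw [map_add, hinl, hinr]
    exact hxy
  haveI : Mono (coprod.desc c₁ c₂) := by
    haveI hK : (kernel (coprod.desc c₁ c₂)).IsQuasicoherent :=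
      Groth.Agent.H12.QCohAbelian.isQuasicoherent_kernel _
    have hK0 : IsZero (kernel (coprod.desc c₁ c₂)) := by
      refine Groth.Agent.H12.QCohIso.isZero_of_sections_eq_zero _ (fun t : BCChart a b => t.U' p q)
        (fun x => exists_bcChart hZ x) (fun t => t.isAffineOpen_U' hZ) ?_
      intro t k
      apply Groth.Agent.H12.QCohAbelian.app_injective_of_mono (kernel.ι (coprod.desc c₁ c₂)) (t.U' p q)
      rw [map_zero]
      set m := (kernel.ι (coprod.desc c₁ c₂)).app (t.U' p q) k with hm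
      let fst : (Scheme.Modules.pullback p).obj ΩX ⨿ (Scheme.Modules.pullback q).obj ΩY ⟶
          (Scheme.Modules.pullback p).obj ΩX := coprod.desc (𝟙 _) 0
      let snd : (Scheme.Modules.pullback p).obj ΩX ⨿ (Scheme.Modules.pullback q).obj ΩY ⟶
          (Scheme.Modules.pullback q).obj ΩY := coprod.desc 0 (𝟙 _)
      have hid : fst ≫ coprod.inl + snd ≫ coprod.inr = 𝟙 _ := by
        apply coprod.hom_ext
        · rw [Preadditive.comp_add, ← Category.assoc, ← Category.assoc, coprod.inl_desc,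
            coprod.inl_desc, Category.id_comp, zero_comp, add_zero, Category.comp_id]
        · rw [Preadditive.comp_add, ← Category.assoc, ← Category.assoc, coprod.inr_desc,
            coprod.inr_desc, Category.id_comp, zero_comp, zero_add, Category.comp_id]
      have hm1 : m = (coprod.inl : _ ⟶ (Scheme.Modules.pullback p).obj ΩX ⨿
          (Scheme.Modules.pullback q).obj ΩY).app _ (fst.app _ m) +
          (coprod.inr : _ ⟶ (Scheme.Modules.pullback p).obj ΩX ⨿
          (Scheme.Modules.pullback q).obj ΩY).app _ (snd.app _ m) := by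
        have := congrArg (fun φ => Scheme.Modules.Hom.app φ (t.U' p q) m) hid
        exact this.symm
      have hm0 : (coprod.desc c₁ c₂).app (t.U' p q) m = 0 := by
        have := congrArg (fun φ => Scheme.Modules.Hom.app φ (t.U' p q) k)
          (kernel.condition (coprod.desc c₁ c₂))
        exact this
      have h0 : c₁.app (t.U' p q) (fst.app _ m) + c₂.app (t.U' p q) (snd.app _ m) = 0 := by
        rw [← hinl, ← hinr, ← map_add, ← hm1, hm0]
      have h00 : c₁.app (t.U' p q) 0 + c₂.app (t.U' p q) 0 = 0 := by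
        rw [map_zero, map_zero, add_zero]
      have := (hbij t).1 (a₁ := (fst.app _ m, snd.app _ m)) (a₂ := (0, 0)) (h0.trans h00.symm)
      have e1 : fst.app (t.U' p q) m = 0 := congrArg Prod.fst this
      have e2 : snd.app (t.U' p q) m = 0 := congrArg Prod.snd this
      rw [hm1, e1, e2, map_zero, map_zero, add_zero]
    exact Preadditive.mono_of_kernel_zero (hK0.eq_of_src _ _)
  exact isIso_of_mono_of_epi _

end
end Groth.Agent.H44
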