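import Groth.Agent.H44.OmegaSections
import Mathlib.AlgebraicGeometry.Morphisms.FormallyUnramified

set_option autoImplicit false
universe u
open CategoryTheory Limits Opposite AlgebraicGeometry TopologicalSpace Scheme.Modules

namespace Groth.Agent.H44

section Unramified
variable {X S : Scheme.{u}} (f : X ⟶ S)

/-- Affine opens of `X` mapping into affine opens of `S` form a basis. -/
theorem isBasis_affine_le_preimage :
    Opens.IsBasis {U : X.Opens | IsAffineOpen U ∧ ∃ V : S.Opens, IsAffineOpen V ∧ U ≤ f ⁻¹ᵁ V} := by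
  rw [Opens.isBasis_iff_nbhd]
  intro O x hx
  obtain ⟨V, hV, hxV, -⟩ := Opens.isBasis_iff_nbhd.mp S.isBasis_affineOpens
    (show f.base x ∈ (⊤ : S.Opens) from trivial)
  obtain ⟨U, hU, hxU, hUO⟩ := Opens.isBasis_iff_nbhd.mp X.isBasis_affineOpens
    (show x ∈ O ⊓ f ⁻¹ᵁ V from ⟨hx, hxV⟩)
  exact ⟨U, ⟨hU, V, hV, hUO.trans inf_le_right⟩, hxU, hUO.trans inf_le_left⟩

variable [QuasiSeparated f]

theorem formallyUnramified_appLE_iff_subsingleton_sections {U : X.Opens} (hU : IsAffineOpen U)
    {V : S.Opens} (hV : IsAffineOpen V) (e : U ≤ f ⁻¹ᵁ V) :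
    (f.appLE V U e).hom.FormallyUnramified ↔ Subsingleton Γ(Omega.sheaf f, U) := by
  letI := (f.appLE V U e).hom.toAlgebra
  rw [RingHom.FormallyUnramified, Algebra.formallyUnramified_iff]
  exact (omegaSectionsEquiv f hU hV e).symm.toEquiv.subsingleton_congr

theorem isZero_omega_iff_formallyUnramified :
    IsZero (Omega.sheaf f) ↔ FormallyUnramified f := by
  constructor
  · intro h
    refine ⟨fun {V} hV {U} hU e => ?_⟩
    rw [formallyUnramified_appLE_iff_subsingleton_sections f hU hV e]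
    refine ⟨fun a b => ?_⟩
    have h0 : 𝟙 (Omega.sheaf f) = 0 := h.eq_of_src _ _
    have ha : a = (𝟙 (Omega.sheaf f) : _ ⟶ _).app U a := rfl
    have hb : b = (𝟙 (Omega.sheaf f) : _ ⟶ _).app U b := rfl
    rw [ha, hb, h0]
    rfl
  · intro h
    rw [IsZero.iff_id_eq_zero]
    refine hom_eq_zero_of_isBasis _ _ (isBasis_affine_le_preimage f) ?_
    rintro U ⟨hU, V, hV, e⟩ x
    have := (formallyUnramified_appLE_iff_subsingleton_sections f hU hV e).1
      (h.formallyUnramified_appLE hV hU e)
    exact Subsingleton.elim _ _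

end Unramified

end Groth.Agent.H44
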