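import Groth.Agent.H44.OmegaLocal
import Groth.Agent.H44.OmegaUnramified

set_option autoImplicit false
universe u
open CategoryTheory Limits Opposite AlgebraicGeometry TopologicalSpace Scheme.Modules

namespace Groth.Agent.H44

section
variable {X Y : Scheme.{u}} {f : X ⟶ Y} {Ω' : X.Modules} (d : OmegaSh.Der f Ω')
  (hd : OmegaSh.IsUniversal d)

include hd in
theorem formallyUnramified_appLE_iff_subsingleton_of_isUniversal {U : X.Opens} (hU : IsAffineOpen U)
    {V : Y.Opens} (hV : IsAffineOpen V) (e : U ≤ f ⁻¹ᵁ V) :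
    (f.appLE V U e).hom.FormallyUnramified ↔ Subsingleton Γ(Ω', U) := by
  letI := (f.appLE V U e).hom.toAlgebra
  obtain ⟨Φ, -⟩ := exists_kaehler_equiv_of_isUniversal d hU hV e hd
  rw [RingHom.FormallyUnramified, Algebra.formallyUnramified_iff]
  exact Φ.symm.toEquiv.subsingleton_congr

include hd in
theorem formallyUnramified_iff_isZero_of_isUniversal : FormallyUnramified f ↔ IsZero Ω' := by
  constructor
  · intro h
    rw [IsZero.iff_id_eq_zero]
    refine hom_eq_zero_of_isBasis _ _ (isBasis_affine_le_preimage f) ?_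
    rintro U ⟨hU, V, hV, e⟩ x
    have := (formallyUnramified_appLE_iff_subsingleton_of_isUniversal d hd hU hV e).1
      (h.formallyUnramified_appLE hV hU e)
    exact Subsingleton.elim _ _
  · intro h
    refine ⟨fun {V} hV {U} hU e => ?_⟩
    rw [formallyUnramified_appLE_iff_subsingleton_of_isUniversal d hd hU hV e]
    refine ⟨fun a b => ?_⟩
    have h0 : 𝟙 Ω' = 0 := h.eq_of_src _ _
    have ha : a = (𝟙 Ω' : _ ⟶ _).app U a := rfl
    have hb : b = (𝟙 Ω' : _ ⟶ _).app U b := rfl
    rw [ha, hb, h0]
    rfl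

end
end Groth.Agent.H44
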