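import Groth.Agent.H44.ConormalDiffExists
import Groth.Agent.H44.ConormalSplit
import Groth.Agent.H44.BaseChangeOmega
import Groth.Agent.H44.UniversalUnramified

/-!
# Conormal sheaf of a section and base change of `Ω` as isomorphism classes (helper44)

* `nonempty_conormal_iso_pullback_of_section`: for a section `e` of a quasi-separated `f`,
  `C_e ≅ e^*Ω'` for any receptacle `Ω'` of a universal derivation.
* `nonempty_pullback_omega_iso_of_isPullback`: `g'^*Ω_{X/S} ≅ Ω_{X'/S'}` for a cartesian square.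
-/

set_option autoImplicit false
universe u
open CategoryTheory Limits Opposite AlgebraicGeometry TopologicalSpace Scheme.Modules

namespace Groth.Agent.H44

theorem isImmersion_of_section {X S : Scheme.{u}} (f : X ⟶ S) (e : S ⟶ X) (he : e ≫ f = 𝟙 S) :
    IsImmersion e := by
  haveI : IsImmersion (e ≫ f) := by rw [he]; infer_instance
  exact IsImmersion.of_comp e f

theorem quasiCompact_of_section {X S : Scheme.{u}} (f : X ⟶ S) [QuasiSeparated f] (e : S ⟶ X)
    (he : e ≫ f = 𝟙 S) : QuasiCompact e := by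
  haveI : QuasiCompact (e ≫ f) := by rw [he]; infer_instance
  exact QuasiCompact.of_comp e f

/-- The conormal sheaf of a section `e` of `f` is `e^*Ω_{X/S}`. -/
theorem nonempty_conormal_iso_pullback_of_section {X S : Scheme.{u}} (f : X ⟶ S) [QuasiSeparated f]
    (e : S ⟶ X) (he : e ≫ f = 𝟙 S) {ΩX : X.Modules} (dX : OmegaSh.Der f ΩX)
    (hX : OmegaSh.IsUniversal dX) :
    Nonempty (Omega.conormal e ≅ (Scheme.Modules.pullback e).obj ΩX) := by
  haveI := isImmersion_of_section f e he
  haveI := quasiCompact_of_section f e he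
  haveI : QuasiSeparated (e ≫ f) := by rw [he]; infer_instance
  haveI : FormallyUnramified (e ≫ f) := by rw [he]; infer_instance
  have hZ := isUniversal_dOmega (e ≫ f)
  obtain ⟨φ, hφ⟩ := exists_isConormalDiff e dX
  obtain ⟨c, hc, -⟩ := existsUnique_isDiffCompat (f := f) (f' := e ≫ f) e (𝟙 S)
    (Category.comp_id _) dX (OmegaSh.dOmega (e ≫ f)) hX
  have hgS : f ≫ e ≫ f = f := by rw [he, Category.comp_id]
  obtain ⟨w, hex, ⟨r, hr⟩, -⟩ := conormal_seq_split (g := f) he hgS dX hX
    (OmegaSh.dOmega (e ≫ f)) hZ φ hφ c hc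
  have hzero : IsZero (Omega.sheaf (e ≫ f)) :=
    (formallyUnramified_iff_isZero_of_isUniversal (OmegaSh.dOmega (e ≫ f)) hZ).1 inferInstance
  haveI : Epi φ := (ShortComplex.exact_iff_epi _ (hzero.eq_of_tgt _ _)).1 hex
  haveI : Mono φ := mono_of_mono_fac hr
  haveI : IsIso φ := isIso_of_mono_of_epi φ
  exact ⟨asIso φ⟩

/-- Base change of `Ω` as an isomorphism. -/
theorem nonempty_pullback_omega_iso_of_isPullback {X S X' S' : Scheme.{u}} {f : X ⟶ S} {g : S' ⟶ S}
    {g' : X' ⟶ X} {f' : X' ⟶ S'} (hsq : IsPullback g' f' f g)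
    [QuasiSeparated f] [QuasiSeparated f'] :
    Nonempty ((Scheme.Modules.pullback g').obj (Omega.sheaf f) ≅ Omega.sheaf f') := by
  obtain ⟨c, hc, -⟩ := existsUnique_isDiffCompat (f := f) (f' := f') g' g hsq.w.symm
    (OmegaSh.dOmega f) (OmegaSh.dOmega f') (isUniversal_dOmega f)
  haveI : IsIso c := isIso_diffCompat_of_isPullback hsq (OmegaSh.dOmega f) (isUniversal_dOmega f)
    (OmegaSh.dOmega f') (isUniversal_dOmega f') c hc
  exact ⟨asIso c⟩

end Groth.Agent.H44
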