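import Groth.Agent.H44.KaehlerTensor
import Groth.Agent.H44.PullbackTilde
import Groth.Agent.H44.PullbackAffine
import Groth.Agent.H12.QCohAbelian
import Groth.Agent.H8.PushQCoh
import Groth.Agent.H44.PushUnit
import Groth.Prelude.Def_Omega4

set_option autoImplicit false
universe u
open CategoryTheory Limits Opposite AlgebraicGeometry TopologicalSpace TensorProduct Scheme.Modules

namespace Groth.Agent.H44

section IsoPush
variable {X Y : Scheme.{u}} (e : X ≅ Y)

/-- Pushforward along an isomorphism is an equivalence. -/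
noncomputable def pushforwardEquivOfIso : X.Modules ≌ Y.Modules :=
  CategoryTheory.Equivalence.mk (pushforward e.hom) (pushforward e.inv)
    ((pushforwardId X).symm ≪≫ pushforwardCongr (e.hom_inv_id).symm ≪≫
      (pushforwardComp e.hom e.inv).symm)
    (pushforwardComp e.inv e.hom ≪≫ pushforwardCongr e.inv_hom_id ≪≫ pushforwardId Y)

/-- Pullback along the inverse of an isomorphism is pushforward along the isomorphism. -/
noncomputable def pullbackInvIsoPushforward :
    Scheme.Modules.pullback e.inv ≅ pushforward e.hom :=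
  Adjunction.leftAdjointUniq (pullbackPushforwardAdjunction e.inv)
    (pushforwardEquivOfIso e).toAdjunction

end IsoPush

section IdealMod
variable {P : Scheme.{u}} (K : P.IdealSheafData)

instance isQuasicoherent_quotMod :
    ((Scheme.Modules.pushforward K.subschemeι).obj
      (Coh.structureModule K.subscheme)).IsQuasicoherent :=
  Groth.Agent.H8.isQuasicoherent_pushforward_of_isAffineHom _ _

instance isQuasicoherent_idealMod : (ClSub.idealMod K).IsQuasicoherent :=
  Groth.Agent.H12.QCohAbelian.isQuasicoherent_kernel _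

end IdealMod

section Sections
variable {P : Scheme.{u}} [IsAffine P] {E : CommRingCat.{u}} (e : P ≅ Spec E) (K : P.IdealSheafData)

/-- The ring map `E ⟶ Γ(P, ⊤)` induced by `e : P ≅ Spec E`. -/
noncomputable def ringOfIsoSpec : E ⟶ Γ(P, ⊤) := (Scheme.ΓSpecIso E).inv ≫ e.hom.appTop

omit [IsAffine P] in
instance : IsIso (ringOfIsoSpec e) := by
  unfold ringOfIsoSpec
  haveI : IsIso e.hom.appTop := inferInstanceAs (IsIso (e.hom.app ⊤))
  infer_instance

omit [IsAffine P] in
theorem ringOfIsoSpec_bijective : Function.Bijective (ringOfIsoSpec e) :=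
  ConcreteCategory.bijective_of_isIso (ringOfIsoSpec e)

/-- The ideal of `E` corresponding to `K`. -/
noncomputable def idealOfIsoSpec : Ideal E :=
  (K.ideal ⟨⊤, isAffineOpen_top P⟩).comap (ringOfIsoSpec e).hom

theorem toSubscheme_app_top_eq_zero_iff (y : Γ(P, ⊤)) :
    (ClSub.toSubscheme K).app ⊤ (OmegaSh.strSect P ⊤ y) = 0 ↔ y ∈ K.ideal ⟨⊤, isAffineOpen_top P⟩ := by
  rw [OmegaSh.toSubscheme_app_strSect, ← Scheme.IdealSheafData.ker_subschemeι_app, RingHom.mem_ker]
  rfl

/-- `I → Γ(idealMod K, ⊤)`. -/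
noncomputable def idealToSections (r : idealOfIsoSpec e K) :
    (gammaSpec ((pushforward e.hom).obj (ClSub.idealMod K)) : Type u) :=
  OmegaSh.kerLift (ClSub.toSubscheme K) ⊤ (OmegaSh.strSect P ⊤ (ringOfIsoSpec e r.1))
    ((toSubscheme_app_top_eq_zero_iff K _).2 r.2)

theorem ι_idealToSections (r : idealOfIsoSpec e K) :
    (ClSub.idealModι K).app ⊤ (idealToSections e K r) = OmegaSh.strSect P ⊤ (ringOfIsoSpec e r.1) :=
  OmegaSh.ι_kerLift _ _ _ _

theorem ι_smul_sections (r : E) (x : (gammaSpec ((pushforward e.hom).obj (ClSub.idealMod K)) : Type u)) :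
    (ClSub.idealModι K).app ⊤ (r • x) =
      OmegaSh.strSect P ⊤ (ringOfIsoSpec e r * OmegaSh.fnSect P ⊤ ((ClSub.idealModι K).app ⊤ x)) := by
  change (ClSub.idealModι K).app ⊤ ((ringOfIsoSpec e r : Γ(P, ⊤)) • (show Γ(ClSub.idealMod K, ⊤) from x)) = _
  rw [Scheme.Modules.Hom.app_smul]
  rfl

theorem ι_add_sections (x y : (gammaSpec ((pushforward e.hom).obj (ClSub.idealMod K)) : Type u)) :
    (ClSub.idealModι K).app ⊤ (x + y) =
      (ClSub.idealModι K).app ⊤ x + (ClSub.idealModι K).app ⊤ y :=
  map_add ((ClSub.idealModι K).app ⊤).hom _ _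

/-- `I ≃ Γ(idealMod K, ⊤)`, `E`-linearly. -/
noncomputable def idealToSectionsLinear :
    idealOfIsoSpec e K →ₗ[E] (gammaSpec ((pushforward e.hom).obj (ClSub.idealMod K)) : Type u) where
  toFun := idealToSections e K
  map_add' r s := by
    apply OmegaSh.idealModι_app_injective ⊤ K
    rw [ι_add_sections, ι_idealToSections, ι_idealToSections, ι_idealToSections]
    change OmegaSh.strSect P ⊤ (ringOfIsoSpec e (r.1 + s.1)) = _
    rw [map_add, map_add]
  map_smul' a r := by
    apply OmegaSh.idealModι_app_injective ⊤ K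
    rw [ι_smul_sections, ι_idealToSections, ι_idealToSections]
    change OmegaSh.strSect P ⊤ (ringOfIsoSpec e (a * r.1)) = _
    rw [map_mul]
    rfl

theorem idealToSectionsLinear_bijective : Function.Bijective (idealToSectionsLinear e K) := by
  constructor
  · intro r s h
    have h' := congrArg ((ClSub.idealModι K).app ⊤) h
    change (ClSub.idealModι K).app ⊤ (idealToSections e K r) =
      (ClSub.idealModι K).app ⊤ (idealToSections e K s) at h'
    rw [ι_idealToSections, ι_idealToSections] at h'
    exact Subtype.ext ((ringOfIsoSpec_bijective e).1 h')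
  · intro x
    obtain ⟨r, hr⟩ := (ringOfIsoSpec_bijective e).2 (OmegaSh.fnSect P ⊤ ((ClSub.idealModι K).app ⊤ x))
    have hx : (ClSub.toSubscheme K).app ⊤ ((ClSub.idealModι K).app ⊤ x) = 0 := by
      rw [← ConcreteCategory.comp_apply, ← Scheme.Modules.Hom.comp_app]
      have : ClSub.idealModι K ≫ ClSub.toSubscheme K = 0 := kernel.condition _
      rw [this]
      rfl
    have hr' : r ∈ idealOfIsoSpec e K := by
      change ringOfIsoSpec e r ∈ K.ideal ⟨⊤, isAffineOpen_top P⟩
      rw [← toSubscheme_app_top_eq_zero_iff, hr]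
      exact hx
    refine ⟨⟨r, hr'⟩, ?_⟩
    apply OmegaSh.idealModι_app_injective ⊤ K
    change (ClSub.idealModι K).app ⊤ (idealToSections e K ⟨r, hr'⟩) = _
    rw [ι_idealToSections]
    change OmegaSh.strSect P ⊤ (ringOfIsoSpec e r) = _
    rw [hr]
    rfl

/-- `Γ((e.hom)_* idealMod K, ⊤) ≅ I` as `E`-modules. -/
noncomputable def gammaPushIdealModIso :
    gammaSpec ((pushforward e.hom).obj (ClSub.idealMod K)) ≅ ModuleCat.of E (idealOfIsoSpec e K) :=
  (LinearEquiv.ofBijective (idealToSectionsLinear e K)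
    (idealToSectionsLinear_bijective e K)).symm.toModuleIso

end Sections


end Groth.Agent.H44
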