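import Groth.Agent.H44.OmegaFitting
import Mathlib.RingTheory.Unramified.Locus
import Mathlib.RingTheory.Unramified.LocalRing
import Mathlib.AlgebraicGeometry.Morphisms.FormallyUnramified

set_option autoImplicit false
universe u
open CategoryTheory Limits Opposite AlgebraicGeometry TopologicalSpace Scheme.Modules

namespace Groth.Agent.H44

section Ring
variable {R A : Type u} [CommRing R] [CommRing A] [Algebra R A] (p : Ideal R) [p.IsPrime]
  (q : Ideal A) [q.IsPrime] (h : p = q.comap (algebraMap R A))

theorem isUnramifiedAt_iff_localRingHom :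
    Algebra.IsUnramifiedAt R q ↔
      (Localization.localRingHom p q (algebraMap R A) h).FormallyUnramified := by
  letI : Algebra (Localization.AtPrime p) (Localization.AtPrime q) :=
    (Localization.localRingHom p q (algebraMap R A) h).toAlgebra
  haveI : IsScalarTower R (Localization.AtPrime p) (Localization.AtPrime q) :=
    .of_algebraMap_eq' (by
      ext r
      simp only [RingHom.algebraMap_toAlgebra, RingHom.comp_apply, Localization.localRingHom_to_map]
      exact IsScalarTower.algebraMap_apply R A (Localization.AtPrime q) r)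
  change Algebra.FormallyUnramified R (Localization.AtPrime q) ↔
    Algebra.FormallyUnramified (Localization.AtPrime p) (Localization.AtPrime q)
  exact ⟨fun _ ↦ .of_restrictScalars R _ _,
      fun _ ↦ Algebra.FormallyUnramified.comp _ (Localization.AtPrime p) _⟩

end Ring

section Stalk
variable {X S : Scheme.{u}} (f : X ⟶ S) [QuasiSeparated f]

/-- The stalk of `Ω_{X/S}` at `x` vanishes iff the local homomorphism `O_{S,f(x)} → O_{X,x}` is
formally unramified. -/
theorem subsingleton_stalk_omega_iff (x : X) :
    Subsingleton ((Omega.sheaf f).presheaf.stalk x) ↔ (f.stalkMap x).hom.FormallyUnramified := by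
  obtain ⟨U, ⟨hU, V, hV, e⟩, hxU, -⟩ := Opens.isBasis_iff_nbhd.mp (isBasis_affine_le_preimage f)
    (show x ∈ (⊤ : X.Opens) from trivial)
  letI := (f.appLE V U e).hom.toAlgebra
  rw [subsingleton_stalk_iff (Omega.sheaf f) hU hxU,
    LinearEquiv.support_eq (omegaSectionsEquiv f hU hV e)]
  have h1 : hU.primeIdealOf ⟨x, hxU⟩ ∉ Module.support Γ(X, U) Ω[Γ(X, U)⁄Γ(S, V)] ↔
      Algebra.IsUnramifiedAt Γ(S, V) (hU.primeIdealOf ⟨x, hxU⟩).asIdeal := by
    rw [← Set.mem_compl_iff, ← Algebra.unramifiedLocus_eq_compl_support]
    rfl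
  rw [h1, isUnramifiedAt_iff_localRingHom (hV.primeIdealOf ⟨f x, e hxU⟩).asIdeal
    (hU.primeIdealOf ⟨x, hxU⟩).asIdeal
    congr($(IsAffineOpen.comap_primeIdealOf_appLE V hV U hU e hxU).1).symm]
  exact (RingHom.FormallyUnramified.respectsIso.arrow_mk_iso_iff
    (IsAffineOpen.arrowStalkMapIso f V hV U hU e hxU)).symm

omit [QuasiSeparated f] in
theorem stalkMap_formallyUnramified_iff [LocallyOfFiniteType f] (x : X) :
    (f.stalkMap x).hom.FormallyUnramified ↔
      ((IsLocalRing.maximalIdeal (S.presheaf.stalk (f.base x))).map (f.stalkMap x).hom =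
          IsLocalRing.maximalIdeal (X.presheaf.stalk x) ∧
        (f.residueFieldMap x).hom.Finite ∧
        @Algebra.IsSeparable (S.residueField (f.base x)) (X.residueField x) _ _
          (f.residueFieldMap x).hom.toAlgebra) := by
  algebraize [(f.stalkMap x).hom]
  have : IsLocalHom (algebraMap (S.presheaf.stalk (f x)) (X.presheaf.stalk x)) :=
    inferInstanceAs <| IsLocalHom (f.stalkMap x).hom
  have : Algebra.EssFiniteType (S.presheaf.stalk (f x)) (X.presheaf.stalk x) := by
    rw [← RingHom.essFiniteType_algebraMap, RingHom.algebraMap_toAlgebra]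
    exact LocallyOfFiniteType.stalkMap f x
  have halg : (f.residueFieldMap x).hom.toAlgebra =
      (inferInstance : Algebra (IsLocalRing.ResidueField (S.presheaf.stalk (f x)))
        (IsLocalRing.ResidueField (X.presheaf.stalk x))) := by
    refine Algebra.algebra_ext _ _ fun y ↦ ?_
    obtain ⟨y, rfl⟩ := IsLocalRing.residue_surjective y
    rfl
  have hfu : (f.stalkMap x).hom.FormallyUnramified ↔
      Algebra.FormallyUnramified (S.presheaf.stalk (f x)) (X.presheaf.stalk x) := by
    rw [← RingHom.formallyUnramified_algebraMap, RingHom.algebraMap_toAlgebra]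
  rw [hfu, Algebra.FormallyUnramified.iff_map_maximalIdeal_eq]
  constructor
  · rintro ⟨h1, h2⟩
    haveI : Algebra.FormallyUnramified (S.presheaf.stalk (f x)) (X.presheaf.stalk x) :=
      Algebra.FormallyUnramified.iff_map_maximalIdeal_eq.2 ⟨h1, h2⟩
    refine ⟨h2, ?_, ?_⟩
    · change @Module.Finite _ _ _ _ (f.residueFieldMap x).hom.toAlgebra.toModule
      rw [halg]
      exact (inferInstance : Module.Finite (IsLocalRing.ResidueField (S.presheaf.stalk (f x)))
        (IsLocalRing.ResidueField (X.presheaf.stalk x)))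
    · rw [halg]
      exact h1
  · rintro ⟨h1, -, h3⟩
    refine ⟨?_, h1⟩
    change @Algebra.IsSeparable _ _ _ _ (f.residueFieldMap x).hom.toAlgebra at h3
    rw [halg] at h3
    exact h3

end Stalk

end Groth.Agent.H44
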