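import Groth.Prelude.Def_W4stkadequatePure
import Groth.Prelude.Def_CAlgX

set_option autoImplicit false
universe u

namespace Groth.Agent.H44

open TensorProduct

variable (R : Type u) [CommRing R]

/-- the adjoint of a map `φ : M → Q^∨`: the map `Q → M^∨`, `q ↦ (m ↦ φ m q)`. -/
def charFlip {M Q : Type u} [AddCommGroup M] [Module R M] [AddCommGroup Q] [Module R Q]
    (φ : M →ₗ[R] CharacterModule Q) : Q →ₗ[R] CharacterModule M where
  toFun q :=
    { toFun := fun m => φ m q
      map_zero' := by rw [map_zero]; rfl
      map_add' := fun m m' => by rw [map_add]; rfl }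
  map_add' q q' := by
    ext m
    exact map_add (φ m) q q'
  map_smul' r q := by
    ext m
    change φ m (r • q) = φ (r • m) q
    rw [LinearMap.map_smul, CharacterModule.smul_apply]

theorem dual_charFlip_charEval {M Q : Type u} [AddCommGroup M] [Module R M] [AddCommGroup Q]
    [Module R Q] (φ : M →ₗ[R] CharacterModule Q) :
    (CharacterModule.dual (charFlip R φ)) ∘ₗ PureExt.charEval R M = φ := by
  ext m q
  rfl

theorem universallyInjective_iff_lcomp {M N : Type u} [AddCommGroup M] [Module R M]
    [AddCommGroup N] [Module R N] (f : M →ₗ[R] N) :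
    CAlgX.UniversallyInjective R f ↔
      ∀ (Q : Type u) [AddCommGroup Q] [Module R Q],
        Function.Surjective (f.lcomp R (CharacterModule Q)) := by
  constructor
  · intro h Q _ _
    exact rTensor_injective_iff_lcomp_surjective.mp (h Q)
  · intro h Q _ _
    exact rTensor_injective_iff_lcomp_surjective.mpr (h Q)

theorem universallyInjective_charEval (M : Type u) [AddCommGroup M] [Module R M] :
    CAlgX.UniversallyInjective R (PureExt.charEval R M) := by
  rw [universallyInjective_iff_lcomp]
  intro Q _ _ φ
  exact ⟨CharacterModule.dual (charFlip R φ), dual_charFlip_charEval R φ⟩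

/-- character modules are pure injective -/
theorem characterModule_pureInjective (D : Type u) [AddCommGroup D] [Module R D]
    {K L : Type u} [AddCommGroup K] [Module R K] [AddCommGroup L] [Module R L] (f : K →ₗ[R] L)
    (hf : CAlgX.UniversallyInjective R f) (φ : K →ₗ[R] CharacterModule D) :
    ∃ ψ : L →ₗ[R] CharacterModule D, ψ ∘ₗ f = φ := by
  obtain ⟨ψ, hψ⟩ := (universallyInjective_iff_lcomp R f).mp hf D φ
  exact ⟨ψ, hψ⟩

end Groth.Agent.H44
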