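import Groth.Agent.H44.PureLift
import Mathlib.LinearAlgebra.TensorProduct.Finiteness

set_option autoImplicit false
universe u

namespace Groth.Agent.H44

open TensorProduct LinearMap

variable {R : Type u} [CommRing R]

/-- If every map from a finitely presented module to `M` lifts along `g : P → M`, and `P` is a
directed union of finitely presented direct summands, then `ker g ⊆ P` is universally injective. -/
theorem universallyInjective_ker_of_lift {P M : Type u} [AddCommGroup P] [Module R P]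
    [AddCommGroup M] [Module R M] (g : P →ₗ[R] M)
    (hlift : ∀ (F : Type u) [AddCommGroup F] [Module R F] [Module.FinitePresentation R F]
      (φ : F →ₗ[R] M), ∃ ψ : F →ₗ[R] P, g ∘ₗ ψ = φ)
    (hfin : ∀ s : Finset P, ∃ (F' : Type u) (_ : AddCommGroup F') (_ : Module R F')
      (_ : Module.FinitePresentation R F') (a : F' →ₗ[R] P) (b : P →ₗ[R] F'),
      b ∘ₗ a = LinearMap.id ∧ ∀ p ∈ s, a (b p) = p) :
    CAlgX.UniversallyInjective R (LinearMap.ker g).subtype := by
  classical
  intro T _ _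
  rw [injective_iff_map_eq_zero]
  intro x hx
  obtain ⟨S, hS⟩ := TensorProduct.exists_finset x
  obtain ⟨F', _, _, _, a, b, hba, hab⟩ := hfin (S.image (fun i => (i.1 : P)))
  have hab' : ∀ i ∈ S, a (b (i.1 : P)) = (i.1 : P) := fun i hi =>
    hab _ (Finset.mem_image_of_mem _ hi)
  let x' : F' ⊗[R] T := ∑ i ∈ S, b (i.1 : P) ⊗ₜ[R] i.2
  have hx' : x' = 0 := by
    have h1 : (a.rTensor T) x' = 0 := by
      rw [← hx, hS, map_sum, map_sum]
      apply Finset.sum_congr rfl
      intro i hi
      rw [LinearMap.rTensor_tmul, LinearMap.rTensor_tmul, hab' i hi]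
      rfl
    have h2 : (b.rTensor T) ((a.rTensor T) x') = x' := by
      rw [← LinearMap.comp_apply, ← LinearMap.rTensor_comp, hba, LinearMap.rTensor_id,
        LinearMap.id_apply]
    rw [← h2, h1, map_zero]
  let W : Submodule R F' := Submodule.span R ((S.image (fun i => b (i.1 : P)) : Finset F') : Set F')
  have hW : ∀ i ∈ S, b (i.1 : P) ∈ W := fun i hi =>
    Submodule.subset_span (Finset.mem_coe.mpr (Finset.mem_image_of_mem _ hi))
  have : Module.FinitePresentation R (F' ⧸ W) :=
    Module.finitePresentation_of_surjective W.mkQ (Submodule.mkQ_surjective W)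
      (by rw [Submodule.ker_mkQ]; exact ⟨_, rfl⟩)
  have hWker : W ≤ LinearMap.ker (g ∘ₗ a) := by
    rw [Submodule.span_le]
    intro w hw
    rw [Finset.mem_coe, Finset.mem_image] at hw
    obtain ⟨i, hi, rfl⟩ := hw
    rw [SetLike.mem_coe, LinearMap.mem_ker, LinearMap.comp_apply, hab' i hi]
    exact i.1.2
  obtain ⟨h, hh⟩ := hlift (F' ⧸ W) (W.liftQ (g ∘ₗ a) hWker)
  let r : F' →ₗ[R] LinearMap.ker g :=
    LinearMap.codRestrict (LinearMap.ker g) (a - h ∘ₗ W.mkQ) (fun p => by
      rw [LinearMap.mem_ker, LinearMap.sub_apply, map_sub, LinearMap.comp_apply,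
        ← LinearMap.comp_apply g h, hh, Submodule.mkQ_apply, Submodule.liftQ_apply,
        LinearMap.comp_apply, sub_self])
  have hr : ∀ i ∈ S, r (b (i.1 : P)) = i.1 := by
    intro i hi
    apply Subtype.ext
    change a (b (i.1 : P)) - h (W.mkQ (b (i.1 : P))) = (i.1 : P)
    rw [hab' i hi, Submodule.mkQ_apply, (Submodule.Quotient.mk_eq_zero W).mpr (hW i hi), map_zero,
      sub_zero]
  have : x = (r.rTensor T) x' := by
    rw [hS, map_sum]
    apply Finset.sum_congr rfl
    intro i hi
    rw [LinearMap.rTensor_tmul, hr i hi]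
  rw [this, hx', map_zero]

section DFinsupp

variable {ι : Type u} (Q : ι → Type u) [∀ i, AddCommGroup (Q i)] [∀ i, Module R (Q i)]

theorem dfinsupp_hfin [∀ i, Module.FinitePresentation R (Q i)] (s : Finset (Π₀ i, Q i)) :
    ∃ (F' : Type u) (_ : AddCommGroup F') (_ : Module R F')
      (_ : Module.FinitePresentation R F') (a : F' →ₗ[R] (Π₀ i, Q i)) (b : (Π₀ i, Q i) →ₗ[R] F'),
      b ∘ₗ a = LinearMap.id ∧ ∀ p ∈ s, a (b p) = p := by
  classical
  let S : Finset ι := s.biUnion (fun p => p.support)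
  refine ⟨∀ i : (↑S : Set ι), Q i, inferInstance, inferInstance, inferInstance,
    DFinsupp.lmk S, LinearMap.pi (fun i => DFinsupp.lapply i.1), ?_, ?_⟩
  · apply LinearMap.ext
    intro x
    funext i
    change (DFinsupp.mk S x) i.1 = x i
    rw [DFinsupp.mk_of_mem i.2]
  · intro p hp
    ext i
    change (DFinsupp.mk S (fun j : (↑S : Set ι) => p j.1)) i = p i
    by_cases hi : i ∈ S
    · rw [DFinsupp.mk_of_mem hi]
    · rw [DFinsupp.mk_of_notMem hi]
      by_contra hne
      apply hi
      rw [Finset.mem_biUnion]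
      exact ⟨p, hp, by rw [DFinsupp.mem_support_iff]; exact fun h => hne h.symm⟩

end DFinsupp

section Cover

variable (R) (M : Type u) [AddCommGroup M] [Module R M]

/-- index set for the canonical pure cover -/
abbrev CoverIdx : Type u :=
  Σ (n : ℕ), Σ (K : {K : Submodule R (Fin n → R) // K.FG}), ((Fin n → R) ⧸ K.1 →ₗ[R] M)

/-- the finitely presented modules of the canonical pure cover -/
def CoverMod (i : CoverIdx R M) : Type u := (Fin i.1 → R) ⧸ i.2.1.1

instance (i : CoverIdx R M) : AddCommGroup (CoverMod R M i) :=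
  inferInstanceAs (AddCommGroup ((Fin i.1 → R) ⧸ i.2.1.1))

instance (i : CoverIdx R M) : Module R (CoverMod R M i) :=
  inferInstanceAs (Module R ((Fin i.1 → R) ⧸ i.2.1.1))

theorem fp_quot (n : ℕ) (K : Submodule R (Fin n → R)) (hK : K.FG) :
    Module.FinitePresentation R ((Fin n → R) ⧸ K) :=
  Module.finitePresentation_of_surjective K.mkQ (Submodule.mkQ_surjective _)
    (by rw [Submodule.ker_mkQ]; exact hK)

instance (i : CoverIdx R M) : Module.FinitePresentation R (CoverMod R M i) :=
  fp_quot R i.1 i.2.1.1 i.2.1.2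

/-- the canonical pure cover -/
noncomputable def coverMap : (Π₀ i, CoverMod R M i) →ₗ[R] M :=
  haveI : DecidableEq (CoverIdx R M) := Classical.decEq _
  DFinsupp.lsum ℕ (fun i : CoverIdx R M => (i.2.2 : CoverMod R M i →ₗ[R] M))

theorem coverMap_lift (F : Type u) [AddCommGroup F] [Module R F] [Module.FinitePresentation R F]
    (φ : F →ₗ[R] M) : ∃ ψ : F →ₗ[R] (Π₀ i, CoverMod R M i), coverMap R M ∘ₗ ψ = φ := by
  classical
  obtain ⟨n, K, e, hK⟩ := Module.FinitePresentation.exists_fin R F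
  let i₀ : CoverIdx R M := ⟨n, ⟨K, hK⟩, φ ∘ₗ e.symm.toLinearMap⟩
  refine ⟨(DFinsupp.lsingle i₀ : CoverMod R M i₀ →ₗ[R] _) ∘ₗ e.toLinearMap, ?_⟩
  ext x
  unfold coverMap
  change (DFinsupp.lsum ℕ (fun i : CoverIdx R M => (i.2.2 : CoverMod R M i →ₗ[R] M)))
      (DFinsupp.single i₀ (e x)) = φ x
  have : (DFinsupp.lsum ℕ (fun i : CoverIdx R M => (i.2.2 : CoverMod R M i →ₗ[R] M)))
      (DFinsupp.single i₀ (e x)) = (i₀.2.2 : CoverMod R M i₀ →ₗ[R] M) (e x) := by
    convert DFinsupp.lsum_single (S := ℕ) (fun i : CoverIdx R M => (i.2.2 : CoverMod R M i →ₗ[R] M))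
      i₀ (e x)
  rw [this]
  change φ (e.symm (e x)) = φ x
  rw [LinearEquiv.symm_apply_apply]

theorem coverMap_surjective : Function.Surjective (coverMap R M) := by
  intro m
  obtain ⟨ψ, hψ⟩ := coverMap_lift R M R (LinearMap.toSpanSingleton R M m)
  refine ⟨ψ 1, ?_⟩
  rw [← LinearMap.comp_apply, hψ, LinearMap.toSpanSingleton_apply, one_smul]

theorem coverMap_universallyInjective :
    CAlgX.UniversallyInjective R (LinearMap.ker (coverMap R M)).subtype :=
  universallyInjective_ker_of_lift (coverMap R M) (fun F _ _ _ φ => coverMap_lift R M F φ)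
    (fun s => dfinsupp_hfin (CoverMod R M) s)

end Cover

end Groth.Agent.H44

namespace Groth.Agent.H44

open LinearMap

variable {R : Type u} [CommRing R]

/-- direct sums of finitely presented modules, and their retracts, are pure projective -/
theorem pureProjective_of_retract {P : Type u} [AddCommGroup P] [Module R P]
    {ι : Type u} (Q : ι → Type u) [∀ i, AddCommGroup (Q i)] [∀ i, Module R (Q i)]
    [∀ i, Module.FinitePresentation R (Q i)]
    (s : P →ₗ[R] (Π₀ i, Q i)) (r : (Π₀ i, Q i) →ₗ[R] P) (hrs : r ∘ₗ s = LinearMap.id)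
    {L N : Type u} [AddCommGroup L] [Module R L] [AddCommGroup N] [Module R N] (g : L →ₗ[R] N)
    (hg : Function.Surjective g) (hker : CAlgX.UniversallyInjective R (LinearMap.ker g).subtype)
    (φ : P →ₗ[R] N) : ∃ ψ : P →ₗ[R] L, g ∘ₗ ψ = φ := by
  classical
  have hi : ∀ i, ∃ ψi : Q i →ₗ[R] L, g ∘ₗ ψi = φ ∘ₗ r ∘ₗ DFinsupp.lsingle i :=
    fun i => fp_lift (Q i) g hg hker _
  choose ψi hψi using hi
  refine ⟨DFinsupp.lsum ℕ ψi ∘ₗ s, ?_⟩
  have : g ∘ₗ DFinsupp.lsum ℕ ψi = φ ∘ₗ r := by
    apply DFinsupp.lhom_ext'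
    intro i
    rw [LinearMap.comp_assoc, LinearMap.comp_assoc, ← hψi i]
    congr 1
    ext x
    simp
  rw [← LinearMap.comp_assoc, this, LinearMap.comp_assoc, hrs, LinearMap.comp_id]

end Groth.Agent.H44
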