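import Groth.Agent.H44.PureRes
import Groth.Agent.H44.PureBasic
import Mathlib.LinearAlgebra.TensorProduct.RightExactness
import Mathlib.Algebra.Homology.Single

set_option autoImplicit false
universe u

namespace Groth.Agent.H44

open TensorProduct CategoryTheory LinearMap

section LinAlg

variable {R : Type u} [CommRing R]

variable {X Y : Type u} [AddCommGroup X] [Module R X] [AddCommGroup Y] [Module R Y]

/-- the next differential of the canonical pure injective resolution -/
noncomputable def coD (g : X →ₗ[R] Y) :
    Y →ₗ[R] CharacterModule (CharacterModule (Y ⧸ LinearMap.range g)) :=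
  PureExt.charEval R (Y ⧸ LinearMap.range g) ∘ₗ (LinearMap.range g).mkQ

theorem coD_comp (g : X →ₗ[R] Y) : coD g ∘ₗ g = 0 := by
  ext1 p
  rw [LinearMap.zero_apply, LinearMap.comp_apply]
  unfold coD
  rw [LinearMap.comp_apply, Submodule.mkQ_apply,
    (Submodule.Quotient.mk_eq_zero _).mpr (LinearMap.mem_range_self g p), map_zero]

theorem univExactAt_coD (g : X →ₗ[R] Y) : UnivExactAt g (coD g) := by
  intro T _ _ y hy
  have h1 : (LinearMap.range g).mkQ.rTensor T y = 0 := by
    apply universallyInjective_charEval R (Y ⧸ LinearMap.range g) T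
    rw [map_zero, ← LinearMap.comp_apply, ← LinearMap.rTensor_comp]
    exact hy
  have h2 : y ∈ LinearMap.range ((LinearMap.range g).subtype.rTensor T) := by
    rw [← rTensor_mkQ, LinearMap.mem_ker]
    exact h1
  obtain ⟨w, rfl⟩ := h2
  obtain ⟨v, rfl⟩ := LinearMap.rTensor_surjective T g.surjective_rangeRestrict w
  refine ⟨v, ?_⟩
  rw [← LinearMap.comp_apply, ← LinearMap.rTensor_comp]
  rfl

end LinAlg

section Complex

variable (R : Type u) [CommRing R]

/-- a stage of the resolution: a map `X ⟶ Y` of modules -/
structure CoStage where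
  X : ModuleCat.{u} R
  Y : ModuleCat.{u} R
  g : X ⟶ Y

variable {R}

/-- the next stage -/
noncomputable def CoStage.next (S : CoStage R) : CoStage R where
  X := S.Y
  Y := ModuleCat.of R (CharacterModule (CharacterModule (S.Y ⧸ LinearMap.range S.g.hom)))
  g := ModuleCat.ofHom (coD S.g.hom)

variable (M : ModuleCat.{u} R)

/-- the stages of the canonical pure injective resolution of `M` -/
noncomputable def coStage : ℕ → CoStage R
  | 0 => ⟨M, ModuleCat.of R (CharacterModule (CharacterModule M)),
      ModuleCat.ofHom (PureExt.charEval R M)⟩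
  | n + 1 => (coStage n).next

theorem coStage_univExactAt (n : ℕ) :
    UnivExactAt (R := R) (A := (coStage M n).X) (B := (coStage M n).Y) (C := (coStage M (n + 1)).Y)
      (coStage M n).g.hom (coStage M (n + 1)).g.hom :=
  univExactAt_coD _

/-- the canonical pure injective resolution of `M` -/
noncomputable def pureInjComplex : CochainComplex (ModuleCat.{u} R) ℕ :=
  CochainComplex.of (fun n => (coStage M n).Y)
    (fun n => ((coStage M (n + 1)).g : (coStage M n).Y ⟶ (coStage M (n + 1)).Y))
    (fun n => by
      apply ModuleCat.hom_ext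
      exact coD_comp (coStage M (n + 1)).g.hom)

theorem pureInjComplex_d (n : ℕ) :
    (pureInjComplex M).d n (n + 1) = (coStage M (n + 1)).g := by
  dsimp only [pureInjComplex, CochainComplex.of]
  exact CochainComplex.of_d _ _ _

/-- the coaugmentation -/
noncomputable def pureInjAug :
    (CochainComplex.single₀ (ModuleCat.{u} R)).obj M ⟶ pureInjComplex M :=
  (CochainComplex.fromSingle₀Equiv (pureInjComplex M) M).symm
    ⟨((coStage M 0).g : M ⟶ (coStage M 0).Y), by
      rw [pureInjComplex_d]
      apply ModuleCat.hom_ext
      exact coD_comp (coStage M 0).g.hom⟩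

theorem pureInjAug_f_zero : (pureInjAug M).f 0 = ((coStage M 0).g : M ⟶ (coStage M 0).Y) :=
  CochainComplex.fromSingle₀Equiv_symm_apply_f_zero _ _

theorem pureInjAug_univ (T : ModuleCat.{u} R) :
    QuasiIso (((MonoidalCategory.tensorRight T).mapHomologicalComplex
      (ComplexShape.up ℕ)).map (pureInjAug M)) := by
  revert T
  rw [univ_cochain_iff]
  refine ⟨?_, ?_, ?_⟩
  · rw [pureInjAug_f_zero]
    exact universallyInjective_charEval R M
  · rw [pureInjAug_f_zero, pureInjComplex_d]
    exact coStage_univExactAt M 0
  · intro n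
    rw [pureInjComplex_d, pureInjComplex_d]
    exact coStage_univExactAt M (n + 1)

end Complex

end Groth.Agent.H44
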