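import Mathlib.LinearAlgebra.Contraction
import Mathlib.LinearAlgebra.TensorProduct.RightExactness
import Mathlib.Algebra.Module.FinitePresentation
import Mathlib.Algebra.Module.Projective
import Mathlib.LinearAlgebra.DFinsupp
import Groth.Prelude.Def_CAlgX

set_option autoImplicit false
universe u

namespace Groth.Agent.H44

open TensorProduct LinearMap

variable {R : Type u} [CommRing R]

theorem lTensor_injective_of_universallyInjective {K L : Type u} [AddCommGroup K] [Module R K]
    [AddCommGroup L] [Module R L] (ι : K →ₗ[R] L) (hι : CAlgX.UniversallyInjective R ι)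
    (T : Type u) [AddCommGroup T] [Module R T] : Function.Injective (ι.lTensor T) :=
  (LinearMap.lTensor_inj_iff_rTensor_inj T ι).mpr (hι T)

/-- purity in the form of an extension property along a map of finite projective modules -/
theorem exists_extension_of_universallyInjective {K L : Type u} [AddCommGroup K] [Module R K]
    [AddCommGroup L] [Module R L] (ι : K →ₗ[R] L) (hι : CAlgX.UniversallyInjective R ι)
    {F₁ F₀ : Type u} [AddCommGroup F₁] [Module R F₁] [Module.Finite R F₁] [Module.Projective R F₁]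
    [AddCommGroup F₀] [Module R F₀] [Module.Finite R F₀] [Module.Projective R F₀]
    (g : F₁ →ₗ[R] F₀) (μ : F₁ →ₗ[R] K) (lam : F₀ →ₗ[R] L) (h : ι ∘ₗ μ = lam ∘ₗ g) :
    ∃ ν : F₀ →ₗ[R] K, ν ∘ₗ g = μ := by
  obtain ⟨μt, hμt⟩ := (dualTensorHom_bijective (R := R) (M := F₁) (N := K)).2 μ
  obtain ⟨lt, hlt⟩ := (dualTensorHom_bijective (R := R) (M := F₀) (N := L)).2 lam
  -- compare in `F₁^* ⊗ L`
  have h1 : (ι.lTensor (Module.Dual R F₁)) μt = (g.dualMap.rTensor L) lt := by
    apply (dualTensorHom_bijective (R := R) (M := F₁) (N := L)).1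
    have e1 := LinearMap.congr_fun (dualTensorHom_comp_lTensor (R := R) (M := F₁) ι) μt
    have e2 := LinearMap.congr_fun (dualTensorHom_comp_rTensor_dualMap (R := R) (P := L) g) lt
    simp only [LinearMap.comp_apply] at e1 e2
    rw [e1, e2, hμt, hlt]
    exact h
  let q := (LinearMap.range g.dualMap).mkQ
  have hex : Function.Exact g.dualMap q := LinearMap.exact_map_mkQ_range g.dualMap
  have hq : Function.Surjective q := Submodule.mkQ_surjective _
  -- the image of `μt` in `T ⊗ K` vanishes
  have h2 : (q.rTensor K) μt = 0 := by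
    apply lTensor_injective_of_universallyInjective ι hι
    rw [map_zero]
    have : (ι.lTensor _) ((q.rTensor K) μt) = (q.rTensor L) ((ι.lTensor _) μt) := by
      rw [← LinearMap.comp_apply, ← LinearMap.comp_apply, LinearMap.lTensor_comp_rTensor,
        LinearMap.rTensor_comp_lTensor]
    rw [this, h1, ← LinearMap.comp_apply, ← LinearMap.rTensor_comp]
    have : q ∘ₗ g.dualMap = 0 := by
      ext x
      exact hex.apply_apply_eq_zero x
    rw [this, LinearMap.rTensor_zero, LinearMap.zero_apply]
  obtain ⟨νt, hνt⟩ := (rTensor_exact K hex hq μt).mp h2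
  refine ⟨dualTensorHom R F₀ K νt, ?_⟩
  have e3 := LinearMap.congr_fun (dualTensorHom_comp_rTensor_dualMap (R := R) (P := K) g) νt
  simp only [LinearMap.comp_apply] at e3
  rw [hνt, hμt] at e3
  exact e3.symm

/-- finitely presented modules are pure projective -/
theorem fp_lift (Q : Type u) [AddCommGroup Q] [Module R Q] [Module.FinitePresentation R Q]
    {L N : Type u} [AddCommGroup L] [Module R L] [AddCommGroup N] [Module R N]
    (g : L →ₗ[R] N) (hg : Function.Surjective g)
    (hker : CAlgX.UniversallyInjective R (LinearMap.ker g).subtype) (φ : Q →ₗ[R] N) :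
    ∃ ψ : Q →ₗ[R] L, g ∘ₗ ψ = φ := by
  obtain ⟨n, m, π, ρ, hπ, hex⟩ := Module.FinitePresentation.exists_fin' R Q
  obtain ⟨lam, hlam⟩ := Module.projective_lifting_property g (φ ∘ₗ π) hg
  have hzero : g ∘ₗ (lam ∘ₗ ρ) = 0 := by
    rw [← LinearMap.comp_assoc, hlam, LinearMap.comp_assoc]
    have : π ∘ₗ ρ = 0 := by
      ext x
      exact hex.apply_apply_eq_zero _
    rw [this, LinearMap.comp_zero]
  let μ : (Fin m → R) →ₗ[R] LinearMap.ker g :=
    LinearMap.codRestrict (LinearMap.ker g) (lam ∘ₗ ρ) (fun x => by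
      rw [LinearMap.mem_ker, ← LinearMap.comp_apply, hzero, LinearMap.zero_apply])
  have hμ : (LinearMap.ker g).subtype ∘ₗ μ = lam ∘ₗ ρ := by
    ext x; rfl
  obtain ⟨ν, hν⟩ := exists_extension_of_universallyInjective _ hker ρ μ lam hμ
  -- `lam - ι ν` kills the range of `ρ`, hence factors through `π`
  let d : (Fin n → R) →ₗ[R] L := lam - (LinearMap.ker g).subtype ∘ₗ ν
  have hd : LinearMap.ker π ≤ LinearMap.ker d := by
    intro x hx
    obtain ⟨y, rfl⟩ := (hex x).mp hx
    rw [LinearMap.mem_ker]
    change lam (ρ y) - (LinearMap.ker g).subtype (ν (ρ y)) = 0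
    have := LinearMap.congr_fun hν y
    simp only [LinearMap.comp_apply] at this
    rw [this]
    change lam (ρ y) - (lam (ρ y)) = 0
    exact sub_self _
  let e := π.quotKerEquivOfSurjective hπ
  let ψ : Q →ₗ[R] L := ((LinearMap.ker π).liftQ d hd) ∘ₗ e.symm.toLinearMap
  have hψ : ψ ∘ₗ π = d := by
    ext x
    change ((LinearMap.ker π).liftQ d hd) (e.symm (π (Pi.single x 1))) = d (Pi.single x 1)
    have : e.symm (π (Pi.single x 1)) = (LinearMap.ker π).mkQ (Pi.single x 1) := by
      rw [LinearEquiv.symm_apply_eq]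
      rfl
    rw [this]
    rfl
  refine ⟨ψ, ?_⟩
  have : (g ∘ₗ ψ) ∘ₗ π = φ ∘ₗ π := by
    rw [LinearMap.comp_assoc, hψ]
    change g ∘ₗ (lam - (LinearMap.ker g).subtype ∘ₗ ν) = _
    rw [LinearMap.comp_sub, hlam, ← LinearMap.comp_assoc]
    have : g ∘ₗ (LinearMap.ker g).subtype = 0 := by
      ext x
      exact x.2
    rw [this, LinearMap.zero_comp, sub_zero]
  exact LinearMap.cancel_right hπ |>.mp this

end Groth.Agent.H44
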