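import Groth.Agent.H44.PureRes
import Mathlib.LinearAlgebra.TensorProduct.RightExactness
import Mathlib.Algebra.Homology.Single

set_option autoImplicit false
universe u

namespace Groth.Agent.H44

open TensorProduct CategoryTheory LinearMap

section LinAlg

variable {R : Type u} [CommRing R]

variable {X Y : Type u} [AddCommGroup X] [Module R X] [AddCommGroup Y] [Module R Y]

/-- the next differential of the canonical pure projective resolution -/
noncomputable def coverD (g : X →ₗ[R] Y) : (Π₀ i, CoverMod R (LinearMap.ker g) i) →ₗ[R] X :=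
  (LinearMap.ker g).subtype ∘ₗ coverMap R (LinearMap.ker g)

/-- the kernel of `g ⊗ T` is the image of `ker g ⊗ T`, for all `T`. -/
def KerCompat (g : X →ₗ[R] Y) : Prop :=
  ∀ (T : Type u) [AddCommGroup T] [Module R T] (x : X ⊗[R] T),
    g.rTensor T x = 0 → ∃ w, (LinearMap.ker g).subtype.rTensor T w = x

theorem kerCompat_of_surjective (g : X →ₗ[R] Y) (hg : Function.Surjective g) : KerCompat g := by
  intro T _ _ x hx
  have := rTensor_exact T (LinearMap.exact_subtype_ker_map g) hg
  exact (this x).mp hx

theorem kerCompat_comp {K : Type u} [AddCommGroup K] [Module R K] (q : X →ₗ[R] K)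
    (ι : K →ₗ[R] Y) (hq : Function.Surjective q) (hι : CAlgX.UniversallyInjective R ι) :
    KerCompat (ι ∘ₗ q) := by
  intro T _ _ x hx
  have hqx : q.rTensor T x = 0 := by
    apply hι T
    rw [map_zero, ← LinearMap.comp_apply, ← LinearMap.rTensor_comp]
    exact hx
  obtain ⟨w, hw⟩ := kerCompat_of_surjective q hq T x hqx
  have hle : LinearMap.ker q ≤ LinearMap.ker (ι ∘ₗ q) := fun p hp => by
    rw [LinearMap.mem_ker] at hp ⊢
    rw [LinearMap.comp_apply, hp, map_zero]
  refine ⟨(Submodule.inclusion hle).rTensor T w, ?_⟩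
  rw [← LinearMap.comp_apply, ← LinearMap.rTensor_comp]
  exact hw

theorem coverD_comp (g : X →ₗ[R] Y) : g ∘ₗ coverD g = 0 := by
  ext1 p
  rw [LinearMap.zero_apply]
  exact (coverMap R (LinearMap.ker g) p).2

theorem univExactAt_coverD (g : X →ₗ[R] Y) (h : KerCompat g) : UnivExactAt (coverD g) g := by
  intro T _ _ x hx
  obtain ⟨w, rfl⟩ := h T x hx
  obtain ⟨v, rfl⟩ := LinearMap.rTensor_surjective T (coverMap_surjective R (LinearMap.ker g)) w
  refine ⟨v, ?_⟩
  rw [← LinearMap.comp_apply, ← LinearMap.rTensor_comp]
  rfl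

theorem ker_coverD (g : X →ₗ[R] Y) :
    LinearMap.ker (coverD g) = LinearMap.ker (coverMap R (LinearMap.ker g)) :=
  LinearMap.ker_comp_of_ker_eq_bot _ (Submodule.ker_subtype _)

theorem universallyInjective_ker_coverD (g : X →ₗ[R] Y) :
    CAlgX.UniversallyInjective R (LinearMap.ker (coverD g)).subtype := by
  rw [ker_coverD]
  exact coverMap_universallyInjective R (LinearMap.ker g)

theorem kerCompat_coverD (g : X →ₗ[R] Y)
    (h : CAlgX.UniversallyInjective R (LinearMap.ker g).subtype) : KerCompat (coverD g) :=
  kerCompat_comp _ _ (coverMap_surjective R (LinearMap.ker g)) h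

end LinAlg

section Complex

variable (R : Type u) [CommRing R]

/-- a stage of the resolution: a map `X ⟶ Y` of modules -/
structure Stage where
  X : ModuleCat.{u} R
  Y : ModuleCat.{u} R
  g : X ⟶ Y

variable {R}

/-- the next stage -/
noncomputable def Stage.next (S : Stage R) : Stage R where
  X := ModuleCat.of R (Π₀ i, CoverMod R (LinearMap.ker S.g.hom) i)
  Y := S.X
  g := ModuleCat.ofHom (coverD S.g.hom)

variable (M : ModuleCat.{u} R)

/-- the stages of the canonical pure projective resolution of `M` -/
noncomputable def stage : ℕ → Stage R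
  | 0 => ⟨ModuleCat.of R (Π₀ i, CoverMod R M i), M, ModuleCat.ofHom (coverMap R M)⟩
  | n + 1 => (stage n).next

/-- good stages -/
def Stage.Good (S : Stage R) : Prop :=
  CAlgX.UniversallyInjective R (LinearMap.ker S.g.hom).subtype ∧ KerCompat S.g.hom

theorem stage_good (n : ℕ) : (stage M n).Good := by
  induction n with
  | zero =>
    exact ⟨coverMap_universallyInjective R M,
      kerCompat_of_surjective _ (coverMap_surjective R M)⟩
  | succ n ih =>
    exact ⟨universallyInjective_ker_coverD _, kerCompat_coverD _ ih.1⟩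

theorem stage_univExactAt (n : ℕ) :
    UnivExactAt (R := R) (A := (stage M (n + 1)).X) (B := (stage M n).X) (C := (stage M n).Y)
      (stage M (n + 1)).g.hom (stage M n).g.hom :=
  univExactAt_coverD _ (stage_good M n).2

/-- the canonical pure projective resolution of `M` -/
noncomputable def pureProjComplex : ChainComplex (ModuleCat.{u} R) ℕ :=
  ChainComplex.of (fun n => (stage M n).X)
    (fun n => ((stage M (n + 1)).g : (stage M (n + 1)).X ⟶ (stage M n).X))
    (fun n => by
      apply ModuleCat.hom_ext
      exact coverD_comp (stage M (n + 1)).g.hom)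

theorem pureProjComplex_d (n : ℕ) :
    (pureProjComplex M).d (n + 1) n = (stage M (n + 1)).g := by
  dsimp only [pureProjComplex, ChainComplex.of]
  exact ChainComplex.of_d _ _ _

/-- the augmentation -/
noncomputable def pureProjAug :
    pureProjComplex M ⟶ (ChainComplex.single₀ (ModuleCat.{u} R)).obj M :=
  (ChainComplex.toSingle₀Equiv (pureProjComplex M) M).symm
    ⟨((stage M 0).g : (stage M 0).X ⟶ M), by
      rw [pureProjComplex_d]
      apply ModuleCat.hom_ext
      exact coverD_comp (stage M 0).g.hom⟩

theorem pureProjAug_f_zero : (pureProjAug M).f 0 = ((stage M 0).g : (stage M 0).X ⟶ M) :=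
  ChainComplex.toSingle₀Equiv_symm_apply_f_zero _ _

theorem pureProjAug_univ (T : ModuleCat.{u} R) :
    QuasiIso (((MonoidalCategory.tensorRight T).mapHomologicalComplex
      (ComplexShape.down ℕ)).map (pureProjAug M)) := by
  revert T
  rw [univ_chain_iff]
  refine ⟨?_, ?_, ?_⟩
  · rw [pureProjAug_f_zero]
    exact coverMap_surjective R M
  · rw [pureProjAug_f_zero, pureProjComplex_d]
    exact stage_univExactAt M 0
  · intro n
    rw [pureProjComplex_d, pureProjComplex_d]
    exact stage_univExactAt M (n + 1)

theorem pureProjComplex_X (n : ℕ) :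
    ∃ (K : Type u) (_ : AddCommGroup K) (_ : Module R K),
      (pureProjComplex M).X n = ModuleCat.of R (Π₀ i, CoverMod R K i) := by
  cases n with
  | zero => exact ⟨M, inferInstance, inferInstance, rfl⟩
  | succ n => exact ⟨LinearMap.ker (stage M n).g.hom, inferInstance, inferInstance, rfl⟩

end Complex

end Groth.Agent.H44
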