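import Groth.Agent.H44.PureCover
import Mathlib.Algebra.Homology.QuasiIso
import Mathlib.Algebra.Homology.SingleHomology
import Mathlib.Algebra.Homology.ShortComplex.ModuleCat
import Mathlib.Algebra.Category.ModuleCat.Monoidal.Basic
import Mathlib.CategoryTheory.Monoidal.Preadditive

set_option autoImplicit false
universe u

namespace Groth.Agent.H44

open TensorProduct CategoryTheory

section LinAlg

variable {R : Type u} [CommRing R]

/-- `ker (b ⊗ T) ⊆ range (a ⊗ T)` for every module `T`. -/
def UnivExactAt {A B C : Type u} [AddCommGroup A] [Module R A] [AddCommGroup B] [Module R B]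
    [AddCommGroup C] [Module R C] (a : A →ₗ[R] B) (b : B →ₗ[R] C) : Prop :=
  ∀ (T : Type u) [AddCommGroup T] [Module R T] (x : B ⊗[R] T),
    b.rTensor T x = 0 → ∃ y, a.rTensor T y = x

theorem rid_rTensor {A B : Type u} [AddCommGroup A] [Module R A] [AddCommGroup B] [Module R B]
    (a : A →ₗ[R] B) (y : A ⊗[R] R) :
    TensorProduct.rid R B (a.rTensor R y) = a (TensorProduct.rid R A y) := by
  induction y using TensorProduct.induction_on with
  | zero => simp
  | tmul x r => simp
  | add x y hx hy => simp only [map_add, hx, hy]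

theorem UnivExactAt.exact {A B C : Type u} [AddCommGroup A] [Module R A] [AddCommGroup B]
    [Module R B] [AddCommGroup C] [Module R C] {a : A →ₗ[R] B} {b : B →ₗ[R] C}
    (h : UnivExactAt a b) (x : B) (hx : b x = 0) : ∃ y, a y = x := by
  obtain ⟨y, hy⟩ := h R (x ⊗ₜ 1) (by rw [LinearMap.rTensor_tmul, hx, zero_tmul])
  refine ⟨TensorProduct.rid R A y, ?_⟩
  rw [← rid_rTensor, hy, TensorProduct.rid_tmul, one_smul]

theorem surjective_of_rTensor_surjective {A B : Type u} [AddCommGroup A] [Module R A]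
    [AddCommGroup B] [Module R B] (a : A →ₗ[R] B)
    (h : Function.Surjective (a.rTensor R)) : Function.Surjective a := by
  intro x
  obtain ⟨y, hy⟩ := h (x ⊗ₜ 1)
  refine ⟨TensorProduct.rid R A y, ?_⟩
  rw [← rid_rTensor, hy, TensorProduct.rid_tmul, one_smul]

/-- If `A' → A → B` is universally exact at `A` and exact at `B` towards `b`, then
`ker b ⊆ B` is universally injective. -/
theorem universallyInjective_ker_of_univExactAt {A' A B C : Type u} [AddCommGroup A'] [Module R A']
    [AddCommGroup A] [Module R A] [AddCommGroup B] [Module R B] [AddCommGroup C] [Module R C]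
    (a' : A' →ₗ[R] A) (a : A →ₗ[R] B) (b : B →ₗ[R] C) (haa : a ∘ₗ a' = 0) (hba : b ∘ₗ a = 0)
    (h1 : UnivExactAt a' a) (h2 : UnivExactAt a b) :
    CAlgX.UniversallyInjective R (LinearMap.ker b).subtype := by
  intro T _ _
  rw [injective_iff_map_eq_zero]
  intro z hz
  let g : A →ₗ[R] LinearMap.ker b := a.codRestrict (LinearMap.ker b) (fun x => by
    rw [LinearMap.mem_ker, ← LinearMap.comp_apply, hba, LinearMap.zero_apply])
  have hg : Function.Surjective g := by
    rintro ⟨x, hx⟩
    obtain ⟨y, hy⟩ := h2.exact x hx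
    exact ⟨y, Subtype.ext hy⟩
  obtain ⟨y, rfl⟩ := LinearMap.rTensor_surjective T hg z
  have hy : a.rTensor T y = 0 := by
    rw [← hz, ← LinearMap.comp_apply, ← LinearMap.rTensor_comp]
    rfl
  obtain ⟨x, rfl⟩ := h1 T y hy
  rw [← LinearMap.comp_apply, ← LinearMap.rTensor_comp]
  have : g ∘ₗ a' = 0 := by
    ext p
    exact LinearMap.congr_fun haa p
  rw [this, LinearMap.rTensor_zero, LinearMap.zero_apply]

/-- lifting lemma: pure projectives lift along universally exact sequences. -/
theorem lift_of_univExactAt {A' A B C P : Type u} [AddCommGroup A'] [Module R A']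
    [AddCommGroup A] [Module R A] [AddCommGroup B] [Module R B] [AddCommGroup C] [Module R C]
    [AddCommGroup P] [Module R P]
    (hP : ∀ ⦃L T : Type u⦄ [AddCommGroup L] [Module R L] [AddCommGroup T] [Module R T]
      (g : L →ₗ[R] T), Function.Surjective g →
      CAlgX.UniversallyInjective R (LinearMap.ker g).subtype →
      ∀ φ : P →ₗ[R] T, ∃ ψ : P →ₗ[R] L, g ∘ₗ ψ = φ)
    (a' : A' →ₗ[R] A) (a : A →ₗ[R] B) (b : B →ₗ[R] C) (haa : a ∘ₗ a' = 0) (hba : b ∘ₗ a = 0)
    (h1 : UnivExactAt a' a) (h2 : UnivExactAt a b)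
    (θ : P →ₗ[R] C) (hθ : ∀ p, θ p ∈ LinearMap.range b) : ∃ ψ : P →ₗ[R] B, b ∘ₗ ψ = θ := by
  have hker : CAlgX.UniversallyInjective R (LinearMap.ker b.rangeRestrict).subtype := by
    have := universallyInjective_ker_of_univExactAt a' a b haa hba h1 h2
    rwa [← LinearMap.ker_rangeRestrict] at this
  obtain ⟨ψ, hψ⟩ := hP b.rangeRestrict b.surjective_rangeRestrict hker
    (θ.codRestrict (LinearMap.range b) hθ)
  refine ⟨ψ, ?_⟩
  ext p
  exact congrArg Subtype.val (LinearMap.congr_fun hψ p)

/-- If `A → B → C` is universally exact at `B`, the induced map `B ⧸ range a → C` is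
universally injective. -/
theorem universallyInjective_liftQ_of_univExactAt {A B C : Type u}
    [AddCommGroup A] [Module R A] [AddCommGroup B] [Module R B] [AddCommGroup C] [Module R C]
    (a : A →ₗ[R] B) (b : B →ₗ[R] C) (hba : b ∘ₗ a = 0) (h : UnivExactAt a b) :
    CAlgX.UniversallyInjective R ((LinearMap.range a).liftQ b
      (LinearMap.range_le_ker_iff.mpr hba)) := by
  intro T _ _
  rw [injective_iff_map_eq_zero]
  intro z hz
  obtain ⟨y, rfl⟩ := LinearMap.rTensor_surjective T (Submodule.mkQ_surjective (LinearMap.range a)) z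
  have hy : b.rTensor T y = 0 := by
    rw [← hz, ← LinearMap.comp_apply, ← LinearMap.rTensor_comp, Submodule.liftQ_mkQ]
  obtain ⟨x, rfl⟩ := h T y hy
  rw [← LinearMap.comp_apply, ← LinearMap.rTensor_comp]
  have : (LinearMap.range a).mkQ ∘ₗ a = 0 := by
    ext p
    simp
  rw [this, LinearMap.rTensor_zero, LinearMap.zero_apply]

/-- extension lemma: maps to pure injectives extend along universally exact sequences. -/
theorem extend_of_univExactAt {A B C I : Type u}
    [AddCommGroup A] [Module R A] [AddCommGroup B] [Module R B] [AddCommGroup C] [Module R C]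
    [AddCommGroup I] [Module R I]
    (hI : ∀ ⦃K L : Type u⦄ [AddCommGroup K] [Module R K] [AddCommGroup L] [Module R L]
      (g : K →ₗ[R] L), CAlgX.UniversallyInjective R g →
      ∀ φ : K →ₗ[R] I, ∃ ψ : L →ₗ[R] I, ψ ∘ₗ g = φ)
    (a : A →ₗ[R] B) (b : B →ₗ[R] C) (hba : b ∘ₗ a = 0) (h : UnivExactAt a b)
    (θ : B →ₗ[R] I) (hθ : θ ∘ₗ a = 0) : ∃ ψ : C →ₗ[R] I, ψ ∘ₗ b = θ := by
  obtain ⟨ψ, hψ⟩ := hI _ (universallyInjective_liftQ_of_univExactAt a b hba h)
    ((LinearMap.range a).liftQ θ (LinearMap.range_le_ker_iff.mpr hθ))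
  refine ⟨ψ, ?_⟩
  have := congrArg (fun f => f ∘ₗ (LinearMap.range a).mkQ) hψ
  simpa [LinearMap.comp_assoc, Submodule.liftQ_mkQ] using this

end LinAlg

section Translate

variable {R : Type u} [CommRing R]

theorem quasiIsoAt_succ_iff (K : ChainComplex (ModuleCat.{u} R) ℕ) (N T : ModuleCat.{u} R)
    (ε : K ⟶ (ChainComplex.single₀ (ModuleCat.{u} R)).obj N) (n : ℕ) :
    QuasiIsoAt (((MonoidalCategory.tensorRight T).mapHomologicalComplex
      (ComplexShape.down ℕ)).map ε) (n + 1) ↔
      ∀ x, (K.d (n + 1) n).hom.rTensor T x = 0 → ∃ y, (K.d (n + 2) (n + 1)).hom.rTensor T y = x := by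
  rw [quasiIsoAt_iff_exactAt']
  · rw [HomologicalComplex.exactAt_iff' _ (n + 2) (n + 1) n (by simp) (by simp)]
    rw [ShortComplex.moduleCat_exact_iff]
    rfl
  · apply ShortComplex.exact_of_isZero_X₂
    exact (MonoidalCategory.tensorRight T).map_isZero
      (HomologicalComplex.isZero_single_obj_X _ _ _ _ (by simp))

theorem quasiIsoAt_zero_iff (K : ChainComplex (ModuleCat.{u} R) ℕ) (N T : ModuleCat.{u} R)
    (ε : K ⟶ (ChainComplex.single₀ (ModuleCat.{u} R)).obj N) :
    QuasiIsoAt (((MonoidalCategory.tensorRight T).mapHomologicalComplex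
      (ComplexShape.down ℕ)).map ε) 0 ↔
      (∀ x, (ε.f 0).hom.rTensor T x = 0 → ∃ y, (K.d 1 0).hom.rTensor T y = x) ∧
        Function.Surjective ((ε.f 0).hom.rTensor T) := by
  rw [ChainComplex.quasiIsoAt₀_iff, ShortComplex.quasiIso_iff_of_zeros']
  · rw [ShortComplex.moduleCat_exact_iff, ModuleCat.epi_iff_surjective]
    rfl
  · show (MonoidalCategory.tensorRight T).map (K.d 0 0) = 0
    rw [K.shape 0 0 (by simp), Functor.map_zero]
  · show (MonoidalCategory.tensorRight T).map
      (((ChainComplex.single₀ (ModuleCat.{u} R)).obj N).d 1 0) = 0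
    rw [HomologicalComplex.single_obj_d, Functor.map_zero]
  · show (MonoidalCategory.tensorRight T).map
      (((ChainComplex.single₀ (ModuleCat.{u} R)).obj N).d 0 0) = 0
    rw [HomologicalComplex.single_obj_d, Functor.map_zero]

theorem co_quasiIsoAt_succ_iff (K : CochainComplex (ModuleCat.{u} R) ℕ) (M T : ModuleCat.{u} R)
    (η : (CochainComplex.single₀ (ModuleCat.{u} R)).obj M ⟶ K) (n : ℕ) :
    QuasiIsoAt (((MonoidalCategory.tensorRight T).mapHomologicalComplex
      (ComplexShape.up ℕ)).map η) (n + 1) ↔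
      ∀ x, (K.d (n + 1) (n + 2)).hom.rTensor T x = 0 → ∃ y, (K.d n (n + 1)).hom.rTensor T y = x := by
  rw [quasiIsoAt_iff_exactAt]
  · rw [HomologicalComplex.exactAt_iff' _ n (n + 1) (n + 2) (by simp) (by simp)]
    rw [ShortComplex.moduleCat_exact_iff]
    rfl
  · apply ShortComplex.exact_of_isZero_X₂
    exact (MonoidalCategory.tensorRight T).map_isZero
      (HomologicalComplex.isZero_single_obj_X _ _ _ _ (by simp))

theorem co_quasiIsoAt_zero_iff (K : CochainComplex (ModuleCat.{u} R) ℕ) (M T : ModuleCat.{u} R)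
    (η : (CochainComplex.single₀ (ModuleCat.{u} R)).obj M ⟶ K) :
    QuasiIsoAt (((MonoidalCategory.tensorRight T).mapHomologicalComplex
      (ComplexShape.up ℕ)).map η) 0 ↔
      (∀ x, (K.d 0 1).hom.rTensor T x = 0 → ∃ y, (η.f 0).hom.rTensor T y = x) ∧
        Function.Injective ((η.f 0).hom.rTensor T) := by
  rw [CochainComplex.quasiIsoAt₀_iff, ShortComplex.quasiIso_iff_of_zeros]
  · rw [ShortComplex.moduleCat_exact_iff, ModuleCat.mono_iff_injective]
    rfl
  · show (MonoidalCategory.tensorRight T).map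
      (((CochainComplex.single₀ (ModuleCat.{u} R)).obj M).d 0 0) = 0
    rw [HomologicalComplex.single_obj_d, Functor.map_zero]
  · show (MonoidalCategory.tensorRight T).map
      (((CochainComplex.single₀ (ModuleCat.{u} R)).obj M).d 0 1) = 0
    rw [HomologicalComplex.single_obj_d, Functor.map_zero]
  · show (MonoidalCategory.tensorRight T).map (K.d 0 0) = 0
    rw [K.shape 0 0 (by simp), Functor.map_zero]

/-- A chain complex augmented to `N` is a universally exact resolution iff the elementwise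
conditions hold. -/
theorem univ_chain_iff (K : ChainComplex (ModuleCat.{u} R) ℕ) (N : ModuleCat.{u} R)
    (ε : K ⟶ (ChainComplex.single₀ (ModuleCat.{u} R)).obj N) :
    (∀ T : ModuleCat.{u} R, QuasiIso (((MonoidalCategory.tensorRight T).mapHomologicalComplex
      (ComplexShape.down ℕ)).map ε)) ↔
      Function.Surjective (ε.f 0).hom ∧ UnivExactAt (K.d 1 0).hom (ε.f 0).hom ∧
        ∀ n, UnivExactAt (K.d (n + 2) (n + 1)).hom (K.d (n + 1) n).hom := by
  constructor
  · intro h
    refine ⟨?_, ?_, ?_⟩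
    · have := ((quasiIsoAt_zero_iff K N (ModuleCat.of R R) ε).mp ((h _).quasiIsoAt 0)).2
      exact surjective_of_rTensor_surjective _ this
    · intro T _ _ x hx
      exact ((quasiIsoAt_zero_iff K N (ModuleCat.of R T) ε).mp ((h _).quasiIsoAt 0)).1 x hx
    · intro n T _ _ x hx
      exact (quasiIsoAt_succ_iff K N (ModuleCat.of R T) ε n).mp ((h _).quasiIsoAt (n + 1)) x hx
  · rintro ⟨h0, h1, h2⟩ T
    rw [quasiIso_iff]
    intro i
    cases i with
    | zero =>
      rw [quasiIsoAt_zero_iff]
      exact ⟨fun x hx => h1 T x hx, LinearMap.rTensor_surjective T h0⟩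
    | succ n =>
      rw [quasiIsoAt_succ_iff]
      exact fun x hx => h2 n T x hx

/-- A cochain complex coaugmented from `M` is a universally exact resolution iff the elementwise
conditions hold. -/
theorem univ_cochain_iff (K : CochainComplex (ModuleCat.{u} R) ℕ) (M : ModuleCat.{u} R)
    (η : (CochainComplex.single₀ (ModuleCat.{u} R)).obj M ⟶ K) :
    (∀ T : ModuleCat.{u} R, QuasiIso (((MonoidalCategory.tensorRight T).mapHomologicalComplex
      (ComplexShape.up ℕ)).map η)) ↔
      CAlgX.UniversallyInjective R (η.f 0).hom ∧ UnivExactAt (η.f 0).hom (K.d 0 1).hom ∧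
        ∀ n, UnivExactAt (K.d n (n + 1)).hom (K.d (n + 1) (n + 2)).hom := by
  constructor
  · intro h
    refine ⟨?_, ?_, ?_⟩
    · intro T _ _
      exact ((co_quasiIsoAt_zero_iff K M (ModuleCat.of R T) η).mp ((h _).quasiIsoAt 0)).2
    · intro T _ _ x hx
      exact ((co_quasiIsoAt_zero_iff K M (ModuleCat.of R T) η).mp ((h _).quasiIsoAt 0)).1 x hx
    · intro n T _ _ x hx
      exact (co_quasiIsoAt_succ_iff K M (ModuleCat.of R T) η n).mp ((h _).quasiIsoAt (n + 1)) x hx
  · rintro ⟨h0, h1, h2⟩ T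
    rw [quasiIso_iff]
    intro i
    cases i with
    | zero =>
      rw [co_quasiIsoAt_zero_iff]
      exact ⟨fun x hx => h1 T x hx, h0 T⟩
    | succ n =>
      rw [co_quasiIsoAt_succ_iff]
      exact fun x hx => h2 n T x hx

end Translate

end Groth.Agent.H44
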