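import Mathlib
import Groth.Prelude.Def_TorSh
import Groth.Prelude.Def_Coh
import Groth.Agent.H44.HomOfBasis
import Groth.Agent.H8.QCohStalk
import Groth.Agent.H33.MV.Sect

/-!
# Torsion-free rank one modules embed in the rational functions (helper44)
-/

set_option autoImplicit false
set_option linter.unusedSectionVars false
universe u
open CategoryTheory Opposite AlgebraicGeometry TopologicalSpace

namespace Groth.Agent.H44.RatFun

section
variable (X : Scheme.{u}) [IsIntegral X]

/-- The sheaf of rational functions, as the pushforward of the structure sheaf of the generic point. -/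
noncomputable abbrev ratMod : X.Modules :=
  (Scheme.Modules.pushforward (X.fromSpecStalk (genericPoint X))).obj
    (Coh.structureModule (Spec (X.presheaf.stalk (genericPoint X))))

/-- `K → Γ(Spec K, j⁻¹ U)`. -/
noncomputable def iota (U : X.Opens) :
    X.presheaf.stalk (genericPoint X) →+*
      Γ(Spec (X.presheaf.stalk (genericPoint X)), X.fromSpecStalk (genericPoint X) ⁻¹ᵁ U) :=
  ((Spec (X.presheaf.stalk (genericPoint X))).presheaf.map (homOfLE le_top).op).hom.comp
    (Scheme.ΓSpecIso (X.presheaf.stalk (genericPoint X))).inv.hom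

theorem iota_germ (U : X.Opens) (hU : genericPoint X ∈ U) (r : Γ(X, U)) :
    iota X U (X.presheaf.germ U (genericPoint X) hU r) =
      (X.fromSpecStalk (genericPoint X)).app U r := by
  rw [Scheme.fromSpecStalk_app hU]
  rfl

theorem iota_map {U V : X.Opens} (h : V ≤ U) (a : X.presheaf.stalk (genericPoint X)) :
    (Spec (X.presheaf.stalk (genericPoint X))).presheaf.map
      (homOfLE (show X.fromSpecStalk (genericPoint X) ⁻¹ᵁ V ≤ X.fromSpecStalk (genericPoint X) ⁻¹ᵁ U from
        fun _ hx => h hx)).op (iota X U a) = iota X V a := by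
  unfold iota
  simp only [RingHom.comp_apply]
  rw [← ConcreteCategory.comp_apply, ← Functor.map_comp]
  rfl

theorem genericPoint_mem {U : X.Opens} {x : X} (hx : x ∈ U) : genericPoint X ∈ U := by
  have := (genericPoint_spec X).mem_open_set_iff U.2
  rw [Set.univ_inter] at this
  exact this.mpr ⟨x, hx⟩

theorem isBasis_mem : Opens.IsBasis (Set.range
    (fun U : {U : X.Opens // genericPoint X ∈ U} => U.1)) := by
  rw [Opens.isBasis_iff_nbhd]
  intro W x hx
  exact ⟨W, ⟨⟨W, genericPoint_mem X hx⟩, rfl⟩, hx, le_rfl⟩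

variable {X} (F : X.Modules)
  (ψ : F.presheaf.stalk (genericPoint X) →ₗ[X.presheaf.stalk (genericPoint X)]
    X.presheaf.stalk (genericPoint X))

/-- The map on sections over an open containing the generic point. -/
noncomputable def phi (U : {U : X.Opens // genericPoint X ∈ U}) :
    Γ(F, U.1) →ₗ[Γ(X, U.1)] Γ(ratMod X, U.1) where
  toFun m := (iota X U.1 (ψ (F.presheaf.germ U.1 (genericPoint X) U.2 m)) :
    Γ(Spec (X.presheaf.stalk (genericPoint X)), X.fromSpecStalk (genericPoint X) ⁻¹ᵁ U.1))
  map_add' a b := by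
    rw [map_add, map_add, map_add]
    rfl
  map_smul' r m := by
    rw [Groth.Agent.H8.germ_smul, map_smul, smul_eq_mul, map_mul, iota_germ]
    rfl

theorem phi_apply (U : {U : X.Opens // genericPoint X ∈ U}) (m : Γ(F, U.1)) :
    (phi F ψ U m : Γ(Spec (X.presheaf.stalk (genericPoint X)),
      X.fromSpecStalk (genericPoint X) ⁻¹ᵁ U.1)) =
      iota X U.1 (ψ (F.presheaf.germ U.1 (genericPoint X) U.2 m)) := rfl

theorem phi_map (U V : {U : X.Opens // genericPoint X ∈ U}) (h : V.1 ≤ U.1) (m : Γ(F, U.1)) :
    phi F ψ V (F.presheaf.map (homOfLE h).op m) =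
      (ratMod X).presheaf.map (homOfLE h).op (phi F ψ U m) := by
  change (iota X V.1 (ψ (F.presheaf.germ V.1 (genericPoint X) V.2 (F.presheaf.map (homOfLE h).op m))) :
    Γ(Spec (X.presheaf.stalk (genericPoint X)), X.fromSpecStalk (genericPoint X) ⁻¹ᵁ V.1)) = _
  rw [TopCat.Presheaf.germ_res_apply]
  exact (iota_map X h _).symm

/-- The morphism `F ⟶ K_X` attached to a functional on the generic stalk. -/
noncomputable def toRat : F ⟶ ratMod X :=
  homOfBasis (fun U : {U : X.Opens // genericPoint X ∈ U} => U.1) (isBasis_mem X)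
    (phi F ψ) (fun U V h m => phi_map F ψ U V h m)

theorem toRat_app (U : X.Opens) (hU : genericPoint X ∈ U) (m : Γ(F, U)) :
    (toRat F ψ).app U m = phi F ψ ⟨U, hU⟩ m :=
  homOfBasis_app _ (isBasis_mem X) (phi F ψ) _ ⟨U, hU⟩ m

omit ψ in
/-- On a quasi-coherent torsion-free module over an integral scheme, a section is determined by its
germ at the generic point. -/
theorem eq_zero_of_germ_eq_zero [F.IsQuasicoherent] (hF : TorSh.IsTorsionFree F)
    (U : X.Opens) (hU : genericPoint X ∈ U) (m : Γ(F, U))
    (hm : F.presheaf.germ U (genericPoint X) hU m = 0) : m = 0 := by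
  refine modules_section_ext F m 0 fun x hx => ?_
  obtain ⟨_, ⟨V, hV, rfl⟩, hxV, hVU'⟩ :=
    X.isBasis_affineOpens.exists_subset_of_mem_open hx U.2
  have hVU : V ≤ U := hVU'
  refine ⟨V, hVU, hxV, ?_⟩
  rw [map_zero]
  set m' := F.presheaf.map (homOfLE hVU).op m with hm'
  have hηV : genericPoint X ∈ V := genericPoint_mem X hxV
  have hgerm : F.presheaf.germ V (genericPoint X) hηV m' = 0 := by
    rw [hm', TopCat.Presheaf.germ_res_apply]
    exact hm
  letI := Groth.Agent.H8.stalkModule F hηV
  haveI := Groth.Agent.H8.isLocalizedModule_germₗ F hV hηV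
  obtain ⟨c, hc⟩ := (IsLocalizedModule.eq_zero_iff
    (hV.primeIdealOf ⟨genericPoint X, hηV⟩).asIdeal.primeCompl
    (Groth.Agent.H8.germₗ F hηV)).mp hgerm
  have hc' : (c : Γ(X, V)) • m' = 0 := hc
  have hcη : genericPoint X ∈ X.basicOpen (c : Γ(X, V)) :=
    (Groth.Agent.H8.notMem_primeIdealOf_iff hV hηV _).mp c.2
  have hcunit : IsUnit (X.presheaf.germ V (genericPoint X) hηV (c : Γ(X, V))) :=
    (X.mem_basicOpen _ _ hηV).mp hcη
  refine TopCat.Presheaf.section_ext ⟨F.presheaf, F.isSheaf⟩ V m' 0 fun y hy => ?_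
  change F.presheaf.germ V y hy m' = F.presheaf.germ V y hy 0
  rw [map_zero]
  have hne : X.presheaf.germ V y hy (c : Γ(X, V)) ≠ 0 := by
    intro h0
    have hsp : genericPoint X ⤳ y := genericPoint_specializes y
    have := TopCat.Presheaf.germ_stalkSpecializes X.presheaf (U := V) hy hsp
    have h1 : X.presheaf.germ V (genericPoint X) hηV (c : Γ(X, V)) =
        (X.presheaf.stalkSpecializes hsp) (X.presheaf.germ V y hy (c : Γ(X, V))) := by
      rw [← this]; rfl
    rw [h0, map_zero] at h1
    rw [h1] at hcunit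
    exact not_isUnit_zero hcunit
  have hreg : IsRegular (X.presheaf.germ V y hy (c : Γ(X, V))) :=
    IsRegular.of_ne_zero hne
  haveI := hF y
  have h2 : X.presheaf.germ V y hy (c : Γ(X, V)) • F.presheaf.germ V y hy m' = 0 := by
    rw [← Groth.Agent.H8.germ_smul, hc', map_zero]
  have h3 := hreg.isSMulRegular (M := F.presheaf.stalk y)
  exact h3 (h2.trans (smul_zero _).symm)

omit ψ F in
theorem iota_injective (U : X.Opens) (hU : genericPoint X ∈ U) :
    Function.Injective (iota X U) := by
  have hmem : IsLocalRing.closedPoint (X.presheaf.stalk (genericPoint X)) ∈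
      X.fromSpecStalk (genericPoint X) ⁻¹ᵁ U := by
    change (X.fromSpecStalk (genericPoint X)) (IsLocalRing.closedPoint _) ∈ U
    rw [Scheme.fromSpecStalk_closedPoint]
    exact hU
  haveI : Nonempty ((X.fromSpecStalk (genericPoint X) ⁻¹ᵁ U : (Spec _).Opens) : Scheme.{u}) :=
    ⟨⟨_, hmem⟩⟩
  haveI : Nontrivial Γ(Spec (X.presheaf.stalk (genericPoint X)),
      X.fromSpecStalk (genericPoint X) ⁻¹ᵁ U) := Scheme.component_nontrivial _ _
  exact RingHom.injective _

omit ψ in
/-- A quasi-coherent torsion-free module whose generic stalk is one-dimensional embeds into the sheaf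
of rational functions. -/
theorem exists_mono [F.IsQuasicoherent] (hF : TorSh.IsTorsionFree F)
    (h1 : Module.finrank (X.presheaf.stalk (genericPoint X))
      (F.presheaf.stalk (genericPoint X)) = 1) :
    ∃ i : F ⟶ ratMod X, Mono i := by
  haveI : Module.Finite (X.presheaf.stalk (genericPoint X)) (F.presheaf.stalk (genericPoint X)) :=
    Module.finite_of_finrank_pos (by rw [h1]; exact Nat.one_pos)
  let ψ : F.presheaf.stalk (genericPoint X) ≃ₗ[X.presheaf.stalk (genericPoint X)]
      X.presheaf.stalk (genericPoint X) :=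
    LinearEquiv.ofFinrankEq _ _ (by rw [h1, Module.finrank_self])
  refine ⟨toRat F ψ.toLinearMap, ?_⟩
  apply Groth.Agent.H33.MV.mono_of_injective_app
  intro O a b hab
  by_cases hO : genericPoint X ∈ O
  · have h0 : (toRat F ψ.toLinearMap).app O (a - b) = 0 := by
      rw [map_sub, hab, sub_self]
    rw [toRat_app F _ O hO] at h0
    have h2 : iota X O (ψ (F.presheaf.germ O (genericPoint X) hO (a - b))) = 0 := h0
    have h3 := (map_eq_zero_iff _ (iota_injective O hO)).mp h2
    have h4 : F.presheaf.germ O (genericPoint X) hO (a - b) = 0 :=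
      (map_eq_zero_iff _ ψ.injective).mp h3
    exact sub_eq_zero.mp (eq_zero_of_germ_eq_zero F hF O hO _ h4)
  · exact modules_section_ext F a b (fun x hx => absurd (genericPoint_mem X hx) hO)

end
end Groth.Agent.H44.RatFun
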