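import Groth.Agent.H44.RatFun

/-!
# Quasi-coherent submodules of the rational functions are torsion-free of rank one (helper44)
-/

set_option autoImplicit false
set_option linter.unusedSectionVars false
universe u
open CategoryTheory Opposite AlgebraicGeometry TopologicalSpace

namespace Groth.Agent.H44.RatFun

section
variable {X : Scheme.{u}} [IsIntegral X]

theorem closedPoint_mem (U : X.Opens) (hU : genericPoint X ∈ U) :
    IsLocalRing.closedPoint (X.presheaf.stalk (genericPoint X)) ∈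
      X.fromSpecStalk (genericPoint X) ⁻¹ᵁ U := by
  change (X.fromSpecStalk (genericPoint X)) (IsLocalRing.closedPoint _) ∈ U
  rw [Scheme.fromSpecStalk_closedPoint]
  exact hU

theorem nonempty_preimage (U : X.Opens) (hU : genericPoint X ∈ U) :
    Nonempty ((X.fromSpecStalk (genericPoint X) ⁻¹ᵁ U : (Spec _).Opens) : Scheme.{u}) :=
  ⟨⟨_, closedPoint_mem U hU⟩⟩

/-- a section of the rational functions, as a function on the generic point -/
def asFun {U : X.Opens} (t : Γ(ratMod X, U)) :
    Γ(Spec (X.presheaf.stalk (genericPoint X)), X.fromSpecStalk (genericPoint X) ⁻¹ᵁ U) := t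

theorem asFun_injective (U : X.Opens) : Function.Injective (asFun (X := X) (U := U)) :=
  fun _ _ h => h

theorem asFun_zero (U : X.Opens) : asFun (0 : Γ(ratMod X, U)) = 0 := rfl

/-- the action of functions on sections of the rational functions -/
theorem asFun_smul (U : X.Opens) (r : Γ(X, U)) (t : Γ(ratMod X, U)) :
    asFun (r • t) = (X.fromSpecStalk (genericPoint X)).app U r * asFun t := rfl

variable (G : X.Modules) (i : G ⟶ ratMod X) [Mono i]

include i in
theorem isTorsionFree_of_mono : TorSh.IsTorsionFree G := by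
  intro x
  refine ⟨fun r hr => ?_⟩
  suffices H : ∀ g : G.presheaf.stalk x, r • g = 0 → g = 0 by
    intro g₁ g₂ h
    have h' : r • (g₁ - g₂) = 0 := by
      rw [smul_sub]; exact sub_eq_zero.mpr h
    exact sub_eq_zero.mp (H _ h')
  intro g hg
  obtain ⟨U₁, hx₁, r', rfl⟩ := TopCat.Presheaf.exists_germ_eq X.presheaf r
  obtain ⟨U₂, hx₂, g', rfl⟩ := TopCat.Presheaf.exists_germ_eq G.presheaf g
  have hxU : x ∈ U₁ ⊓ U₂ := ⟨hx₁, hx₂⟩
  set r₁ := X.presheaf.map (homOfLE (inf_le_left : U₁ ⊓ U₂ ≤ U₁)).op r' with hr₁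
  set g₁ := G.presheaf.map (homOfLE (inf_le_right : U₁ ⊓ U₂ ≤ U₂)).op g' with hg₁
  have e1 : X.presheaf.germ U₁ x hx₁ r' = X.presheaf.germ (U₁ ⊓ U₂) x hxU r₁ := by
    rw [hr₁, TopCat.Presheaf.germ_res_apply]
  have e2 : G.presheaf.germ U₂ x hx₂ g' = G.presheaf.germ (U₁ ⊓ U₂) x hxU g₁ := by
    rw [hg₁, TopCat.Presheaf.germ_res_apply]
  rw [e1, e2, ← Groth.Agent.H8.germ_smul] at hg
  have hg0 : G.presheaf.germ (U₁ ⊓ U₂) x hxU (r₁ • g₁) = G.presheaf.germ (U₁ ⊓ U₂) x hxU 0 := by
    rw [hg, map_zero]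
  obtain ⟨W, hxW, iW, iW', hW⟩ := TopCat.Presheaf.germ_eq G.presheaf x hxU hxU _ _ hg0
  have hWle : W ≤ U₁ ⊓ U₂ := iW.le
  set r₂ := X.presheaf.map (homOfLE hWle).op r₁ with hr₂
  set g₂ := G.presheaf.map (homOfLE hWle).op g₁ with hg₂
  have h0 : r₂ • g₂ = 0 := by
    rw [hr₂, hg₂, ← presheaf_map_smul]
    have : G.presheaf.map (homOfLE hWle).op (r₁ • g₁) = G.presheaf.map iW.op (r₁ • g₁) := rfl
    rw [this, hW, map_zero]
  have hηW : genericPoint X ∈ W := genericPoint_mem X hxW
  have h1 : asFun (i.app W (r₂ • g₂)) = 0 := by rw [h0, map_zero]; rfl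
  rw [Scheme.Modules.Hom.app_smul, asFun_smul] at h1
  haveI := nonempty_preimage W hηW
  have h2 := mul_eq_zero.mp h1
  rw [e2]
  rcases h2 with h2 | h2
  · exfalso
    rw [← iota_germ X W hηW] at h2
    have h3 := (map_eq_zero_iff _ (iota_injective W hηW)).mp h2
    haveI : Nonempty (W : Scheme.{u}) := ⟨⟨x, hxW⟩⟩
    have h4 : r₂ = 0 :=
      (map_eq_zero_iff _ (germ_injective_of_isIntegral X (genericPoint X) hηW)).mp h3
    have h5 : X.presheaf.germ U₁ x hx₁ r' = 0 := by
      rw [e1, ← TopCat.Presheaf.germ_res_apply X.presheaf (homOfLE hWle) x hxW r₁, ← hr₂, h4,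
        map_zero]
    exact hr.ne_zero h5
  · have h3 : g₂ = 0 :=
      (map_eq_zero_iff _ (Groth.Agent.H33.MV.injective_app_of_mono i W)).mp (asFun_injective W h2)
    rw [← TopCat.Presheaf.germ_res_apply G.presheaf (homOfLE hWle) x hxW g₁, ← hg₂, h3, map_zero]

omit [Mono i] in
theorem preimage_eq_top (U : X.Opens) (hU : genericPoint X ∈ U) :
    X.fromSpecStalk (genericPoint X) ⁻¹ᵁ U = ⊤ := by
  refine top_le_iff.mp fun z _ => ?_
  have hz : z = IsLocalRing.closedPoint (X.presheaf.stalk (genericPoint X)) :=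
    Subsingleton.elim (α := PrimeSpectrum (X.presheaf.stalk (genericPoint X))) _ _
  rw [hz]
  exact closedPoint_mem U hU

omit [Mono i] in
theorem iota_bijective (U : X.Opens) (hU : genericPoint X ∈ U) :
    Function.Bijective (iota X U) := by
  refine ⟨iota_injective U hU, ?_⟩
  have h := preimage_eq_top U hU
  haveI : IsIso (homOfLE (le_top : X.fromSpecStalk (genericPoint X) ⁻¹ᵁ U ≤ ⊤)) :=
    ⟨⟨homOfLE h.ge, Subsingleton.elim _ _, Subsingleton.elim _ _⟩⟩
  have h1 : Function.Bijective ((Spec (X.presheaf.stalk (genericPoint X))).presheaf.map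
      (homOfLE (le_top : X.fromSpecStalk (genericPoint X) ⁻¹ᵁ U ≤ ⊤)).op) :=
    ConcreteCategory.bijective_of_isIso _
  have h2 : Function.Bijective (Scheme.ΓSpecIso (X.presheaf.stalk (genericPoint X))).inv :=
    ConcreteCategory.bijective_of_isIso _
  exact (h1.comp h2).2

include i in
/-- A nonzero quasi-coherent submodule of the rational functions has one-dimensional generic stalk. -/
theorem finrank_eq_one_of_mono [G.IsQuasicoherent] (hG : ¬ Limits.IsZero G) :
    Module.finrank (X.presheaf.stalk (genericPoint X))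
      (G.presheaf.stalk (genericPoint X)) = 1 := by
  have hTF := isTorsionFree_of_mono G i
  obtain ⟨U, a, ha⟩ : ∃ (U : X.Opens) (a : Γ(G, U)), a ≠ 0 := by
    by_contra hcon
    push Not at hcon
    apply hG
    rw [Limits.IsZero.iff_id_eq_zero]
    refine Scheme.Modules.hom_ext _ _ fun U => ?_
    ext s
    rw [hcon U s, map_zero, map_zero]
  have hηU : genericPoint X ∈ U := by
    by_contra h
    exact ha (modules_section_ext G a 0 (fun x hx => absurd (genericPoint_mem X hx) h))
  have hv : G.presheaf.germ U (genericPoint X) hηU a ≠ 0 :=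
    fun h => ha (eq_zero_of_germ_eq_zero G hTF U hηU a h)
  rw [finrank_eq_one_iff_of_nonzero' _ hv]
  intro w
  obtain ⟨U', hηU', b, rfl⟩ := TopCat.Presheaf.exists_germ_eq G.presheaf w
  obtain ⟨_, ⟨W, hW, rfl⟩, hηW, hWle'⟩ := X.isBasis_affineOpens.exists_subset_of_mem_open
    (show genericPoint X ∈ U ⊓ U' from ⟨hηU, hηU'⟩) (U ⊓ U').2
  have hWle : W ≤ U ⊓ U' := hWle'
  set a₁ := G.presheaf.map (homOfLE (hWle.trans inf_le_left)).op a with ha₁
  set b₁ := G.presheaf.map (homOfLE (hWle.trans inf_le_right)).op b with hb₁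
  have ea : G.presheaf.germ U (genericPoint X) hηU a = G.presheaf.germ W (genericPoint X) hηW a₁ := by
    rw [ha₁, TopCat.Presheaf.germ_res_apply]
  have eb : G.presheaf.germ U' (genericPoint X) hηU' b =
      G.presheaf.germ W (genericPoint X) hηW b₁ := by
    rw [hb₁, TopCat.Presheaf.germ_res_apply]
  obtain ⟨α, hα⟩ := (iota_bijective W hηW).2 (asFun (i.app W a₁))
  obtain ⟨β, hβ⟩ := (iota_bijective W hηW).2 (asFun (i.app W b₁))
  have ha₁0 : a₁ ≠ 0 := by
    intro h
    apply hv
    rw [ea, h, map_zero]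
  have hα0 : α ≠ 0 := by
    rintro rfl
    rw [map_zero] at hα
    exact ha₁0 ((map_eq_zero_iff _ (Groth.Agent.H33.MV.injective_app_of_mono i W)).mp
      (asFun_injective W hα.symm))
  haveI : Nonempty (W : Scheme.{u}) := ⟨⟨genericPoint X, hηW⟩⟩
  haveI := functionField_isFractionRing_of_isAffineOpen X W hW
  obtain ⟨r, s, hs, hrs⟩ := IsFractionRing.div_surjective (A := Γ(X, W)) (β / α)
  have hs0 : algebraMap Γ(X, W) X.functionField s ≠ 0 :=
    IsFractionRing.to_map_ne_zero_of_mem_nonZeroDivisors hs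
  have hr' : algebraMap Γ(X, W) X.functionField r = X.presheaf.germ W (genericPoint X) hηW r := rfl
  have hs' : algebraMap Γ(X, W) X.functionField s = X.presheaf.germ W (genericPoint X) hηW s := rfl
  -- s • b₁ = r • a₁
  have key : s • b₁ = r • a₁ := by
    apply Groth.Agent.H33.MV.injective_app_of_mono i W
    apply asFun_injective W
    rw [Scheme.Modules.Hom.app_smul, Scheme.Modules.Hom.app_smul, asFun_smul, asFun_smul, ← hα, ← hβ,
      ← iota_germ X W hηW, ← iota_germ X W hηW, ← map_mul, ← map_mul, ← hr', ← hs']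
    congr 1
    have := (div_eq_div_iff hs0 hα0).mp hrs
    rw [mul_comm, this, mul_comm]
  refine ⟨algebraMap Γ(X, W) X.functionField r / algebraMap Γ(X, W) X.functionField s, ?_⟩
  have h1 : algebraMap Γ(X, W) X.functionField s • G.presheaf.germ W (genericPoint X) hηW b₁ =
      algebraMap Γ(X, W) X.functionField r • G.presheaf.germ W (genericPoint X) hηW a₁ := by
    rw [hs', hr', ← Groth.Agent.H8.germ_smul, ← Groth.Agent.H8.germ_smul, key]
  rw [ea, eb, div_eq_mul_inv, mul_comm, mul_smul, ← h1, smul_smul, inv_mul_cancel₀ hs0, one_smul]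

end
end Groth.Agent.H44.RatFun
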