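import Groth.Agent.H44.SquareZeroFree
import Groth.Agent.H44.ConormalSeq
import Groth.Agent.H44.AffineFree
import Groth.Prelude.Def_MultCurve

/-!
# Square-zero ideals: locally principal with annihilator condition iff conormal sheaf invertible (helper44)
-/

set_option autoImplicit false
universe u
open CategoryTheory Limits Opposite AlgebraicGeometry TopologicalSpace TensorProduct Scheme.Modules

namespace Groth.Agent.H44

section
variable {C : Scheme.{u}} (I : C.IdealSheafData)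

theorem subschemeι_surjective_of_sq (hI : I ^ 2 = ⊥) : Function.Surjective I.subschemeι := by
  rw [← Set.range_eq_univ, Scheme.IdealSheafData.range_subschemeι,
    ← Scheme.IdealSheafData.support_pow I 2 (by norm_num), hI, Scheme.IdealSheafData.support_bot]
  rfl

/-- the chart statement: basis of `Γ(C_i, i⁻¹U)` iff principal with annihilator condition. -/
theorem basis_iff_principal (hI : I ^ 2 = ⊥) (U : C.affineOpens) :
    Nonempty (Module.Basis (Fin 1) Γ(I.subscheme, I.subschemeι ⁻¹ᵁ U.1)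
        Γ(Omega.conormal I.subschemeι, I.subschemeι ⁻¹ᵁ U.1)) ↔
      ∃ z : Γ(C, U.1), I.ideal U = Ideal.span {z} ∧ ∀ a : Γ(C, U.1), a * z = 0 → a ∈ I.ideal U := by
  have hU : IsAffineOpen U.1 := U.2
  have hW : IsAffineOpen (I.subschemeι ⁻¹ᵁ U.1) := hU.preimage I.subschemeι
  letI alg : Algebra Γ(C, U.1) Γ(I.subscheme, I.subschemeι ⁻¹ᵁ U.1) :=
    (I.subschemeι.appLE U.1 (I.subschemeι ⁻¹ᵁ U.1) le_rfl).hom.toAlgebra
  have hs : Function.Surjective (algebraMap Γ(C, U.1) Γ(I.subscheme, I.subschemeι ⁻¹ᵁ U.1)) := by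
    change Function.Surjective (I.subschemeι.appLE U.1 (I.subschemeι ⁻¹ᵁ U.1) le_rfl)
    rw [Scheme.Hom.appLE_eq_app]
    exact I.subschemeι.app_surjective U.1 hU
  have hK : RingHom.ker (algebraMap Γ(C, U.1) Γ(I.subscheme, I.subschemeι ⁻¹ᵁ U.1)) = I.ideal U := by
    have := ker_appLE_eq I.subschemeι hU (U' := I.subschemeι ⁻¹ᵁ U.1) le_rfl le_rfl
    rw [Scheme.IdealSheafData.ker_subschemeι] at this
    exact this
  have hsq : ∀ x ∈ RingHom.ker (algebraMap Γ(C, U.1) Γ(I.subscheme, I.subschemeι ⁻¹ᵁ U.1)),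
      ∀ y ∈ RingHom.ker (algebraMap Γ(C, U.1) Γ(I.subscheme, I.subschemeι ⁻¹ᵁ U.1)), x * y = 0 := by
    intro x hx y hy
    rw [hK] at hx hy
    have h1 : x * y ∈ (I ^ 2).ideal U := by
      rw [Scheme.IdealSheafData.ideal_pow, pow_two]
      exact Ideal.mul_mem_mul hx hy
    rw [hI] at h1
    exact h1
  let E := conormalEquiv I.subschemeι hU hW le_rfl le_rfl
  constructor
  · rintro ⟨b⟩
    obtain ⟨z, hz, hann⟩ := SqZero.exists_principal_of_basis hs hsq (b.map E)
    exact ⟨z, by rw [← hK]; exact hz, fun a ha => by rw [← hK]; exact hann a ha⟩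
  · rintro ⟨z, hz, hann⟩
    obtain ⟨b⟩ := SqZero.nonempty_basis_of_principal hs hsq z (by rw [hK]; exact hz)
      (fun a ha => by rw [hK]; exact hann a ha)
    exact ⟨b.map E.symm⟩

/-- **Principal of order two iff invertible conormal sheaf**, for a square-zero ideal. -/
theorem isPrincipalOfOrder_two_iff_isInvertible_conormal (hI : I ^ 2 = ⊥) :
    MultCurve.IsPrincipalOfOrder I 2 ↔ PicF.IsInvertible (Omega.conormal I.subschemeι) := by
  constructor
  · intro h y
    obtain ⟨U, hxU, z, hz, hann⟩ := h (I.subschemeι y)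
    have hann' : ∀ a : Γ(C, U.1), a * z = 0 → a ∈ I.ideal U := fun a ha =>
      hann a (by simpa using ha)
    obtain ⟨b⟩ := (basis_iff_principal I hI U).2 ⟨z, hz, hann'⟩
    have hW : IsAffineOpen (I.subschemeι ⁻¹ᵁ U.1) := U.2.preimage _
    obtain ⟨e⟩ := nonempty_iso_freeMod_of_basis (F := Omega.conormal I.subschemeι) hW b
    exact ⟨I.subschemeι ⁻¹ᵁ U.1, hxU,
      ⟨e ≪≫ coproductUniqueIso (fun _ : Fin 1 => Coh.structureModule _)⟩⟩
  · intro h x
    obtain ⟨y, rfl⟩ := subschemeι_surjective_of_sq I hI x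
    obtain ⟨W₀, hyW₀, ⟨e₀⟩⟩ := h y
    obtain ⟨t, ht, htW⟩ := (I.subschemeι.isClosedEmbedding.isInducing.isOpen_iff).1 W₀.2
    let U₀ : C.Opens := ⟨t, ht⟩
    have hyU₀ : I.subschemeι y ∈ U₀ := by
      change y ∈ I.subschemeι ⁻¹' t
      rw [htW]
      exact hyW₀
    obtain ⟨U, hU, hxU, hUU₀⟩ := Opens.isBasis_iff_nbhd.mp C.isBasis_affineOpens hyU₀
    have hle : I.subschemeι ⁻¹ᵁ U ≤ W₀ := by
      intro w hw
      have : w ∈ I.subschemeι ⁻¹' t := hUU₀ hw
      rw [htW] at this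
      exact this
    have hW : IsAffineOpen (I.subschemeι ⁻¹ᵁ U) := IsAffineOpen.preimage hU _
    obtain ⟨b⟩ := nonempty_basis_of_iso_freeMod (F := Omega.conormal I.subschemeι) hW hle
      (e₀ ≪≫ (coproductUniqueIso (fun _ : Fin 1 => Coh.structureModule _)).symm)
    obtain ⟨z, hz, hann⟩ := (basis_iff_principal I hI ⟨U, hU⟩).1 ⟨b⟩
    exact ⟨⟨U, hU⟩, hxU, z, hz, fun a ha => hann a (by simpa using ha)⟩

end
end Groth.Agent.H44
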