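import Mathlib

/-!
# Square-zero ideals: `B ⊗[A] K` for `B = A/K`, `K² = 0` (helper44)

`B ⊗[A] K` is free of rank one over `B` iff `K = (z)` with `Ann(z) ⊆ K`.
-/

set_option autoImplicit false
universe u
open TensorProduct

namespace Groth.Agent.H44
namespace SqZero

variable {A B : Type u} [CommRing A] [CommRing B] [Algebra A B]
  (hs : Function.Surjective (algebraMap A B))
  (hsq : ∀ x ∈ RingHom.ker (algebraMap A B), ∀ y ∈ RingHom.ker (algebraMap A B), x * y = 0)

local notation "K" => RingHom.ker (algebraMap A B)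

include hsq in
theorem act_eq (a a' : A) (h : algebraMap A B a = algebraMap A B a') (k : K) : a • k = a' • k := by
  apply Subtype.ext
  have h1 : a - a' ∈ K := by
    rw [RingHom.mem_ker, map_sub, h, sub_self]
  have h2 := hsq _ h1 _ k.2
  change a * (k : A) = a' * (k : A)
  have : a * (k : A) - a' * (k : A) = 0 := by rw [← sub_mul]; exact h2
  exact sub_eq_zero.1 this

/-- the retraction `B ⊗ K → K`. -/
noncomputable def retr : B ⊗[A] K →ₗ[A] K :=
  TensorProduct.lift (LinearMap.mk₂ A (fun (b : B) (k : K) => (hs b).choose • k)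
    (fun b b' k => by
      rw [← add_smul]
      exact act_eq hsq _ _ (by rw [(hs (b + b')).choose_spec, map_add, (hs b).choose_spec,
        (hs b').choose_spec]) k)
    (fun a b k => by
      rw [← mul_smul]
      exact act_eq hsq _ _ (by rw [(hs (a • b)).choose_spec, map_mul, (hs b).choose_spec,
        Algebra.smul_def]) k)
    (fun b k k' => smul_add _ _ _)
    (fun a b k => smul_comm _ _ _))

theorem retr_tmul (b : B) (k : K) : retr hs hsq (b ⊗ₜ[A] k) = (hs b).choose • k := rfl

theorem retr_one_tmul (k : K) : retr hs hsq ((1 : B) ⊗ₜ[A] k) = k := by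
  rw [retr_tmul]
  have := act_eq hsq (hs 1).choose 1 (by rw [(hs 1).choose_spec, map_one]) k
  rw [this, one_smul]

include hs in
theorem tmul_eq (b : B) (k : K) : ∃ k' : K, b ⊗ₜ[A] k = (1 : B) ⊗ₜ[A] k' := by
  obtain ⟨a, rfl⟩ := hs b
  refine ⟨a • k, ?_⟩
  rw [TensorProduct.tmul_smul, TensorProduct.smul_tmul', Algebra.smul_def, mul_one]

include hs in
theorem exists_one_tmul (t : B ⊗[A] K) : ∃ k : K, t = (1 : B) ⊗ₜ[A] k := by
  induction t using TensorProduct.induction_on with
  | zero => exact ⟨0, (TensorProduct.tmul_zero _ _).symm⟩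
  | tmul b k => exact tmul_eq hs b k
  | add x y hx hy =>
    obtain ⟨k, rfl⟩ := hx
    obtain ⟨k', rfl⟩ := hy
    exact ⟨k + k', (TensorProduct.tmul_add _ _ _).symm⟩

include hs hsq in
theorem one_tmul_injective : Function.Injective (fun k : K => (1 : B) ⊗ₜ[A] k) := by
  intro k k' h
  have := congrArg (retr hs hsq) h
  rwa [retr_one_tmul, retr_one_tmul] at this

theorem smul_one_tmul (a : A) (k : K) :
    algebraMap A B a • ((1 : B) ⊗ₜ[A] k) = (1 : B) ⊗ₜ[A] (a • k) := by
  rw [TensorProduct.smul_tmul', smul_eq_mul, mul_one, TensorProduct.tmul_smul,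
    TensorProduct.smul_tmul', Algebra.smul_def, mul_one]

include hs hsq in
/-- `K = (z)` with `Ann z ⊆ K` gives a basis. -/
theorem nonempty_basis_of_principal (z : A) (hz : K = Ideal.span {z})
    (hann : ∀ a : A, a * z = 0 → a ∈ K) : Nonempty (Module.Basis (Fin 1) B (B ⊗[A] K)) := by
  have hzK : z ∈ K := by rw [hz]; exact Ideal.mem_span_singleton_self z
  let ζ : B ⊗[A] K := (1 : B) ⊗ₜ[A] (⟨z, hzK⟩ : K)
  have hinj : Function.Injective (LinearMap.toSpanSingleton B (B ⊗[A] K) ζ) := by
    rw [injective_iff_map_eq_zero]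
    intro b hb
    obtain ⟨a, rfl⟩ := hs b
    rw [LinearMap.toSpanSingleton_apply, smul_one_tmul] at hb
    have h0 : a • (⟨z, hzK⟩ : K) = 0 := by
      apply one_tmul_injective hs hsq
      change (1 : B) ⊗ₜ[A] _ = (1 : B) ⊗ₜ[A] (0 : K)
      rw [hb, TensorProduct.tmul_zero]
    have h1 : a * z = 0 := congrArg Subtype.val h0
    exact hann a h1
  have hsurj : Function.Surjective (LinearMap.toSpanSingleton B (B ⊗[A] K) ζ) := by
    intro t
    obtain ⟨k, rfl⟩ := exists_one_tmul hs t
    have hk : (k : A) ∈ Ideal.span {z} := hz ▸ k.2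
    obtain ⟨a, ha⟩ := Ideal.mem_span_singleton'.1 hk
    refine ⟨algebraMap A B a, ?_⟩
    rw [LinearMap.toSpanSingleton_apply, smul_one_tmul]
    congr 1
    exact Subtype.ext ha
  let e : B ≃ₗ[B] B ⊗[A] K := LinearEquiv.ofBijective _ ⟨hinj, hsurj⟩
  exact ⟨(Module.Basis.singleton (Fin 1) B).map e⟩

include hs hsq in
/-- A basis gives a generator `z` with `Ann z ⊆ K`. -/
theorem exists_principal_of_basis (b : Module.Basis (Fin 1) B (B ⊗[A] K)) :
    ∃ z : A, K = Ideal.span {z} ∧ ∀ a : A, a * z = 0 → a ∈ K := by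
  obtain ⟨zk, hzk⟩ := exists_one_tmul hs (b 0)
  refine ⟨zk, ?_, ?_⟩
  · apply le_antisymm
    · intro k hk
      -- 1 ⊗ k = c • b 0
      have h1 := b.repr.symm_apply_apply ((1 : B) ⊗ₜ[A] (⟨k, hk⟩ : K))
      obtain ⟨a, ha⟩ := hs (b.repr ((1 : B) ⊗ₜ[A] (⟨k, hk⟩ : K)) 0)
      have h2 : (1 : B) ⊗ₜ[A] (⟨k, hk⟩ : K) = algebraMap A B a • b 0 := by
        rw [ha]
        conv_lhs => rw [← b.sum_repr ((1 : B) ⊗ₜ[A] (⟨k, hk⟩ : K))]
        simp
      rw [hzk, smul_one_tmul] at h2
      have h3 := one_tmul_injective hs hsq h2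
      have h4 : k = a * (zk : A) := congrArg Subtype.val h3
      rw [h4]
      exact Ideal.mul_mem_left _ _ (Ideal.mem_span_singleton_self _)
    · rw [Ideal.span_singleton_le_iff_mem]
      exact zk.2
  · intro a ha
    have h1 : algebraMap A B a • b 0 = 0 := by
      rw [hzk, smul_one_tmul]
      have : a • zk = 0 := Subtype.ext ha
      rw [this, TensorProduct.tmul_zero]
    have h2 : algebraMap A B a = 0 := by
      have := b.linearIndependent
      rw [Fintype.linearIndependent_iff] at this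
      exact this (fun _ => algebraMap A B a) (by simpa using h1) 0
    exact h2

end SqZero
end Groth.Agent.H44
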