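import Groth.Prelude.Def_W4stkadequateTF

/-!
# Basic lemmas on the tangent functor `AdeqTF.tangent`
-/

set_option autoImplicit false
universe u
open CategoryTheory Limits Opposite

namespace Groth.Agent.H44

variable {A : Type u} [CommRing A]

open Adeq AdeqTF

/-- evaluation of a module-valued functor on a map of algebras, as an additive map with clean types -/
noncomputable def ev (F : MVF A) {D D' : Alg A} (f : D ⟶ D') : F.obj (pt D) →+ F.obj (pt D') :=
  (F.restrictₛₗ (ptHom f)).toAddMonoidHom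

lemma ev_apply (F : MVF A) {D D' : Alg A} (f : D ⟶ D') (x : F.obj (pt D)) :
    ev F f x = F.map (ptHom f) x := rfl

lemma ev_comp (F : MVF A) {D D' D'' : Alg A} (f : D ⟶ D') (g : D' ⟶ D'') (x : F.obj (pt D)) :
    ev F (f ≫ g) x = ev F g (ev F f x) :=
  PresheafOfModules.map_comp_apply F (ptHom f) (ptHom g) x

lemma ev_id (F : MVF A) (D : Alg A) (x : F.obj (pt D)) : ev F (𝟙 D) x = x := by
  change F.map (𝟙 _) x = x
  rw [F.map_id]
  rfl

lemma ev_congr (F : MVF A) {D D' : Alg A} {f g : D ⟶ D'} (h : f = g) (x : F.obj (pt D)) :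
    ev F f x = ev F g x := by rw [h]

lemma app_ev {F G : MVF A} (φ : F ⟶ G) {D D' : Alg A} (f : D ⟶ D') (x : F.obj (pt D)) :
    φ.app (pt D') (ev F f x) = ev G f (φ.app (pt D) x) :=
  PresheafOfModules.naturality_apply φ (ptHom f) x

variable (B : Alg A)

lemma inl_fst (N : ModuleCat.{u} B) : AdeqTF.inl B N ≫ AdeqTF.fst B N = 𝟙 B := by
  apply CommAlgCat.hom_ext
  refine AlgHom.ext fun x => ?_
  rfl

lemma inl_map {N N' : ModuleCat.{u} B} (g : N ⟶ N') :
    AdeqTF.inl B N ≫ AdeqTF.map B g = AdeqTF.inl B N' := by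
  apply CommAlgCat.hom_ext
  refine AlgHom.ext fun x => ?_
  change TrivSqZeroExt.map g.hom (TrivSqZeroExt.inl x) = TrivSqZeroExt.inl x
  exact TrivSqZeroExt.map_inl g.hom x

lemma map_comp {N N' N'' : ModuleCat.{u} B} (g : N ⟶ N') (h : N' ⟶ N'') :
    AdeqTF.map B (g ≫ h) = AdeqTF.map B g ≫ AdeqTF.map B h := by
  apply CommAlgCat.hom_ext
  refine AlgHom.ext fun x => ?_
  change TrivSqZeroExt.map (h.hom ∘ₗ g.hom) x = TrivSqZeroExt.map h.hom (TrivSqZeroExt.map g.hom x)
  rw [TrivSqZeroExt.map_comp_map]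
  rfl

lemma map_id (N : ModuleCat.{u} B) : AdeqTF.map B (𝟙 N) = 𝟙 _ := by
  apply CommAlgCat.hom_ext
  refine AlgHom.ext fun x => ?_
  change TrivSqZeroExt.map (LinearMap.id) x = x
  rw [TrivSqZeroExt.map_id]
  rfl

lemma map_zero (N N' : ModuleCat.{u} B) :
    AdeqTF.map B (0 : N ⟶ N') = AdeqTF.fst B N ≫ AdeqTF.inl B N' := by
  apply CommAlgCat.hom_ext
  refine AlgHom.ext fun x => ?_
  change TrivSqZeroExt.map (0 : N →ₗ[B] N') x = TrivSqZeroExt.inl (TrivSqZeroExt.fst x)
  apply TrivSqZeroExt.ext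
  · rw [TrivSqZeroExt.fst_map, TrivSqZeroExt.fst_inl]
  · rw [TrivSqZeroExt.snd_map, TrivSqZeroExt.snd_inl, LinearMap.zero_apply]

lemma mem_tangent_iff (N : ModuleCat.{u} B) (F : MVF A) (x : F.obj (pt (ext B N))) :
    x ∈ tangent B N F ↔ ev F (AdeqTF.fst B N) x = 0 := Iff.rfl

lemma tangentMap_coe (F : MVF A) {N N' : ModuleCat.{u} B} (g : N ⟶ N') (x : tangent B N F) :
    ((tangentMap B F g x : tangent B N' F) : F.obj (pt (ext B N'))) = ev F (AdeqTF.map B g) x.1 := rfl

/-- the retraction of `F(B[N])` onto the tangent module. -/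
noncomputable def retr (N : ModuleCat.{u} B) (F : MVF A) :
    F.obj (pt (ext B N)) →+ tangent B N F :=
  (AddMonoidHom.id _ - (ev F (AdeqTF.inl B N)).comp (ev F (AdeqTF.fst B N))).codRestrict _ (by
    intro x
    rw [mem_tangent_iff]
    simp only [AddMonoidHom.sub_apply, AddMonoidHom.id_apply, AddMonoidHom.comp_apply, map_sub]
    rw [← ev_comp, ev_congr F (inl_fst B N), ev_id, sub_self])

lemma retr_coe (N : ModuleCat.{u} B) (F : MVF A) (x : F.obj (pt (ext B N))) :
    ((retr B N F x : tangent B N F) : F.obj (pt (ext B N))) =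
      x - ev F (AdeqTF.inl B N) (ev F (AdeqTF.fst B N) x) := rfl

lemma retr_of_mem (N : ModuleCat.{u} B) (F : MVF A) (x : tangent B N F) :
    retr B N F x.1 = x := by
  apply Subtype.ext
  rw [retr_coe, (mem_tangent_iff B N F x.1).1 x.2, _root_.map_zero, sub_zero]

lemma tangentMap_retr (F : MVF A) {N N' : ModuleCat.{u} B} (g : N ⟶ N') (x : F.obj (pt (ext B N))) :
    tangentMap B F g (retr B N F x) = retr B N' F (ev F (AdeqTF.map B g) x) := by
  apply Subtype.ext
  rw [tangentMap_coe, retr_coe, retr_coe, map_sub, ← ev_comp, ← ev_comp, ← ev_comp, ← ev_comp]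
  congr 1
  apply ev_congr
  rw [inl_map, ← Category.assoc, map_fst]

lemma tangentMap_comp (F : MVF A) {N N' N'' : ModuleCat.{u} B} (g : N ⟶ N') (h : N' ⟶ N'')
    (x : tangent B N F) : tangentMap B F (g ≫ h) x = tangentMap B F h (tangentMap B F g x) := by
  apply Subtype.ext
  rw [tangentMap_coe, tangentMap_coe, tangentMap_coe, ev_congr F (map_comp B g h), ev_comp]

lemma tangentMap_id (F : MVF A) (N : ModuleCat.{u} B) (x : tangent B N F) :
    tangentMap B F (𝟙 N) x = x := by
  apply Subtype.ext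
  rw [tangentMap_coe, ev_congr F (map_id B N), ev_id]

lemma tangentMap_zero (F : MVF A) (N N' : ModuleCat.{u} B) (x : tangent B N F) :
    tangentMap B F (0 : N ⟶ N') x = 0 := by
  apply Subtype.ext
  rw [tangentMap_coe, ev_congr F (map_zero B N N'), ev_comp, (mem_tangent_iff B N F x.1).1 x.2,
    _root_.map_zero]
  rfl

lemma tangentMap_congr (F : MVF A) {N N' : ModuleCat.{u} B} {g h : N ⟶ N'} (e : g = h)
    (x : tangent B N F) : tangentMap B F g x = tangentMap B F h x := by rw [e]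

end Groth.Agent.H44
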