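import Groth.Agent.H44.Tangent
import Mathlib.Algebra.Homology.ShortComplex.ModuleCat
import Mathlib.Algebra.Homology.ShortComplex.ExactFunctor

/-!
# Exactness of the tangent functor in the functor variable, and diagram chases
-/

set_option autoImplicit false
universe u v v₁ u₁
open CategoryTheory Limits Opposite

namespace Groth.Agent.H44

lemma shortExact_app_general {C : Type u₁} [Category.{v₁} C] {R : Cᵒᵖ ⥤ RingCat.{u}}
    (S : ShortComplex (PresheafOfModules.{v} R)) (hS : S.ShortExact) (X : Cᵒᵖ) :
    Function.Injective (S.f.app X) ∧ Function.Surjective (S.g.app X) ∧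
    ∀ y : S.X₂.obj X, S.g.app X y = 0 → ∃ x : S.X₁.obj X, S.f.app X x = y := by
  have := hS.mono_f
  have := hS.epi_g
  refine ⟨PresheafOfModules.injective_of_mono S.f X,
    PresheafOfModules.surjective_of_epi S.g X, ?_⟩
  have h := hS.exact.map (PresheafOfModules.evaluation.{v} R X)
  rw [ShortComplex.moduleCat_exact_iff] at h
  exact h

variable {A : Type u} [CommRing A]

open Adeq AdeqTF

lemma shortExact_app (C : ShortComplex (MVF A)) (hC : C.ShortExact) (D : Alg A) :
    Function.Injective (C.f.app (pt D)) ∧ Function.Surjective (C.g.app (pt D)) ∧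
    ∀ y : C.X₂.obj (pt D), C.g.app (pt D) y = 0 → ∃ x : C.X₁.obj (pt D), C.f.app (pt D) x = y :=
  shortExact_app_general C hC (pt D)

lemma comp_app_zero (C : ShortComplex (MVF A)) (D : Alg A) (x : C.X₁.obj (pt D)) :
    C.g.app (pt D) (C.f.app (pt D) x) = 0 := by
  have h := congrArg (fun φ => (PresheafOfModules.Hom.app φ (pt D)) x) C.zero
  exact h

variable (B : Alg A)

/-- a morphism of module-valued functors, evaluated, as an additive map -/
noncomputable def appAdd {F G : MVF A} (φ : F ⟶ G) (D : Alg A) : F.obj (pt D) →+ G.obj (pt D) :=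
  (φ.app (pt D)).hom.toAddMonoidHom

lemma appAdd_apply {F G : MVF A} (φ : F ⟶ G) (D : Alg A) (x : F.obj (pt D)) :
    appAdd φ D x = φ.app (pt D) x := rfl

lemma appAdd_ev {F G : MVF A} (φ : F ⟶ G) {D D' : Alg A} (f : D ⟶ D') (x : F.obj (pt D)) :
    appAdd φ D' (ev F f x) = ev G f (appAdd φ D x) := app_ev φ f x

/-- the map induced on tangent modules by a morphism of module-valued functors -/
noncomputable def tangentApp (N : ModuleCat.{u} B) {F G : MVF A} (φ : F ⟶ G) :
    tangent B N F →+ tangent B N G :=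
  ((appAdd φ (ext B N)).comp (tangent B N F).subtype).codRestrict _ (by
    intro x
    rw [mem_tangent_iff]
    change ev G (AdeqTF.fst B N) (appAdd φ (ext B N) x.1) = 0
    rw [← appAdd_ev, (mem_tangent_iff B N F x.1).1 x.2, _root_.map_zero])

lemma tangentApp_coe (N : ModuleCat.{u} B) {F G : MVF A} (φ : F ⟶ G) (x : tangent B N F) :
    ((tangentApp B N φ x : tangent B N G) : G.obj (pt (ext B N))) = appAdd φ (ext B N) x.1 := rfl

lemma tangentApp_tangentMap {N N' : ModuleCat.{u} B} (g : N ⟶ N') {F G : MVF A} (φ : F ⟶ G)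
    (x : tangent B N F) :
    tangentApp B N' φ (tangentMap B F g x) = tangentMap B G g (tangentApp B N φ x) := by
  apply Subtype.ext
  rw [tangentApp_coe, tangentMap_coe, tangentMap_coe, tangentApp_coe, appAdd_ev]

lemma tangentApp_retr (N : ModuleCat.{u} B) {F G : MVF A} (φ : F ⟶ G) (x : F.obj (pt (ext B N))) :
    tangentApp B N φ (retr B N F x) = retr B N G (appAdd φ (ext B N) x) := by
  apply Subtype.ext
  rw [tangentApp_coe, retr_coe, retr_coe, map_sub, appAdd_ev, appAdd_ev]

variable (C : ShortComplex (MVF A)) (hC : C.ShortExact)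
include hC

lemma tangentApp_injective (N : ModuleCat.{u} B) : Function.Injective (tangentApp B N C.f) := by
  intro x y h
  apply Subtype.ext
  apply (shortExact_app C hC (ext B N)).1
  exact congrArg Subtype.val h

lemma tangentApp_surjective (N : ModuleCat.{u} B) : Function.Surjective (tangentApp B N C.g) := by
  intro z
  obtain ⟨y, hy⟩ := (shortExact_app C hC (ext B N)).2.1 z.1
  refine ⟨retr B N C.X₂ y, ?_⟩
  rw [tangentApp_retr]
  have : appAdd C.g (ext B N) y = z.1 := hy
  rw [this, retr_of_mem]

lemma tangentApp_exact (N : ModuleCat.{u} B) (y : tangent B N C.X₂)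
    (hy : tangentApp B N C.g y = 0) : ∃ x, tangentApp B N C.f x = y := by
  have hy' : C.g.app (pt (ext B N)) y.1 = 0 := congrArg Subtype.val hy
  obtain ⟨x, hx⟩ := (shortExact_app C hC (ext B N)).2.2 y.1 hy'
  refine ⟨retr B N C.X₁ x, ?_⟩
  rw [tangentApp_retr]
  have : appAdd C.f (ext B N) x = y.1 := hx
  rw [this, retr_of_mem]

omit hC in
lemma tangentApp_comp_zero (N : ModuleCat.{u} B) (x : tangent B N C.X₁) :
    tangentApp B N C.g (tangentApp B N C.f x) = 0 := by
  apply Subtype.ext
  exact comp_app_zero C (ext B N) x.1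

end Groth.Agent.H44
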