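import Groth.Prelude.Def_NonAbH2
import Groth.Prelude.Def_Red
import Groth.Agent.H44.ConormalSquare
import Groth.Agent.H44.ConormalMapExists

/-!
# The conormal sheaf of the diagonal of a pseudo-torsor (helper44)

For a pseudo-torsor `X/Y` under `G_Y` (`G` a group over `B`), with `g : X ×_Y X ⟶ G` the
"difference" morphism, the square `(Δ, X → B, g, η_G)` is cartesian, and `g` is a base change of
`X → B` up to an isomorphism.
-/

set_option autoImplicit false
universe u
open CategoryTheory MonoidalCategory CartesianMonoidalCategory MonObj AlgebraicGeometry Limits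

namespace Groth.Agent.H44
namespace TorsorConormal

variable {B : Scheme.{u}} {G Y : Over B} [GrpObj G] {X : Over Y.left}
  (a : AlgGrp.Action (Red.bc Y.hom G) X)

/-- The projection `G_Y ×_Y X → G`. -/
noncomputable abbrev pr : (Red.bc Y.hom G ⊗ X).left ⟶ G.left :=
  (fst (Red.bc Y.hom G) X).left ≫ pullback.fst G.hom Y.hom

omit [GrpObj G] in
theorem isPullback_pr :
    IsPullback (pr (G := G) (X := X)) (snd (Red.bc Y.hom G) X).left G.hom (X.hom ≫ Y.hom) := by
  have h1 : IsPullback (pullback.snd (Red.bc Y.hom G).hom X.hom)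
      (pullback.fst (Red.bc Y.hom G).hom X.hom) X.hom (Red.bc Y.hom G).hom :=
    (IsPullback.of_hasPullback _ _).flip
  have h2 : IsPullback (pullback.snd G.hom Y.hom) (pullback.fst G.hom Y.hom) Y.hom G.hom :=
    (IsPullback.of_hasPullback _ _).flip
  exact (h1.paste_vert h2).flip

/-- The unit section `X → G_Y ×_Y X`. -/
noncomputable abbrev eX : X ⟶ Red.bc Y.hom G ⊗ X := (λ_ X).inv ≫ (η[Red.bc Y.hom G] ▷ X)

theorem eX_act : eX (G := G) (X := X) ≫ a.act = 𝟙 X := by
  rw [Category.assoc, a.one_act, Iso.inv_hom_id]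

theorem eX_snd : eX (G := G) (X := X) ≫ snd (Red.bc Y.hom G) X = 𝟙 X := by
  rw [Category.assoc, whiskerRight_snd, ← leftUnitor_hom, Iso.inv_hom_id]

theorem eX_fst : eX (G := G) (X := X) ≫ fst (Red.bc Y.hom G) X = toUnit X ≫ η[Red.bc Y.hom G] := by
  rw [Category.assoc, whiskerRight_fst, ← Category.assoc]
  congr 1
  exact toUnit_unique _ _

theorem η_bc_eq : η[Red.bc Y.hom G] =
    Functor.LaxMonoidal.ε (Over.pullback Y.hom) ≫ (Over.pullback Y.hom).map η[G] := rfl

theorem η_bc_left_fst :
    (η[Red.bc Y.hom G]).left ≫ pullback.fst G.hom Y.hom = Y.hom ≫ (η[G]).left := by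
  rw [η_bc_eq, Over.comp_left, Category.assoc]
  have h1 : ((Over.pullback Y.hom).map η[G]).left ≫ pullback.fst G.hom Y.hom =
      pullback.fst (𝟙_ (Over B)).hom Y.hom ≫ (η[G]).left := by
    simp
    exact pullback.lift_fst _ _ _
  rw [h1]
  have h2 := Over.w (Functor.LaxMonoidal.ε (Over.pullback Y.hom))
  have h3 : pullback.fst (𝟙_ (Over B)).hom Y.hom = pullback.snd (𝟙_ (Over B)).hom Y.hom ≫ Y.hom := by
    have := pullback.condition (f := (𝟙_ (Over B)).hom) (g := Y.hom)
    rw [← this]
    exact (Category.comp_id _).symm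
  rw [h3, ← Category.assoc, ← Category.assoc]
  congr 1
  have h4 : (Functor.LaxMonoidal.ε (Over.pullback Y.hom)).left ≫
      pullback.snd (𝟙_ (Over B)).hom Y.hom = 𝟙 _ := h2
  rw [h4]
  exact Category.id_comp _

theorem eX_left_pr :
    (eX (G := G) (X := X)).left ≫ pr (G := G) (X := X) = (X.hom ≫ Y.hom) ≫ (η[G]).left := by
  have h := congrArg (fun k => k.left) (eX_fst (G := G) (X := X))
  have h' : (eX (G := G) (X := X)).left ≫ (fst (Red.bc Y.hom G) X).left =
      X.hom ≫ (η[Red.bc Y.hom G]).left := h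
  rw [← Category.assoc, h', Category.assoc, η_bc_left_fst, Category.assoc]

theorem isPullback_eX :
    IsPullback (eX (G := G) (X := X)).left (X.hom ≫ Y.hom) (pr (G := G) (X := X)) (η[G]).left := by
  have hsnd : (eX (G := G) (X := X)).left ≫ (snd (Red.bc Y.hom G) X).left = 𝟙 X.left :=
    congrArg (fun k => k.left) (eX_snd (G := G) (X := X))
  have hη : (η[G]).left ≫ G.hom = 𝟙 B := Over.w η[G]
  refine IsPullback.of_right ?_ eX_left_pr (isPullback_pr (G := G) (X := X)).flip
  rw [hsnd, hη]
  exact IsPullback.id_horiz _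

/-- The pseudo-torsor morphism `(h, x) ↦ (h x, x)`. -/
noncomputable abbrev σ : Red.bc Y.hom G ⊗ X ⟶ X ⊗ X := lift a.act (snd (Red.bc Y.hom G) X)

theorem eX_σ_left : (eX (G := G) (X := X)).left ≫ (σ a).left = pullback.diagonal X.hom := by
  have h : eX (G := G) (X := X) ≫ σ a = lift (𝟙 X) (𝟙 X) := by
    rw [comp_lift, eX_act, eX_snd]
  have h' := congrArg (fun k => k.left) h
  exact h'

variable (g : pullback X.hom X.hom ⟶ G.left)
  (hg : (σ a).left ≫ g = pr (G := G) (X := X))

include hg in
theorem isPullback_diagonal [IsIso (σ a)] :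
    IsPullback (pullback.diagonal X.hom) (X.hom ≫ Y.hom) g (η[G]).left := by
  haveI : IsIso (σ a).left := inferInstanceAs (IsIso ((Over.forget _).map (σ a)))
  have h := isPullback_eX (G := G) (X := X)
  refine IsPullback.of_iso h (Iso.refl _) (asIso (σ a).left) (Iso.refl _) (Iso.refl _) ?_ ?_ ?_ ?_
  · simpa using eX_σ_left a
  · simp
  · simpa using hg.symm
  · simp

include hg in
theorem flat_g [IsIso (σ a)] (hflat : Flat (X.hom ≫ Y.hom)) : Flat g := by
  haveI : IsIso (σ a).left := inferInstanceAs (IsIso ((Over.forget _).map (σ a)))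
  have h1 : Flat (pr (G := G) (X := X)) :=
    MorphismProperty.of_isPullback (P := @Flat) (isPullback_pr (G := G) (X := X)).flip hflat
  have h2 : g = inv (σ a).left ≫ pr (G := G) (X := X) := by
    rw [← hg, IsIso.inv_hom_id_assoc]
  rw [h2]
  infer_instance

end TorsorConormal
end Groth.Agent.H44
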